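import Cfsg.Statements.S4227
import Cfsg.Agent.H66.PLength
import Cfsg.Agent.H14.PLength
import Cfsg.Agent.H4.PaQb
import Cfsg.Agent.H38.HallHigmanPSolv
import Cfsg.Agent.H80.SolvPSolv
import Cfsg.Agent.H76.FrattiniAut
import Cfsg.Agent.H3.PGroup

set_option autoImplicit false
open Cfsg

namespace Cfsg.Agent.S4227

open Cfsg.Agent Cfsg.Agent.H66

universe u

theorem ring_key {R : Type*} [Ring R] (h3 : (3 : R) = 0) (A B X : R) (hAA : A * A = 1)
    (hBB : B * B = 1) (hAB : A * B = B * A) (hXA : X * A = B * X) (hXB : X * B = A * B * X)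
    (hN : 1 + X + X * X = 0) : A = 1 := by
  have e1 : 1 + A * B * X + B * (X * X) = 0 := by
    have h : A * (1 + X + X * X) * A = 1 + A * B * X + B * (X * X) := by
      have h1 : A * X * A = A * B * X := by rw [mul_assoc, hXA, ← mul_assoc]
      have h2 : A * (X * X) * A = B * (X * X) := by
        calc A * (X * X) * A = A * X * (X * A) := by simp only [mul_assoc]
          _ = A * X * (B * X) := by rw [hXA]
          _ = A * (X * B) * X := by simp only [mul_assoc]
          _ = A * (A * B * X) * X := by rw [hXB]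
          _ = (A * A) * B * (X * X) := by simp only [mul_assoc]
          _ = B * (X * X) := by rw [hAA, one_mul]
      calc A * (1 + X + X * X) * A = A * A + A * X * A + A * (X * X) * A := by noncomm_ring
        _ = 1 + A * B * X + B * (X * X) := by rw [hAA, h1, h2]
    rw [← h, hN, mul_zero, zero_mul]
  have e2 : 1 + A * X + A * B * (X * X) = 0 := by
    have h : B * (1 + X + X * X) * B = 1 + A * X + A * B * (X * X) := by
      have h1 : B * X * B = A * X := by
        calc B * X * B = B * (X * B) := by rw [mul_assoc]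
          _ = B * (A * B * X) := by rw [hXB]
          _ = (B * A) * B * X := by simp only [mul_assoc]
          _ = (A * B) * B * X := by rw [hAB]
          _ = A * (B * B) * X := by simp only [mul_assoc]
          _ = A * X := by rw [hBB, mul_one]
      have h2 : B * (X * X) * B = A * B * (X * X) := by
        calc B * (X * X) * B = B * X * (X * B) := by simp only [mul_assoc]
          _ = B * X * (A * B * X) := by rw [hXB]
          _ = B * (X * A) * B * X := by simp only [mul_assoc]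
          _ = B * (B * X) * B * X := by rw [hXA]
          _ = (B * B) * (X * B) * X := by simp only [mul_assoc]
          _ = (A * B * X) * X := by rw [hBB, one_mul, hXB]
          _ = A * B * (X * X) := by simp only [mul_assoc]
      calc B * (1 + X + X * X) * B = B * B + B * X * B + B * (X * X) * B := by noncomm_ring
        _ = 1 + A * X + A * B * (X * X) := by rw [hBB, h1, h2]
    rw [← h, hN, mul_zero, zero_mul]
  have hABAB : A * B * (A * B) = 1 := by
    calc A * B * (A * B) = A * (B * A) * B := by simp only [mul_assoc]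
      _ = A * (A * B) * B := by rw [hAB]
      _ = (A * A) * (B * B) := by simp only [mul_assoc]
      _ = 1 := by rw [hAA, hBB, one_mul]
  have e3 : 1 + B * X + A * (X * X) = 0 := by
    have h : A * B * (1 + X + X * X) * (A * B) = 1 + B * X + A * (X * X) := by
      have h1 : A * B * X * (A * B) = B * X := by
        calc A * B * X * (A * B) = A * B * (X * A) * B := by simp only [mul_assoc]
          _ = A * B * (B * X) * B := by rw [hXA]
          _ = A * (B * B) * (X * B) := by simp only [mul_assoc]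
          _ = A * (A * B * X) := by rw [hBB, mul_one, hXB]
          _ = (A * A) * B * X := by simp only [mul_assoc]
          _ = B * X := by rw [hAA, one_mul]
      have h2 : A * B * (X * X) * (A * B) = A * (X * X) := by
        calc A * B * (X * X) * (A * B) = A * B * X * (X * A) * B := by simp only [mul_assoc]
          _ = A * B * X * (B * X) * B := by rw [hXA]
          _ = A * B * (X * B) * (X * B) := by simp only [mul_assoc]
          _ = A * B * (A * B * X) * (A * B * X) := by rw [hXB]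
          _ = (A * B * (A * B)) * (X * A) * B * X := by simp only [mul_assoc]
          _ = (B * X) * B * X := by rw [hABAB, one_mul, hXA]
          _ = B * (X * B) * X := by simp only [mul_assoc]
          _ = B * (A * B * X) * X := by rw [hXB]
          _ = (B * A) * B * (X * X) := by simp only [mul_assoc]
          _ = (A * B) * B * (X * X) := by rw [hAB]
          _ = A * (B * B) * (X * X) := by simp only [mul_assoc]
          _ = A * (X * X) := by rw [hBB, mul_one]
      calc A * B * (1 + X + X * X) * (A * B)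
          = A * B * (A * B) + A * B * X * (A * B) + A * B * (X * X) * (A * B) := by noncomm_ring
        _ = 1 + B * X + A * (X * X) := by rw [hABAB, h1, h2]
    rw [← h, hN, mul_zero, zero_mul]
  have hX : X + X * X = -1 := by
    rw [add_assoc] at hN
    exact (neg_eq_of_add_eq_zero_right hN).symm
  have hsum : (1 + X + X * X) + (1 + A * B * X + B * (X * X)) + (1 + A * X + A * B * (X * X))
      + (1 + B * X + A * (X * X)) = 0 := by rw [hN, e1, e2, e3]; simp
  have hexp : (1 + X + X * X) + (1 + A * B * X + B * (X * X)) + (1 + A * X + A * B * (X * X))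
      + (1 + B * X + A * (X * X)) = (1 + 1 + 1 + 1) + (1 + A + B + A * B) * (X + X * X) := by
    noncomm_ring
  have hE : 1 + A + B + A * B = 1 := by
    rw [hexp, hX] at hsum
    have h4 : (1 + 1 + 1 + 1 : R) = 1 := by
      have : (1 + 1 + 1 + 1 : R) = 3 + 1 := by norm_num
      rw [this, h3, zero_add]
    rw [h4] at hsum
    have : (1 + A + B + A * B) * (-1) = -(1 + A + B + A * B) := by noncomm_ring
    rw [this] at hsum
    exact (eq_of_sub_eq_zero (by rw [sub_eq_add_neg]; exact hsum)).symm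
  have hprod : (1 + A) * (1 + B) = 1 := by
    calc (1 + A) * (1 + B) = 1 + A + B + A * B := by noncomm_ring
      _ = 1 := hE
  have h0 : (1 - A) * ((1 + A) * (1 + B)) = 0 := by
    have : (1 - A) * ((1 + A) * (1 + B)) = (1 - A * A) * (1 + B) := by noncomm_ring
    rw [this, hAA, sub_self, zero_mul]
  rw [hprod, mul_one] at h0
  exact (sub_eq_zero.mp h0).symm

section Theta

variable {H : Type*} [Group H] (V : Subgroup H) [V.Normal]

/-- The action of `H` on the additive group `V/V'`. -/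
noncomputable def theta : H →* AddMonoid.End (Additive (Abelianization V)) where
  toFun h := MonoidHom.toAdditive (Abelianization.map (MulAut.conjNormal h : MulAut V).toMonoidHom)
  map_one' := by
    rw [map_one]
    show MonoidHom.toAdditive (Abelianization.map (MonoidHom.id V)) =
      (1 : AddMonoid.End (Additive (Abelianization V)))
    rw [Abelianization.map_id]; rfl
  map_mul' := by
    intro h h'
    rw [map_mul]
    show MonoidHom.toAdditive (Abelianization.map
      (((MulAut.conjNormal h : MulAut V).toMonoidHom).comp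
        (MulAut.conjNormal h' : MulAut V).toMonoidHom)) = _
    rw [← Abelianization.map_comp]; rfl

theorem theta_apply (h : H) (u : V) :
    theta V h (Additive.ofMul (Abelianization.of u)) =
      Additive.ofMul (Abelianization.of (MulAut.conjNormal h u)) := rfl

theorem exists_rep (m : Additive (Abelianization V)) :
    ∃ u : V, m = Additive.ofMul (Abelianization.of u) := by
  obtain ⟨u, hu⟩ := QuotientGroup.mk_surjective (Additive.toMul m)
  exact ⟨u, (ofMul_toMul m).symm.trans (congrArg Additive.ofMul hu.symm)⟩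

theorem of_conj_eq {v : H} (hv : v ∈ V) (u : V) :
    Abelianization.of (MulAut.conjNormal v u) = Abelianization.of u := by
  have : MulAut.conjNormal v u = (⟨v, hv⟩ : V) * u * (⟨v, hv⟩ : V)⁻¹ := by
    ext; simp [MulAut.conjNormal_apply]
  rw [this, map_mul, map_mul, map_inv, mul_comm, inv_mul_cancel_left]

theorem theta_eq_one_of_mem {v : H} (hv : v ∈ V) : theta V v = 1 := by
  ext m
  obtain ⟨u, rfl⟩ := exists_rep V m
  exact congrArg Additive.ofMul (of_conj_eq V hv u)

theorem three_eq_zero (hV3 : ∀ v ∈ V, v ^ 3 = 1) :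
    (3 : AddMonoid.End (Additive (Abelianization V))) = 0 := by
  ext m
  obtain ⟨u, rfl⟩ := exists_rep V m
  have h1 : u ^ 3 = 1 := by
    ext; simpa using hV3 u u.2
  have h2 : (Abelianization.of u) ^ 3 = 1 := by rw [← map_pow, h1, map_one]
  have h3 : (3 : AddMonoid.End (Additive (Abelianization V))) (Additive.ofMul (Abelianization.of u))
      = 3 • Additive.ofMul (Abelianization.of u) := by
    simp
  rw [h3, ← ofMul_pow, h2]; rfl

theorem core [Finite H] (hV3 : ∀ v ∈ V, v ^ 3 = 1)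
    (a b x : H) (ha : a * a = 1) (hb : b * b = 1)
    (h1 : x * a * x⁻¹ * b⁻¹ ∈ V) (h2 : x * b * x⁻¹ * (a * b)⁻¹ ∈ V) (h3 : a * b * a⁻¹ * b⁻¹ ∈ V)
    (hnorm : ∀ v ∈ V, v * (x * v * x⁻¹) * (x * (x * v * x⁻¹) * x⁻¹) = 1) :
    a ∈ Subgroup.centralizer (V : Set H) := by
  have hAA : theta V a * theta V a = 1 := by rw [← map_mul, ha, map_one]
  have hBB : theta V b * theta V b = 1 := by rw [← map_mul, hb, map_one]
  have hAB : theta V a * theta V b = theta V b * theta V a := by
    have e : a * b = (a * b * a⁻¹ * b⁻¹) * (b * a) := by group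
    rw [← map_mul, e, map_mul, theta_eq_one_of_mem V h3, one_mul, map_mul]
  have hXA : theta V x * theta V a = theta V b * theta V x := by
    have e : x * a = (x * a * x⁻¹ * b⁻¹) * (b * x) := by group
    rw [← map_mul, e, map_mul, theta_eq_one_of_mem V h1, one_mul, map_mul]
  have hXB : theta V x * theta V b = theta V a * theta V b * theta V x := by
    have e : x * b = (x * b * x⁻¹ * (a * b)⁻¹) * (a * b * x) := by group
    rw [← map_mul, e, map_mul, theta_eq_one_of_mem V h2, one_mul, map_mul, map_mul]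
  have hN : 1 + theta V x + theta V x * theta V x = 0 := by
    ext m
    obtain ⟨u, rfl⟩ := exists_rep V m
    show Additive.ofMul (Abelianization.of u) + theta V x (Additive.ofMul (Abelianization.of u))
      + theta V x (theta V x (Additive.ofMul (Abelianization.of u))) = 0
    rw [theta_apply, theta_apply]
    have hu : u * MulAut.conjNormal x u * MulAut.conjNormal x (MulAut.conjNormal x u) = 1 := by
      ext; simpa [MulAut.conjNormal_apply] using hnorm u u.2
    show Additive.ofMul (Abelianization.of u * Abelianization.of (MulAut.conjNormal x u)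
      * Abelianization.of (MulAut.conjNormal x (MulAut.conjNormal x u))) = 0
    rw [← map_mul, ← map_mul, hu, map_one]; rfl
  have hA := ring_key (three_eq_zero V hV3) _ _ _ hAA hBB hAB hXA hXB hN
  have hVp : IsPGroup 3 V := by
    intro v
    exact ⟨1, by ext; simpa using hV3 v v.2⟩
  have htriv : ∀ u : V, MulAut.conjNormal a u * u⁻¹ ∈ frattini V := by
    intro u
    apply H3.commutator_le_frattini hVp
    rw [← Abelianization.ker_of, MonoidHom.mem_ker, map_mul, map_inv, mul_inv_eq_one]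
    have := congrArg (fun f => f (Additive.ofMul (Abelianization.of u))) hA
    exact this
  have hord : (orderOf (MulAut.conjNormal a : MulAut V)).Coprime 3 := by
    have : (MulAut.conjNormal a : MulAut V) ^ 2 = 1 := by rw [← map_pow, pow_two, ha, map_one]
    exact Nat.Coprime.coprime_dvd_left (orderOf_dvd_of_pow_eq_one this) (by decide)
  have hone := H76.eq_one_of_trivial_on_frattini_of_coprime hVp (MulAut.conjNormal a) htriv hord
  rw [Subgroup.mem_centralizer_iff]
  intro v hv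
  have h4 := congrArg (fun f : MulAut V => ((f ⟨v, hv⟩ : V) : H)) hone
  simp only [MulAut.conjNormal_apply, MulAut.one_apply] at h4
  calc v * a = (a * v * a⁻¹) * a := by rw [h4]
    _ = a * v := by group

end Theta

section Exp6

theorem conj3 {K : Type*} [Group K] (x a : K) :
    x * (x * (x * a * x⁻¹) * x⁻¹) * x⁻¹ = x ^ 3 * a * (x ^ 3)⁻¹ := by
  simp [pow_succ, mul_assoc]

theorem pow3 {K : Type*} [Group K] (a : K) : a ^ 3 = a * a * a := by simp [pow_succ]

theorem pow4 {K : Type*} [Group K] (x : K) : x ^ 4 = x ^ 3 * x := pow_succ x 3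

theorem cube_expand {K : Type*} [Group K] (v y : K) :
    (v * y) ^ 3 = v * (y * v * y⁻¹) * (y * (y * v * y⁻¹) * y⁻¹) * y ^ 3 := by
  simp [pow_succ, mul_assoc]

theorem eq_cube_mul_sq_inv {K : Type*} [Group K] (t : K) : t = t ^ 3 * (t ^ 2)⁻¹ := by
  simp [pow_succ, mul_assoc]

theorem conj_mul {K : Type*} [Group K] (x a b : K) :
    x * (a * b) * x⁻¹ = (x * a * x⁻¹) * (x * b * x⁻¹) := by group

theorem conj_cancel {K : Type*} [Group K] (x a : K) : (x * a * x⁻¹) * x = x * a := by group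

theorem comm_aux {K : Type*} [Group K] (a b : K) (h : a * b = b * a) :
    a * b * a⁻¹ * b⁻¹ = 1 := by
  rw [h]; group

/-- If `x ^ (m * n) = 1`, `x ^ (m ^ k) = 1` and `m`, `n` are coprime, then `x ^ m = 1`. -/
theorem pow_eq_one_of_coprime {G : Type*} [Group G] (x : G) (m n k : ℕ) (hmn : m.Coprime n)
    (h1 : x ^ (m * n) = 1) (h2 : x ^ m ^ k = 1) : x ^ m = 1 := by
  have d1 : orderOf x ∣ m * n := orderOf_dvd_of_pow_eq_one h1
  have d2 : orderOf x ∣ m ^ k := orderOf_dvd_of_pow_eq_one h2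
  have hc : (orderOf x).Coprime n :=
    Nat.Coprime.coprime_dvd_left d2 (Nat.Coprime.pow_left k hmn)
  exact orderOf_dvd_iff_pow_eq_one.mp (hc.dvd_of_dvd_mul_right d1)

theorem card_eq_of_exp6 {G : Type*} [Group G] [Finite G] (h : ∀ x : G, x ^ 6 = 1) :
    ∃ a b, Nat.card G = 2 ^ a * 3 ^ b := by
  have hp : ∀ p : ℕ, p.Prime → p ∣ Nat.card G → p = 2 ∨ p = 3 := by
    intro p hp hd
    have := Fact.mk hp
    obtain ⟨x, hx⟩ := exists_prime_orderOf_dvd_card' p hd
    have h6 : p ∣ 2 * 3 := hx ▸ orderOf_dvd_of_pow_eq_one (h x)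
    rcases (Nat.Prime.dvd_mul hp).mp h6 with h2 | h3
    · left; exact (Nat.prime_dvd_prime_iff_eq hp Nat.prime_two).mp h2
    · right; exact (Nat.prime_dvd_prime_iff_eq hp Nat.prime_three).mp h3
  obtain ⟨a, m, hm2, hm⟩ := Nat.exists_eq_pow_mul_and_not_dvd (Nat.card_pos (α := G)).ne' 2
    (by norm_num)
  have hm0 : m ≠ 0 := by
    rintro rfl
    rw [mul_zero] at hm
    exact (Nat.card_pos (α := G)).ne' hm
  obtain ⟨b, m', hm3, hm'⟩ := Nat.exists_eq_pow_mul_and_not_dvd hm0 3 (by norm_num)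
  have h1 : m' = 1 := by
    by_contra hne
    obtain ⟨p, hp', hpd⟩ := Nat.exists_prime_and_dvd hne
    have hpm : p ∣ m := by rw [hm']; exact hpd.trans (dvd_mul_left _ _)
    have hpG : p ∣ Nat.card G := by rw [hm]; exact hpm.trans (dvd_mul_left _ _)
    rcases hp p hp' hpG with rfl | rfl
    · exact hm2 hpm
    · exact hm3 hpd
  exact ⟨a, b, by rw [hm, hm', h1, mul_one]⟩

theorem isSolvable_of_exp6 {G : Type u} [Group G] [Finite G] (h : ∀ x : G, x ^ 6 = 1) :
    Group.IsSolvable G := by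
  obtain ⟨a, b, hab⟩ := card_eq_of_exp6 h
  exact H4.isSolvable_of_card_eq_prime_pow_mul_prime_pow 2 3 a b Nat.prime_two Nat.prime_three hab

/-- The main step: if `O_{3'}(H) = 1` then `O_3(H)` is a Sylow `3`-subgroup. -/
theorem three_index {H : Type u} [Group H] [Finite H] (h6 : ∀ x : H, x ^ 6 = 1)
    (hO : pPrimeCore 3 H = ⊥) : ¬ 3 ∣ (pCore 3 H).index := by
  intro hdiv
  haveI : Fact (Nat.Prime 2) := ⟨Nat.prime_two⟩
  haveI : Fact (Nat.Prime 3) := ⟨Nat.prime_three⟩
  haveI hsolH : Group.IsSolvable H := isSolvable_of_exp6 h6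
  have hK6 : ∀ y : H ⧸ pCore 3 H, y ^ 6 = 1 := by
    intro y
    obtain ⟨x, rfl⟩ := QuotientGroup.mk'_surjective (pCore 3 H) y
    rw [← map_pow, h6, map_one]
  have hVp : IsPGroup 3 (pCore 3 H) := H60.isPGroup_pCore 3
  have hV3 : ∀ v ∈ pCore 3 H, v ^ 3 = 1 := by
    intro v hv
    obtain ⟨k, hk⟩ := hVp ⟨v, hv⟩
    have hk' : v ^ 3 ^ k = 1 := by
      have := congrArg Subtype.val hk
      simpa using this
    exact pow_eq_one_of_coprime v 3 2 k (by decide) (h6 v) hk'
  have hCV : Subgroup.centralizer (pCore 3 H : Set H) ≤ pCore 3 H :=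
    H38.centralizer_pCore_le_of_isPSolvable (H80.isPSolvable_of_isSolvable 3 _ H rfl) hO
  -- `O_3(H / O_3(H)) = 1`
  have hO3K : pCore 3 (H ⧸ pCore 3 H) = ⊥ := by
    rw [eq_bot_iff]
    apply sSup_le
    rintro Nb ⟨hNn, hNp⟩
    have hcn : (Nb.comap (QuotientGroup.mk' (pCore 3 H))).Normal := hNn.comap _
    obtain ⟨i, hi⟩ := IsPGroup.iff_card.mp hNp
    obtain ⟨j, hj⟩ := IsPGroup.iff_card.mp hVp
    have hcp : IsPGroup 3 (Nb.comap (QuotientGroup.mk' (pCore 3 H))) := by
      apply IsPGroup.of_card (n := i + j)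
      rw [H1.card_comap_mk', hi, hj, pow_add]
    have hle := H60.le_pCore hcn hcp
    have := Subgroup.map_mono (f := QuotientGroup.mk' (pCore 3 H)) hle
    rwa [Subgroup.map_comap_eq_self_of_surjective (QuotientGroup.mk'_surjective _),
      QuotientGroup.map_mk'_self] at this
  -- `O_{2'}(H / O_3(H)) = 1`
  have hO2K : pPrimeCore 2 (H ⧸ pCore 3 H) = ⊥ := by
    rw [eq_bot_iff, ← hO3K]
    apply sSup_le
    rintro Nb ⟨hNn, hNc⟩
    refine H60.le_pCore hNn ?_
    intro y
    refine ⟨1, ?_⟩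
    have hy6 : (y : H ⧸ pCore 3 H) ^ 6 = 1 := hK6 y
    have hord : orderOf (y : H ⧸ pCore 3 H) ∣ 3 := by
      have d1 : orderOf (y : H ⧸ pCore 3 H) ∣ 3 * 2 := orderOf_dvd_of_pow_eq_one hy6
      have d2 : orderOf (y : H ⧸ pCore 3 H) ∣ Nat.card Nb := by
        rw [Subgroup.orderOf_coe]; exact orderOf_dvd_natCard y
      exact (Nat.Coprime.coprime_dvd_left d2 hNc).dvd_of_dvd_mul_right d1
    have : (y : H ⧸ pCore 3 H) ^ 3 = 1 := orderOf_dvd_iff_pow_eq_one.mp hord
    ext
    simpa using this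
  have hCQ : Subgroup.centralizer (pCore 2 (H ⧸ pCore 3 H) : Set (H ⧸ pCore 3 H)) ≤
      pCore 2 (H ⧸ pCore 3 H) :=
    H38.centralizer_pCore_le_of_isPSolvable
      (H80.isPSolvable_of_isSolvable 2 _ (H ⧸ pCore 3 H) rfl) hO2K
  have hQp : IsPGroup 2 (pCore 2 (H ⧸ pCore 3 H)) := H60.isPGroup_pCore 2
  have hQn : (pCore 2 (H ⧸ pCore 3 H)).Normal := inferInstance
  have hQ2 : ∀ q ∈ pCore 2 (H ⧸ pCore 3 H), q * q = 1 := by
    intro q hq
    obtain ⟨k, hk⟩ := hQp ⟨q, hq⟩
    have hk' : q ^ 2 ^ k = 1 := by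
      have := congrArg Subtype.val hk
      simpa using this
    have := pow_eq_one_of_coprime q 2 3 k (by decide) (hK6 q) hk'
    rwa [pow_two] at this
  have hQcomm : ∀ q ∈ pCore 2 (H ⧸ pCore 3 H), ∀ q' ∈ pCore 2 (H ⧸ pCore 3 H),
      q * q' = q' * q := by
    intro q hq q' hq'
    have h1 := hQ2 q hq
    have h2 := hQ2 q' hq'
    have h3 := hQ2 (q * q') (Subgroup.mul_mem _ hq hq')
    have e1 : q⁻¹ = q := inv_eq_of_mul_eq_one_left h1
    have e2 : q'⁻¹ = q' := inv_eq_of_mul_eq_one_left h2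
    have e3 : (q * q')⁻¹ = q * q' := inv_eq_of_mul_eq_one_left h3
    rw [mul_inv_rev, e1, e2] at e3
    exact e3.symm
  -- an element of order `3`
  obtain ⟨xb, hxb⟩ := exists_prime_orderOf_dvd_card' (G := H ⧸ pCore 3 H) 3 hdiv
  have hxb3 : xb ^ 3 = 1 := by
    have := pow_orderOf_eq_one xb
    rwa [hxb] at this
  have hxbQ : xb ∉ pCore 2 (H ⧸ pCore 3 H) := by
    intro hmem
    obtain ⟨k, hk⟩ := hQp ⟨xb, hmem⟩
    have hk' : xb ^ 2 ^ k = 1 := by
      have := congrArg Subtype.val hk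
      simpa using this
    have hd : 3 ∣ 2 ^ k := hxb ▸ orderOf_dvd_of_pow_eq_one hk'
    have := Nat.Prime.dvd_of_dvd_pow Nat.prime_three hd
    omega
  obtain ⟨ab, habQ, hab⟩ : ∃ ab ∈ pCore 2 (H ⧸ pCore 3 H), ab * xb ≠ xb * ab := by
    by_contra hcon
    push Not at hcon
    exact hxbQ (hCQ (Subgroup.mem_centralizer_iff.mpr hcon))
  -- the four-group
  have hbbQ : xb * ab * xb⁻¹ ∈ pCore 2 (H ⧸ pCore 3 H) := hQn.conj_mem ab habQ xb
  have hcbQ : xb * (xb * ab * xb⁻¹) * xb⁻¹ ∈ pCore 2 (H ⧸ pCore 3 H) := hQn.conj_mem _ hbbQ xb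
  have hxc : xb * (xb * (xb * ab * xb⁻¹) * xb⁻¹) * xb⁻¹ = ab := by
    rw [conj3, hxb3, one_mul, inv_one, mul_one]
  obtain ⟨a1, ha1⟩ : ∃ a1, a1 = ab * (xb * ab * xb⁻¹) := ⟨_, rfl⟩
  obtain ⟨b1, hb1⟩ : ∃ b1, b1 = (xb * ab * xb⁻¹) * (xb * (xb * ab * xb⁻¹) * xb⁻¹) := ⟨_, rfl⟩
  have ha1Q : a1 ∈ pCore 2 (H ⧸ pCore 3 H) := by rw [ha1]; exact Subgroup.mul_mem _ habQ hbbQ
  have hb1Q : b1 ∈ pCore 2 (H ⧸ pCore 3 H) := by rw [hb1]; exact Subgroup.mul_mem _ hbbQ hcbQ
  have hr1 : xb * a1 * xb⁻¹ = b1 := by rw [ha1, hb1, conj_mul]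
  have hr2 : xb * b1 * xb⁻¹ = a1 * b1 := by
    have e : xb * b1 * xb⁻¹ = (xb * (xb * ab * xb⁻¹) * xb⁻¹) *
        (xb * (xb * (xb * ab * xb⁻¹) * xb⁻¹) * xb⁻¹) := by rw [hb1, conj_mul]
    rw [e, hxc, ha1, hb1]
    have e2 : ab * (xb * ab * xb⁻¹) * ((xb * ab * xb⁻¹) * (xb * (xb * ab * xb⁻¹) * xb⁻¹)) =
        ab * ((xb * ab * xb⁻¹) * (xb * ab * xb⁻¹)) * (xb * (xb * ab * xb⁻¹) * xb⁻¹) := by
      simp only [mul_assoc]
    rw [e2, hQ2 _ hbbQ, mul_one]
    exact hQcomm _ hcbQ _ habQ
  have ha1ne : a1 ≠ 1 := by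
    intro h1
    rw [ha1] at h1
    have e1 : ab⁻¹ = ab := inv_eq_of_mul_eq_one_left (hQ2 ab habQ)
    have h2 : xb * ab * xb⁻¹ = ab := by
      have := eq_inv_of_mul_eq_one_right h1
      rw [e1] at this; exact this
    apply hab
    calc ab * xb = (xb * ab * xb⁻¹) * xb := by rw [h2]
      _ = xb * ab := conj_cancel xb ab
  -- lifts
  obtain ⟨α₀, hα₀⟩ := QuotientGroup.mk'_surjective (pCore 3 H) a1
  obtain ⟨β₀, hβ₀⟩ := QuotientGroup.mk'_surjective (pCore 3 H) b1
  obtain ⟨ξ₀, hξ₀⟩ := QuotientGroup.mk'_surjective (pCore 3 H) xb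
  have hα : QuotientGroup.mk' (pCore 3 H) (α₀ ^ 3) = a1 := by
    rw [map_pow, hα₀]
    rw [pow3, hQ2 a1 ha1Q, one_mul]
  have hβ : QuotientGroup.mk' (pCore 3 H) (β₀ ^ 3) = b1 := by
    rw [map_pow, hβ₀]
    rw [pow3, hQ2 b1 hb1Q, one_mul]
  have hξ : QuotientGroup.mk' (pCore 3 H) (ξ₀ ^ 4) = xb := by
    rw [map_pow, hξ₀]
    rw [pow4, hxb3, one_mul]
  have hαα : α₀ ^ 3 * α₀ ^ 3 = 1 := by rw [← pow_add]; exact h6 α₀
  have hββ : β₀ ^ 3 * β₀ ^ 3 = 1 := by rw [← pow_add]; exact h6 β₀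
  have hξ3 : (ξ₀ ^ 4) ^ 3 = 1 := by
    rw [← pow_mul]
    calc ξ₀ ^ (4 * 3) = (ξ₀ ^ 6) ^ 2 := by rw [← pow_mul]
      _ = 1 := by rw [h6, one_pow]
  have hmem : ∀ z : H, QuotientGroup.mk' (pCore 3 H) z = 1 → z ∈ pCore 3 H := by
    intro z hz
    exact (QuotientGroup.eq_one_iff z).mp hz
  have hcore := core (pCore 3 H) hV3 (α₀ ^ 3) (β₀ ^ 3) (ξ₀ ^ 4) hαα hββ
    (hmem _ (by rw [map_mul, map_mul, map_mul, map_inv, map_inv, hα, hβ, hξ, hr1, mul_inv_cancel]))
    (hmem _ (by
      rw [map_mul, map_mul, map_mul, map_inv, map_inv, map_mul, hα, hβ, hξ, hr2, mul_inv_cancel]))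
    (hmem _ (by
      rw [map_mul, map_mul, map_mul, map_inv, map_inv, hα, hβ]
      exact comm_aux a1 b1 (hQcomm a1 ha1Q b1 hb1Q)))
    (by
      intro v hv
      have hVn : (pCore 3 H).Normal := inferInstance
      have ht : v * (ξ₀ ^ 4 * v * (ξ₀ ^ 4)⁻¹) * (ξ₀ ^ 4 * (ξ₀ ^ 4 * v * (ξ₀ ^ 4)⁻¹) * (ξ₀ ^ 4)⁻¹)
          ∈ pCore 3 H :=
        Subgroup.mul_mem _ (Subgroup.mul_mem _ hv (hVn.conj_mem v hv _))
          (hVn.conj_mem _ (hVn.conj_mem v hv _) _)
      have e : (v * ξ₀ ^ 4) ^ 3 =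
          v * (ξ₀ ^ 4 * v * (ξ₀ ^ 4)⁻¹) * (ξ₀ ^ 4 * (ξ₀ ^ 4 * v * (ξ₀ ^ 4)⁻¹) * (ξ₀ ^ 4)⁻¹)
            * (ξ₀ ^ 4) ^ 3 := cube_expand v (ξ₀ ^ 4)
      rw [hξ3, mul_one] at e
      rw [← e]
      have h3 : ((v * ξ₀ ^ 4) ^ 3) ^ 3 = 1 := hV3 _ (e ▸ ht)
      have h2 : ((v * ξ₀ ^ 4) ^ 3) ^ 2 = 1 := by rw [← pow_mul]; exact h6 _
      calc (v * ξ₀ ^ 4) ^ 3 = ((v * ξ₀ ^ 4) ^ 3) ^ 3 * (((v * ξ₀ ^ 4) ^ 3) ^ 2)⁻¹ :=
            eq_cube_mul_sq_inv _
        _ = 1 := by rw [h3, h2, inv_one, mul_one])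
  have hαV : α₀ ^ 3 ∈ pCore 3 H := hCV hcore
  apply ha1ne
  rw [← hα]
  exact (QuotientGroup.eq_one_iff _).mpr hαV

end Exp6

/-- A finite group in which every element has order dividing `6` has `2`-length at most `1` and `3`-length at most `1`. -/
theorem result {G : Type*} [Group G] [Finite G] (h : ∀ x : G, x ^ 6 = 1) : Cfsg.PLengthLE 2 1 G ∧ Cfsg.PLengthLE 3 1 G := by
  haveI : Fact (Nat.Prime 2) := ⟨Nat.prime_two⟩
  haveI : Fact (Nat.Prime 3) := ⟨Nat.prime_three⟩
  haveI hsol : Group.IsSolvable G := isSolvable_of_exp6 h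
  constructor
  · -- `2`-length: the Sylow `2`-subgroups are abelian
    have hps2 : IsPSolvable 2 G := H80.isPSolvable_of_isSolvable 2 _ G rfl
    obtain ⟨S⟩ : Nonempty (Sylow 2 G) := inferInstance
    have hS2 : ∀ q : ↥(S : Subgroup G), q * q = 1 := by
      intro q
      obtain ⟨k, hk⟩ := S.isPGroup' q
      have h6q : q ^ (2 * 3) = 1 := by
        ext; simpa using h (q : G)
      have := pow_eq_one_of_coprime q 2 3 k (by decide) h6q hk
      rwa [pow_two] at this
    have hcomm : ∀ q q' : ↥(S : Subgroup G), q * q' = q' * q := by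
      intro q q'
      have e1 : q⁻¹ = q := inv_eq_of_mul_eq_one_left (hS2 q)
      have e2 : q'⁻¹ = q' := inv_eq_of_mul_eq_one_left (hS2 q')
      have e3 : (q * q')⁻¹ = q * q' := inv_eq_of_mul_eq_one_left (hS2 (q * q'))
      rw [mul_inv_rev, e1, e2] at e3
      exact e3.symm
    haveI : Group.IsNilpotent ↥(S : Subgroup G) := S.isPGroup'.isNilpotent
    have hclass : Group.nilpotencyClass ↥(S : Subgroup G) ≤ 1 := by
      rw [← Subgroup.upperCentralSeries_eq_top_iff_nilpotencyClass_le,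
        Subgroup.upperCentralSeries_one,
        eq_top_iff]
      intro q _
      rw [Subgroup.mem_center_iff]
      intro q'
      exact hcomm q' q
    exact pLengthLE_mono 2 hclass (H14.pLengthLE_nilpotencyClass 2 hps2 S)
  · -- `3`-length
    rw [pLengthLE_iff_plenRel]
    have hK6 : ∀ y : G ⧸ pPrimeCore 3 G, y ^ 6 = 1 := by
      intro y
      obtain ⟨x, rfl⟩ := QuotientGroup.mk'_surjective (pPrimeCore 3 G) y
      rw [← map_pow, h, map_one]
    have hidx := three_index hK6 (H60.pPrimeCore_quotient_eq_bot 3)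
    obtain ⟨m, hm⟩ := IsPGroup.iff_card.mp (H60.isPGroup_pCore (G := G ⧸ pPrimeCore 3 G) 3)
    refine ⟨pPrimeCore 3 G, (pCore 3 (G ⧸ pPrimeCore 3 G)).comap (QuotientGroup.mk' _),
      inferInstance, inferInstance, bot_le, ?_, H14.le_comap_mk' _ _, ⟨m, ?_⟩, inferInstance,
      inferInstance, le_top, ?_⟩
    · rw [Subgroup.relIndex_bot_left]; exact H60.card_pPrimeCore_coprime 3
    · rw [relIndex_comap_mk', hm]
    · rw [Subgroup.relIndex_top_right,
        Subgroup.index_comap_of_surjective _ (QuotientGroup.mk'_surjective _)]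
      exact (Nat.coprime_comm.mp ((Nat.Prime.coprime_iff_not_dvd Nat.prime_three).mpr hidx))

end Cfsg.Agent.S4227
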