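import Cfsg.Statements.S0111

set_option autoImplicit false
open Cfsg

namespace Cfsg.Agent.S0111

open Equiv

/-- A fixed-point-free involution of a finite set with `2 * m` elements, `m` odd, is an odd permutation. -/
theorem sign_eq_neg_one_of_involution {α : Type*} [Fintype α] [DecidableEq α] (σ : Perm α)
    (h2 : σ * σ = 1) (hfix : ∀ a, σ a ≠ a) (m : ℕ) (hm : Fintype.card α = 2 * m) (hodd : Odd m) :
    Perm.sign σ = -1 := by
  have hne : σ ≠ 1 := by
    intro h1
    have hpos : 0 < Fintype.card α := by
      rw [hm]; rcases hodd with ⟨k, rfl⟩; omega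
    obtain ⟨a⟩ := Fintype.card_pos_iff.mp hpos
    exact hfix a (by rw [h1]; rfl)
  have hord : orderOf σ = 2 := by
    apply orderOf_eq_prime
    · rw [pow_two]; exact h2
    · exact hne
  have hprime : (orderOf σ).Prime := by rw [hord]; exact Nat.prime_two
  obtain ⟨n, hn⟩ := Perm.cycleType_prime_order hprime
  rw [hord] at hn
  have hsupp : σ.support = Finset.univ := by
    ext a
    simp [Perm.mem_support, hfix a]
  have hsum : σ.cycleType.sum = Fintype.card α := by
    rw [Perm.sum_cycleType, hsupp, Finset.card_univ]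
  rw [hn, Multiset.sum_replicate, smul_eq_mul, hm] at hsum
  have hnm : n + 1 = m := by omega
  rw [Perm.sign_of_cycleType, hn, Multiset.sum_replicate, Multiset.card_replicate, smul_eq_mul, hnm]
  have : Odd (m * 2 + m) := by
    rcases hodd with ⟨k, rfl⟩
    exact ⟨3 * k + 1, by ring⟩
  exact this.neg_one_pow

/-- The Thompson transfer lemma states that an involution of a Sylow 2-subgroup P lying outside a subgroup Q of index 2 in P either lies outside some normal subgroup of index 2 in G or is conjugate to an element of Q. -/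
theorem result {G : Type*} [Group G] [Finite G] (P : Sylow 2 G) (Q : Subgroup G) (hQP : Q ≤ (P : Subgroup G)) (hQi : Q.relIndex (P : Subgroup G) = 2) (u : G) (hu : orderOf u = 2) (huP : u ∈ (P : Subgroup G)) (huQ : u ∉ Q) : (∃ M : Subgroup G, M.Normal ∧ M.index = 2 ∧ u ∉ M) ∨ ∃ g : G, g * u * g⁻¹ ∈ Q := by
  classical
  by_cases h : ∃ g : G, g * u * g⁻¹ ∈ Q
  · exact Or.inr h
  left
  replace h : ∀ g : G, g * u * g⁻¹ ∉ Q := fun g hg => h ⟨g, hg⟩
  have : Fintype (G ⧸ Q) := Fintype.ofFinite _
  let s : G →* ℤˣ := (Perm.sign).comp (MulAction.toPermHom G (G ⧸ Q))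
  have hidx : Q.index = 2 * (P : Subgroup G).index := by
    rw [← Subgroup.relIndex_mul_index hQP, hQi]
  have hodd : Odd (P : Subgroup G).index := by
    rw [← Nat.not_even_iff_odd, even_iff_two_dvd]
    have : Fact (Nat.Prime 2) := ⟨Nat.prime_two⟩
    exact P.not_dvd_index
  have hsu : s u = -1 := by
    apply sign_eq_neg_one_of_involution _ _ _ (P : Subgroup G).index _ hodd
    · ext q
      simp only [MulAction.toPermHom_apply, Perm.coe_mul, Function.comp_apply,
        MulAction.toPerm_apply, Perm.coe_one, id_eq]
      rw [smul_smul]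
      have : u * u = 1 := by rw [← pow_two, ← hu, pow_orderOf_eq_one]
      rw [this, one_smul]
    · intro q hq
      induction q using QuotientGroup.induction_on with
      | H g =>
        simp only [MulAction.toPermHom_apply, MulAction.toPerm_apply] at hq
        rw [MulAction.Quotient.smul_mk, QuotientGroup.eq] at hq
        have h1 : g⁻¹ * u * (g⁻¹)⁻¹ ∈ Q := by
          have := Q.inv_mem hq
          simpa [mul_assoc] using this
        exact h g⁻¹ h1
    · rw [← hidx, Subgroup.index, Nat.card_eq_fintype_card]
  refine ⟨s.ker, inferInstance, ?_, ?_⟩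
  · rw [Subgroup.index_ker]
    have hr : s.range = ⊤ := by
      rw [MonoidHom.range_eq_top]
      intro y
      rcases Int.units_eq_one_or y with rfl | rfl
      · exact ⟨1, map_one s⟩
      · exact ⟨u, hsu⟩
    rw [hr, Subgroup.card_top, Nat.card_eq_fintype_card, Fintype.card_units_int]
  · rw [MonoidHom.mem_ker, hsu]
    decide

end Cfsg.Agent.S0111
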