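import Cfsg.Statements.S0015
-- (no helper imports)

set_option autoImplicit false
open Cfsg
open scoped Pointwise

namespace Cfsg.Agent.S0015

/-- In a finite nilpotent group, an abelian normal subgroup that is maximal among abelian normal subgroups equals its own centralizer. -/
theorem result {G : Type*} [Group G] [Finite G] [Group.IsNilpotent G]
    (N : Subgroup G) [N.Normal] [IsMulCommutative N]
    (hmax : ∀ M : Subgroup G, M.Normal → IsMulCommutative M → N ≤ M → M = N) :
    Subgroup.centralizer (N : Set G) = N := by
  have hNc : ∀ a ∈ N, ∀ b ∈ N, a * b = b * a := by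
    intro a ha b hb
    have := (isMulCommutative_iff.mp (inferInstance : IsMulCommutative ↥N)) ⟨a, ha⟩ ⟨b, hb⟩
    exact congrArg Subtype.val this
  have hNnorm : ∀ g : G, ∀ n ∈ N, g * n * g⁻¹ ∈ N := fun g n hn =>
    (inferInstance : N.Normal).conj_mem n hn g
  -- conjugates of elements of C stay in C
  have hCconj : ∀ g : G, ∀ x ∈ Subgroup.centralizer (N : Set G),
      g * x * g⁻¹ ∈ Subgroup.centralizer (N : Set G) := by
    intro g x hx
    rw [Subgroup.mem_centralizer_iff] at hx ⊢
    intro n hn
    have h1 : g⁻¹ * n * g ∈ N := by simpa using hNnorm g⁻¹ n hn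
    have h2 := hx _ h1
    have := congrArg (fun t => g * t * g⁻¹) h2
    simpa [mul_assoc] using this
  have key : ∀ i : ℕ, Subgroup.centralizer (N : Set G) ⊓ Subgroup.upperCentralSeries G i ≤ N := by
    intro i
    induction i with
    | zero =>
      rw [Subgroup.upperCentralSeries_zero]
      intro x hx
      have : x = 1 := by simpa using hx.2
      rw [this]; exact one_mem _
    | succ i ih =>
      intro x hx
      have hxC : x ∈ Subgroup.centralizer (N : Set G) := hx.1
      have hxZ : x ∈ Subgroup.upperCentralSeries G (i + 1) := hx.2
      rw [Subgroup.mem_upperCentralSeries_succ_iff] at hxZ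
      have hxN : ∀ n ∈ N, n * x = x * n := by
        rw [Subgroup.mem_centralizer_iff] at hxC; exact hxC
      -- M = closure (N ∪ {x})
      have hMcomm : IsMulCommutative ↥(Subgroup.closure ((N : Set G) ∪ {x})) := by
        apply Subgroup.isMulCommutative_closure
        rintro a (ha | ha) b (hb | hb)
        · exact hNc a ha b hb
        · rw [Set.mem_singleton_iff] at hb; rw [hb]; exact hxN a ha
        · rw [Set.mem_singleton_iff] at ha; rw [ha]; exact (hxN b hb).symm
        · rw [Set.mem_singleton_iff] at ha hb; rw [ha, hb]
      have hNM : N ≤ Subgroup.closure ((N : Set G) ∪ {x}) := by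
        intro n hn
        exact Subgroup.subset_closure (Or.inl hn)
      have hxM : x ∈ Subgroup.closure ((N : Set G) ∪ {x}) :=
        Subgroup.subset_closure (Or.inr rfl)
      have hMnorm : (Subgroup.closure ((N : Set G) ∪ {x})).Normal := by
        constructor
        intro m hm g
        have hle : Subgroup.closure ((N : Set G) ∪ {x}) ≤
            (Subgroup.closure ((N : Set G) ∪ {x})).comap (MulAut.conj g).toMonoidHom := by
          rw [Subgroup.closure_le]
          rintro a (ha | ha)
          · show (MulAut.conj g) a ∈ Subgroup.closure ((N : Set G) ∪ {x})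
            rw [MulAut.conj_apply]
            exact hNM (hNnorm g a ha)
          · rw [Set.mem_singleton_iff] at ha
            show (MulAut.conj g) a ∈ Subgroup.closure ((N : Set G) ∪ {x})
            rw [MulAut.conj_apply, ha]
            have h1 : g * x * g⁻¹ * x⁻¹ ∈ N := by
              apply ih
              have h3 : g * x * g⁻¹ * x⁻¹ ∈ Subgroup.upperCentralSeries G i := by
                have := Subgroup.inv_mem _ (hxZ g)
                simpa [commutatorElement_def, mul_assoc] using this
              refine ⟨?_, h3⟩
              exact (Subgroup.centralizer (N : Set G)).mul_mem (hCconj g x hxC)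
                ((Subgroup.centralizer (N : Set G)).inv_mem hxC)
            have h2 : g * x * g⁻¹ = (g * x * g⁻¹ * x⁻¹) * x := by simp
            rw [h2]
            exact Subgroup.mul_mem _ (hNM h1) hxM
        have := hle hm
        simpa [MulAut.conj_apply] using this
      have hMN := hmax _ hMnorm hMcomm hNM
      rw [← hMN]
      exact hxM
  apply le_antisymm
  · obtain ⟨n, hn⟩ := (inferInstance : Group.IsNilpotent G).nilpotent'
    have := key n
    rw [hn, inf_top_eq] at this
    exact this
  · intro a ha
    rw [Subgroup.mem_centralizer_iff]
    intro b hb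
    exact hNc b hb a ha


end Cfsg.Agent.S0015
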