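import Mathlib
import Cfsg.Statements.S2353
import Cfsg.Agent.H7.PSL2

set_option autoImplicit false
open Cfsg

namespace Cfsg.Agent.S2353

open Matrix Polynomial
open scoped MatrixGroups

section Gen

variable {R : Type*} [CommRing R]

/-- The matrix `u(f) l(f)`. -/
def genA (f : R) : SL(2, R) :=
  ⟨!![1 + f * f, f; f, 1], by rw [Matrix.det_fin_two_of]; ring⟩

/-- Its inverse `l(-f) u(-f)`. -/
def genB (f : R) : SL(2, R) :=
  ⟨!![1, -f; -f, 1 + f * f], by rw [Matrix.det_fin_two_of]; ring⟩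

theorem genA_inv (f : R) : (genA f)⁻¹ = genB f := by
  apply inv_eq_of_mul_eq_one_right
  apply Subtype.ext
  rw [Matrix.SpecialLinearGroup.coe_mul]
  show !![1 + f * f, f; f, 1] * !![1, -f; -f, 1 + f * f] = 1
  ext i j
  fin_cases i <;> fin_cases j <;> simp [Matrix.mul_apply, Fin.sum_univ_two] <;> ring

/-- The matrix of a letter. -/
def letter (f : ℕ → R) (p : ℕ × Bool) : SL(2, R) :=
  bif p.2 then genA (f p.1) else genB (f p.1)

/-- The matrix of a word. -/
def wordMat (f : ℕ → R) (L : List (ℕ × Bool)) : SL(2, R) := (L.map (letter f)).prod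

theorem wordMat_cons (f : ℕ → R) (p : ℕ × Bool) (L : List (ℕ × Bool)) :
    wordMat f (p :: L) = letter f p * wordMat f L := by
  simp [wordMat]

theorem lift_eq_wordMat (f : ℕ → R) (L : List (ℕ × Bool)) :
    FreeGroup.lift (fun i => genA (f i)) (FreeGroup.mk L) = wordMat f L := by
  rw [FreeGroup.lift_mk]
  simp only [genA_inv]
  rfl

theorem genA_mul_00 (f : R) (M : SL(2, R)) :
    (genA f * M).1 0 0 = (1 + f * f) * M.1 0 0 + f * M.1 1 0 := by
  rw [Matrix.SpecialLinearGroup.coe_mul, Matrix.mul_apply, Fin.sum_univ_two]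
  rfl

theorem genA_mul_10 (f : R) (M : SL(2, R)) :
    (genA f * M).1 1 0 = f * M.1 0 0 + M.1 1 0 := by
  rw [Matrix.SpecialLinearGroup.coe_mul, Matrix.mul_apply, Fin.sum_univ_two]
  show f * M.1 0 0 + 1 * M.1 1 0 = _
  rw [one_mul]

theorem genB_mul_00 (f : R) (M : SL(2, R)) :
    (genB f * M).1 0 0 = M.1 0 0 - f * M.1 1 0 := by
  rw [Matrix.SpecialLinearGroup.coe_mul, Matrix.mul_apply, Fin.sum_univ_two]
  show 1 * M.1 0 0 + (-f) * M.1 1 0 = _
  ring

theorem genB_mul_10 (f : R) (M : SL(2, R)) :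
    (genB f * M).1 1 0 = M.1 1 0 - f * (M.1 0 0 - f * M.1 1 0) := by
  rw [Matrix.SpecialLinearGroup.coe_mul, Matrix.mul_apply, Fin.sum_univ_two]
  show (-f) * M.1 0 0 + (1 + f * f) * M.1 1 0 = _
  ring

theorem map_letter {S : Type*} [CommRing S] (φ : R →+* S) (f : ℕ → R) (p : ℕ × Bool) :
    Matrix.SpecialLinearGroup.map φ (letter f p) = letter (fun i => φ (f i)) p := by
  obtain ⟨i, b⟩ := p
  apply Subtype.ext
  rw [Matrix.SpecialLinearGroup.map_apply_coe]
  cases b
  · show φ.mapMatrix !![1, -f i; -f i, 1 + f i * f i] =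
      !![1, -φ (f i); -φ (f i), 1 + φ (f i) * φ (f i)]
    ext a b
    fin_cases a <;> fin_cases b <;> simp
  · show φ.mapMatrix !![1 + f i * f i, f i; f i, 1] =
      !![1 + φ (f i) * φ (f i), φ (f i); φ (f i), 1]
    ext a b
    fin_cases a <;> fin_cases b <;> simp

theorem map_wordMat {S : Type*} [CommRing S] (φ : R →+* S) (f : ℕ → R) (L : List (ℕ × Bool)) :
    Matrix.SpecialLinearGroup.map φ (wordMat f L) = wordMat (fun i => φ (f i)) L := by
  induction L with
  | nil => simp [wordMat]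
  | cons p L ih => rw [wordMat_cons, wordMat_cons, map_mul, ih, map_letter]

end Gen

section Poly

variable {F : Type*} [Field F]

/-- The degree bound of a word. -/
def bound : List (ℕ × Bool) → ℕ
  | [] => 0
  | p :: L => 2 * (p.1 + 1) + bound L

theorem step_pp (i j B : ℕ) (P Q : F[X]) (hQ : Q ≠ 0)
    (hd : P.natDegree = Q.natDegree + (i + 1)) (hB : P.natDegree ≤ B) :
    X ^ (j + 1) * P + Q ≠ 0 ∧
    ((1 + X ^ (j + 1) * X ^ (j + 1)) * P + X ^ (j + 1) * Q).natDegree =
      (X ^ (j + 1) * P + Q).natDegree + (j + 1) ∧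
    ((1 + X ^ (j + 1) * X ^ (j + 1)) * P + X ^ (j + 1) * Q).natDegree ≤ 2 * (j + 1) + B := by
  have hP : P ≠ 0 := by
    intro h
    rw [h, natDegree_zero] at hd
    omega
  have hfP : (X ^ (j + 1) * P).natDegree = P.natDegree + (j + 1) := natDegree_X_pow_mul (j + 1) hP
  have hQ' : (X ^ (j + 1) * P + Q).natDegree = P.natDegree + (j + 1) := by
    rw [natDegree_add_eq_left_of_natDegree_lt (by rw [hfP]; omega), hfP]
  have hQ'0 : X ^ (j + 1) * P + Q ≠ 0 := by
    intro h
    rw [h, natDegree_zero] at hQ'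
    omega
  have hfQ' : (X ^ (j + 1) * (X ^ (j + 1) * P + Q)).natDegree =
      (X ^ (j + 1) * P + Q).natDegree + (j + 1) := natDegree_X_pow_mul (j + 1) hQ'0
  have hP' : (1 + X ^ (j + 1) * X ^ (j + 1)) * P + X ^ (j + 1) * Q =
      P + X ^ (j + 1) * (X ^ (j + 1) * P + Q) := by ring
  have hP'd : (P + X ^ (j + 1) * (X ^ (j + 1) * P + Q)).natDegree =
      (X ^ (j + 1) * P + Q).natDegree + (j + 1) := by
    rw [natDegree_add_eq_right_of_natDegree_lt (by rw [hfQ', hQ']; omega), hfQ']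
  refine ⟨hQ'0, ?_, ?_⟩
  · rw [hP', hP'd]
  · rw [hP', hP'd, hQ']
    omega

theorem step_pm (i j B : ℕ) (hij : i ≠ j) (P Q : F[X]) (hQ : Q ≠ 0)
    (hd : P.natDegree = Q.natDegree + (i + 1)) (hB : P.natDegree ≤ B) :
    P - X ^ (j + 1) * Q ≠ 0 ∧
    (Q - X ^ (j + 1) * (P - X ^ (j + 1) * Q)).natDegree =
      (P - X ^ (j + 1) * Q).natDegree + (j + 1) ∧
    (Q - X ^ (j + 1) * (P - X ^ (j + 1) * Q)).natDegree ≤ 2 * (j + 1) + B := by
  have hfQ : (X ^ (j + 1) * Q).natDegree = Q.natDegree + (j + 1) := natDegree_X_pow_mul (j + 1) hQ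
  have hP1 : Q.natDegree < (P - X ^ (j + 1) * Q).natDegree ∧
      (P - X ^ (j + 1) * Q).natDegree ≤ P.natDegree + (j + 1) := by
    rcases Nat.lt_or_gt_of_ne hij with h | h
    · rw [natDegree_sub_eq_right_of_natDegree_lt (by rw [hfQ]; omega), hfQ]
      omega
    · rw [natDegree_sub_eq_left_of_natDegree_lt (by rw [hfQ]; omega)]
      omega
  have hP10 : P - X ^ (j + 1) * Q ≠ 0 := by
    intro h
    rw [h, natDegree_zero] at hP1
    omega
  have hfP1 : (X ^ (j + 1) * (P - X ^ (j + 1) * Q)).natDegree =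
      (P - X ^ (j + 1) * Q).natDegree + (j + 1) := natDegree_X_pow_mul (j + 1) hP10
  have hQ' : (Q - X ^ (j + 1) * (P - X ^ (j + 1) * Q)).natDegree =
      (P - X ^ (j + 1) * Q).natDegree + (j + 1) := by
    rw [natDegree_sub_eq_right_of_natDegree_lt (by rw [hfP1]; omega), hfP1]
  refine ⟨hP10, hQ', ?_⟩
  rw [hQ']
  omega

theorem step_mm (i j B : ℕ) (P Q : F[X]) (hP : P ≠ 0)
    (hd : Q.natDegree = P.natDegree + (i + 1)) (hB : Q.natDegree ≤ B) :
    P - X ^ (j + 1) * Q ≠ 0 ∧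
    (Q - X ^ (j + 1) * (P - X ^ (j + 1) * Q)).natDegree =
      (P - X ^ (j + 1) * Q).natDegree + (j + 1) ∧
    (Q - X ^ (j + 1) * (P - X ^ (j + 1) * Q)).natDegree ≤ 2 * (j + 1) + B := by
  have hQ : Q ≠ 0 := by
    intro h
    rw [h, natDegree_zero] at hd
    omega
  have hfQ : (X ^ (j + 1) * Q).natDegree = Q.natDegree + (j + 1) := natDegree_X_pow_mul (j + 1) hQ
  have hP1 : (P - X ^ (j + 1) * Q).natDegree = Q.natDegree + (j + 1) := by
    rw [natDegree_sub_eq_right_of_natDegree_lt (by rw [hfQ]; omega), hfQ]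
  have hP10 : P - X ^ (j + 1) * Q ≠ 0 := by
    intro h
    rw [h, natDegree_zero] at hP1
    omega
  have hfP1 : (X ^ (j + 1) * (P - X ^ (j + 1) * Q)).natDegree =
      (P - X ^ (j + 1) * Q).natDegree + (j + 1) := natDegree_X_pow_mul (j + 1) hP10
  have hQ' : (Q - X ^ (j + 1) * (P - X ^ (j + 1) * Q)).natDegree =
      (P - X ^ (j + 1) * Q).natDegree + (j + 1) := by
    rw [natDegree_sub_eq_right_of_natDegree_lt (by rw [hfP1]; omega), hfP1]
  refine ⟨hP10, hQ', ?_⟩
  rw [hQ', hP1]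
  omega

theorem step_mp (i j B : ℕ) (hij : i ≠ j) (P Q : F[X]) (hP : P ≠ 0)
    (hd : Q.natDegree = P.natDegree + (i + 1)) (hB : Q.natDegree ≤ B) :
    X ^ (j + 1) * P + Q ≠ 0 ∧
    ((1 + X ^ (j + 1) * X ^ (j + 1)) * P + X ^ (j + 1) * Q).natDegree =
      (X ^ (j + 1) * P + Q).natDegree + (j + 1) ∧
    ((1 + X ^ (j + 1) * X ^ (j + 1)) * P + X ^ (j + 1) * Q).natDegree ≤ 2 * (j + 1) + B := by
  have hfP : (X ^ (j + 1) * P).natDegree = P.natDegree + (j + 1) := natDegree_X_pow_mul (j + 1) hP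
  have hQ1 : P.natDegree < (X ^ (j + 1) * P + Q).natDegree ∧
      (X ^ (j + 1) * P + Q).natDegree ≤ Q.natDegree + (j + 1) := by
    rcases Nat.lt_or_gt_of_ne hij with h | h
    · rw [natDegree_add_eq_left_of_natDegree_lt (by rw [hfP]; omega), hfP]
      omega
    · rw [natDegree_add_eq_right_of_natDegree_lt (by rw [hfP]; omega)]
      omega
  have hQ'0 : X ^ (j + 1) * P + Q ≠ 0 := by
    intro h
    rw [h, natDegree_zero] at hQ1
    omega
  have hfQ' : (X ^ (j + 1) * (X ^ (j + 1) * P + Q)).natDegree =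
      (X ^ (j + 1) * P + Q).natDegree + (j + 1) := natDegree_X_pow_mul (j + 1) hQ'0
  have hP' : (1 + X ^ (j + 1) * X ^ (j + 1)) * P + X ^ (j + 1) * Q =
      P + X ^ (j + 1) * (X ^ (j + 1) * P + Q) := by ring
  have hP'd : (P + X ^ (j + 1) * (X ^ (j + 1) * P + Q)).natDegree =
      (X ^ (j + 1) * P + Q).natDegree + (j + 1) := by
    rw [natDegree_add_eq_right_of_natDegree_lt (by rw [hfQ']; omega), hfQ']
  refine ⟨hQ'0, ?_, ?_⟩
  · rw [hP', hP'd]
  · rw [hP', hP'd]
    omega

/-- The ping-pong invariant for reduced words. -/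
theorem inv_word (L : List (ℕ × Bool)) : ∀ p : ℕ × Bool, FreeGroup.IsReduced (p :: L) →
    (p.2 = true → ((wordMat (fun i => (X : F[X]) ^ (i + 1)) (p :: L)).1 1 0 ≠ 0 ∧
      ((wordMat (fun i => (X : F[X]) ^ (i + 1)) (p :: L)).1 0 0).natDegree =
        ((wordMat (fun i => (X : F[X]) ^ (i + 1)) (p :: L)).1 1 0).natDegree + (p.1 + 1) ∧
      ((wordMat (fun i => (X : F[X]) ^ (i + 1)) (p :: L)).1 0 0).natDegree ≤ bound (p :: L))) ∧
    (p.2 = false → ((wordMat (fun i => (X : F[X]) ^ (i + 1)) (p :: L)).1 0 0 ≠ 0 ∧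
      ((wordMat (fun i => (X : F[X]) ^ (i + 1)) (p :: L)).1 1 0).natDegree =
        ((wordMat (fun i => (X : F[X]) ^ (i + 1)) (p :: L)).1 0 0).natDegree + (p.1 + 1) ∧
      ((wordMat (fun i => (X : F[X]) ^ (i + 1)) (p :: L)).1 1 0).natDegree ≤ bound (p :: L))) := by
  induction L with
  | nil =>
    rintro ⟨j, b⟩ -
    have h1 : wordMat (fun i => (X : F[X]) ^ (i + 1)) [] = 1 := rfl
    rw [wordMat_cons, h1]
    constructor
    · intro hb
      simp only at hb
      subst hb
      show (genA ((X : F[X]) ^ (j + 1)) * 1).1 1 0 ≠ 0 ∧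
        ((genA ((X : F[X]) ^ (j + 1)) * 1).1 0 0).natDegree =
          ((genA ((X : F[X]) ^ (j + 1)) * 1).1 1 0).natDegree + (j + 1) ∧
        ((genA ((X : F[X]) ^ (j + 1)) * 1).1 0 0).natDegree ≤ 2 * (j + 1) + 0
      rw [genA_mul_00, genA_mul_10]
      simp only [Matrix.SpecialLinearGroup.coe_one, Matrix.one_apply_eq, mul_one, ne_eq,
        one_ne_zero, not_false_eq_true, Matrix.one_apply_ne, mul_zero, add_zero]
      have hd : ((1 : F[X]) + X ^ (j + 1) * X ^ (j + 1)).natDegree = 2 * (j + 1) := by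
        rw [← pow_add, natDegree_add_eq_right_of_natDegree_lt (by
          rw [natDegree_one, natDegree_X_pow]; omega), natDegree_X_pow]
        omega
      refine ⟨pow_ne_zero _ X_ne_zero, ?_, ?_⟩
      · rw [hd, natDegree_X_pow]; omega
      · rw [hd]
    · intro hb
      simp only at hb
      subst hb
      show (genB ((X : F[X]) ^ (j + 1)) * 1).1 0 0 ≠ 0 ∧
        ((genB ((X : F[X]) ^ (j + 1)) * 1).1 1 0).natDegree =
          ((genB ((X : F[X]) ^ (j + 1)) * 1).1 0 0).natDegree + (j + 1) ∧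
        ((genB ((X : F[X]) ^ (j + 1)) * 1).1 1 0).natDegree ≤ 2 * (j + 1) + 0
      rw [genB_mul_00, genB_mul_10]
      simp only [Matrix.SpecialLinearGroup.coe_one, Matrix.one_apply_eq, mul_one, ne_eq,
        one_ne_zero, not_false_eq_true, Matrix.one_apply_ne, mul_zero, sub_zero, zero_sub,
        natDegree_neg, natDegree_X_pow, natDegree_one]
      refine ⟨trivial, ?_, ?_⟩ <;> omega
  | cons q L ih =>
    rintro ⟨j, b⟩ hred
    have hred' := List.isChain_cons_cons.mp hred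
    obtain ⟨hpq, hredq⟩ := hred'
    obtain ⟨ih1, ih2⟩ := ih q hredq
    obtain ⟨i, c⟩ := q
    rw [wordMat_cons]
    have hb0 : bound ((j, b) :: (i, c) :: L) = 2 * (j + 1) + bound ((i, c) :: L) := rfl
    rw [hb0]
    constructor
    · intro hb
      simp only at hb
      subst hb
      show (genA ((X : F[X]) ^ (j + 1)) * _).1 1 0 ≠ 0 ∧
        ((genA ((X : F[X]) ^ (j + 1)) * _).1 0 0).natDegree =
          ((genA ((X : F[X]) ^ (j + 1)) * _).1 1 0).natDegree + (j + 1) ∧
        ((genA ((X : F[X]) ^ (j + 1)) * _).1 0 0).natDegree ≤ _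
      rw [genA_mul_00, genA_mul_10]
      cases c
      · obtain ⟨h1, h2, h3⟩ := ih2 rfl
        have hij : i ≠ j := by
          intro h
          have := hpq h.symm
          simp at this
        exact step_mp i j _ hij _ _ h1 h2 h3
      · obtain ⟨h1, h2, h3⟩ := ih1 rfl
        exact step_pp i j _ _ _ h1 h2 h3
    · intro hb
      simp only at hb
      subst hb
      show (genB ((X : F[X]) ^ (j + 1)) * _).1 0 0 ≠ 0 ∧
        ((genB ((X : F[X]) ^ (j + 1)) * _).1 1 0).natDegree =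
          ((genB ((X : F[X]) ^ (j + 1)) * _).1 0 0).natDegree + (j + 1) ∧
        ((genB ((X : F[X]) ^ (j + 1)) * _).1 1 0).natDegree ≤ _
      rw [genB_mul_00, genB_mul_10]
      cases c
      · obtain ⟨h1, h2, h3⟩ := ih2 rfl
        exact step_mm i j _ _ _ h1 h2 h3
      · obtain ⟨h1, h2, h3⟩ := ih1 rfl
        have hij : i ≠ j := by
          intro h
          have := hpq h.symm
          simp at this
        exact step_pm i j _ hij _ _ h1 h2 h3

end Poly

/-- A non-trivial law holds in PSL_2 over only finitely many finite fields: for every non-trivial element w of the free group on countably many generators there is N such that over every finite field with at least N elements some substitution of elements of PSL_2 into w is not the identity. -/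
theorem result (w : FreeGroup ℕ) (hw : w ≠ 1) :
    ∃ N : ℕ, ∀ (F : Type*) [Field F] [Fintype F], N ≤ Fintype.card F →
      ∃ f : ℕ → Matrix.ProjectiveSpecialLinearGroup (Fin 2) F, FreeGroup.lift f w ≠ 1 := by
  classical
  obtain ⟨p, L, hL⟩ : ∃ p L, w.toWord = p :: L := by
    cases h : w.toWord with
    | nil => exact absurd (FreeGroup.toWord_eq_nil_iff.mp h) hw
    | cons p L => exact ⟨p, L, rfl⟩
  have hred : FreeGroup.IsReduced (p :: L) := by
    rw [← hL]
    exact FreeGroup.isReduced_toWord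
  have hwL : w = FreeGroup.mk (p :: L) := by rw [← hL, FreeGroup.mk_toWord]
  refine ⟨bound (p :: L) + 1, ?_⟩
  intro F _ _ hN
  obtain ⟨h1, h2⟩ := inv_word (F := F) L p hred
  obtain ⟨M, hM⟩ : ∃ M, M = wordMat (fun i => (X : F[X]) ^ (i + 1)) (p :: L) := ⟨_, rfl⟩
  rw [← hM] at h1 h2
  have hQ : M.1 1 0 ≠ 0 ∧ (M.1 1 0).natDegree ≤ bound (p :: L) := by
    rcases hb : p.2 with _ | _
    · obtain ⟨h3, h4, h5⟩ := h2 hb
      refine ⟨?_, h5⟩
      intro h
      rw [h, natDegree_zero] at h4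
      omega
    · obtain ⟨h3, h4, h5⟩ := h1 hb
      exact ⟨h3, by omega⟩
  obtain ⟨t, ht⟩ := Polynomial.exists_eval_ne_zero_of_natDegree_lt_card (M.1 1 0) hQ.1 (by
    rw [Cardinal.mk_fintype]
    exact_mod_cast (by omega : (M.1 1 0).natDegree < Fintype.card F))
  refine ⟨fun i => QuotientGroup.mk' (Subgroup.center SL(2, F)) (genA (t ^ (i + 1))), ?_⟩
  have h3 : (FreeGroup.lift fun i =>
      (QuotientGroup.mk' (Subgroup.center SL(2, F))) (genA (t ^ (i + 1)))) =
      (QuotientGroup.mk' (Subgroup.center SL(2, F))).comp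
        (FreeGroup.lift fun i => genA (t ^ (i + 1))) := by
    apply FreeGroup.ext_hom
    intro a
    simp
  rw [h3, MonoidHom.comp_apply, hwL, lift_eq_wordMat, Ne, QuotientGroup.mk'_apply,
    QuotientGroup.eq_one_iff, H7.sl2_mem_center_iff]
  rintro ⟨-, h10, -⟩
  apply ht
  have h4 := map_wordMat (Polynomial.evalRingHom t) (fun i => (X : F[X]) ^ (i + 1)) (p :: L)
  rw [← hM] at h4
  have h5 : (fun i => (Polynomial.evalRingHom t) ((X : F[X]) ^ (i + 1))) =
      fun i => t ^ (i + 1) := by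
    funext i
    simp
  rw [h5] at h4
  rw [← h4, Matrix.SpecialLinearGroup.map_apply_coe] at h10
  simpa using h10

end Cfsg.Agent.S2353
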