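import Mathlib
import Cfsg.Statements.S4085
import Cfsg.Agent.H72.ClassSize

set_option autoImplicit false
open Cfsg

namespace Cfsg.Agent.S4085

open Subgroup

variable {G : Type*} [Group G]

/-- adjacency in the (reflexive) power graph. -/
def adj (x y : G) : Prop := x ∈ zpowers y ∨ y ∈ zpowers x

theorem adj_symm {x y : G} : adj x y ↔ adj y x := or_comm

theorem adj_refl (x : G) : adj x x := Or.inl (mem_zpowers x)

/-- closed-twin class of `x`. -/
def cl (x : G) : Set G := {w | ∀ z, adj w z ↔ adj x z}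

theorem mem_cl_self (x : G) : x ∈ cl x := fun _ => Iff.rfl

theorem adj_of_mem_cl {x w : G} (h : w ∈ cl x) : adj w x := (h x).2 (adj_refl x)

theorem mem_cl_of_zpowers_eq {x w : G} (h : zpowers w = zpowers x) : w ∈ cl x := by
  intro z
  have h1 : w ∈ zpowers z ↔ x ∈ zpowers z := by
    rw [← zpowers_le, ← zpowers_le (g := x), h]
  unfold adj
  rw [h, h1]

theorem cl_eq_of_mem {x w : G} (h : w ∈ cl x) : cl w = cl x := by
  ext v
  constructor
  · intro hv z
    rw [hv z, h z]
  · intro hv z
    rw [hv z, h z]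

/-- In a finite cyclic group, elements are ordered by divisibility of orders. -/
theorem mem_zpowers_of_orderOf_dvd [Finite G] {x y z : G} (hx : x ∈ zpowers z)
    (hy : y ∈ zpowers z) (h : orderOf x ∣ orderOf y) : x ∈ zpowers y := by
  classical
  have : Fintype G := Fintype.ofFinite G
  set n := orderOf y with hn
  have hn0 : 0 < n := orderOf_pos y
  have hcard := IsCyclic.card_pow_eq_one_le (α := zpowers z) hn0
  set x' : zpowers z := ⟨x, hx⟩ with hx'
  set y' : zpowers z := ⟨y, hy⟩ with hy'
  have hoy : orderOf y' = n := Subgroup.orderOf_mk y hy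
  have hsub : (zpowers y' : Set (zpowers z)).toFinset ⊆
      Finset.univ.filter (fun a : zpowers z => a ^ n = 1) := by
    intro a ha
    rw [Set.mem_toFinset] at ha
    rw [Finset.mem_filter]
    refine ⟨Finset.mem_univ _, ?_⟩
    have : orderOf a ∣ orderOf y' := orderOf_dvd_of_mem_zpowers ha
    rw [hoy] at this
    exact orderOf_dvd_iff_pow_eq_one.mp this
  have hcy : (zpowers y' : Set (zpowers z)).toFinset.card = n := by
    rw [Set.toFinset_card]
    rw [← hoy]
    exact Fintype.card_zpowers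
  have heq := Finset.eq_of_subset_of_card_le hsub (by rw [hcy]; exact hcard)
  have hxm : x' ∈ Finset.univ.filter (fun a : zpowers z => a ^ n = 1) := by
    rw [Finset.mem_filter]
    refine ⟨Finset.mem_univ _, ?_⟩
    apply Subtype.ext
    simp only [hx', Subgroup.coe_pow, Subgroup.coe_one]
    exact orderOf_dvd_iff_pow_eq_one.mp h
  rw [← heq, Set.mem_toFinset] at hxm
  obtain ⟨k, hk⟩ := mem_zpowers_iff.mp hxm
  refine mem_zpowers_iff.mpr ⟨k, ?_⟩
  have := congrArg (Subtype.val) hk
  simpa [hx', hy'] using this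

/-- An element outside a subgroup has a prime-power-order power outside that subgroup. -/
theorem exists_ppow_not_mem [Finite G] (K : Subgroup G) :
    ∀ (n : ℕ) (a : G), orderOf a ≤ n → a ∉ K →
      ∃ w ∈ zpowers a, ∃ r k : ℕ, r.Prime ∧ orderOf w = r ^ k ∧ w ∉ K := by
  intro n
  induction n with
  | zero =>
    intro a ha
    exact absurd (orderOf_pos a) (by omega)
  | succ n ih =>
    intro a ha haK
    have ha1 : a ≠ 1 := fun h => haK (h ▸ K.one_mem)
    have hne : orderOf a ≠ 1 := fun h => ha1 (orderOf_eq_one_iff.mp h)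
    obtain ⟨r, hr, hrd⟩ := Nat.exists_prime_and_dvd hne
    obtain ⟨i, j, hij, ⟨k, hk⟩, hco⟩ := H72.exists_pparts r hr a
    by_cases h1 : a ^ i ∈ K
    · have h2 : a ^ j ∉ K := fun h => haK (hij ▸ K.mul_mem h1 h)
      have hd : orderOf (a ^ j) ∣ orderOf a := orderOf_pow_dvd j
      have hlt : orderOf (a ^ j) < orderOf a := by
        refine lt_of_le_of_ne (Nat.le_of_dvd (orderOf_pos a) hd) ?_
        intro heq
        rw [heq] at hco
        exact hr.one_lt.ne' (Nat.Coprime.eq_one_of_dvd hco.symm hrd)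
      obtain ⟨w, hw, r', k', hr', hwo, hwK⟩ := ih (a ^ j) (by omega) h2
      exact ⟨w, (zpowers_le.mpr (npow_mem_zpowers a j)) hw, r', k', hr', hwo, hwK⟩
    · exact ⟨a ^ i, npow_mem_zpowers a i, r, k, hr, hk, h1⟩


theorem zpowers_eq_of_mem_of_orderOf_eq [Finite G] {w x : G} (hw : w ∈ zpowers x)
    (h : orderOf w = orderOf x) : zpowers w = zpowers x := by
  apply Subgroup.eq_of_le_of_card_ge (zpowers_le.mpr hw)
  rw [Nat.card_zpowers, Nat.card_zpowers, h]

/-- number of elements of order `d` in a finite cyclic subgroup. -/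
theorem ncard_orderOf_eq [Finite G] (z : G) {d : ℕ} (hd : d ∣ orderOf z) :
    Set.ncard {w : G | w ∈ zpowers z ∧ orderOf w = d} = Nat.totient d := by
  classical
  have : Fintype G := Fintype.ofFinite G
  have h1 := IsCyclic.card_orderOf_eq_totient (α := zpowers z) (d := d)
    (by rw [Fintype.card_zpowers]; exact hd)
  have h2 : {w : G | w ∈ zpowers z ∧ orderOf w = d} =
      Subtype.val '' ((Finset.univ.filter (fun a : zpowers z => orderOf a = d) : Finset (zpowers z)) : Set (zpowers z)) := by
    ext w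
    constructor
    · rintro ⟨hw, hwo⟩
      refine ⟨⟨w, hw⟩, ?_, rfl⟩
      simp only [Finset.coe_filter, Finset.mem_univ, true_and, Set.mem_ofPred_eq]
      rw [Subgroup.orderOf_mk]
      exact hwo
    · rintro ⟨a, ha, rfl⟩
      simp only [Finset.coe_filter, Finset.mem_univ, true_and, Set.mem_ofPred_eq] at ha
      refine ⟨a.2, ?_⟩
      rw [Subgroup.orderOf_coe]
      exact ha
  rw [h2, Set.ncard_image_of_injective _ Subtype.val_injective, Set.ncard_coe_finset, h1]

/-- generators of `zpowers x` are closed twins of `x`. -/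
theorem gens_subset_cl [Finite G] (x : G) :
    {w : G | w ∈ zpowers x ∧ orderOf w = orderOf x} ⊆ cl x := by
  rintro w ⟨hw, hwo⟩
  exact mem_cl_of_zpowers_eq (zpowers_eq_of_mem_of_orderOf_eq hw hwo)

theorem totient_le_ncard_cl [Finite G] (x : G) : Nat.totient (orderOf x) ≤ (cl x).ncard := by
  rw [← ncard_orderOf_eq x (dvd_refl _)]
  exact Set.ncard_le_ncard (gens_subset_cl x) (Set.toFinite _)

/-- The class of an element of prime order `r` lying under an element of order `r * s`. -/
theorem cl_prime [Finite G] {u v : G} {r s : ℕ} (hr : r.Prime) (hs : s.Prime) (hrs : r ≠ s)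
    (hu : orderOf u = r) (hv : orderOf v = s) (huv : Commute u v) :
    cl u = {w | w ∈ zpowers u ∧ w ≠ 1} := by
  have hco : Nat.Coprime r s := (Nat.coprime_primes hr hs).mpr hrs
  have hnadj : ¬ adj u v := by
    rintro (h | h)
    · have := orderOf_dvd_of_mem_zpowers h
      rw [hu, hv] at this
      exact hrs ((Nat.prime_dvd_prime_iff_eq hr hs).mp this)
    · have := orderOf_dvd_of_mem_zpowers h
      rw [hu, hv] at this
      exact hrs ((Nat.prime_dvd_prime_iff_eq hs hr).mp this).symm
  have hug : u ∈ zpowers (u * v) := by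
    obtain ⟨m, hm⟩ := exists_pow_eq_self_of_coprime (x := u) (n := s) (by rw [hu]; exact hco.symm)
    have h0 : v ^ s = 1 := by rw [← hv]; exact pow_orderOf_eq_one v
    have h1 : (u * v) ^ s = u ^ s := by
      rw [huv.mul_pow, h0, mul_one]
    have h3 : ((u * v) ^ s) ^ m ∈ zpowers (u * v) := pow_mem (pow_mem (mem_zpowers _) _) _
    rwa [h1, hm] at h3
  have hvg : v ∈ zpowers (u * v) := by
    obtain ⟨m, hm⟩ := exists_pow_eq_self_of_coprime (x := v) (n := r) (by rw [hv]; exact hco)
    have h0 : u ^ r = 1 := by rw [← hu]; exact pow_orderOf_eq_one u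
    have h1 : (u * v) ^ r = v ^ r := by
      rw [huv.mul_pow, h0, one_mul]
    have h3 : ((u * v) ^ r) ^ m ∈ zpowers (u * v) := pow_mem (pow_mem (mem_zpowers _) _) _
    rwa [h1, hm] at h3
  ext w
  constructor
  · intro hw
    have hwu : adj w u := adj_of_mem_cl hw
    have hwv : ¬ adj w v := fun h => hnadj ((hw v).1 h)
    have key : w ∈ zpowers u := by
      rcases hwu with h | h
      · exact h
      · have hwg : adj w (u * v) := (hw (u * v)).2 (Or.inl hug)
        rcases hwg with h' | h'
        · by_cases hsw : s ∣ orderOf w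
          · exfalso
            apply hwv
            right
            exact mem_zpowers_of_orderOf_dvd hvg h' (by rw [hv]; exact hsw)
          · have h2 : orderOf w ∣ r * s := by
              have := orderOf_dvd_of_mem_zpowers h'
              rwa [huv.orderOf_mul_eq_mul_orderOf_of_coprime (by rw [hu, hv]; exact hco), hu, hv] at this
            have h3 : Nat.Coprime (orderOf w) s := ((Nat.Prime.coprime_iff_not_dvd hs).mpr hsw).symm
            have h4 : orderOf w ∣ r := h3.dvd_of_dvd_mul_right h2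
            exact mem_zpowers_of_orderOf_dvd h' hug (by rw [hu]; exact h4)
        · exfalso
          apply hwv
          right
          exact (zpowers_le.mpr h') hvg
    refine ⟨key, ?_⟩
    rintro rfl
    exact hwv (Or.inl (one_mem _))
  · rintro ⟨hw, hw1⟩
    apply mem_cl_of_zpowers_eq
    apply zpowers_eq_of_mem_of_orderOf_eq hw
    have h1 := orderOf_dvd_of_mem_zpowers hw
    rw [hu] at h1
    rw [hu]
    rcases (Nat.dvd_prime hr).mp h1 with h | h
    · exact absurd (orderOf_eq_one_iff.mp h) hw1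
    · exact h

theorem ncard_cl_prime [Finite G] {u v : G} {r s : ℕ} (hr : r.Prime) (hs : s.Prime) (hrs : r ≠ s)
    (hu : orderOf u = r) (hv : orderOf v = s) (huv : Commute u v) :
    (cl u).ncard = r - 1 := by
  rw [cl_prime hr hs hrs hu hv huv]
  have : {w : G | w ∈ zpowers u ∧ w ≠ 1} = (zpowers u : Set G) \ {1} := by
    ext w
    simp
  rw [this, Set.ncard_sdiff_singleton_of_mem (one_mem _), ← Nat.card_coe_set_eq]
  have : Nat.card (zpowers u) = r := by rw [Nat.card_zpowers, hu]
  rw [← this]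
  rfl


theorem commute_of_mem_zpowers {c x y : G} (hx : x ∈ zpowers c) (hy : y ∈ zpowers c) :
    Commute x y := by
  obtain ⟨k, rfl⟩ := mem_zpowers_iff.mp hx
  obtain ⟨l, rfl⟩ := mem_zpowers_iff.mp hy
  exact ((Commute.refl c).zpow_left k).zpow_right l

/-- If two comparable closed twins `lo < up` (different cyclic subgroups) sit below two
non-adjacent elements `a`, `b`, then every cyclic subgroup containing `up` is a `t`-group for a
single prime `t`. -/
theorem te_core [Finite G] {a b lo up : G} (hab : ¬ adj a b) (h1 : lo ∈ zpowers up)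
    (h2 : up ∉ zpowers lo) (h4 : up ∈ zpowers b) (h5 : lo ∈ cl up) :
    ∃ t : ℕ, t.Prime ∧ ∀ c : G, up ∈ zpowers c → ∀ r : ℕ, r.Prime → r ∣ orderOf c → r = t := by
  obtain ⟨y, hy, t, m, ht, hyo, hyl⟩ := exists_ppow_not_mem (zpowers lo) (orderOf up) up le_rfl h2
  have hloy : lo ∈ zpowers y := by
    have : adj lo y := (h5 y).2 (Or.inr hy)
    rcases this with h | h
    · exact h
    · exact absurd h hyl
  have hlo_ord : orderOf lo ∣ t ^ m := hyo ▸ orderOf_dvd_of_mem_zpowers hloy
  have hy1 : y ≠ 1 := fun h => hyl (h ▸ one_mem _)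
  refine ⟨t, ht, ?_⟩
  intro c hc r hr hrc
  by_contra hrt
  have hco_rt : Nat.Coprime r t := (Nat.coprime_primes hr ht).mpr hrt
  set u := c ^ (orderOf c / r) with hu
  have huo : orderOf u = r := orderOf_pow_orderOf_div (orderOf_pos c).ne' hrc
  have huc : u ∈ zpowers c := npow_mem_zpowers c _
  have hloc : lo ∈ zpowers c := (zpowers_le.mpr hc) h1
  have hcomm : Commute lo u := commute_of_mem_zpowers hloc huc
  have hur : u ^ r = 1 := by rw [← huo]; exact pow_orderOf_eq_one u
  have hco_lo : Nat.Coprime r (orderOf lo) :=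
    Nat.Coprime.coprime_dvd_right hlo_ord (Nat.Coprime.pow_right m hco_rt)
  have hloz : lo ∈ zpowers (lo * u) := by
    obtain ⟨k, hk⟩ := exists_pow_eq_self_of_coprime (x := lo) (n := r) hco_lo
    have h6 : (lo * u) ^ r = lo ^ r := by rw [hcomm.mul_pow, hur, mul_one]
    have h7 : ((lo * u) ^ r) ^ k ∈ zpowers (lo * u) := pow_mem (pow_mem (mem_zpowers _) _) _
    rwa [h6, hk] at h7
  have hadj : adj up (lo * u) := (h5 (lo * u)).1 (Or.inl hloz)
  rcases hadj with hb | ha'
  · -- `up ∈ zpowers (lo * u)`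
    apply hyl
    have hyz : y ∈ zpowers (lo * u) := (zpowers_le.mpr hb) hy
    obtain ⟨k, hk⟩ := mem_zpowers_iff.mp hyz
    have hyr : y ^ r ∈ zpowers lo := by
      have e1 : y ^ r = (lo ^ k) ^ r := by
        rw [← hk, hcomm.mul_zpow, ((hcomm.zpow_left k).zpow_right k).mul_pow]
        have : (u ^ k) ^ r = 1 := by
          rw [← zpow_natCast, ← zpow_mul, mul_comm, zpow_mul, zpow_natCast, hur, one_zpow]
        rw [this, mul_one]
      rw [e1]
      exact pow_mem (zpow_mem (mem_zpowers lo) k) r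
    obtain ⟨j, hj⟩ := exists_pow_eq_self_of_coprime (x := y) (n := r)
      (by rw [hyo]; exact Nat.Coprime.pow_right m hco_rt)
    rw [← hj]
    exact pow_mem hyr j
  · -- `lo * u ∈ zpowers up`
    have huup : u ∈ zpowers up := by
      have : lo⁻¹ * (lo * u) ∈ zpowers up := mul_mem (inv_mem h1) ha'
      simpa using this
    have hadj2 : adj lo u := (h5 u).2 (Or.inr huup)
    rcases hadj2 with h | h
    · have hlo1 : orderOf lo = 1 := by
        have hd := orderOf_dvd_of_mem_zpowers h
        rw [huo] at hd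
        exact Nat.Coprime.eq_one_of_dvd hco_lo.symm hd
      have hlo : lo = 1 := orderOf_eq_one_iff.mp hlo1
      have hall : ∀ z, adj up z := fun z => (h5 z).1 (by rw [hlo]; exact Or.inl (one_mem _))
      have hanb : a ∉ zpowers b := fun h => hab (Or.inl h)
      obtain ⟨w1, hw1, r', k', hr', hw1o, hw1b⟩ :=
        exists_ppow_not_mem (zpowers b) (orderOf a) a le_rfl hanb
      have hupw : up ∈ zpowers w1 := by
        rcases hall w1 with h | h
        · exact h
        · exact absurd ((zpowers_le.mpr h4) h) hw1b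
      have hupo : orderOf up ∣ r' ^ k' := hw1o ▸ orderOf_dvd_of_mem_zpowers hupw
      have h8 : r ∣ r' ^ k' := (huo ▸ orderOf_dvd_of_mem_zpowers huup).trans hupo
      have h9 : t ∣ r' ^ k' := by
        have h10 : orderOf y ∣ r' ^ k' := (orderOf_dvd_of_mem_zpowers hy).trans hupo
        rw [hyo] at h10
        have hm : m ≠ 0 := by
          rintro rfl
          rw [pow_zero] at hyo
          exact hy1 (orderOf_eq_one_iff.mp hyo)
        exact (dvd_pow_self t hm).trans h10
      have e1 : r = r' := (Nat.prime_dvd_prime_iff_eq hr hr').mp (hr.dvd_of_dvd_pow h8)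
      have e2 : t = r' := (Nat.prime_dvd_prime_iff_eq ht hr').mp (ht.dvd_of_dvd_pow h9)
      exact hrt (e1.trans e2.symm)
    · have hd := orderOf_dvd_of_mem_zpowers h
      rw [huo] at hd
      have : r ∣ t ^ m := hd.trans hlo_ord
      exact hrt ((Nat.prime_dvd_prime_iff_eq hr ht).mp (hr.dvd_of_dvd_pow this))

theorem te [Finite G] {a b lo up : G} (hab : ¬ adj a b) (h1 : lo ∈ zpowers up)
    (h2 : up ∉ zpowers lo) (h3 : up ∈ zpowers a) (h4 : up ∈ zpowers b) (h5 : lo ∈ cl up) :
    ∃ t i : ℕ, t.Prime ∧ orderOf a = t ^ i := by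
  obtain ⟨t, ht, h⟩ := te_core hab h1 h2 h4 h5
  exact ⟨t, _, ht, Nat.eq_prime_pow_of_unique_prime_dvd (orderOf_pos a).ne'
    (fun {d} hd hda => h a h3 d hd hda)⟩


/-- Meet case: the class of a nontrivial common lower bound of two non-adjacent elements is no
bigger than the class of either. -/
theorem ncard_cl_le_of_meet [Finite G] {a b d : G} (hab : ¬ adj a b) (hd1 : d ≠ 1)
    (hda : d ∈ zpowers a) (hdb : d ∈ zpowers b) : (cl d).ncard ≤ (cl a).ncard := by
  have hanb : a ∉ zpowers b := fun h => hab (Or.inl h)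
  have hbna : b ∉ zpowers a := fun h => hab (Or.inr h)
  have step1 : ∀ w ∈ cl d, w ∈ zpowers a ∧ w ∈ zpowers b := by
    intro w hw
    have hwa : adj w a := (hw a).2 (Or.inl hda)
    have hwb : adj w b := (hw b).2 (Or.inl hdb)
    rcases hwa with h1 | h1 <;> rcases hwb with h2 | h2
    · exact ⟨h1, h2⟩
    · exact absurd ((zpowers_le.mpr h1) h2) hbna
    · exact absurd ((zpowers_le.mpr h2) h1) hanb
    · exfalso
      obtain ⟨w1, hw1, r, k, hr, hw1o, hw1b⟩ := exists_ppow_not_mem (zpowers b) _ a le_rfl hanb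
      obtain ⟨w2, hw2, s, l, hs, hw2o, hw2a⟩ := exists_ppow_not_mem (zpowers a) _ b le_rfl hbna
      have hw1w : w1 ∈ zpowers w := (zpowers_le.mpr h1) hw1
      have hw2w : w2 ∈ zpowers w := (zpowers_le.mpr h2) hw2
      have hd1' : d ∈ zpowers w1 := by
        rcases (hw w1).1 (Or.inr hw1w) with h | h
        · exact h
        · exact absurd ((zpowers_le.mpr hdb) h) hw1b
      have hd2' : d ∈ zpowers w2 := by
        rcases (hw w2).1 (Or.inr hw2w) with h | h
        · exact h
        · exact absurd ((zpowers_le.mpr hda) h) hw2a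
      have hdo1 : orderOf d ∣ r ^ k := hw1o ▸ orderOf_dvd_of_mem_zpowers hd1'
      have hdo2 : orderOf d ∣ s ^ l := hw2o ▸ orderOf_dvd_of_mem_zpowers hd2'
      have hdne : orderOf d ≠ 1 := fun h => hd1 (orderOf_eq_one_iff.mp h)
      obtain ⟨q, hq, hqd⟩ := Nat.exists_prime_and_dvd hdne
      have e1 : q = r := (Nat.prime_dvd_prime_iff_eq hq hr).mp (hq.dvd_of_dvd_pow (hqd.trans hdo1))
      have e2 : q = s := (Nat.prime_dvd_prime_iff_eq hq hs).mp (hq.dvd_of_dvd_pow (hqd.trans hdo2))
      have ers : r = s := e1.symm.trans e2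
      subst ers
      rcases Nat.le_total k l with hkl | hkl
      · have : w1 ∈ zpowers w2 :=
          mem_zpowers_of_orderOf_dvd hw1w hw2w (by rw [hw1o, hw2o]; exact pow_dvd_pow r hkl)
        exact hw1b ((zpowers_le.mpr hw2) this)
      · have : w2 ∈ zpowers w1 :=
          mem_zpowers_of_orderOf_dvd hw2w hw1w (by rw [hw1o, hw2o]; exact pow_dvd_pow r hkl)
        exact hw2a ((zpowers_le.mpr hw1) this)
  by_cases hX : ∃ t i : ℕ, t.Prime ∧ orderOf a = t ^ i
  · obtain ⟨t, i, ht, hai⟩ := hX
    set Θ := zpowers a ⊓ zpowers b with hΘ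
    have hsub : cl d ⊆ (Θ : Set G) := fun w hw => step1 w hw
    have h1 : (cl d).ncard ≤ Nat.card Θ := by
      have := Set.ncard_le_ncard hsub (Set.toFinite _)
      rwa [← Nat.card_coe_set_eq (Θ : Set G)] at this
    have hΘlt : Nat.card Θ ≤ Nat.totient (t ^ i) := by
      have hdvd : Nat.card Θ ∣ t ^ i := by
        have := Subgroup.card_dvd_of_le (inf_le_left : Θ ≤ zpowers a)
        rwa [Nat.card_zpowers, hai] at this
      obtain ⟨j, hj, hcj⟩ := (Nat.dvd_prime_pow ht).mp hdvd
      have hji : j ≠ i := by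
        rintro rfl
        have h2 : Θ = zpowers a :=
          Subgroup.eq_of_le_of_card_ge inf_le_left (by rw [Nat.card_zpowers, hai, hcj])
        have ha : a ∈ Θ := h2 ▸ mem_zpowers a
        exact hanb ha.2
      have hjlt : j < i := lt_of_le_of_ne hj hji
      have hi : 0 < i := by omega
      rw [hcj, Nat.totient_prime_pow ht hi]
      calc t ^ j ≤ t ^ (i - 1) := Nat.pow_le_pow_right ht.pos (by omega)
        _ = t ^ (i - 1) * 1 := (mul_one _).symm
        _ ≤ t ^ (i - 1) * (t - 1) := Nat.mul_le_mul_left _ (by have := ht.two_le; omega)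
    calc (cl d).ncard ≤ Nat.card Θ := h1
      _ ≤ Nat.totient (t ^ i) := hΘlt
      _ = Nat.totient (orderOf a) := by rw [hai]
      _ ≤ (cl a).ncard := totient_le_ncard_cl a
  · have hsub : cl d ⊆ {w : G | w ∈ zpowers a ∧ orderOf w = orderOf d} := by
      intro w hw
      have hwΘ := step1 w hw
      refine ⟨hwΘ.1, ?_⟩
      have hwd : adj w d := adj_of_mem_cl hw
      by_cases hc1 : w ∈ zpowers d
      · by_cases hc2 : d ∈ zpowers w
        · have : zpowers w = zpowers d := le_antisymm (zpowers_le.mpr hc1) (zpowers_le.mpr hc2)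
          rw [← Nat.card_zpowers, ← Nat.card_zpowers, this]
        · exact absurd (te hab hc1 hc2 hda hdb hw) hX
      · have hc2 : d ∈ zpowers w := by
          rcases hwd with h | h
          · exact absurd h hc1
          · exact h
        have hdw : d ∈ cl w := by rw [cl_eq_of_mem hw]; exact mem_cl_self d
        exact absurd (te hab hc2 hc1 hwΘ.1 hwΘ.2 hdw) hX
    have hdvd : orderOf d ∣ orderOf a := orderOf_dvd_of_mem_zpowers hda
    calc (cl d).ncard ≤ Set.ncard {w : G | w ∈ zpowers a ∧ orderOf w = orderOf d} :=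
          Set.ncard_le_ncard hsub (Set.toFinite _)
      _ = Nat.totient (orderOf d) := ncard_orderOf_eq a hdvd
      _ ≤ Nat.totient (orderOf a) :=
          Nat.le_of_dvd (Nat.totient_pos.mpr (orderOf_pos a)) (Nat.totient_dvd_of_dvd hdvd)
      _ ≤ (cl a).ncard := totient_le_ncard_cl a

/-- Join case. -/
theorem exists_of_join [Finite G] {a b d : G} {p q : ℕ} (hp : p.Prime) (hq : q.Prime)
    (hab : ¬ adj a b) (had : a ∈ zpowers d) (hbd : b ∈ zpowers d)
    (h3 : ∀ z, adj z d → z ∈ cl a ∨ z ∈ cl b ∨ (adj z a ∧ adj z b))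
    (ca : (cl a).ncard = p - 1) (cb : (cl b).ncard = q - 1) :
    ∃ h : G, orderOf h = p * q := by
  have hanb : a ∉ zpowers b := fun h => hab (Or.inl h)
  have hbna : b ∉ zpowers a := fun h => hab (Or.inr h)
  obtain ⟨w1, hw1, r, k, hr, hw1o, hw1b⟩ := exists_ppow_not_mem (zpowers b) _ a le_rfl hanb
  obtain ⟨w2, hw2, s, l, hs, hw2o, hw2a⟩ := exists_ppow_not_mem (zpowers a) _ b le_rfl hbna
  have hw1d : w1 ∈ zpowers d := (zpowers_le.mpr had) hw1
  have hw2d : w2 ∈ zpowers d := (zpowers_le.mpr hbd) hw2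
  have hw1nb : ¬ adj w1 b := by
    rintro (h | h)
    · exact hw1b h
    · exact hbna ((zpowers_le.mpr hw1) h)
  have hw2na : ¬ adj w2 a := by
    rintro (h | h)
    · exact hw2a h
    · exact hanb ((zpowers_le.mpr hw2) h)
  have hw1cl : w1 ∈ cl a := by
    rcases h3 w1 (Or.inl hw1d) with h | h | h
    · exact h
    · exact absurd (adj_of_mem_cl h) hw1nb
    · exact absurd h.2 hw1nb
  have hw2cl : w2 ∈ cl b := by
    rcases h3 w2 (Or.inl hw2d) with h | h | h
    · exact absurd (adj_of_mem_cl h) hw2na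
    · exact h
    · exact absurd h.1 hw2na
  have hw12 : ¬ adj w1 w2 := fun h => hw2na (adj_symm.mp ((hw1cl w2).1 h))
  have hrs : r ≠ s := by
    rintro rfl
    rcases Nat.le_total k l with hkl | hkl
    · exact hw12 (Or.inl (mem_zpowers_of_orderOf_dvd hw1d hw2d
        (by rw [hw1o, hw2o]; exact pow_dvd_pow r hkl)))
    · exact hw12 (Or.inr (mem_zpowers_of_orderOf_dvd hw2d hw1d
        (by rw [hw1o, hw2o]; exact pow_dvd_pow r hkl)))
  have hk : k ≠ 0 := by
    rintro rfl
    rw [pow_zero] at hw1o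
    exact hw1b ((orderOf_eq_one_iff.mp hw1o) ▸ one_mem _)
  have hl : l ≠ 0 := by
    rintro rfl
    rw [pow_zero] at hw2o
    exact hw2a ((orderOf_eq_one_iff.mp hw2o) ▸ one_mem _)
  set u := w1 ^ (orderOf w1 / r) with hu
  set v := w2 ^ (orderOf w2 / s) with hv
  have huo : orderOf u = r :=
    orderOf_pow_orderOf_div (orderOf_pos w1).ne' (by rw [hw1o]; exact dvd_pow_self r hk)
  have hvo : orderOf v = s :=
    orderOf_pow_orderOf_div (orderOf_pos w2).ne' (by rw [hw2o]; exact dvd_pow_self s hl)
  have huw : u ∈ zpowers w1 := npow_mem_zpowers w1 _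
  have hvw : v ∈ zpowers w2 := npow_mem_zpowers w2 _
  have hud : u ∈ zpowers d := (zpowers_le.mpr hw1d) huw
  have hvd : v ∈ zpowers d := (zpowers_le.mpr hw2d) hvw
  have huv : Commute u v := commute_of_mem_zpowers hud hvd
  have hunb : ¬ adj u b := by
    intro h
    have h' : adj u w2 := adj_symm.mp ((hw2cl u).2 (adj_symm.mp h))
    rcases h' with h' | h'
    · have := orderOf_dvd_of_mem_zpowers h'
      rw [huo, hw2o] at this
      exact hrs ((Nat.prime_dvd_prime_iff_eq hr hs).mp (hr.dvd_of_dvd_pow this))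
    · have := orderOf_dvd_of_mem_zpowers h'
      rw [huo, hw2o] at this
      exact hrs ((Nat.prime_dvd_prime_iff_eq hs hr).mp ((dvd_pow_self s hl).trans this)).symm
  have hvna : ¬ adj v a := by
    intro h
    have h' : adj v w1 := adj_symm.mp ((hw1cl v).2 (adj_symm.mp h))
    rcases h' with h' | h'
    · have := orderOf_dvd_of_mem_zpowers h'
      rw [hvo, hw1o] at this
      exact hrs ((Nat.prime_dvd_prime_iff_eq hs hr).mp (hs.dvd_of_dvd_pow this)).symm
    · have := orderOf_dvd_of_mem_zpowers h'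
      rw [hvo, hw1o] at this
      exact hrs ((Nat.prime_dvd_prime_iff_eq hr hs).mp ((dvd_pow_self r hk).trans this))
  have hucl : u ∈ cl a := by
    rcases h3 u (Or.inl hud) with h | h | h
    · exact h
    · exact absurd (adj_of_mem_cl h) hunb
    · exact absurd h.2 hunb
  have hvcl : v ∈ cl b := by
    rcases h3 v (Or.inl hvd) with h | h | h
    · exact absurd (adj_of_mem_cl h) hvna
    · exact h
    · exact absurd h.1 hvna
  have e1 : r - 1 = p - 1 := by
    rw [← ncard_cl_prime hr hs hrs huo hvo huv, cl_eq_of_mem hucl, ca]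
  have e2 : s - 1 = q - 1 := by
    rw [← ncard_cl_prime hs hr hrs.symm hvo huo huv.symm, cl_eq_of_mem hvcl, cb]
  have hrp : r = p := by
    have := hr.two_le
    have := hp.two_le
    omega
  have hsq : s = q := by
    have := hs.two_le
    have := hq.two_le
    omega
  refine ⟨u * v, ?_⟩
  rw [huv.orderOf_mul_eq_mul_orderOf_of_coprime
    (by rw [huo, hvo]; exact (Nat.coprime_primes hr hs).mpr hrs), huo, hvo, hrp, hsq]

theorem hside [Finite G] {a b d : G} {p q : ℕ} (hp : p.Prime) (hq : q.Prime) (hpq : p ≠ q)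
    (hd1 : d ≠ 1) (hab : ¬ adj a b) (hda : adj d a) (hdb : adj d b)
    (h3 : ∀ z, adj z d → z ∈ cl a ∨ z ∈ cl b ∨ (adj z a ∧ adj z b))
    (ca : (cl a).ncard = p - 1) (cb : (cl b).ncard = q - 1)
    (cd : (p - 1) * (q - 1) ≤ (cl d).ncard) : ∃ h : G, orderOf h = p * q := by
  rcases hda with h1 | h1 <;> rcases hdb with h2 | h2
  · exfalso
    have i1 := ncard_cl_le_of_meet hab hd1 h1 h2
    have i2 := ncard_cl_le_of_meet (fun h => hab (adj_symm.mp h)) hd1 h2 h1
    rw [ca] at i1
    rw [cb] at i2
    have hp2 := hp.two_le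
    have hq2 := hq.two_le
    have j1 : (p - 1) * (q - 1) ≤ (p - 1) * 1 := by rw [mul_one]; exact cd.trans i1
    have j2 : (p - 1) * (q - 1) ≤ 1 * (q - 1) := by rw [one_mul]; exact cd.trans i2
    have k1 : q - 1 ≤ 1 := Nat.le_of_mul_le_mul_left j1 (by omega)
    have k2 : p - 1 ≤ 1 := Nat.le_of_mul_le_mul_right j2 (by omega)
    omega
  · exact absurd (Or.inr ((zpowers_le.mpr h1) h2)) hab
  · exact absurd (Or.inl ((zpowers_le.mpr h2) h1)) hab
  · exact exists_of_join hp hq hab h1 h2 h3 ca cb


theorem gside [Finite G] {g : G} {p q : ℕ} (hp : p.Prime) (hq : q.Prime) (hpq : p ≠ q)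
    (hg : orderOf g = p * q) :
    ¬ adj (g ^ q) (g ^ p) ∧ adj g (g ^ q) ∧ adj g (g ^ p) ∧
    (∀ z, adj z g → z ∈ cl (g ^ q) ∨ z ∈ cl (g ^ p) ∨ (adj z (g ^ q) ∧ adj z (g ^ p))) ∧
    (cl (g ^ q)).ncard = p - 1 ∧ (cl (g ^ p)).ncard = q - 1 ∧
    (p - 1) * (q - 1) ≤ (cl g).ncard := by
  have hco : Nat.Coprime p q := (Nat.coprime_primes hp hq).mpr hpq
  have hxo : orderOf (g ^ q) = p := by
    have := orderOf_pow_orderOf_div (x := g) (n := p) (orderOf_pos g).ne' (by rw [hg]; exact dvd_mul_right p q)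
    rwa [hg, Nat.mul_div_cancel_left q hp.pos] at this
  have hyo : orderOf (g ^ p) = q := by
    have := orderOf_pow_orderOf_div (x := g) (n := q) (orderOf_pos g).ne' (by rw [hg]; exact dvd_mul_left q p)
    rwa [hg, Nat.mul_div_cancel p hq.pos] at this
  have hxg : g ^ q ∈ zpowers g := npow_mem_zpowers g q
  have hyg : g ^ p ∈ zpowers g := npow_mem_zpowers g p
  have hcomm : Commute (g ^ q) (g ^ p) := commute_of_mem_zpowers hxg hyg
  have hclx := cl_prime hp hq hpq hxo hyo hcomm
  have hcly := cl_prime hq hp hpq.symm hyo hxo hcomm.symm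
  refine ⟨?_, Or.inr hxg, Or.inr hyg, ?_, ncard_cl_prime hp hq hpq hxo hyo hcomm,
    ncard_cl_prime hq hp hpq.symm hyo hxo hcomm.symm, ?_⟩
  · rintro (h | h)
    · have := orderOf_dvd_of_mem_zpowers h
      rw [hxo, hyo] at this
      exact hpq ((Nat.prime_dvd_prime_iff_eq hp hq).mp this)
    · have := orderOf_dvd_of_mem_zpowers h
      rw [hxo, hyo] at this
      exact hpq ((Nat.prime_dvd_prime_iff_eq hq hp).mp this).symm
  · intro z hz
    rcases hz with hz | hz
    · have hzo : orderOf z ∣ p * q := hg ▸ orderOf_dvd_of_mem_zpowers hz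
      by_cases hpz : p ∣ orderOf z
      · by_cases hqz : q ∣ orderOf z
        · right; right
          exact ⟨Or.inr (mem_zpowers_of_orderOf_dvd hxg hz (by rw [hxo]; exact hpz)),
            Or.inr (mem_zpowers_of_orderOf_dvd hyg hz (by rw [hyo]; exact hqz))⟩
        · left
          rw [hclx]
          have h3 : Nat.Coprime (orderOf z) q := ((Nat.Prime.coprime_iff_not_dvd hq).mpr hqz).symm
          have h4 : orderOf z ∣ p := h3.dvd_of_dvd_mul_right hzo
          refine ⟨mem_zpowers_of_orderOf_dvd hz hxg (by rw [hxo]; exact h4), ?_⟩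
          rintro rfl
          rw [orderOf_one] at hpz
          exact hp.one_lt.ne' (Nat.dvd_one.mp hpz)
      · have h3 : Nat.Coprime (orderOf z) p := ((Nat.Prime.coprime_iff_not_dvd hp).mpr hpz).symm
        have h4 : orderOf z ∣ q := h3.dvd_of_dvd_mul_left hzo
        by_cases hz1 : z = 1
        · right; right
          rw [hz1]
          exact ⟨Or.inl (one_mem _), Or.inl (one_mem _)⟩
        · right; left
          rw [hcly]
          exact ⟨mem_zpowers_of_orderOf_dvd hz hyg (by rw [hyo]; exact h4), hz1⟩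
    · right; right
      exact ⟨Or.inr ((zpowers_le.mpr hz) hxg), Or.inr ((zpowers_le.mpr hz) hyg)⟩
  · have := totient_le_ncard_cl g
    rwa [hg, Nat.totient_mul hco, Nat.totient_prime hp, Nat.totient_prime hq] at this

section transfer

variable {H : Type*} [Group H]

theorem mem_cl_map (e : G ≃ H) (he : ∀ x y : G, adj x y ↔ adj (e x) (e y)) {x w : G} :
    w ∈ cl x ↔ e w ∈ cl (e x) := by
  constructor
  · intro h z
    obtain ⟨z, rfl⟩ := e.surjective z
    rw [← he, ← he]
    exact h z
  · intro h z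
    rw [he, he]
    exact h (e z)

theorem ncard_cl_map (e : G ≃ H) (he : ∀ x y : G, adj x y ↔ adj (e x) (e y)) (x : G) :
    (cl (e x)).ncard = (cl x).ncard := by
  have : cl (e x) = e '' cl x := by
    ext w
    obtain ⟨w, rfl⟩ := e.surjective w
    rw [← mem_cl_map e he]
    constructor
    · intro h
      exact ⟨w, h, rfl⟩
    · rintro ⟨w', h, h'⟩
      rwa [← e.injective h']
  rw [this, Set.ncard_image_of_injective _ e.injective]

theorem key [Finite G] [Finite H] (e : G ≃ H)
    (he : ∀ x y : G, adj x y ↔ adj (e x) (e y))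
    {p q : ℕ} (hp : p.Prime) (hq : q.Prime) (hpq : p ≠ q) :
    (∃ g : G, orderOf g = p * q) → (∃ h : H, orderOf h = p * q) := by
  rintro ⟨g0, hg0⟩
  obtain ⟨g, hg, hge⟩ : ∃ g : G, orderOf g = p * q ∧ e g ≠ 1 := by
    by_cases h : e g0 = 1
    · refine ⟨g0⁻¹, by rw [orderOf_inv]; exact hg0, ?_⟩
      intro h'
      have h1 : g0⁻¹ = g0 := e.injective (h'.trans h.symm)
      have h2 : g0 ^ 2 = 1 := by
        rw [pow_two]
        nth_rw 1 [← h1]
        exact inv_mul_cancel g0
      have h3 : p * q ∣ 2 := hg0 ▸ orderOf_dvd_of_pow_eq_one h2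
      have h4 := Nat.le_of_dvd (by norm_num) h3
      have hp2 := hp.two_le
      have hq2 := hq.two_le
      nlinarith
    · exact ⟨g0, hg0, h⟩
  obtain ⟨h1, h2, h3, h4, h5, h6, h7⟩ := gside hp hq hpq hg
  apply hside (a := e (g ^ q)) (b := e (g ^ p)) (d := e g) hp hq hpq hge
  · rwa [← he]
  · rwa [← he]
  · rwa [← he]
  · intro z hz
    obtain ⟨z, rfl⟩ := e.surjective z
    rw [← he] at hz
    rcases h4 z hz with h | h | h
    · left; exact (mem_cl_map e he).mp h
    · right; left; exact (mem_cl_map e he).mp h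
    · right; right
      rw [← he, ← he]
      exact h
  · rw [ncard_cl_map e he]; exact h5
  · rw [ncard_cl_map e he]; exact h6
  · rw [ncard_cl_map e he]; exact h7

end transfer

/-- Let G and H be finite groups whose power graphs are isomorphic: there is a bijection e : G → H such that, for all x, y, one of x, y is a power of the other exactly when one of e(x), e(y) is a power of the other. Then G and H have the same prime graph: for distinct primes p, q, G has an element of order pq if and only if H does. -/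
theorem result {G H : Type*} [Group G] [Finite G] [Group H] [Finite H] (e : G ≃ H)
    (he : ∀ x y : G, (x ∈ Subgroup.zpowers y ∨ y ∈ Subgroup.zpowers x) ↔
      (e x ∈ Subgroup.zpowers (e y) ∨ e y ∈ Subgroup.zpowers (e x)))
    {p q : ℕ} (hp : p.Prime) (hq : q.Prime) (hpq : p ≠ q) :
    (∃ g : G, orderOf g = p * q) ↔ (∃ h : H, orderOf h = p * q) := by
  refine ⟨key e he hp hq hpq, key e.symm ?_ hp hq hpq⟩
  intro x y
  have := he (e.symm x) (e.symm y)
  simp only [Equiv.apply_symm_apply] at this
  exact this.symm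

end Cfsg.Agent.S4085
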