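import Cfsg.Statements.S1378
import Cfsg.Agent.H47.BG139Main
import Cfsg.Agent.H32.BG139Alpha
import Cfsg.Agent.H32.BG139Elt
import Cfsg.Agent.H25.BG139Inv
import Cfsg.Agent.H25.BG139Fix
import Cfsg.Agent.H29.BG139Tau
import Cfsg.Agent.H57.BG139InN
import Cfsg.Agent.H11.BG139Abel
import Cfsg.Agent.H11.BG139Red
import Cfsg.Agent.H71.BG139First
import Cfsg.Agent.H71.BG139Der
import Cfsg.Agent.S1428
import Cfsg.Agent.H29.BG139Step
import Cfsg.Agent.H32.BG139Cyc
import Cfsg.Agent.H72.BG139PrimPow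
import Cfsg.Agent.H72.BG139ZH
import Cfsg.Agent.Helper55.BG139Final
import Cfsg.Agent.H29.BG134LemR
import Cfsg.Agent.H32.BG134AB
import Cfsg.Agent.H57.BG1218Key
import Cfsg.Agent.H35.BG1218Coat
import Cfsg.Agent.H35.BG1218Gen
import Cfsg.Agent.H92.BG1218Case1
import Cfsg.Agent.H37.BG1218NilConj
import Cfsg.Agent.H92.BG1218SylN
import Cfsg.Agent.H63.BG1218SylH
import Cfsg.Agent.H31.BG1218Nab
import Cfsg.Agent.H3.BG127PW
import Cfsg.Agent.H57.BG129Main
import Cfsg.Agent.H57.BG129Hall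
import Cfsg.Agent.H63.BG125Main
import Cfsg.Agent.H58.BG10All
import Cfsg.Agent.H58.BG10All2
import Cfsg.Agent.H76.BG10x
import Cfsg.Agent.Lib.Helper30.BG12TMain23
-- import your own Cfsg.Agent.* helpers here

set_option autoImplicit false
open Cfsg

namespace Cfsg.Agent.S1378

/-- Let G be a minimal simple group of odd order. Then every prime dividing the order of G belongs to σ(M) for some maximal subgroup M, and if σ(M) and σ(N) have a prime in common for maximal subgroups M, N then N is conjugate to M; so the sets σ(M_i) over representatives of the conjugacy classes of maximal subgroups partition the prime divisors of #G. -/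
theorem result {G : Type*} [Group G] [Finite G] (hG : Cfsg.IsMinSimpleOddOrder G) :
    (∀ p : ℕ, p.Prime → p ∣ Nat.card G → ∃ M : Subgroup G, IsCoatom M ∧ p ∈ Cfsg.sigma M) ∧
      ∀ M N : Subgroup G, IsCoatom M → IsCoatom N → (Cfsg.sigma M ∩ Cfsg.sigma N).Nonempty → ∃ g : G, N = M.map (MulAut.conj g).toMonoidHom := by
  have h50 := Cfsg.Agent.H58.BG10.st1350 hG
  have h03 := Cfsg.Agent.H58.BG10.st1403 hG
  have h04 := Cfsg.Agent.H58.BG10.st1404 hG
  have h05 := Cfsg.Agent.H58.BG10.st1405 hG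
  have h06 := Cfsg.Agent.H58.BG10.st1406 hG
  have h08 := Cfsg.Agent.H58.BG10.st1408 hG
  have h09 := Cfsg.Agent.H58.BG10.st1409 hG
  have h11 := Cfsg.Agent.H58.BG10.st1411 hG
  have h12 := Cfsg.Agent.H58.BG10.st1412 hG
  have hT := Cfsg.Agent.H58.BG10.stSigComm hG
  have h14 : Cfsg.Agent.H58.BG10.St1414 G :=
    Cfsg.Agent.H76.BG10.bg108 hG hT h05 (Cfsg.Agent.H58.BG10.st1410 hG)
  have h15 : Cfsg.Agent.H58.BG10.St1415 G := Cfsg.Agent.H76.BG10.bg109 hG h05
  have h16 := Cfsg.Agent.H63.BG11.st1416 hG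
  have h17 := Cfsg.Agent.H63.BG11.st1417 hG
  have h18 := Cfsg.Agent.H57.BG12.st1418_of hG h16 h17
  have h23 := Cfsg.Agent.Lib.Helper30.BG12T.st1423_core hG h16 h17
  have hSC := Cfsg.Agent.H57.BG12Hall.sigConj hG h50
  have hNil := Cfsg.Agent.H37.BG1218.nilConj hG h50
  have hN := Cfsg.Agent.H92.BG1218.sylN hG h03 h50 h11 h16 h17
  have hKey : Cfsg.Agent.H57.BG1218.StKey G :=
    Cfsg.Agent.H57.BG1218.key h09 h17 (Cfsg.Agent.H35.BG1218.coat hG h09)
      (Cfsg.Agent.H92.BG1218.case1 hG h03 h05 h50 hT)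
      hNil
      (Cfsg.Agent.H63.BG1218.sylH hG h50 h16 h17 hN)
      (Cfsg.Agent.H31.BG1218.case2Nab hG h08 h16 h17 (Cfsg.Agent.H3.BG12.pw hG h12))
      Cfsg.Agent.H35.BG1218.invGen
  have hLR := Cfsg.Agent.H29.BG134.stLR hG
  have hAB := Cfsg.Agent.H32.BG134.aB hG h50 h05 h06 h14 hT
  have h28 : Cfsg.Agent.Lib.Helper30.BG134.St1428 G :=
    fun M hM E hE p hp P hPE hP R hRE hR =>
      Cfsg.Agent.S1428.result hG M hM E hE p hp P hPE hP R hRE hR
  have hAlpha := Cfsg.Agent.H32.BG139.stAlpha hG h03 h50 h05 hT hAB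
  have hRed : Cfsg.Agent.H47.BG139.StRed G := Cfsg.Agent.H11.BG139.red
  have hAbel := Cfsg.Agent.H11.BG139.abel h50 h23
  have hDer := Cfsg.Agent.H71.BG139.der hAbel hAlpha h05 hT
  have hInv := Cfsg.Agent.H25.BG139.inv hDer
  have hFix := Cfsg.Agent.H25.BG139.fix hAbel h11
  have hTau := Cfsg.Agent.H29.BG139.tau hG hDer h50 h03 h15 h17 hNil hSC hT
  have hPP : Cfsg.Agent.H47.BG139.StPrimPow G := Cfsg.Agent.H72.BG139.primPow
  have hStep := Cfsg.Agent.H29.BG139.step hG hInv hAbel h28 hKey hSC h50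
  have hElt := Cfsg.Agent.H32.BG139.elt hG h03 h05 h23 hLR hAlpha
  have hCyc := Cfsg.Agent.H32.BG139.cyc hG h05 h06 h09
  have hZH : Cfsg.Agent.H47.BG139.StZH G := Cfsg.Agent.H72.BG139.zh
  have hInN := Cfsg.Agent.H57.BG139.inN hG h50 hSC h28
  have hFinal := Cfsg.Agent.Helper55.BG139.final hG h03 h05 h50 hAlpha hLR
  have hb := Cfsg.Agent.H47.BG139.main hG h03 h05 hRed hAbel hTau hFix hPP hStep hElt hCyc hZH hInN
    hFinal
  exact ⟨Cfsg.Agent.H71.BG139.first hG, fun M N hM hN h => hb M N hM hN h⟩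

end Cfsg.Agent.S1378
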