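import Cfsg.Statements.S0638
import Cfsg.Agent.S0126
import Cfsg.Agent.H80.PSolvable

set_option autoImplicit false
open Cfsg

namespace Cfsg.Agent.S0638

/-- For odd p, in a non-cyclic metacyclic p-group the elements of order dividing p generate an elementary abelian subgroup of order p². -/
theorem result {R : Type*} [Group R] [Finite R] {p : ℕ} [Fact p.Prime] (hp : p ≠ 2) (hR : IsPGroup p R) (hm : Cfsg.IsMetacyclic R) (hnc : ¬ IsCyclic R) : Cfsg.IsElementaryAbelian p (Cfsg.omegaOne p (⊤ : Subgroup R)) ∧ Nat.card ↥(Cfsg.omegaOne p (⊤ : Subgroup R)) = p ^ 2 := by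
  have hpp : p.Prime := Fact.out
  obtain ⟨N, hNn, hNc, hQc⟩ := hm
  haveI := hNn
  have hcomm : ∀ a b : R ⧸ N, a * b = b * a := by
    obtain ⟨g, hg⟩ := IsCyclic.exists_generator (α := R ⧸ N)
    intro a b
    obtain ⟨i, rfl⟩ := hg a
    obtain ⟨j, rfl⟩ := hg b
    exact ((Commute.refl g).zpow_zpow i j).eq
  let K' : Subgroup (R ⧸ N) :=
    { carrier := {y | y ^ p = 1}
      one_mem' := one_pow _
      mul_mem' := by
        intro a b ha hb
        have ha' : a ^ p = 1 := ha
        have hb' : b ^ p = 1 := hb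
        show (a * b) ^ p = 1
        rw [(show Commute a b from hcomm a b).mul_pow, ha', hb', one_mul]
      inv_mem' := by
        intro a ha
        have ha' : a ^ p = 1 := ha
        show a⁻¹ ^ p = 1
        rw [inv_pow, ha', inv_one] }
  have hK'exp : ∀ y : K', y ^ p = 1 := fun y => Subtype.ext y.2
  have hK'card : Nat.card K' ∣ p := by
    rw [← IsCyclic.exponent_eq_card]
    exact Monoid.exponent_dvd_of_forall_pow_eq_one hK'exp
  have hNM : N ≤ K'.comap (QuotientGroup.mk' N) := by
    intro a ha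
    show (QuotientGroup.mk' N) a ∈ K'
    have : (QuotientGroup.mk' N) a = 1 := (QuotientGroup.eq_one_iff a).mpr ha
    rw [this]; exact Subgroup.one_mem _
  have hΩM : ∀ x : R, x ^ p = 1 → x ∈ K'.comap (QuotientGroup.mk' N) := by
    intro x hx
    show (QuotientGroup.mk' N x) ^ p = 1
    rw [← map_pow, hx, map_one]
  obtain ⟨A, hAn, hAe, hAcard⟩ := Cfsg.Agent.S0126.result hp hR hnc
  have hAM : A ≤ K'.comap (QuotientGroup.mk' N) := fun a ha => hΩM a (hAe.2 a ha)
  have hnocyc : ∀ C : Subgroup R, A ≤ C → ¬ IsCyclic C := by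
    intro C hAC hC
    haveI := hC
    haveI : IsCyclic A := Subgroup.isCyclic_of_le hAC
    have h1 : Monoid.exponent A = p ^ 2 := by rw [IsCyclic.exponent_eq_card, hAcard]
    have h2 : Monoid.exponent A ∣ p := by
      apply Monoid.exponent_dvd_of_forall_pow_eq_one
      rintro ⟨a, ha⟩
      apply Subtype.ext
      simpa using hAe.2 a ha
    rw [h1] at h2
    have h3 := Nat.le_of_dvd hpp.pos h2
    nlinarith [hpp.two_le]
  have hMnc : ¬ IsCyclic (K'.comap (QuotientGroup.mk' N)) := hnocyc _ hAM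
  have hcardM : Nat.card (K'.comap (QuotientGroup.mk' N)) = Nat.card N * Nat.card K' :=
    Cfsg.Agent.H80.card_comap_mk' N K'
  have hK'p : Nat.card K' = p := by
    rcases (Nat.dvd_prime hpp).mp hK'card with h1 | h1
    · exfalso
      apply hnocyc N ?_ hNc
      have h4 : N = K'.comap (QuotientGroup.mk' N) :=
        Subgroup.eq_of_le_of_card_ge hNM (by rw [hcardM, h1, mul_one])
      rw [h4]; exact hAM
    · exact h1
  have hCc : IsCyclic (N.subgroupOf (K'.comap (QuotientGroup.mk' N))) :=
    isCyclic_of_surjective (Subgroup.subgroupOfEquivOfLe hNM).symm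
      (Subgroup.subgroupOfEquivOfLe hNM).symm.surjective
  have hCi : (N.subgroupOf (K'.comap (QuotientGroup.mk' N))).index = p := by
    show N.relIndex (K'.comap (QuotientGroup.mk' N)) = p
    have h5 := Cfsg.Agent.H3.relIndex_mul_card_of_le hNM
    rw [hcardM, hK'p, mul_comm] at h5
    exact Nat.eq_of_mul_eq_mul_left Nat.card_pos h5
  obtain ⟨hmul, hexp, hcard⟩ := Cfsg.Agent.H3.cyclic_index_p_main hp
    (hR.to_subgroup (K'.comap (QuotientGroup.mk' N))) hMnc
    (N.subgroupOf (K'.comap (QuotientGroup.mk' N))) hCc hCi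
  have hΩ : Cfsg.omegaOne p (⊤ : Subgroup R) =
      (Subgroup.closure {x : ↥(K'.comap (QuotientGroup.mk' N)) | x ^ p = 1}).map
        (K'.comap (QuotientGroup.mk' N)).subtype := by
    unfold Cfsg.omegaOne
    rw [MonoidHom.map_closure]
    congr 1
    ext x
    constructor
    · rintro ⟨-, hx⟩
      exact ⟨⟨x, hΩM x hx⟩, Subtype.ext (by simpa using hx), rfl⟩
    · rintro ⟨y, hy, rfl⟩
      refine ⟨Subgroup.mem_top _, ?_⟩
      have := congrArg Subtype.val hy
      simpa using this
  have hcardE : Nat.card (Cfsg.omegaOne p (⊤ : Subgroup R)) = p ^ 2 := by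
    rw [hΩ, Subgroup.card_map_of_injective (Subgroup.subtype_injective _)]; exact hcard
  refine ⟨⟨IsPGroup.isMulCommutative_of_card_eq_prime_sq hcardE, ?_⟩, hcardE⟩
  rw [hΩ]
  rintro _ ⟨b, hb, rfl⟩
  have hbp := hexp b hb
  have := congrArg Subtype.val hbp
  simpa using this

end Cfsg.Agent.S0638
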