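import Mathlib
import Cfsg.Statements.S3740
import Cfsg.Agent.H65.SL2Lemmas
import Cfsg.Agent.H65.QuatAct
import Cfsg.Agent.Lib.Helper30.CoprimeIface

set_option autoImplicit false
open Cfsg

namespace Cfsg.Agent.S3740

open Cfsg.Agent.H65

set_option maxRecDepth 100000 in
theorem card_SL2_three : Nat.card (Matrix.SpecialLinearGroup (Fin 2) (ZMod 3)) = 24 := by
  rw [Nat.card_eq_fintype_card]
  decide

/-- Let F be a finite field of odd characteristic p and let a be a p-element of SL₂(F) normalizing a subgroup R of order prime to p with [R, a] ≠ 1. Then p = 3, R is a quaternion group of order 8, and R⟨a⟩ is isomorphic to SL₂(3). -/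
theorem result (F : Type) [Field F] [Fintype F] {p : ℕ} [Fact p.Prime] [CharP F p] (hp : p ≠ 2) (a : Matrix.SpecialLinearGroup (Fin 2) F) (ha : IsPGroup p ↥(Subgroup.zpowers a)) (R : Subgroup (Matrix.SpecialLinearGroup (Fin 2) F)) (hR : (Nat.card R).Coprime p) (haR : a ∈ Subgroup.normalizer (R : Set (Matrix.SpecialLinearGroup (Fin 2) F))) (hnt : ⁅R, Subgroup.zpowers a⁆ ≠ ⊥) : p = 3 ∧ Nonempty (↥R ≃* QuaternionGroup 2) ∧ Nonempty (↥(R ⊔ Subgroup.zpowers a) ≃* Matrix.SpecialLinearGroup (Fin 2) (ZMod 3)) := by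
  classical
  have hpp : p.Prime := Fact.out
  have h2F : (2 : F) ≠ 0 := by
    apply Ring.two_ne_zero
    rw [ringChar.eq F p]
    exact hp
  obtain ⟨z, hz⟩ : ∃ z : Matrix.SpecialLinearGroup (Fin 2) F, z = -1 := ⟨_, rfl⟩
  have hz1 : z ≠ 1 := hz ▸ SL2.neg_one_ne_one h2F
  have hzz : z * z = 1 := by rw [hz]; simp
  have hzc : ∀ g, z * g = g * z := by intro g; rw [hz]; simp
  have hinv : ∀ g : Matrix.SpecialLinearGroup (Fin 2) F, g * g = 1 → g = 1 ∨ g = z := by
    intro g hg
    rw [hz]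
    exact SL2.eq_one_or_neg_one h2F g hg
  -- the element `a`
  have ha1 : a ≠ 1 := by
    rintro rfl
    exact hnt (by simp)
  obtain ⟨k, hk⟩ := ha ⟨a, Subgroup.mem_zpowers a⟩
  have hak : a ^ p ^ k = 1 := by simpa using congrArg Subtype.val hk
  have htr : SL2.tr a = 2 := SL2.tr_eq_two_of_pow p a k hak
  have hord : orderOf a ∣ p ^ k := orderOf_dvd_of_pow_eq_one hak
  have hpow : ∀ m : ℕ, m.Coprime p → ∀ s, a ^ m * s = s * a ^ m → a * s = s * a := by
    intro m hm s hs
    have hcop : m.Coprime (orderOf a) :=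
      Nat.Coprime.coprime_dvd_right hord (Nat.Coprime.pow_right k hm)
    obtain ⟨j, hj⟩ := exists_pow_eq_self_of_coprime hcop
    have : Commute ((a ^ m) ^ j) s := Commute.pow_left hs j
    rw [hj] at this
    exact this
  have lemP : ∀ s ∈ R, SL2.tr s ^ 2 = 4 → s = 1 ∨ s = z := by
    intro s hs h
    have h1 := SL2.pow_two_mul_char_eq_one p s h
    have h2 : orderOf s ∣ 2 * p := orderOf_dvd_of_pow_eq_one h1
    have h3 : orderOf s ∣ Nat.card R := Subgroup.orderOf_dvd_natCard R hs
    have h4 : (orderOf s).Coprime p := Nat.Coprime.coprime_dvd_left h3 hR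
    have h5 : orderOf s ∣ 2 := h4.dvd_of_dvd_mul_right h2
    have h6 : s ^ 2 = 1 := orderOf_dvd_iff_pow_eq_one.1 h5
    exact hinv s (by rw [← pow_two]; exact h6)
  have cent : ∀ s ∈ R, a * s = s * a → s = 1 ∨ s = z := fun s hs h =>
    lemP s hs (SL2.tr_sq_of_commute_unipotent a s htr ha1 h)
  have hRn : ∀ s, s ∈ R ↔ a * s * a⁻¹ ∈ R := fun s => Subgroup.mem_normalizer_iff.1 haR s
  have hKL : ∀ s ∈ R, (a * s * a⁻¹) * s = s * (a * s * a⁻¹) → s = 1 ∨ s = z := by
    intro s hs hc
    by_cases hD : SL2.tr s ^ 2 = 4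
    · exact lemP s hs hD
    · rcases SL2.eq_or_eq_inv_of_commute h2F (a * s * a⁻¹) s hc (SL2.tr_conj a s) hD with h | h
      · apply cent s hs
        calc a * s = (a * s * a⁻¹) * a := by group
          _ = s * a := by rw [h]
      · apply cent s hs
        apply hpow 2 ((Nat.coprime_primes Nat.prime_two hpp).2 (Ne.symm hp)) s
        have e1 : a * s⁻¹ * a⁻¹ = s := by
          calc a * s⁻¹ * a⁻¹ = (a * s * a⁻¹)⁻¹ := by group
            _ = s := by rw [h, inv_inv]
        rw [pow_two]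
        calc a * a * s = a * (a * s * a⁻¹) * a⁻¹ * (a * a) := by group
          _ = a * s⁻¹ * a⁻¹ * (a * a) := by rw [h]
          _ = s * (a * a) := by rw [e1]
  have hAK : Subgroup.zpowers a ≤ Subgroup.normalizer (R : Set (Matrix.SpecialLinearGroup (Fin 2) F)) := by
    rw [Subgroup.zpowers_le]
    exact haR
  -- `R` is a `2`-group
  have hR2 : IsPGroup 2 R := by
    have hcard : ∀ r : ℕ, r.Prime → r ∣ Nat.card R → r = 2 := by
      intro r hr hrd
      by_contra hr2
      have : Fact r.Prime := ⟨hr⟩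
      have hcop : (Nat.card (Subgroup.zpowers a)).Coprime (Nat.card R) := by
        rw [Nat.card_zpowers]
        exact Nat.Coprime.coprime_dvd_left hord (Nat.Coprime.pow_left k hR.symm)
      have hsolv : Group.IsSolvable (Subgroup.zpowers a) := inferInstance
      obtain ⟨T, hT⟩ := Cfsg.Agent.Lib.Helper30.coprime_exists_invariant_sylow
        (Subgroup.zpowers a) R hAK hcop (Or.inl hsolv) r
      have hTne : (T : Subgroup R) ≠ ⊥ := T.ne_bot_of_dvd_card hrd
      have : Nontrivial (T : Subgroup R) := (Subgroup.nontrivial_iff_ne_bot _).2 hTne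
      have hcn := T.isPGroup'.center_nontrivial
      obtain ⟨⟨c, hc⟩, hc1⟩ := exists_ne (1 : Subgroup.center (T : Subgroup R))
      have hsR : ((c : R) : Matrix.SpecialLinearGroup (Fin 2) F) ∈ R := (c : R).2
      have hsT : ((c : R) : Matrix.SpecialLinearGroup (Fin 2) F) ∈
          (T : Subgroup R).map R.subtype := ⟨(c : R), c.2, rfl⟩
      have hsT' := (Subgroup.mem_normalizer_iff.1 (hT (Subgroup.mem_zpowers a)) _).1 hsT
      obtain ⟨d, hdT, hd⟩ := hsT'
      have hcomm : (⟨d, hdT⟩ : (T : Subgroup R)) * c = c * ⟨d, hdT⟩ :=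
        Subgroup.mem_center_iff.1 hc ⟨d, hdT⟩
      have hcomm' : (a * ((c : R) : Matrix.SpecialLinearGroup (Fin 2) F) * a⁻¹) * ((c : R) : Matrix.SpecialLinearGroup (Fin 2) F)
          = ((c : R) : Matrix.SpecialLinearGroup (Fin 2) F) * (a * ((c : R) : Matrix.SpecialLinearGroup (Fin 2) F) * a⁻¹) := by
        rw [← hd]
        exact congrArg (fun t : (T : Subgroup R) => ((t : R) : Matrix.SpecialLinearGroup (Fin 2) F)) hcomm
      rcases hKL _ hsR hcomm' with h | h
      · apply hc1
        apply Subtype.ext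
        apply Subtype.ext
        apply Subtype.ext
        exact h
      · obtain ⟨j, hj⟩ := T.isPGroup' c
        have hsj : ((c : R) : Matrix.SpecialLinearGroup (Fin 2) F) ^ r ^ j = 1 := by
          simpa using congrArg (fun t : (T : Subgroup R) => ((t : R) : Matrix.SpecialLinearGroup (Fin 2) F)) hj
        rw [h] at hsj
        have hodd : Odd (r ^ j) := (hr.odd_of_ne_two hr2).pow
        obtain ⟨m, hm⟩ := hodd
        rw [hm, pow_succ, pow_mul, pow_two, hzz, one_pow, one_mul] at hsj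
        exact hz1 hsj
    have hne : Nat.card R ≠ 0 := Nat.card_pos.ne'
    have := Nat.eq_prime_pow_of_unique_prime_dvd hne (fun {d} hd hdvd => hcard d hd hdvd)
    exact IsPGroup.of_card this
  have hnt' : ∃ r ∈ R, a * r ≠ r * a := by
    by_contra hcon
    push Not at hcon
    apply hnt
    rw [Subgroup.commutator_eq_bot_iff_le_centralizer]
    intro r hr
    rw [Subgroup.mem_centralizer_iff]
    intro h hh
    obtain ⟨n, rfl⟩ := Subgroup.mem_zpowers_iff.1 hh
    exact Commute.zpow_left (hcon r hr) n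
  obtain ⟨x, hxR, hxx, hxy, hall⟩ :=
    QuatAct.structure_thm z hz1 hzz hzc hinv a R haR hR2 hKL hnt'
  have hyR : a * x * a⁻¹ ∈ R := (hRn x).1 hxR
  have hyy : (a * x * a⁻¹) * (a * x * a⁻¹) = z := by
    calc (a * x * a⁻¹) * (a * x * a⁻¹) = a * (x * x) * a⁻¹ := by group
      _ = z * a * a⁻¹ := by rw [hxx, hzc a]
      _ = z := by group
  obtain ⟨-, hcard, ⟨e⟩⟩ := QuatAct.quat_iso z x (a * x * a⁻¹) R hz1 hzz hzc hxR hyR hxx hyy hxy hall
  have hzR : z ∈ R := hxx ▸ R.mul_mem hxR hxR
  -- `p = 3` by counting fixed points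
  have hp3 : p = 3 := by
    letI act : MulAction (Subgroup.zpowers a) R :=
      { smul := fun g r => ⟨g * r * g⁻¹, (Subgroup.mem_normalizer_iff.1 (hAK g.2) r).1 r.2⟩
        one_smul := fun r => Subtype.ext (by
          show ((1 : Subgroup.zpowers a) : Matrix.SpecialLinearGroup (Fin 2) F) * r * ((1 : Subgroup.zpowers a) : Matrix.SpecialLinearGroup (Fin 2) F)⁻¹ = r
          simp)
        mul_smul := fun g h r => Subtype.ext (by
          show ((g * h : Subgroup.zpowers a) : Matrix.SpecialLinearGroup (Fin 2) F) * r * ((g * h : Subgroup.zpowers a) : Matrix.SpecialLinearGroup (Fin 2) F)⁻¹ = (g : Matrix.SpecialLinearGroup (Fin 2) F) * ((h : Matrix.SpecialLinearGroup (Fin 2) F) * r * (h : Matrix.SpecialLinearGroup (Fin 2) F)⁻¹) * (g : Matrix.SpecialLinearGroup (Fin 2) F)⁻¹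
          simp [mul_assoc]) }
    have hsmul : ∀ (g : Subgroup.zpowers a) (r : R), ((g • r : R) : Matrix.SpecialLinearGroup (Fin 2) F) = g * r * g⁻¹ := fun g r => rfl
    have hfixset : MulAction.fixedPoints (Subgroup.zpowers a) R = {1, ⟨z, hzR⟩} := by
      ext r
      rw [MulAction.mem_fixedPoints]
      constructor
      · intro h
        have h1 : a * (r : Matrix.SpecialLinearGroup (Fin 2) F) * a⁻¹ = r :=
          congrArg Subtype.val (h ⟨a, Subgroup.mem_zpowers a⟩)
        have h2 : a * r = r * a := by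
          calc a * (r : Matrix.SpecialLinearGroup (Fin 2) F) = (a * r * a⁻¹) * a := by group
            _ = r * a := by rw [h1]
        rcases cent r r.2 h2 with h3 | h3
        · left; exact Subtype.ext h3
        · right; exact Subtype.ext h3
      · intro h g
        rcases h with h | h
        · rw [h]; apply Subtype.ext; rw [hsmul]; simp
        · rw [Set.mem_singleton_iff] at h
          rw [h]; apply Subtype.ext; rw [hsmul]
          show (g : Matrix.SpecialLinearGroup (Fin 2) F) * z * (g : Matrix.SpecialLinearGroup (Fin 2) F)⁻¹ = z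
          rw [← hzc]; group
    have hfix : Nat.card (MulAction.fixedPoints (Subgroup.zpowers a) R) = 2 := by
      rw [hfixset, Nat.card_coe_set_eq, Set.ncard_pair]
      intro h
      exact hz1 (congrArg Subtype.val h).symm
    have hmod := ha.card_modEq_card_fixedPoints R
    rw [hcard, hfix] at hmod
    have hdvd : p ∣ 8 - 2 := (Nat.modEq_iff_dvd' (by norm_num)).1 hmod.symm
    have h6 : p ∣ 2 * 3 := hdvd
    rcases (Nat.Prime.dvd_mul hpp).1 h6 with h | h
    · exact absurd ((Nat.prime_dvd_prime_iff_eq hpp Nat.prime_two).1 h) hp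
    · exact (Nat.prime_dvd_prime_iff_eq hpp Nat.prime_three).1 h
  subst hp3
  refine ⟨rfl, ⟨e⟩, ?_⟩
  have hxtr : SL2.tr x = 0 := SL2.tr_eq_zero_of_mul_self x (by rw [hxx, hz])
  have hxyxy : (x * (a * x * a⁻¹)) * (x * (a * x * a⁻¹)) = z := by
    calc (x * (a * x * a⁻¹)) * (x * (a * x * a⁻¹))
        = z * ((a * x * a⁻¹) * x) * (x * (a * x * a⁻¹)) := by rw [← hxy]
      _ = z * ((a * x * a⁻¹) * (x * x) * (a * x * a⁻¹)) := by simp only [mul_assoc]
      _ = z * ((a * x * a⁻¹) * z * (a * x * a⁻¹)) := by rw [hxx]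
      _ = z * (z * ((a * x * a⁻¹) * (a * x * a⁻¹))) := by rw [← hzc (a * x * a⁻¹)]; simp only [mul_assoc]
      _ = z := by rw [hyy, ← mul_assoc, hzz, one_mul]
  have hxytr : SL2.tr (x * (a * x * a⁻¹)) = 0 :=
    SL2.tr_eq_zero_of_mul_self _ (by rw [hxyxy, hz])
  obtain ⟨Ψ, hΨ, hxΨ, haΨ⟩ := SL2.exists_embedding a x htr ha1 hxtr hxytr
  have hle : R ⊔ Subgroup.zpowers a ≤ Ψ.range := by
    apply sup_le
    · intro r hr
      obtain ⟨w, hw, hr'⟩ := hall r hr
      have hzΨ : z ∈ Ψ.range := by rw [← hxx]; exact mul_mem hxΨ hxΨ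
      have hyΨ : a * x * a⁻¹ ∈ Ψ.range := mul_mem (mul_mem haΨ hxΨ) (inv_mem haΨ)
      have hwΨ : w ∈ Ψ.range := by
        rcases hw with rfl | rfl
        exacts [one_mem _, hzΨ]
      rcases hr' with rfl | rfl | rfl | rfl
      · exact hwΨ
      · exact mul_mem hwΨ (inv_mem hxΨ)
      · exact mul_mem hwΨ (inv_mem hyΨ)
      · exact mul_mem (mul_mem hwΨ (inv_mem hxΨ)) (inv_mem hyΨ)
    · rw [Subgroup.zpowers_le]
      exact haΨ
  have hcardΨ : Nat.card Ψ.range = 24 := by
    rw [Nat.card_congr (MonoidHom.ofInjective hΨ).symm.toEquiv, card_SL2_three]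
  have h8 : 8 ∣ Nat.card (R ⊔ Subgroup.zpowers a : Subgroup _) :=
    hcard ▸ Subgroup.card_dvd_of_le le_sup_left
  have h3 : 3 ∣ Nat.card (R ⊔ Subgroup.zpowers a : Subgroup _) := by
    have h1 : orderOf a ∣ Nat.card (R ⊔ Subgroup.zpowers a : Subgroup _) :=
      Subgroup.orderOf_dvd_natCard _ ((le_sup_right : Subgroup.zpowers a ≤ R ⊔ Subgroup.zpowers a) (Subgroup.mem_zpowers a))
    have h2 : 3 ∣ orderOf a := by
      obtain ⟨i, hi, hia⟩ := (Nat.dvd_prime_pow Nat.prime_three).1 hord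
      rcases i with _ | i
      · exfalso
        apply ha1
        rw [pow_zero] at hia
        exact orderOf_eq_one_iff.1 hia
      · rw [hia, pow_succ]
        exact dvd_mul_left 3 _
    exact h2.trans h1
  have h24 : 24 ∣ Nat.card (R ⊔ Subgroup.zpowers a : Subgroup _) := by
    have : Nat.Coprime 8 3 := by norm_num
    exact this.mul_dvd_of_dvd_of_dvd h8 h3
  have hHeq : R ⊔ Subgroup.zpowers a = Ψ.range := by
    apply Subgroup.eq_of_le_of_card_ge hle
    rw [hcardΨ]
    exact Nat.le_of_dvd Nat.card_pos h24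
  exact ⟨(MulEquiv.subgroupCongr hHeq).trans (MonoidHom.ofInjective hΨ).symm⟩

end Cfsg.Agent.S3740
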