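import Cfsg.Statements.S0065

set_option autoImplicit false
open Cfsg

namespace Cfsg.Agent.S0065

/-- A nontrivial normal subgroup of a nilpotent group intersects the centre nontrivially. -/
theorem result {G : Type*} [Group G] [Finite G] [Group.IsNilpotent G]
    (N : Subgroup G) [N.Normal] (hN : N ≠ ⊥) : N ⊓ Subgroup.center G ≠ ⊥ := by
  obtain ⟨n, hn⟩ := Group.IsNilpotent.nilpotent G
  have hex : ∃ i, N ⊓ Subgroup.upperCentralSeries G i ≠ ⊥ :=
    ⟨n, by rw [hn, inf_top_eq]; exact hN⟩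
  classical
  have hi_spec := Nat.find_spec hex
  have hi_pos : Nat.find hex ≠ 0 := by
    intro h0
    apply hi_spec
    rw [h0, Subgroup.upperCentralSeries_zero, inf_bot_eq]
  obtain ⟨j, hj⟩ := Nat.exists_eq_succ_of_ne_zero hi_pos
  have hjbot : N ⊓ Subgroup.upperCentralSeries G j = ⊥ := by
    by_contra h
    have := Nat.find_min' hex h
    omega
  intro hbot
  apply hi_spec
  rw [eq_bot_iff]
  intro x hx
  rw [← hbot]
  refine ⟨hx.1, ?_⟩
  show x ∈ Subgroup.center G
  rw [Subgroup.mem_center_iff]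
  intro g
  have h1 : x * g * x⁻¹ * g⁻¹ ∈ Subgroup.upperCentralSeries G j := by
    have := hx.2
    rw [hj] at this
    exact Subgroup.mem_upperCentralSeries_succ_iff.mp this g
  have h2 : x * g * x⁻¹ * g⁻¹ ∈ N := by
    have h3 : g * x⁻¹ * g⁻¹ ∈ N := ‹N.Normal›.conj_mem _ (N.inv_mem hx.1) g
    have := N.mul_mem hx.1 h3
    simpa [mul_assoc] using this
  have h3 : x * g * x⁻¹ * g⁻¹ ∈ N ⊓ Subgroup.upperCentralSeries G j := ⟨h2, h1⟩
  rw [hjbot, Subgroup.mem_bot] at h3
  have h4 : x * g * x⁻¹ = g := mul_inv_eq_one.mp h3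
  exact (mul_inv_eq_iff_eq_mul.mp h4).symm

end Cfsg.Agent.S0065
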