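import Mathlib
import Cfsg.Statements.S4117
import Cfsg.Agent.S4085
import Cfsg.Agent.H72.Subn

set_option autoImplicit false
open Cfsg

namespace Cfsg.Agent.S4117

open Subgroup

variable {G A : Type*} [Group G] [Group A] [MulDistribMulAction A G]

/-- The commutator subgroup is invariant under the action. -/
theorem smul_mem_commutator (a : A) {x : G} (hx : x ∈ commutator G) : a • x ∈ commutator G := by
  have h1 : Subgroup.map (MulDistribMulAction.toMonoidHom G a) (commutator G) = commutator G := by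
    rw [commutator_def, Subgroup.map_commutator]
    have : Subgroup.map (MulDistribMulAction.toMonoidHom G a) ⊤ = ⊤ := by
      rw [← MonoidHom.range_eq_map, MonoidHom.range_eq_top]
      exact MulAction.surjective a
    rw [this]
  rw [← h1]
  exact ⟨x, hx, rfl⟩

/-- If the commutator subgroup is cyclic then `g⁻¹ * a • g` centralizes it. -/
theorem gen_mem_centralizer (hK : IsCyclic (commutator G)) (a : A) (r : G) :
    r⁻¹ * a • r ∈ centralizer (commutator G : Set G) := by
  obtain ⟨k, hk⟩ := hK.exists_generator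
  have hgen : ∀ x ∈ commutator G, ∃ i : ℤ, (k : G) ^ i = x := by
    intro x hx
    obtain ⟨i, hi⟩ := mem_zpowers_iff.mp (hk ⟨x, hx⟩)
    refine ⟨i, ?_⟩
    have := congrArg Subtype.val hi
    simpa using this
  obtain ⟨i, hi⟩ := hgen (a⁻¹ • (k : G)) (smul_mem_commutator a⁻¹ k.2)
  have hnorm : r * (k : G) * r⁻¹ ∈ commutator G :=
    (inferInstance : (commutator G).Normal).conj_mem _ k.2 r
  obtain ⟨j, hj⟩ := hgen _ hnorm
  have h1 : a • (r * (a⁻¹ • (k : G)) * r⁻¹) = (a • r) * (k : G) * (a • r)⁻¹ := by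
    rw [smul_mul', smul_mul', smul_inv', smul_inv_smul]
  have h2 : r * (a⁻¹ • (k : G)) * r⁻¹ = ((k : G) ^ j) ^ i := by
    rw [← hi, hj]
    simp [conj_zpow]
  have h3 : a • (((k : G) ^ j) ^ i) = r * (k : G) * r⁻¹ := by
    rw [← zpow_mul, mul_comm, zpow_mul, smul_zpow', hi, smul_inv_smul, hj]
  have h4 : (a • r) * (k : G) * (a • r)⁻¹ = r * (k : G) * r⁻¹ := by
    rw [← h1, h2, h3]
  have h5 : (r⁻¹ * a • r) * (k : G) = (k : G) * (r⁻¹ * a • r) := by
    have : (a • r) * (k : G) = r * (k : G) * r⁻¹ * (a • r) := by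
      rw [← h4]; group
    rw [mul_assoc, this]; group
  rw [mem_centralizer_iff]
  intro x hx
  obtain ⟨m, rfl⟩ := hgen x hx
  exact ((Commute.zpow_right (show Commute (r⁻¹ * a • r) (k : G) from h5) m).eq).symm


/-- the generating set of `[G, A]`. -/
def S (G A : Type*) [Group G] [Group A] [MulDistribMulAction A G] : Set G :=
  {y : G | ∃ (a : A) (g : G), y = g⁻¹ * a • g}

theorem conj_mem_closure (h : G) {x : G} (hx : x ∈ closure (S G A)) :
    h * x * h⁻¹ ∈ closure (S G A) := by
  induction hx using Subgroup.closure_induction with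
  | mem x hx =>
    obtain ⟨a, g, rfl⟩ := hx
    have e : h * (g⁻¹ * a • g) * h⁻¹ =
        ((g * h⁻¹)⁻¹ * a • (g * h⁻¹)) * ((h⁻¹)⁻¹ * a • h⁻¹)⁻¹ := by
      simp only [smul_mul', mul_inv_rev, inv_inv]
      group
    rw [e]
    exact mul_mem (subset_closure ⟨a, _, rfl⟩) (inv_mem (subset_closure ⟨a, _, rfl⟩))
  | one => simp
  | mul x y _ _ hx hy =>
    have : h * (x * y) * h⁻¹ = (h * x * h⁻¹) * (h * y * h⁻¹) := by group
    rw [this]
    exact mul_mem hx hy
  | inv x _ hx =>
    have : h * x⁻¹ * h⁻¹ = (h * x * h⁻¹)⁻¹ := by group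
    rw [this]
    exact inv_mem hx

theorem smul_mem_closure (a : A) {x : G} (hx : x ∈ closure (S G A)) :
    a • x ∈ closure (S G A) := by
  induction hx using Subgroup.closure_induction with
  | mem x hx =>
    obtain ⟨b, g, rfl⟩ := hx
    apply Subgroup.subset_closure
    refine ⟨a * b * a⁻¹, a • g, ?_⟩
    rw [smul_mul', smul_inv', smul_smul, smul_smul, inv_mul_cancel_right]
  | one => simp
  | mul x y _ _ hx hy =>
    rw [smul_mul']
    exact mul_mem hx hy
  | inv x _ hx =>
    rw [smul_inv']
    exact inv_mem hx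

theorem closure_le_centralizer (hK : IsCyclic (commutator G)) :
    closure (S G A) ≤ centralizer (commutator G : Set G) := by
  rw [closure_le]
  rintro y ⟨a, g, rfl⟩
  exact gen_mem_centralizer hK a g

theorem isCyclic_closure [Finite G] [IsZGroup G] : IsCyclic (closure (S G A)) := by
  have hK : IsCyclic (commutator G) := IsZGroup.isCyclic_commutator G
  have hle := closure_le_centralizer (A := A) hK
  have hnil : Group.IsNilpotent (closure (S G A)) := by
    refine ⟨⟨2, ?_⟩⟩
    rw [eq_top_iff]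
    intro x _
    rw [Subgroup.mem_upperCentralSeries_succ_iff]
    intro y
    rw [Subgroup.upperCentralSeries_one, mem_center_iff]
    intro z
    have h1 := Subgroup.commutator_mem_commutator (mem_top (x : G)) (mem_top (y : G))
    have h2 := (mem_centralizer_iff.mp (hle z.2)) _ h1
    apply Subtype.ext
    simpa [commutatorElement_def] using h2.symm
  infer_instance


/-- the action restricted to `[G, A]`. -/
def phi (a : A) : closure (S G A) →* closure (S G A) where
  toFun x := ⟨a • (x : G), smul_mem_closure a x.2⟩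
  map_one' := by ext; simp
  map_mul' x y := by ext; simp [smul_mul']

/-- the cocycle `g⁻¹ * a • g`. -/
def coc (g : G) (a : A) : closure (S G A) :=
  ⟨g⁻¹ * a • g, Subgroup.subset_closure ⟨a, g, rfl⟩⟩

theorem phi_coc (g : G) (a b : A) : phi a (coc g b) = (coc g a)⁻¹ * coc g (a * b) := by
  apply Subtype.ext
  simp only [phi, coc, MonoidHom.coe_mk, OneHom.coe_mk, Subgroup.coe_mul, Subgroup.coe_inv]
  rw [smul_mul', smul_inv', smul_smul]
  group

theorem exists_fixed_mul [Finite G] [Finite A] (hcop : (Nat.card A).Coprime (Nat.card G))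
    (hR : ∀ x y : closure (S G A), x * y = y * x) (g : G) :
    ∃ r ∈ closure (S G A), ∀ a : A, a • (g * r) = g * r := by
  classical
  let _ : CommGroup (closure (S G A)) :=
    { (inferInstance : Group (closure (S G A))) with mul_comm := hR }
  have : Fintype A := Fintype.ofFinite A
  set s : closure (S G A) := ∏ b : A, coc g b with hs
  have hphi : ∀ a : A, phi a s = ((coc g a)⁻¹) ^ (Nat.card A) * s := by
    intro a
    rw [hs, map_prod]
    simp_rw [phi_coc]
    rw [Finset.prod_mul_distrib, Finset.prod_const, Finset.card_univ, Nat.card_eq_fintype_card]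
    congr 1
    exact Fintype.prod_bijective (fun b => a * b) (Group.mulLeft_bijective a) _ _ (fun _ => rfl)
  have hcop' : (Nat.card A).Coprime (Nat.card (closure (S G A))) :=
    Nat.Coprime.coprime_dvd_right (Subgroup.card_subgroup_dvd_card _) hcop
  obtain ⟨u, v, huv⟩ : ∃ u v : ℤ, (Nat.card A : ℤ) * u + (Nat.card (closure (S G A)) : ℤ) * v = 1 := by
    have := Nat.isCoprime_iff_coprime.mpr hcop'
    obtain ⟨a, b, hab⟩ := this
    exact ⟨a, b, by linarith⟩
  have hpow : ∀ x : closure (S G A), (x ^ (Nat.card A)) ^ u = x := by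
    intro x
    have h1 : x ^ (Nat.card (closure (S G A)) : ℤ) = 1 := by
      rw [zpow_natCast]; exact pow_card_eq_one'
    calc (x ^ (Nat.card A)) ^ u = x ^ ((Nat.card A : ℤ) * u) := by
          rw [zpow_mul, zpow_natCast]
      _ = x ^ (1 - (Nat.card (closure (S G A)) : ℤ) * v) := by
          congr 1; linarith
      _ = x := by
          rw [zpow_sub, zpow_one, zpow_mul, h1, one_zpow, inv_one, mul_one]
  refine ⟨(s ^ u : closure (S G A)), (s ^ u).2, ?_⟩
  intro a
  have h2 : phi a (s ^ u) = (coc g a)⁻¹ * s ^ u := by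
    rw [map_zpow, hphi, mul_zpow, hpow]
  have h3 : a • ((s ^ u : closure (S G A)) : G) = (g⁻¹ * a • g)⁻¹ * ((s ^ u : closure (S G A)) : G) := by
    have := congrArg Subtype.val h2
    simpa [phi, coc] using this
  rw [smul_mul', h3]
  group

theorem eq_one_of_fixed [Finite G] [Finite A] (hcop : (Nat.card A).Coprime (Nat.card G))
    (hR : ∀ x y : closure (S G A), x * y = y * x) {x : G} (hx : x ∈ closure (S G A))
    (hfix : ∀ a : A, a • x = x) : x = 1 := by
  classical
  let _ : CommGroup (closure (S G A)) :=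
    { (inferInstance : Group (closure (S G A))) with mul_comm := hR }
  have : Fintype A := Fintype.ofFinite A
  have hν : ∀ y (hy : y ∈ closure (S G A)), ∏ a : A, phi a ⟨y, hy⟩ = 1 := by
    intro y hy
    induction hy using Subgroup.closure_induction with
    | mem y hy =>
      obtain ⟨b, g, rfl⟩ := hy
      have h1 : ∀ a : A, phi a ⟨g⁻¹ * b • g, Subgroup.subset_closure ⟨b, g, rfl⟩⟩ =
          (coc g a)⁻¹ * coc g (a * b) := fun a => phi_coc g a b
      simp_rw [h1]
      rw [Finset.prod_mul_distrib, Finset.prod_inv_distrib]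
      have h2 : ∏ a : A, coc g (a * b) = ∏ a : A, coc g a :=
        Fintype.prod_bijective (fun a => a * b) (Group.mulRight_bijective b) _ _ (fun _ => rfl)
      rw [h2, inv_mul_cancel]
    | one =>
      have h1 : ∀ a : A, phi (G := G) a ⟨1, one_mem _⟩ = 1 := fun a => map_one (phi (G := G) a)
      simp_rw [h1]
      simp
    | mul y z hy hz ihy ihz =>
      have h1 : ∀ a : A, phi (G := G) a ⟨y * z, mul_mem hy hz⟩ = phi a ⟨y, hy⟩ * phi a ⟨z, hz⟩ :=
        fun a => map_mul (phi (G := G) a) ⟨y, hy⟩ ⟨z, hz⟩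
      simp_rw [h1]
      rw [Finset.prod_mul_distrib, ihy, ihz, one_mul]
    | inv y hy ihy =>
      have h1 : ∀ a : A, phi (G := G) a ⟨y⁻¹, inv_mem hy⟩ = (phi a ⟨y, hy⟩)⁻¹ :=
        fun a => map_inv (phi (G := G) a) ⟨y, hy⟩
      simp_rw [h1]
      rw [Finset.prod_inv_distrib, ihy, inv_one]
  have h1 := hν x hx
  have h2 : ∀ a : A, phi a ⟨x, hx⟩ = ⟨x, hx⟩ := fun a => Subtype.ext (hfix a)
  simp_rw [h2] at h1
  rw [Finset.prod_const, Finset.card_univ] at h1
  have h3 : orderOf (⟨x, hx⟩ : closure (S G A)) ∣ Nat.card A := by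
    rw [Nat.card_eq_fintype_card]
    exact orderOf_dvd_of_pow_eq_one h1
  have h4 : orderOf (⟨x, hx⟩ : closure (S G A)) ∣ Nat.card G :=
    (_root_.orderOf_dvd_natCard _).trans (Subgroup.card_subgroup_dvd_card _)
  have h5 : orderOf (⟨x, hx⟩ : closure (S G A)) = 1 := by
    have := Nat.dvd_gcd h3 h4
    rw [hcop] at this
    exact Nat.dvd_one.mp this
  have h6 := orderOf_eq_one_iff.mp h5
  exact congrArg Subtype.val h6


/-- Let A be a finite group acting on the finite group G by automorphisms with the orders of A and G coprime, and suppose every Sylow subgroup of G is cyclic. Then the fixed-point subgroup C_G(A) is a Hall subgroup of G (its order is coprime to its index), the subgroup [G, A] generated by the elements g⁻¹·a(g) is cyclic and normal with [G, A] ∩ C_G(A) = 1 and [G, A]·C_G(A) = G. -/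
theorem result {G A : Type*} [Group G] [Finite G] [Group A] [Finite A]
    [MulDistribMulAction A G] (hcop : (Nat.card A).Coprime (Nat.card G))
    (hcyc : ∀ (p : ℕ) [Fact p.Prime] (P : Sylow p G), IsCyclic (P : Subgroup G)) :
    (Nat.card (MulAction.fixedPoints A G : Set G)).Coprime (Nat.card G / Nat.card (MulAction.fixedPoints A G : Set G)) ∧
    IsCyclic (Subgroup.closure {y : G | ∃ (a : A) (g : G), y = g⁻¹ * a • g}) ∧
    (Subgroup.closure {y : G | ∃ (a : A) (g : G), y = g⁻¹ * a • g}).Normal ∧
    (Subgroup.closure {y : G | ∃ (a : A) (g : G), y = g⁻¹ * a • g} : Set G) ∩ MulAction.fixedPoints A G = {1} ∧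
    Subgroup.closure {y : G | ∃ (a : A) (g : G), y = g⁻¹ * a • g} ⊔ Subgroup.closure (MulAction.fixedPoints A G) = ⊤ := by
  have hZ : IsZGroup G := ⟨fun p hp P => @hcyc p ⟨hp⟩ P⟩
  change _ ∧ IsCyclic (closure (S G A)) ∧ (closure (S G A)).Normal ∧
    ((closure (S G A) : Set G) ∩ _ = {1}) ∧ closure (S G A) ⊔ _ = ⊤
  have hcycR : IsCyclic (closure (S G A)) := isCyclic_closure
  have hR : ∀ x y : closure (S G A), x * y = y * x := by
    intro x y
    let _ : CommGroup (closure (S G A)) := IsCyclic.commGroup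
    exact mul_comm x y
  have hnorm : (closure (S G A)).Normal := ⟨fun x hx h => conj_mem_closure h hx⟩
  have hinter : (closure (S G A) : Set G) ∩ MulAction.fixedPoints A G = {1} := by
    ext x
    constructor
    · rintro ⟨hx, hfix⟩
      exact eq_one_of_fixed hcop hR hx (fun a => hfix a)
    · rintro rfl
      exact ⟨one_mem _, fun a => smul_one a⟩
  have hsup : closure (S G A) ⊔ closure (MulAction.fixedPoints A G) = ⊤ := by
    rw [eq_top_iff]
    intro g _
    obtain ⟨r, hr, hfix⟩ := exists_fixed_mul hcop hR g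
    have h1 : g = (g * r) * r⁻¹ := by group
    rw [h1]
    exact mul_mem (mem_sup_right (Subgroup.subset_closure (fun a => hfix a)))
      (mem_sup_left (inv_mem hr))
  refine ⟨?_, hcycR, hnorm, hinter, hsup⟩
  -- the fixed-point subgroup
  let C : Subgroup G :=
    { carrier := MulAction.fixedPoints A G
      mul_mem' := fun {x y} hx hy a => by rw [smul_mul', hx a, hy a]
      one_mem' := fun a => smul_one a
      inv_mem' := fun {x} hx a => by rw [smul_inv', hx a] }
  have hCcard : Nat.card (MulAction.fixedPoints A G : Set G) = Nat.card C := rfl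
  have hcompl : IsComplement' (closure (S G A)) C := by
    apply isComplement'_of_disjoint_and_mul_eq_univ
    · rw [disjoint_iff, eq_bot_iff]
      intro x hx
      have : x ∈ (closure (S G A) : Set G) ∩ MulAction.fixedPoints A G := ⟨hx.1, hx.2⟩
      rw [hinter] at this
      exact this
    · rw [Set.eq_univ_iff_forall]
      intro g
      obtain ⟨r, hr, hfix⟩ := exists_fixed_mul hcop hR g⁻¹
      refine ⟨r, hr, (g⁻¹ * r)⁻¹, ?_, ?_⟩
      · exact C.inv_mem (fun a => hfix a)
      · simp
  have hcard := hcompl.card_mul_card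
  rw [hCcard]
  have hCpos : 0 < Nat.card C := Nat.card_pos
  have hdiv : Nat.card G / Nat.card C = Nat.card (closure (S G A)) := by
    rw [← hcard]
    exact Nat.mul_div_cancel _ hCpos
  rw [hdiv]
  by_contra hnc
  obtain ⟨p, hp, hpC, hpR⟩ := Nat.Prime.not_coprime_iff_dvd.mp hnc
  have := Fact.mk hp
  obtain ⟨x, hx⟩ := exists_prime_orderOf_dvd_card' (G := C) p hpC
  obtain ⟨y, hy⟩ := exists_prime_orderOf_dvd_card' (G := closure (S G A)) p hpR
  have hxo : orderOf (x : G) = p := by rw [Subgroup.orderOf_coe]; exact hx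
  have hyo : orderOf (y : G) = p := by rw [Subgroup.orderOf_coe]; exact hy
  have hpx : IsPGroup p (zpowers (x : G)) :=
    IsPGroup.of_card (n := 1) (by rw [Nat.card_zpowers, hxo, pow_one])
  have hpy : IsPGroup p (zpowers (y : G)) :=
    IsPGroup.of_card (n := 1) (by rw [Nat.card_zpowers, hyo, pow_one])
  obtain ⟨P, hP⟩ := hpx.exists_le_sylow
  obtain ⟨Q, hQ⟩ := hpy.exists_le_sylow
  obtain ⟨g, hg⟩ := MulAction.exists_smul_eq G P Q
  have hy1 : g⁻¹ * (y : G) * g ∈ P := by
    apply H72.mem_sylow_smul.mp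
    rw [hg]
    exact hQ (mem_zpowers _)
  have hy1R : g⁻¹ * (y : G) * g ∈ closure (S G A) := by
    have := hnorm.conj_mem _ y.2 g⁻¹
    simpa using this
  have hy1o : orderOf (g⁻¹ * (y : G) * g) = p := by
    have := orderOf_injective (MulAut.conj g⁻¹).toMonoidHom (MulAut.conj g⁻¹).injective (y : G)
    simp only [MulEquiv.coe_toMonoidHom, MulAut.conj_apply, inv_inv] at this
    rw [this, hyo]
  obtain ⟨z, hz⟩ := (hcyc p P).exists_generator
  have hgen : ∀ w ∈ (P : Subgroup G), w ∈ zpowers (z : G) := by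
    intro w hw
    obtain ⟨k, hk⟩ := mem_zpowers_iff.mp (hz ⟨w, hw⟩)
    refine mem_zpowers_iff.mpr ⟨k, ?_⟩
    have := congrArg Subtype.val hk
    simpa using this
  have hxz : (x : G) ∈ zpowers (z : G) := hgen _ (hP (mem_zpowers _))
  have hyz : g⁻¹ * (y : G) * g ∈ zpowers (z : G) := hgen _ hy1
  have hxy : (x : G) ∈ zpowers (g⁻¹ * (y : G) * g) :=
    S4085.mem_zpowers_of_orderOf_dvd hxz hyz (by rw [hxo, hy1o])
  have hxR : (x : G) ∈ closure (S G A) := (zpowers_le.mpr hy1R) hxy
  have hx1 : (x : G) = 1 := by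
    have : (x : G) ∈ (closure (S G A) : Set G) ∩ MulAction.fixedPoints A G := ⟨hxR, x.2⟩
    rw [hinter] at this
    exact this
  rw [hx1, orderOf_one] at hxo
  exact hp.one_lt.ne hxo

end Cfsg.Agent.S4117
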