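import Cfsg.Statements.S5187
import Cfsg.Agent.H86.EssChain
import Cfsg.Agent.H86.RankTwo
import Cfsg.Agent.H86.AbelSS

set_option autoImplicit false
universe u
open Cfsg

namespace Cfsg.Agent.S5187

/-- Let F be a saturated fusion system over a finite p-group S and H an abelian essential subgroup that can be generated by two elements (its Frattini quotient has order at most p²). Then H is elementary abelian of order p², or p ≤ 3 and H is homocyclic of rank two, that is isomorphic to C_{pᵏ} × C_{pᵏ} for some k. -/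
theorem result {Ω : Type u} [Group Ω] {S : Subgroup Ω} [Finite S] (p : ℕ) [Fact p.Prime] (hS : IsPGroup p S)
    (F : Cfsg.FusionSystem S) (hF : F.IsSaturated p) (H : Subgroup Ω) (hH : F.IsEssential p H) (hab : IsMulCommutative ↥H) (hrk : (frattini ↥H).index ≤ p ^ 2) :
    (Cfsg.IsElementaryAbelian p H ∧ Nat.card H = p ^ 2) ∨
      (p ≤ 3 ∧ ∃ k : ℕ, Nonempty (↥H ≃* Multiplicative (ZMod (p ^ k) × ZMod (p ^ k)))) := by
  have hp : p.Prime := Fact.out
  have hHS : H ≤ S := hH.1.1
  haveI : Finite H := Cfsg.Agent.H86.finite_of_le hHS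
  have hHp : IsPGroup p H := hS.to_le hHS
  have hcomm : ∀ x y : H, x * y = y * x := fun x y => hab.is_comm.comm x y
  have hno := Cfsg.Agent.H86.essential_no_charChain hS hH
  obtain ⟨n, hn, ⟨e⟩⟩ := @Cfsg.Agent.H86.rank_two_structure ↥H
    (Cfsg.Agent.H86.commGroupOfForall hcomm) _ p _ hHp hrk hno
  by_cases hn1 : n = 1
  · left
    subst hn1
    refine ⟨⟨⟨⟨hcomm⟩⟩, fun x hx => ?_⟩, ?_⟩
    · have h1 : (e ⟨x, hx⟩) ^ p = 1 := by
        apply Prod.ext
        · have h := Cfsg.Agent.H86.zmodpow_card (p := p) 1 (e ⟨x, hx⟩).1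
          exact (congrArg (fun k => (e ⟨x, hx⟩).1 ^ k) (pow_one p).symm).trans h
        · have h := Cfsg.Agent.H86.zmodpow_card (p := p) 1 (e ⟨x, hx⟩).2
          exact (congrArg (fun k => (e ⟨x, hx⟩).2 ^ k) (pow_one p).symm).trans h
      have h2 : (⟨x, hx⟩ : H) ^ p = 1 := by
        apply e.injective
        rw [map_pow, h1, map_one]
      have h3 := congrArg Subtype.val h2
      simpa using h3
    · rw [Nat.card_congr e.toEquiv, Nat.card_prod]
      have h1 : Nat.card (Multiplicative (ZMod (p ^ 1))) = p := by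
        show Nat.card (ZMod (p ^ 1)) = p
        rw [Nat.card_zmod, pow_one]
      rw [h1]
      ring
  · right
    have hn2 : 2 ≤ n := by omega
    refine ⟨?_, n, ⟨e.trans (MulEquiv.prodMultiplicative _ _).symm⟩⟩
    by_contra hp3
    have hp5 : 5 ≤ p := by
      have h4 : p ≠ 4 := by
        rintro rfl
        exact absurd hp (by decide)
      omega
    have hInn : Inn H = ⊥ := by
      rw [eq_bot_iff]
      rintro _ ⟨g, rfl⟩
      rw [Subgroup.mem_bot]
      ext h
      rw [MulAut.conj_apply, hcomm g h, mul_inv_cancel_right]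
      rfl
    have hH2 := hH
    obtain ⟨-, -, hnorm, E, hE⟩ := hH2
    have hdvd : p ∣ Nat.card (F.autGroup H) := hE.1.trans (Subgroup.card_quotient_dvd_card _)
    obtain ⟨a, hao⟩ := exists_prime_orderOf_dvd_card' p hdvd
    have hap : (a : MulAut H) ^ p = 1 := by
      have h1 : a ^ p = 1 := by
        have h := pow_orderOf_eq_one a
        rwa [hao] at h
      have h2 := congrArg Subtype.val h1
      simpa using h2
    have hkey := @Cfsg.Agent.H86.homocyclic_key ↥H (Cfsg.Agent.H86.commGroupOfForall hcomm) _ p _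
      hp5 hHp hrk n hn2 e (a : MulAut H) hap
    have hexp : ∀ x : H, x ^ p ^ n = 1 := by
      intro x
      apply e.injective
      rw [map_pow, map_one]
      exact Prod.ext (Cfsg.Agent.H86.zmodpow_card n (e x).1) (Cfsg.Agent.H86.zmodpow_card n (e x).2)
    obtain ⟨C, hC0, hCn, hCinv, hCstab⟩ := @Cfsg.Agent.H86.powChain ↥H
      (Cfsg.Agent.H86.commGroupOfForall hcomm) p n hexp (a : MulAut H) hkey
    have hmem := Cfsg.Agent.H86.essential_stab_mem_inn hS hH n C hC0 hCn (fun b _ => hCinv b) a.2 hCstab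
    rw [hInn, Subgroup.mem_bot] at hmem
    have ha1 : a = 1 := Subtype.ext hmem
    rw [ha1, orderOf_one] at hao
    exact hp.one_lt.ne hao

end Cfsg.Agent.S5187
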