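import Cfsg.Statements.S1492
import Cfsg.Agent.H82.IndDeg
import Cfsg.Agent.H4.IrrCount

set_option autoImplicit false
open Cfsg

namespace Cfsg.Agent.S1492

open Cfsg.Agent.H4 Cfsg.Agent.H82

/-- Let ψ be an irreducible character of the finite group G and B ≤ D ≤ C subgroups with B normal in C, every commutator of an element of D with an element of C lying in B (so D/B is central in C/B), and ψ constant equal to ψ 1 on B. Then ψ(1) ^ 2 * |C| * |D| ≤ |G| ^ 2. -/
theorem result {G : Type*} [Group G] [Finite G] (ψ : G → ℂ) (hψ : Cfsg.IsIrrCharacter G ψ) (B C D : Subgroup G) (hBD : B ≤ D) (hDC : D ≤ C) (hBn : ∀ c ∈ C, ∀ b ∈ B, c * b * c⁻¹ ∈ B) (hcent : ∀ d ∈ D, ∀ c ∈ C, d * c * d⁻¹ * c⁻¹ ∈ B) (hker : ∀ b ∈ B, ψ b = ψ 1) : ‖ψ 1‖ ^ 2 * (Nat.card C : ℝ) * (Nat.card D : ℝ) ≤ (Nat.card G : ℝ) ^ 2 := by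
  classical
  haveI : Fintype G := Fintype.ofFinite G
  haveI : Fintype C := Fintype.ofFinite C
  letI := fintypeIrr C
  obtain ⟨N, ρ, hρirr, hρ, hNpos, hψ1, -⟩ := irr_rep (⟨ψ, hψ⟩ : IrrCharacter G)
  change ψ 1 = (N : ℂ) at hψ1
  have hres : IsCharacter C (fun h : C => ψ h) :=
    isCharacter_restrict C (isCharacter_of_isIrrCharacter hψ)
  obtain ⟨m, hm⟩ := isCharacter_iff.mp hres
  have hmval : ∀ k : C, ψ k = ∑ μ : IrrCharacter C, (m μ : ℂ) * μ.1 k := by
    intro k
    have := congrFun hm k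
    rw [finsum_irr_apply, finsum_irr_eq_sum] at this
    exact this
  obtain ⟨μ, hμ⟩ : ∃ μ : IrrCharacter C, m μ ≠ 0 := by
    by_contra hcon
    push Not at hcon
    have h1 := hmval 1
    rw [Subgroup.coe_one, hψ1] at h1
    rw [Finset.sum_eq_zero (fun ν _ => by rw [hcon ν]; simp)] at h1
    have : N = 0 := by exact_mod_cast h1
    omega
  obtain ⟨n, σ, hσirr, hσ, hnpos, hμ1, -⟩ := irr_rep μ
  have hin : classInner (indFun C μ.1) ψ ≠ 0 := by
    rw [frobenius_reciprocity C μ.1 ψ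
      (isClassFunction_of_isCharacter (isCharacter_of_isIrrCharacter hψ)),
      ← classInner_conj_symm, hm, classInner_finsum_irr (fun ν => (m ν : ℂ)) μ]
    simpa using hμ
  obtain ⟨r, hr, -⟩ := constituent_degree
    (isCharacter_indFun C μ.1 (isCharacter_of_isIrrCharacter μ.2)) (⟨ψ, hψ⟩ : IrrCharacter G) hin
  change indFun C μ.1 1 = ψ 1 + (r : ℂ) at hr
  rw [indFun_one, hμ1, hψ1] at hr
  have hdeg : N + r = C.index * n := by
    have : ((C.index * n : ℕ) : ℂ) = ((N + r : ℕ) : ℂ) := by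
      push_cast
      rw [hr]
    exact_mod_cast this.symm
  have hnorm_le : ∀ ν : IrrCharacter C, ∀ c : C, (ν.1 c).re ≤ (ν.1 1).re := by
    intro ν c
    obtain ⟨k, τ, -, hτ, -, hν1, -⟩ := irr_rep ν
    rw [hν1, ← hτ]
    calc (τ.character c).re ≤ ‖τ.character c‖ := Complex.re_le_norm _
      _ ≤ (Module.finrank ℂ (Fin k → ℂ) : ℝ) := character_norm_le τ c
      _ = ((k : ℂ)).re := by simp
  have hμB : ∀ b : C, (b : G) ∈ B → σ b = 1 := by
    intro b hb
    have h1 := hmval b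
    have h2 := hmval 1
    rw [Subgroup.coe_one] at h2
    rw [hker _ hb, h2] at h1
    have h3 : ∑ ν : IrrCharacter C, (m ν : ℝ) * ((ν.1 1).re - (ν.1 b).re) = 0 := by
      have := congrArg Complex.re h1
      simp only [Complex.re_sum, Complex.mul_re, Complex.natCast_re, Complex.natCast_im,
        zero_mul, sub_zero] at this
      rw [← sub_eq_zero, ← Finset.sum_sub_distrib] at this
      rw [← this]
      apply Finset.sum_congr rfl
      intro ν _
      ring
    have h4 := (Finset.sum_eq_zero_iff_of_nonneg (fun ν _ =>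
      mul_nonneg (Nat.cast_nonneg _) (sub_nonneg.mpr (hnorm_le ν b)))).mp h3 μ (Finset.mem_univ μ)
    have h5 : (μ.1 b).re = (μ.1 1).re := by
      rcases mul_eq_zero.mp h4 with h | h
      · exfalso
        exact hμ (by exact_mod_cast h)
      · linarith
    have h6 : ‖μ.1 b‖ ≤ (n : ℝ) := by
      rw [← hσ]
      have := character_norm_le σ b
      simpa using this
    have h7 : μ.1 b = μ.1 1 := by
      rw [hμ1] at h5 ⊢
      have hre : (μ.1 b).re = n := by rw [h5]; simp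
      have him : (μ.1 b).im = 0 := by
        have h8 := Complex.sq_norm (μ.1 b)
        rw [Complex.normSq_apply] at h8
        have h9 : ‖μ.1 b‖ ^ 2 ≤ (n : ℝ) ^ 2 := pow_le_pow_left₀ (norm_nonneg _) h6 2
        nlinarith [sq_nonneg (μ.1 b).im]
      apply Complex.ext <;> simp [hre, him]
    rw [← hσ] at h7
    exact (char_eq_one_iff σ b).mp h7
  have hscal : ∀ d : C, (d : G) ∈ D → ‖μ.1 d‖ = (n : ℝ) := by
    intro d hd
    have hcomm : ∀ c : C, σ d ∘ₗ σ c = σ c ∘ₗ σ d := by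
      intro c
      have hb : ((d * c * d⁻¹ * c⁻¹ : C) : G) ∈ B := by
        simpa using hcent d hd c c.2
      have h1 := hμB _ hb
      have e : d * c = (d * c * d⁻¹ * c⁻¹) * (c * d) := by group
      have h2 : σ d * σ c = σ c * σ d := by
        rw [← map_mul, ← map_mul, e, map_mul, h1, one_mul]
      exact h2
    obtain ⟨ω, hω⟩ := schur_scalar σ (σ d) hcomm
    have := (character_norm_eq_iff σ d).mpr ⟨ω, hω⟩
    rw [hσ] at this
    simpa using this
  have hsum : ∑ c : C, ‖μ.1 c‖ ^ 2 = (Nat.card C : ℝ) := by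
    have h1 := irr_norm_sq μ
    have h2 : ((∑ c : C, ‖μ.1 c‖ ^ 2 : ℝ) : ℂ) = (Nat.card C : ℂ) := by
      rw [← h1]
      push_cast
      apply Finset.sum_congr rfl
      intro c _
      rw [Complex.mul_conj, Complex.normSq_eq_norm_sq]
      push_cast
      rfl
    exact_mod_cast h2
  have hD : (n : ℝ) ^ 2 * (Nat.card D : ℝ) ≤ (Nat.card C : ℝ) := by
    rw [← hsum]
    have h1 : ∑ c ∈ Finset.univ.filter (fun c : C => (c : G) ∈ D), ‖μ.1 c‖ ^ 2 ≤
        ∑ c : C, ‖μ.1 c‖ ^ 2 :=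
      Finset.sum_le_sum_of_subset_of_nonneg (Finset.filter_subset _ _) (fun _ _ _ => sq_nonneg _)
    have h2 : ∑ c ∈ Finset.univ.filter (fun c : C => (c : G) ∈ D), ‖μ.1 c‖ ^ 2 =
        (Finset.univ.filter (fun c : C => (c : G) ∈ D)).card * (n : ℝ) ^ 2 := by
      rw [Finset.sum_congr rfl (fun c hc => by rw [hscal c (Finset.mem_filter.mp hc).2]),
        Finset.sum_const, nsmul_eq_mul]
    have h3 : (Finset.univ.filter (fun c : C => (c : G) ∈ D)).card = Nat.card D := by
      rw [← Fintype.card_subtype, ← Nat.card_eq_fintype_card]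
      exact Nat.card_congr (Subgroup.subgroupOfEquivOfLe hDC).toEquiv
    rw [h2, h3] at h1
    linarith
  have hGC : (Nat.card G : ℝ) = (Nat.card C : ℝ) * C.index := by
    have := Subgroup.card_mul_index C
    exact_mod_cast this.symm
  have hN : ‖ψ 1‖ = (N : ℝ) := by rw [hψ1]; simp
  have hNle : (N : ℝ) ≤ (C.index : ℝ) * n := by
    have : N ≤ C.index * n := by omega
    exact_mod_cast this
  rw [hN, hGC]
  have h1 : (N : ℝ) ^ 2 ≤ ((C.index : ℝ) * n) ^ 2 := pow_le_pow_left₀ (Nat.cast_nonneg _) hNle 2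
  calc (N : ℝ) ^ 2 * Nat.card C * Nat.card D
      ≤ ((C.index : ℝ) * n) ^ 2 * Nat.card C * Nat.card D := by gcongr
    _ = (C.index : ℝ) ^ 2 * Nat.card C * ((n : ℝ) ^ 2 * Nat.card D) := by ring
    _ ≤ (C.index : ℝ) ^ 2 * Nat.card C * Nat.card C := by gcongr
    _ = ((Nat.card C : ℝ) * C.index) ^ 2 := by ring

end Cfsg.Agent.S1492
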