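import Cfsg.Statements.S1517
import Cfsg.Agent.H32.CohSys

set_option autoImplicit false
open Cfsg

namespace Cfsg.Agent.S1517

open Cfsg.Agent.H4 Cfsg.Agent.H32

/-- Let (S, τ, R) be a coherence system from L to G such that φ 1 = ψ 1 for all φ, ψ ∈ S. Then (S, L minus 1, τ) is coherent. -/
theorem result {L : Type*} [Group L] [Fintype L] {G : Type*} [Group G] [Fintype G] (S : Set (L → ℂ)) (τ : (L → ℂ) → (G → ℂ)) (R : (L → ℂ) → Finset (G → ℂ)) (hS : Cfsg.IsCoherenceSystem S τ R) (hdeg : ∀ φ ∈ S, ∀ ψ ∈ S, φ 1 = ψ 1) : Cfsg.IsCoherent S {1}ᶜ τ := by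
  classical
  obtain ⟨χ₀, hχ₀⟩ := hS.nonempty
  refine ⟨⟨χ₀ - conjFun χ₀, cs_sub_conj_mem hS hχ₀, ?_⟩, ?_⟩
  · intro h
    exact hS.conj_ne χ₀ hχ₀ (sub_eq_zero.mp h).symm
  obtain ⟨n₀, hn₀, hn₀pos⟩ := cs_norm hS hχ₀
  have hsub : ∀ χ ∈ S, ∀ ψ ∈ S, χ - ψ ∈ zspanOn S {1}ᶜ :=
    fun χ hχ ψ hψ => cs_sub_mem hχ hψ (hdeg χ hχ ψ hψ)
  have hR1 := cs_orth_one hS hχ₀
  have hR0 := cs_orth_zero hS hχ₀
  have key : ∃ T₀ : G → ℂ, IsGeneralizedCharacter G T₀ ∧ classInner T₀ T₀ = (n₀ : ℂ) ∧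
      ∀ ψ ∈ S, ψ ≠ χ₀ → classInner (τ (χ₀ - ψ)) T₀ = (n₀ : ℂ) := by
    by_cases hcase : ∀ ψ ∈ S, ψ = χ₀ ∨ ψ = conjFun χ₀
    · have hcard : (R χ₀).card = 2 * n₀ := by
        have := cs_card_R hS hχ₀
        rw [hn₀] at this
        exact_mod_cast this
      obtain ⟨R₁, hR₁, hR₁c⟩ := Finset.exists_subset_card_eq (show n₀ ≤ (R χ₀).card by omega)
      have hT : ∀ β ∈ R₁, classInner (∑ α ∈ R₁, α) β = 1 := by
        intro β hβ
        rw [orth_sum_inner_one (R χ₀) R₁ hR₁ hR1 hR0 (hR₁ hβ), if_pos hβ]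
      refine ⟨∑ α ∈ R₁, α, isGeneralizedCharacter_sum _ _
        (fun α hα => hS.virtual χ₀ hχ₀ α (hR₁ hα)), ?_, ?_⟩
      · rw [classInner_sum_right, Finset.sum_congr rfl hT]
        simp [hR₁c]
      · intro ψ hψ hne
        rcases hcase ψ hψ with h | h
        · exact absurd h hne
        · rw [h, classInner_sum_right,
            Finset.sum_congr rfl (fun β hβ => cs_inner_R hS hχ₀ (hR₁ hβ))]
          simp [hR₁c]
    · push Not at hcase
      obtain ⟨ψ₁, hψ₁, h1, h2⟩ := hcase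
      obtain ⟨a, b, ha, hb, hX, hsum, hsq⟩ := cs_pair hS hχ₀ hψ₁ h1 h2 (hdeg _ hχ₀ _ hψ₁)
      have hsq' : ((∑ α ∈ R χ₀, a α * a α : ℤ) : ℂ) = (n₀ : ℂ) := by
        rw [← hn₀, ← hsq]
        congr 1
        apply Finset.sum_congr rfl
        intro α _
        ring
      have hd1 : ∀ α ∈ R ψ₁, ∀ β ∈ R χ₀, classInner α β = 0 :=
        hS.disjoint χ₀ hχ₀ ψ₁ hψ₁ (hS.orthogonal ψ₁ hψ₁ χ₀ hχ₀ h1)
          (hS.orthogonal ψ₁ hψ₁ _ (hS.conj_mem χ₀ hχ₀) h2)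
      refine ⟨∑ α ∈ R χ₀, a α • α, isGeneralizedCharacter_sum _ _
        (fun α hα => isGeneralizedCharacter_zsmul _ (hS.virtual χ₀ hχ₀ α hα)), ?_, ?_⟩
      · rw [orth_sum_sum (R χ₀) hR1 hR0, hsq']
      · intro ψ hψ hne
        by_cases hc : ψ = conjFun χ₀
        · rw [hc, classInner_sum_right]
          rw [Finset.sum_congr rfl (fun α hα => by
            rw [classInner_zsmul_right, cs_inner_R hS hχ₀ hα, mul_one])]
          rw [← hn₀, ← hsum]
          push_cast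
          rfl
        · have hd2 : ∀ α ∈ R ψ, ∀ β ∈ R χ₀, classInner α β = 0 :=
            hS.disjoint χ₀ hχ₀ ψ hψ (hS.orthogonal ψ hψ χ₀ hχ₀ hne)
              (hS.orthogonal ψ hψ _ (hS.conj_mem χ₀ hχ₀) hc)
          have hclaim : ∀ α ∈ R χ₀, classInner (τ (χ₀ - ψ)) α = ((a α : ℤ) : ℂ) := by
            intro α hα
            by_cases hψ1 : ψ = ψ₁
            · rw [hψ1]
              exact ha α hα
            · have e : χ₀ - ψ = (χ₀ - ψ₁) + (ψ₁ - ψ) := by abel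
              rw [e, hS.isometry.1 _ (hsub χ₀ hχ₀ ψ₁ hψ₁) _ (hsub ψ₁ hψ₁ ψ hψ),
                classInner_add_left, ha α hα]
              have hz : classInner (τ (ψ₁ - ψ)) α = 0 := by
                by_cases hψ2 : ψ = conjFun ψ₁
                · rw [hψ2, hS.sum_eq ψ₁ hψ₁, classInner_sum_left]
                  apply Finset.sum_eq_zero
                  intro β hβ
                  exact hd1 β hβ α hα
                · obtain ⟨a', b', -, -, hX', -, -⟩ :=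
                    cs_pair hS hψ₁ hψ hψ1 hψ2 (hdeg _ hψ₁ _ hψ)
                  rw [hX', classInner_add_left, classInner_sum_left, classInner_sum_left,
                    Finset.sum_eq_zero, Finset.sum_eq_zero, add_zero]
                  · intro β hβ
                    rw [classInner_zsmul_left, hd2 β hβ α hα, mul_zero]
                  · intro β hβ
                    rw [classInner_zsmul_left, hd1 β hβ α hα, mul_zero]
              rw [hz, add_zero]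
          rw [classInner_sum_right]
          rw [Finset.sum_congr rfl (fun α hα => by
            rw [classInner_zsmul_right, hclaim α hα])]
          rw [← hsq']
          push_cast
          rfl
  obtain ⟨T₀, hT₀g, hT₀n, hT₀⟩ := key
  obtain ⟨D, hD, hDpos⟩ := cs_deg hS hχ₀
  have hτ0 := cs_tau_zero hS
  have hc : ∀ ψ ∈ S, classInner (τ (χ₀ - ψ)) T₀ = (n₀ : ℂ) - classInner ψ χ₀ := by
    intro ψ hψ
    by_cases h : ψ = χ₀
    · rw [h, sub_self, hτ0, classInner_zero_left, hn₀, sub_self]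
    · rw [hT₀ ψ hψ h, hS.orthogonal ψ hψ χ₀ hχ₀ h, sub_zero]
  have hc' : ∀ ψ ∈ S, classInner T₀ (τ (χ₀ - ψ)) = (n₀ : ℂ) - classInner χ₀ ψ := by
    intro ψ hψ
    rw [← classInner_conj_symm, hc ψ hψ, map_sub, classInner_conj_symm]
    simp
  refine coherence_of_T S τ hS.isometry hS.orthogonal ?_ (fun _ => (D : ℤ)) ?_ χ₀ hχ₀ ?_
    (fun ψ => T₀ - τ (χ₀ - ψ)) ?_ ?_ ?_
  · intro χ hχ h
    exact cs_ne_zero hS hχ (classInner_self_eq_zero h)
  · intro χ hχ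
    rw [hdeg χ hχ χ₀ hχ₀, hD]
    simp
  · simp only [ne_eq, Nat.cast_eq_zero]
    omega
  · intro χ hχ
    exact isGeneralizedCharacter_sub hT₀g (hS.isometry.2.2.2 _ (hsub χ₀ hχ₀ χ hχ))
  · intro χ hχ ψ hψ
    simp only [classInner_sub_left, classInner_sub_right]
    rw [hT₀n, hc χ hχ, hc' ψ hψ,
      hS.isometry.2.2.1 _ (hsub χ₀ hχ₀ χ hχ) _ (hsub χ₀ hχ₀ ψ hψ)]
    simp only [classInner_sub_left, classInner_sub_right]
    rw [hn₀]
    ring
  · intro ψ hψ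
    show τ ((D : ℤ) • χ₀ - (D : ℤ) • ψ) =
      (D : ℤ) • (T₀ - τ (χ₀ - χ₀)) - (D : ℤ) • (T₀ - τ (χ₀ - ψ))
    rw [sub_self, hτ0, sub_zero, ← smul_sub, hS.isometry.2.1 _ (hsub χ₀ hχ₀ ψ hψ)]
    module

end Cfsg.Agent.S1517
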