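import Cfsg.Statements.S0910
import Cfsg.Agent.H4.PaQb
import Cfsg.Agent.H20.LocalRing

set_option autoImplicit false
set_option linter.style.haveILetI false
open Cfsg

namespace Cfsg.Agent.S0910

/-- Let G be a non-abelian finite simple group and p a prime. If an irreducible character χ lies in the principal block (relative to a maximal ideal of the algebraic integers containing p) and χ 1 is a power of p, then χ is the principal character. -/
theorem result {G : Type*} [Group G] [Finite G] (p : ℕ) [Fact p.Prime] (M : Ideal Cfsg.AlgInt) (hM : Cfsg.IsPModular p M) [IsSimpleGroup G] (hna : ∃ a b : G, a * b ≠ b * a) (χ : Cfsg.IrrCharacter G) (hχ : χ ∈ Cfsg.principalBlock M G) (k : ℕ) (hdeg : (χ : G → ℂ) 1 = (p : ℂ) ^ k) : (χ : G → ℂ) = fun _ => 1 := by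
  classical
  letI : Fintype G := Fintype.ofFinite G
  have hp : p.Prime := Fact.out
  have hMp := Cfsg.Agent.H20.isPrime_of_isPModular hM
  by_contra hne
  have hsimple : ∀ N : Subgroup G, N.Normal → N = ⊥ ∨ N = ⊤ :=
    fun N hN => IsSimpleGroup.eq_bot_or_eq_top_of_normal N hN
  have hcenter : ∀ g : G, (∀ x : G, g * x = x * g) → g = 1 := by
    intro z hz
    rcases hsimple (Subgroup.center G) inferInstance with h | h
    · have : z ∈ Subgroup.center G := Subgroup.mem_center_iff.mpr (fun x => (hz x).symm)
      rw [h] at this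
      exact Subgroup.mem_bot.mp this
    · exfalso
      obtain ⟨a, b, hab⟩ := hna
      apply hab
      have : a ∈ Subgroup.center G := h ▸ Subgroup.mem_top a
      exact (Subgroup.mem_center_iff.mp this b).symm
  obtain ⟨n, ρ, hρ, hρχ⟩ := χ.2
  haveI := hρ
  have h1 : (χ : G → ℂ) 1 = n := by
    rw [← hρχ, Representation.char_one]; simp
  have hn : n = p ^ k := by
    have := h1.symm.trans hdeg
    exact_mod_cast this
  -- an element `z ≠ 1` whose class size is prime to `p`
  obtain ⟨z, hz1, hzp⟩ : ∃ z : G, z ≠ 1 ∧ ¬ p ∣ (Subgroup.centralizer ({z} : Set G)).index := by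
    obtain ⟨P⟩ := (inferInstance : Nonempty (Sylow p G))
    have key : ∃ z : G, z ≠ 1 ∧ (P : Subgroup G) ≤ Subgroup.centralizer ({z} : Set G) := by
      by_cases hP : (P : Subgroup G) = ⊥
      · obtain ⟨a, b, hab⟩ := hna
        have ha : a ≠ 1 := by
          rintro rfl
          simp at hab
        exact ⟨a, ha, by rw [hP]; exact bot_le⟩
      · haveI : Nontrivial (P : Subgroup G) := (Subgroup.nontrivial_iff_ne_bot _).mpr hP
        haveI := P.isPGroup'.center_nontrivial
        obtain ⟨z', hz'⟩ := exists_ne (1 : Subgroup.center (P : Subgroup G))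
        refine ⟨((z' : (P : Subgroup G)) : G), ?_, ?_⟩
        · intro h
          apply hz'
          apply Subtype.ext
          apply Subtype.ext
          exact h
        · intro x hx
          rw [Subgroup.mem_centralizer_singleton_iff]
          have := Subgroup.mem_center_iff.mp z'.2 ⟨x, hx⟩
          exact (congrArg Subtype.val this)
    obtain ⟨z, hz1, hPz⟩ := key
    refine ⟨z, hz1, fun hd => ?_⟩
    exact P.not_dvd_index (hd.trans (Subgroup.index_dvd_of_le hPz))
  have hcop : Nat.Coprime (Module.finrank ℂ (Fin n → ℂ))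
      (Subgroup.centralizer ({z} : Set G)).index := by
    simp only [Module.finrank_fin_fun]
    rw [hn]
    exact Nat.Coprime.pow_left k ((Nat.Prime.coprime_iff_not_dvd hp).mpr hzp)
  rcases Cfsg.Agent.H4.character_eq_zero_or_norm_eq_of_coprime ρ z hcop with h0 | h0
  · have hc : Cfsg.centralChar (χ : G → ℂ) z = 0 := by
      unfold Cfsg.centralChar
      rw [← hρχ, h0]
      simp
    have hb : Cfsg.MemLocalIdeal M
        (Cfsg.centralChar (fun _ : G => (1 : ℂ)) z - Cfsg.centralChar (χ : G → ℂ) z) := hχ z
    rw [hc, sub_zero] at hb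
    have h2 : Cfsg.centralChar (fun _ : G => (1 : ℂ)) z =
        (((Subgroup.centralizer ({z} : Set G)).index : ℕ) : ℂ) := by
      unfold Cfsg.centralChar
      simp
    rw [h2, Cfsg.Agent.H20.memLocalIdeal_natCast_iff hM] at hb
    exact hzp hb
  · obtain ⟨ω, hω⟩ := (Cfsg.Agent.H4.character_norm_eq_iff ρ z).mp h0
    refine Cfsg.Agent.H4.not_scalar_of_simple hsimple hcenter ρ ?_ z hz1 ω hω
    intro h2
    apply hne
    rw [← hρχ, h2]

end Cfsg.Agent.S0910
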