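import Cfsg.Statements.S4502
import Cfsg.Agent.H4.IrrCount
import Cfsg.Agent.H82.MdH
import Cfsg.Agent.H82.P1G

set_option autoImplicit false
open Cfsg

namespace Cfsg.Agent.S4502

open Cfsg.Agent.H82 Cfsg.Agent.H82.BL Cfsg.Agent.H82.P1 in
/-- Let G be a finite group whose order is divisible by the prime p exactly once, and let P be a Sylow p-subgroup. Then the number of irreducible characters of G of degree not divisible by p equals the number of conjugacy classes of the normalizer of P. -/
theorem result {G : Type*} [Group G] [Finite G] (p : ℕ) [Fact p.Prime] (hdiv : p ∣ Nat.card G) (hsq : ¬ p ^ 2 ∣ Nat.card G) (P : Sylow p G) : Nat.card {χ : Cfsg.IrrCharacter G // ¬ p ∣ Cfsg.charDegree (χ : G → ℂ)} = Nat.card (ConjClasses (Subgroup.normalizer ((P : Subgroup G) : Set G))) := by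
  classical
  have hP : Nat.card P = p := card_sylow_eq P hdiv hsq
  obtain ⟨S⟩ := exists_setup_of_card P hP
  haveI : Fintype G := Fintype.ofFinite G
  letI : Fintype ↥(NN P) := Fintype.ofFinite _
  letI : Fintype ↥(CC P) := Fintype.ofFinite _
  letI : Fintype (IrrCharacter G) := Cfsg.Agent.H4.fintypeIrr G
  letI : Fintype (IrrCharacter ↥(NN P)) := Cfsg.Agent.H4.fintypeIrr _
  letI : Fintype (IrrCharacter ↥(CC P)) := Cfsg.Agent.H4.fintypeIrr _
  letI : Fintype ↥((P : Subgroup G).subgroupOf (CC P)) := Fintype.ofFinite _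
  have hcomm : ∀ a b : ↥((P : Subgroup G).subgroupOf (CC P)), a * b = b * a := by
    intro a b
    apply Subtype.ext
    apply Subtype.ext
    have := S.cent (a : G) (Subgroup.mem_subgroupOf.mp a.2) (b : G) (b : ↥(CC P)).2
    simpa using this
  haveI : Finite (↥((P : Subgroup G).subgroupOf (CC P)) →* ℂˣ) := (card_hom_units hcomm).1
  letI : Fintype (↥((P : Subgroup G).subgroupOf (CC P)) →* ℂˣ) := Fintype.ofFinite _
  -- the character half
  have hA := card_pprime_le S (isCyclic_norm_mod_cent P hP S)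
  have hP' : Nat.card ↥(P : Subgroup G) = p := hP
  rw [hP'] at hA
  have hA' : Nat.card {χ : IrrCharacter G // ¬ p ∣ charDegree χ.1} ≤
      Nat.card (ConjClasses ↥(NN P)) := by
    rw [← Cfsg.Agent.H4.card_irr_eq_card_conjClasses, Nat.card_eq_fintype_card,
      Nat.card_eq_fintype_card, Fintype.card_subtype]
    exact hA
  -- the modular half
  have hB := Cfsg.Agent.H82.Md.mod_half p P hP
  rw [Cfsg.Agent.H4.card_irr_eq_card_conjClasses] at hB
  have hC1 := card_irr_split (H := G) p
  rw [Cfsg.Agent.H4.card_irr_eq_card_conjClasses, card_classes_split (H := G) p] at hC1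
  have hD1 := card_classes_split (H := ↥(NN P)) p
  have hD2 := card_reg_le P hP
  have hD3 := card_sing_le P hP
  have e1 : Nat.card {χ : IrrCharacter G // ¬ p ∣ charDegree χ.1} ≤
      Nat.card (ConjClasses ↥(NN P)) := hA'
  have e2 : Nat.card {χ : IrrCharacter G // p ∣ charDegree χ.1} +
      Nat.card (ConjClasses (↥(NN P) ⧸ (P : Subgroup G).subgroupOf (NN P))) ≤
      Nat.card {c : ConjClasses G // ¬ p ∣ orderOf (Quotient.out c)} := hB
  have e3 : Nat.card {c : ConjClasses G // ¬ p ∣ orderOf (Quotient.out c)} +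
      Nat.card {c : ConjClasses G // p ∣ orderOf (Quotient.out c)} =
      Nat.card {χ : IrrCharacter G // p ∣ charDegree χ.1} +
        Nat.card {χ : IrrCharacter G // ¬ p ∣ charDegree χ.1} := hC1
  have e4 : Nat.card (ConjClasses ↥(NN P)) =
      Nat.card {c : ConjClasses ↥(NN P) // ¬ p ∣ orderOf (Quotient.out c)} +
        Nat.card {c : ConjClasses ↥(NN P) // p ∣ orderOf (Quotient.out c)} := hD1
  have e5 : Nat.card {c : ConjClasses ↥(NN P) // ¬ p ∣ orderOf (Quotient.out c)} ≤
      Nat.card (ConjClasses (↥(NN P) ⧸ (P : Subgroup G).subgroupOf (NN P))) := hD2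
  have e6 : Nat.card {c : ConjClasses ↥(NN P) // p ∣ orderOf (Quotient.out c)} ≤
      Nat.card {c : ConjClasses G // p ∣ orderOf (Quotient.out c)} := hD3
  show Nat.card {χ : IrrCharacter G // ¬ p ∣ charDegree χ.1} = Nat.card (ConjClasses ↥(NN P))
  clear hA hA' hB hC1 hD1 hD2 hD3
  omega

end Cfsg.Agent.S4502
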