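import Cfsg.Statements.S4441
import Cfsg.Agent.S4502
import Cfsg.Agent.H82.P1M
import Cfsg.Agent.H84.PrincipalPairs
import Cfsg.Agent.H81.Proj

set_option autoImplicit false
open Cfsg

namespace Cfsg.Agent.S4441

open Cfsg.Agent.H82 Cfsg.Agent.H82.BL Cfsg.Agent.H82.P1 in
/-- Let p be an odd prime and G a finite group whose Sylow p-subgroup P has order p; let C = C_G(P), N = N_G(P), e the index of C in N and t = (p − 1)/e; fix a maximal ideal M of the algebraic integers containing p and let B₀ be the principal block. Then B₀ is the disjoint union of a set X of e characters and a set Y of t characters such that: each χ ∈ X has a sign ε_χ with χ(1) ≡ ε_χ (mod p) and χ(x y) = ε_χ for every non-identity x ∈ P and every p-regular y ∈ C; all members of Y agree on the p-regular elements of G; there is one sign ε with θ(1) ≡ ε e (mod p) for every θ ∈ Y; and for every θ ∈ Y and every p-regular g, ε θ(g) = Σ_{χ ∈ X} ε_χ χ(g). -/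
theorem result {G : Type*} [Group G] [Fintype G] (p : ℕ) [Fact p.Prime] (M : Ideal Cfsg.AlgInt) (hM : Cfsg.IsPModular p M) (hodd : p ≠ 2) (P : Sylow p G) (hP : Nat.card P = p) (e : ℕ) (he : (Subgroup.centralizer ((P : Subgroup G) : Set G)).relIndex (Subgroup.normalizer ((P : Subgroup G) : Set G)) = e) : ∃ X Y : Set (Cfsg.IrrCharacter G), Cfsg.principalBlock M G = X ∪ Y ∧ Disjoint X Y ∧ Nat.card X = e ∧ Nat.card Y = (p - 1) / e ∧ ∃ (εX : Cfsg.IrrCharacter G → ℤ) (ε : ℤ), (∀ χ ∈ X, (εX χ = 1 ∨ εX χ = -1) ∧ (Cfsg.charDegree (χ : G → ℂ) : ℤ) ≡ εX χ [ZMOD p] ∧ ∀ x : G, x ∈ (P : Subgroup G) → x ≠ 1 → ∀ y : G, y ∈ Subgroup.centralizer ((P : Subgroup G) : Set G) → ¬ p ∣ orderOf y → (χ : G → ℂ) (x * y) = (εX χ : ℂ)) ∧ (ε = 1 ∨ ε = -1) ∧ (∀ θ ∈ Y, (Cfsg.charDegree (θ : G → ℂ) : ℤ) ≡ ε * (e : ℤ) [ZMOD p]) ∧ (∀ θ ∈ Y, ∀ θ' ∈ Y, ∀ g : G, ¬ p ∣ orderOf g → (θ : G → ℂ) g = (θ' : G → ℂ) g) ∧ ∀ θ ∈ Y, ∀ g : G, ¬ p ∣ orderOf g → (ε : ℂ) * (θ : G → ℂ) g = ∑ᶠ χ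 ∈ X, (εX χ : ℂ) * (χ : G → ℂ) g := by
  classical
  have hp : p.Prime := Fact.out
  obtain ⟨S⟩ := exists_setup_of_card P hP
  letI : Fintype ↥(NN P) := Fintype.ofFinite _
  letI : Fintype ↥(CC P) := Fintype.ofFinite _
  letI : Fintype (IrrCharacter G) := Cfsg.Agent.H4.fintypeIrr G
  letI : Fintype (IrrCharacter ↥(NN P)) := Cfsg.Agent.H4.fintypeIrr _
  letI : Fintype (IrrCharacter ↥(CC P)) := Cfsg.Agent.H4.fintypeIrr _
  letI : Fintype ↥((P : Subgroup G).subgroupOf (CC P)) := Fintype.ofFinite _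
  have hcomm : ∀ a b : ↥((P : Subgroup G).subgroupOf (CC P)), a * b = b * a := by
    intro a b
    apply Subtype.ext
    apply Subtype.ext
    have := S.cent (a : G) (Subgroup.mem_subgroupOf.mp a.2) (b : G) (b : ↥(CC P)).2
    simpa using this
  haveI : Finite (↥((P : Subgroup G).subgroupOf (CC P)) →* ℂˣ) := (card_hom_units hcomm).1
  letI : Fintype (↥((P : Subgroup G).subgroupOf (CC P)) →* ℂˣ) := Fintype.ofFinite _
  have hP' : Nat.card ↥(P : Subgroup G) = p := hP
  -- the count `k_{p'}(G) = k(N)`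
  have hdiv : p ∣ Nat.card G := by
    rw [Cfsg.Agent.H82.Md.sylp_card P hP]
    exact dvd_mul_right _ _
  have hsq : ¬ p ^ 2 ∣ Nat.card G := by
    rw [Cfsg.Agent.H82.Md.sylp_card P hP, pow_two]
    intro h
    exact Cfsg.Agent.H82.Md.sylp_not_dvd_index P hP ((Nat.mul_dvd_mul_iff_left hp.pos).mp h)
  have hcount := Cfsg.Agent.S4502.result p hdiv hsq P
  have heq : Fintype.card (IrrCharacter ↥(NN P)) ≤
      (Finset.univ.filter fun χ : IrrCharacter G =>
        ¬ Nat.card ↥(P : Subgroup G) ∣ charDegree χ.1).card := by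
    rw [hP']
    have h := hcount
    rw [← Cfsg.Agent.H4.card_irr_eq_card_conjClasses, Nat.card_eq_fintype_card,
      Nat.card_eq_fintype_card, Fintype.card_subtype] at h
    exact h.symm.le
  obtain ⟨w, Y, s, hw, hwc, hY0, hYcard, hs, hreg, hsing, hregid⟩ :=
    principal_structure S hp hP' (isCyclic_norm_mod_cent P hP S) heq
  have hind : ind S = e := by
    rw [← he]
    have h1 := ind_mul S
    have h2 : Nat.card ((CC P).subgroupOf (NN P)) * ((CC P).subgroupOf (NN P)).index =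
        Nat.card (NN P) := Subgroup.card_mul_index _
    have h3 : Nat.card ((CC P).subgroupOf (NN P)) = Nat.card (CC P) :=
      Nat.card_congr (Subgroup.subgroupOfEquivOfLe S.hCN).toEquiv
    rw [h3] at h2
    have h4 : ind S * Nat.card (CC P) =
        ((CC P).subgroupOf (NN P)).index * Nat.card (CC P) := by
      rw [h1, ← h2, mul_comm]
    exact Nat.eq_of_mul_eq_mul_right Nat.card_pos h4
  have h1ne : ¬ p ∣ orderOf (1 : G) := by
    rw [orderOf_one]
    exact fun h => hp.ne_one (Nat.dvd_one.mp h)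
  refine ⟨{χ | w χ ≠ 0}, {χ | χ ∈ Y}, ?_, ?_, ?_, ?_, w, s, ?_, hs, ?_, ?_, ?_⟩
  · ext χ
    rw [Cfsg.Agent.H84.mem_principalBlock_iff_regSum hM χ]
    have e1 : Cfsg.Agent.H84.regSum p χ.1 = ∑ g : G, if p ∣ orderOf g then 0 else χ.1 g := by
      unfold Cfsg.Agent.H84.regSum
      refine Finset.sum_congr rfl fun g _ => ?_
      by_cases hg : p ∣ orderOf g
      · rw [if_pos hg, Cfsg.Agent.H81.pRegularPart_of_dvd p _ hg]
      · rw [if_neg hg, Cfsg.Agent.H81.pRegularPart_of_not_dvd p _ hg]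
    rw [e1, hreg χ]
    rfl
  · exact Set.disjoint_left.mpr (fun χ hX hY' => hX (hY0 χ hY'))
  · show Nat.card {χ : IrrCharacter G // w χ ≠ 0} = e
    rw [Nat.card_eq_fintype_card, Fintype.card_subtype, hwc, hind]
  · have h1 : Nat.card ↥{χ : IrrCharacter G | χ ∈ Y} = Y.card := by
      show Nat.card {χ : IrrCharacter G // χ ∈ Y} = Y.card
      rw [Nat.card_eq_fintype_card, Fintype.card_coe]
    rw [h1]
    rw [hind] at hYcard
    exact (Nat.div_eq_of_eq_mul_left (by rw [← hind]; exact ind_pos S) hYcard.symm).symm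
  · intro χ hχ
    have hwχ : w χ ≠ 0 := hχ
    refine ⟨?_, ?_, ?_⟩
    · rcases hw χ with h | h | h
      · exact absurd h hwχ
      · exact Or.inl h
      · exact Or.inr h
    · exact deg_modEq S hP' χ (w χ) (hsing χ hwχ)
    · intro x hx hx1 y hy hyreg
      have hxC : x ∈ CC P := S.hPC hx
      obtain ⟨xD, hxD⟩ : ∃ xD : ↥((P : Subgroup G).subgroupOf (CC P)),
          xD = ⟨⟨x, hxC⟩, Subgroup.mem_subgroupOf.mpr hx⟩ := ⟨_, rfl⟩
      obtain ⟨c, hc⟩ : ∃ c : ↥(CC P), c = (⟨x, hxC⟩ : ↥(CC P)) * ⟨y, hy⟩ := ⟨_, rfl⟩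
      have hρ : S.ρ c = xD := by
        rw [hc, map_mul]
        have h1 : S.ρ (⟨x, hxC⟩ : ↥(CC P)) = xD := by
          have := S.hρ xD
          rw [hxD] at this ⊢
          exact this
        have h2 : S.ρ (⟨y, hy⟩ : ↥(CC P)) = 1 := (S.hreg ⟨y, hy⟩).mp hyreg
        rw [h1, h2, mul_one]
      have hsingc : p ∣ orderOf (c : G) := by
        by_contra hreg'
        have h3 := (S.hreg c).mp hreg'
        rw [hρ, hxD] at h3
        apply hx1
        have h4 := congrArg
          (fun z : ↥((P : Subgroup G).subgroupOf (CC P)) => ((z : ↥(CC P)) : G)) h3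
        exact h4
      have h5 := hsing χ hwχ c hsingc
      rw [hc] at h5
      exact h5
  · intro θ hθ
    have h1 := hregid θ hθ 1 h1ne
    have h2 : ((s * (charDegree θ.1 : ℤ) : ℤ) : ℂ) =
        ((∑ χ : IrrCharacter G, w χ * (charDegree χ.1 : ℤ) : ℤ) : ℂ) := by
      push_cast
      rw [← Cfsg.Agent.H82.irr_one_eq_charDegree θ, h1]
      refine Finset.sum_congr rfl fun χ _ => ?_
      rw [Cfsg.Agent.H82.irr_one_eq_charDegree]
    have h3 : s * (charDegree θ.1 : ℤ) = ∑ χ : IrrCharacter G, w χ * (charDegree χ.1 : ℤ) := by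
      exact_mod_cast h2
    have h4 : (∑ χ : IrrCharacter G, w χ * (charDegree χ.1 : ℤ)) ≡ (e : ℤ) [ZMOD p] := by
      have h5 : (e : ℤ) = ∑ χ : IrrCharacter G, w χ * w χ := by
        rw [← hind, ← hwc, Finset.card_filter]
        push_cast
        refine Finset.sum_congr rfl fun χ _ => ?_
        rcases hw χ with h | h | h <;> rw [h] <;> simp
      rw [Int.modEq_iff_dvd, h5, ← Finset.sum_sub_distrib]
      apply Finset.dvd_sum
      intro χ _
      by_cases hwχ : w χ = 0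
      · rw [hwχ]
        simp
      · have h6 := Int.modEq_iff_dvd.mp (deg_modEq S hP' χ (w χ) (hsing χ hwχ))
        rw [← mul_sub]
        exact dvd_mul_of_dvd_right h6 _
    have h6 : s * s = 1 := by
      rcases hs with h | h <;> rw [h] <;> norm_num
    have h7 : (charDegree θ.1 : ℤ) = s * (s * (charDegree θ.1 : ℤ)) := by
      rw [← mul_assoc, h6, one_mul]
    rw [h7, h3]
    exact Int.ModEq.mul_left _ h4
  · intro θ hθ θ' hθ' g hg
    have h1 := hregid θ hθ g hg
    have h2 := hregid θ' hθ' g hg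
    have hs0 : (s : ℂ) ≠ 0 := by
      rcases hs with h | h <;> rw [h] <;> norm_num
    exact mul_left_cancel₀ hs0 (h1.trans h2.symm)
  · intro θ hθ g hg
    rw [hregid θ hθ g hg, finsum_mem_def, finsum_eq_sum_of_fintype]
    refine Finset.sum_congr rfl fun χ _ => ?_
    rw [Set.indicator_apply]
    split_ifs with h
    · rfl
    · have h0 : w χ = 0 := not_not.mp h
      rw [h0]
      simp

end Cfsg.Agent.S4441
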