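import Cfsg.Statements.S4729
import Cfsg.Agent.H5.EigDet
import Cfsg.Agent.H82.Irr
import Cfsg.Agent.H20.LocalRing

set_option autoImplicit false
open Cfsg

namespace Cfsg.Agent.S4729

/-- Let p be a prime, M a maximal ideal of the algebraic integers containing p, G a finite perfect group and P a Sylow p-subgroup. If the principal p-block of G contains a faithful irreducible character of degree less than 2p, then the centralizer of P is a p-group. -/
theorem result {G : Type*} [Group G] [Finite G] (p : ℕ) [Fact p.Prime] (M : Ideal Cfsg.AlgInt) (hM : Cfsg.IsPModular p M) (hperf : commutator G = ⊤) (P : Sylow p G) (χ : Cfsg.IrrCharacter G) (hχ : χ ∈ Cfsg.principalBlock M G) (hfaith : ∀ g : G, (χ : G → ℂ) g = (χ : G → ℂ) 1 → g = 1) (hdeg : Cfsg.charDegree (χ : G → ℂ) < 2 * p) : IsPGroup p ↥(Subgroup.centralizer ((P : Subgroup G) : Set G)) := by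
  classical
  have hMp := Cfsg.Agent.H20.isPrime_of_isPModular hM
  have hp : p.Prime := Fact.out
  obtain ⟨n, ρ, -, hρ, hn, h1, h2⟩ := Cfsg.Agent.H82.irr_rep χ
  -- key: every `p`-regular element of the centralizer is trivial
  have key : ∀ x : G, x ∈ Subgroup.centralizer ((P : Subgroup G) : Set G) →
      ¬ p ∣ orderOf x → x = 1 := by
    intro x hxC hxp
    have hm : 0 < orderOf x := orderOf_pos x
    -- (i) congruences
    have hcong : ∀ k : ℕ, Cfsg.MemLocalIdeal M ((χ : G → ℂ) (x ^ k) - (χ : G → ℂ) 1) := by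
      intro k
      have hyC : x ^ k ∈ Subgroup.centralizer ((P : Subgroup G) : Set G) := pow_mem hxC k
      have hPle : (P : Subgroup G) ≤ Subgroup.centralizer ({x ^ k} : Set G) := by
        intro q hq
        rw [Subgroup.mem_centralizer_singleton_iff]
        exact Subgroup.mem_centralizer_iff.mp hyC q hq
      have hN : ¬ p ∣ (Subgroup.centralizer ({x ^ k} : Set G)).index := fun hdvd =>
        P.not_dvd_index (dvd_trans hdvd (Subgroup.index_dvd_of_le hPle))
      have h3 := hχ (x ^ k)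
      unfold Cfsg.centralChar at h3
      have hχ1 : (χ : G → ℂ) 1 ≠ 0 := Cfsg.Agent.H82.irr_one_ne_zero χ
      have hint : ∀ g : G, Cfsg.MemLocalRing M ((χ : G → ℂ) g) := fun g =>
        Cfsg.Agent.H20.memLocalRing_algInt hMp ⟨_, Cfsg.Agent.H82.irr_isIntegral χ g⟩
      have h4 := Cfsg.Agent.H20.memLocalIdeal_mul_left hMp (hint 1) h3
      have e : (χ : G → ℂ) 1 * (((Subgroup.centralizer ({x ^ k} : Set G)).index : ℂ) * 1 / 1 -
          ((Subgroup.centralizer ({x ^ k} : Set G)).index : ℂ) * (χ : G → ℂ) (x ^ k) /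
            (χ : G → ℂ) 1)
          = ((Subgroup.centralizer ({x ^ k} : Set G)).index : ℂ) *
            ((χ : G → ℂ) 1 - (χ : G → ℂ) (x ^ k)) := by
        field_simp
      rw [e] at h4
      rcases Cfsg.Agent.H20.memLocalIdeal_or_of_mul hMp (Cfsg.Agent.H20.memLocalRing_natCast hMp _)
        (Cfsg.Agent.H20.memLocalRing_sub hMp (hint 1) (hint _)) h4 with h5 | h5
      · exact absurd ((Cfsg.Agent.H20.memLocalIdeal_natCast_iff hM _).mp h5) hN
      · have := Cfsg.Agent.H20.memLocalIdeal_neg h5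
        rwa [neg_sub] at this
    -- (ii) multiplicities of nontrivial eigenvalues are divisible by p
    have hdvd : ∀ ζ ∈ Cfsg.Agent.H4.eigFinset ρ x, ζ ≠ 1 →
        p ∣ Cfsg.Agent.H4.eigMult ρ x ζ := by
      intro ζ hζ hζ1
      have hζm : ζ ^ orderOf x = 1 := Cfsg.Agent.H4.eigFinset_pow_orderOf ρ hζ
      have hζ0 : ζ ≠ 0 := by
        intro h0
        rw [h0, zero_pow hm.ne'] at hζm
        exact zero_ne_one hζm
      have hinv_m : ζ⁻¹ ^ orderOf x = 1 := by rw [inv_pow, hζm, inv_one]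
      have hinv1 : ζ⁻¹ ≠ 1 := fun h => hζ1 (by rw [← inv_inv ζ, h, inv_one])
      have hgeom : ∀ r : ℂ, r ^ orderOf x = 1 → r ≠ 1 →
          ∑ k ∈ Finset.range (orderOf x), r ^ k = 0 := by
        intro r hr hr1
        rw [geom_sum_eq hr1, hr, sub_self, zero_div]
      have e1 : ∑ k ∈ Finset.range (orderOf x), (χ : G → ℂ) (x ^ k) * ζ⁻¹ ^ k
          = ((orderOf x * Cfsg.Agent.H4.eigMult ρ x ζ : ℕ) : ℂ) := by
        have : ∀ k ∈ Finset.range (orderOf x), (χ : G → ℂ) (x ^ k) * ζ⁻¹ ^ k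
            = ∑ μ ∈ Cfsg.Agent.H4.eigFinset ρ x,
              (Cfsg.Agent.H4.eigMult ρ x μ : ℂ) * (μ * ζ⁻¹) ^ k := by
          intro k _
          rw [← hρ, Cfsg.Agent.H4.character_pow, Finset.sum_mul]
          apply Finset.sum_congr rfl
          intro μ _
          rw [mul_pow]
          ring
        rw [Finset.sum_congr rfl this, Finset.sum_comm]
        have : ∀ μ ∈ Cfsg.Agent.H4.eigFinset ρ x, ∑ k ∈ Finset.range (orderOf x),
            (Cfsg.Agent.H4.eigMult ρ x μ : ℂ) * (μ * ζ⁻¹) ^ k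
            = if μ = ζ then ((orderOf x * Cfsg.Agent.H4.eigMult ρ x ζ : ℕ) : ℂ) else 0 := by
          intro μ hμ
          rw [← Finset.mul_sum]
          by_cases hμζ : μ = ζ
          · rw [if_pos hμζ, hμζ, mul_inv_cancel₀ hζ0]
            simp
            ring
          · rw [if_neg hμζ, hgeom, mul_zero]
            · rw [mul_pow, Cfsg.Agent.H4.eigFinset_pow_orderOf ρ hμ, hinv_m, one_mul]
            · intro h
              apply hμζ
              have := congrArg (· * ζ) h
              simpa [mul_assoc, inv_mul_cancel₀ hζ0] using this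
        rw [Finset.sum_congr rfl this, Finset.sum_ite_eq' _ ζ, if_pos hζ]
      have e2 : ∑ k ∈ Finset.range (orderOf x), (χ : G → ℂ) (x ^ k) * ζ⁻¹ ^ k
          = ∑ k ∈ Finset.range (orderOf x), ((χ : G → ℂ) (x ^ k) - (χ : G → ℂ) 1) * ζ⁻¹ ^ k := by
        have : ∑ k ∈ Finset.range (orderOf x), ((χ : G → ℂ) (x ^ k) - (χ : G → ℂ) 1) * ζ⁻¹ ^ k
            = ∑ k ∈ Finset.range (orderOf x), (χ : G → ℂ) (x ^ k) * ζ⁻¹ ^ k
              - (χ : G → ℂ) 1 * ∑ k ∈ Finset.range (orderOf x), ζ⁻¹ ^ k := by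
          rw [Finset.mul_sum, ← Finset.sum_sub_distrib]
          apply Finset.sum_congr rfl
          intro k _
          ring
        rw [this, hgeom _ hinv_m hinv1, mul_zero, sub_zero]
      have hζint : IsIntegral ℤ ζ⁻¹ := by
        refine IsIntegral.of_pow hm ?_
        rw [hinv_m]
        exact isIntegral_one
      have h3 : Cfsg.MemLocalIdeal M ((orderOf x * Cfsg.Agent.H4.eigMult ρ x ζ : ℕ) : ℂ) := by
        rw [← e1, e2]
        apply Cfsg.Agent.H20.memLocalIdeal_sum hMp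
        intro k _
        exact Cfsg.Agent.H20.memLocalIdeal_mul_right hMp (hcong k)
          (Cfsg.Agent.H20.memLocalRing_pow hMp
            (Cfsg.Agent.H20.memLocalRing_algInt hMp ⟨_, hζint⟩) k)
      have h4 := (Cfsg.Agent.H20.memLocalIdeal_natCast_iff hM _).mp h3
      rcases (Nat.Prime.dvd_mul hp).mp h4 with h5 | h5
      · exact absurd h5 hxp
      · exact h5
    -- (iii) total multiplicity
    have hsum : ∑ μ ∈ Cfsg.Agent.H4.eigFinset ρ x, Cfsg.Agent.H4.eigMult ρ x μ = n := by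
      rw [Cfsg.Agent.H4.sum_eigMult]
      simp
    have hdeg' : n < 2 * p := by rw [← h2]; exact hdeg
    -- (iv) all eigenvalues are 1
    have hall : ∀ ζ ∈ Cfsg.Agent.H4.eigFinset ρ x, ζ = 1 := by
      by_contra hcon
      push Not at hcon
      obtain ⟨ζ₀, hζ₀, hζ₀1⟩ := hcon
      have hpos := Cfsg.Agent.H4.eigMult_pos ρ hζ₀
      have hge : p ≤ Cfsg.Agent.H4.eigMult ρ x ζ₀ := Nat.le_of_dvd hpos (hdvd ζ₀ hζ₀ hζ₀1)
      have hle : Cfsg.Agent.H4.eigMult ρ x ζ₀ ≤ n :=
        le_of_le_of_eq (Finset.single_le_sum (f := fun μ => Cfsg.Agent.H4.eigMult ρ x μ)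
          (fun _ _ => Nat.zero_le _) hζ₀) hsum
      have hother : ∀ μ ∈ Cfsg.Agent.H4.eigFinset ρ x, μ ≠ ζ₀ → μ = 1 := by
        intro μ hμ hμζ
        by_contra hμ1
        have hposμ := Cfsg.Agent.H4.eigMult_pos ρ hμ
        have hgeμ : p ≤ Cfsg.Agent.H4.eigMult ρ x μ := Nat.le_of_dvd hposμ (hdvd μ hμ hμ1)
        have h2le' : Cfsg.Agent.H4.eigMult ρ x μ + Cfsg.Agent.H4.eigMult ρ x ζ₀
            ≤ ∑ ν ∈ Cfsg.Agent.H4.eigFinset ρ x, Cfsg.Agent.H4.eigMult ρ x ν := by
          rw [← Finset.sum_pair (f := fun ν => Cfsg.Agent.H4.eigMult ρ x ν) hμζ]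
          apply Finset.sum_le_sum_of_subset
          intro a ha
          rw [Finset.mem_insert, Finset.mem_singleton] at ha
          rcases ha with rfl | rfl
          · exact hμ
          · exact hζ₀
        have h2le : Cfsg.Agent.H4.eigMult ρ x μ + Cfsg.Agent.H4.eigMult ρ x ζ₀ ≤ n :=
          le_of_le_of_eq h2le' hsum
        omega
      have heq : Cfsg.Agent.H4.eigMult ρ x ζ₀ = p := by
        obtain ⟨c, hc⟩ := hdvd ζ₀ hζ₀ hζ₀1
        have hc1 : c = 1 := by
          rcases Nat.lt_or_ge c 1 with h | h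
          · have : c = 0 := by omega
            rw [this, mul_zero] at hc
            omega
          · rcases Nat.lt_or_ge c 2 with h' | h'
            · omega
            · have : 2 * p ≤ p * c := by
                calc 2 * p = p * 2 := by ring
                  _ ≤ p * c := Nat.mul_le_mul_left p h'
              omega
        rw [hc, hc1, mul_one]
      have hdet := Cfsg.Agent.H5.EigDet.det_eq_prod_eig ρ x
      rw [Cfsg.Agent.H5.EigDet.det_eq_one_of_perfect ρ hperf x,
        Finset.prod_eq_single ζ₀ (fun μ hμ hμζ => by rw [hother μ hμ hμζ, one_pow])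
          (fun h => absurd hζ₀ h), heq] at hdet
      have hζm : ζ₀ ^ orderOf x = 1 := Cfsg.Agent.H4.eigFinset_pow_orderOf ρ hζ₀
      have hcop : Nat.Coprime p (orderOf x) := (Nat.Prime.coprime_iff_not_dvd hp).mpr hxp
      have := pow_gcd_eq_one.mpr ⟨hdet.symm, hζm⟩
      rw [hcop, pow_one] at this
      exact hζ₀1 this
    -- (v)
    apply hfaith
    rw [h1, ← hρ, Cfsg.Agent.H4.character_eq_sum]
    have : ∑ μ ∈ Cfsg.Agent.H4.eigFinset ρ x, (Cfsg.Agent.H4.eigMult ρ x μ : ℂ) * μ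
        = ∑ μ ∈ Cfsg.Agent.H4.eigFinset ρ x, (Cfsg.Agent.H4.eigMult ρ x μ : ℂ) := by
      apply Finset.sum_congr rfl
      intro μ hμ
      rw [hall μ hμ, mul_one]
    rw [this]
    have h5 := congrArg (fun t : ℕ => (t : ℂ)) hsum
    push_cast at h5
    exact h5
  -- conclude
  intro c
  obtain ⟨k, m, hpm, hkm⟩ := Nat.exists_eq_pow_mul_and_not_dvd (orderOf_pos (c : G)).ne' p
    hp.ne_one
  refine ⟨k, ?_⟩
  apply Subtype.ext
  have hcp : ((c ^ p ^ k : Subgroup.centralizer ((P : Subgroup G) : Set G)) : G)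
      = (c : G) ^ p ^ k := rfl
  rw [hcp, OneMemClass.coe_one]
  apply key _ (pow_mem c.2 _)
  rw [orderOf_pow' _ (pow_ne_zero k hp.ne_zero), hkm, Nat.gcd_eq_right (Dvd.intro _ rfl),
    Nat.mul_div_cancel_left _ (pow_pos hp.pos k)]
  exact hpm

end Cfsg.Agent.S4729
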