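import Cfsg.Statements.S0828
import Cfsg.Agent.H99.SympBasic

set_option autoImplicit false
set_option linter.unusedSectionVars false
open Cfsg

namespace Cfsg.Agent.S0828

theorem double_count {α β : Type*} [Finite α] [Finite β] (r : α → β → Prop) (a b : ℕ)
    (h1 : ∀ x, Nat.card {y // r x y} = a) (h2 : ∀ y, Nat.card {x // r x y} = b) :
    Nat.card α * a = Nat.card β * b := by
  classical
  have := Fintype.ofFinite α
  have := Fintype.ofFinite β
  have e1 : Nat.card {p : α × β // r p.1 p.2} = Nat.card α * a := by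
    rw [Nat.card_congr (Equiv.subtypeProdEquivSigmaSubtype r), Nat.card_sigma]
    simp only [h1, Finset.sum_const, Finset.card_univ, smul_eq_mul, Nat.card_eq_fintype_card]
  have e2 : Nat.card {p : α × β // r p.1 p.2} = Nat.card β * b := by
    rw [Nat.card_congr ((Equiv.prodComm α β).subtypeEquiv (p := fun p => r p.1 p.2)
      (q := fun p => r p.2 p.1) (fun _ => Iff.rfl)),
      Nat.card_congr (Equiv.subtypeProdEquivSigmaSubtype (fun y x => r x y)), Nat.card_sigma]
    simp only [h2, Finset.sum_const, Finset.card_univ, smul_eq_mul, Nat.card_eq_fintype_card]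
  rw [← e1, e2]

theorem double_count' {A B : Type*} [Finite A] [Finite B] (p : A → Prop) (q : B → Prop)
    (r : A → B → Prop) (a b : ℕ) (h1 : ∀ x, p x → Nat.card {y // q y ∧ r x y} = a)
    (h2 : ∀ y, q y → Nat.card {x // p x ∧ r x y} = b) :
    Nat.card {x // p x} * a = Nat.card {y // q y} * b := by
  apply double_count (fun (x : {x // p x}) (y : {y // q y}) => r x.1 y.1)
  · intro x
    rw [← h1 x.1 x.2]
    exact Nat.card_congr (Equiv.subtypeSubtypeEquivSubtypeInter q (fun y => r x.1 y))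
  · intro y
    rw [← h2 y.1 y.2]
    exact Nat.card_congr (Equiv.subtypeSubtypeEquivSubtypeInter p (fun x => r x y.1))

section
variable {F V : Type*} [Field F] [Fintype F] [AddCommGroup V] [Module F V] [Finite V]

theorem card_sub_diff (P L : Submodule F V) (h : L ≤ P) :
    Nat.card {u : V // u ∈ P ∧ u ∉ L} =
      Fintype.card F ^ Module.finrank F P - Fintype.card F ^ Module.finrank F L := by
  have h1 : Nat.card {u : V // u ∈ P ∧ u ∉ L} = ((P : Set V) \ (L : Set V)).ncard := by
    rw [← Nat.card_coe_set_eq]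
    rfl
  rw [h1, Set.ncard_sdiff (fun x hx => h hx), ← Nat.card_coe_set_eq, ← Nat.card_coe_set_eq]
  have h2 : Nat.card (P : Set V) = Nat.card P := rfl
  have h3 : Nat.card (L : Set V) = Nat.card L := rfl
  rw [h2, h3, Module.natCard_eq_pow_finrank (K := F) (V := P),
    Module.natCard_eq_pow_finrank (K := F) (V := L),
    Nat.card_eq_fintype_card]

theorem card_sub_nonzero (P : Submodule F V) :
    Nat.card {u : V // u ≠ 0 ∧ u ∈ P} = Fintype.card F ^ Module.finrank F P - 1 := by
  have := card_sub_diff P ⊥ bot_le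
  rw [finrank_bot, pow_zero] at this
  rw [← this]
  exact Nat.card_congr (Equiv.subtypeEquivRight (fun u => by rw [Submodule.mem_bot]; tauto))

variable (B : LinearMap.BilinForm F V)

theorem span_pair_finrank (v u : V) (hv : v ≠ 0) (hu : u ∉ Submodule.span F {v}) :
    Module.finrank F (Submodule.span F {v, u}) = 2 := by
  classical
  have hlt : Submodule.span F {v} < Submodule.span F {v, u} := by
    refine lt_of_le_of_ne (Submodule.span_mono (by simp)) ?_
    intro h
    apply hu
    rw [h]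
    exact Submodule.subset_span (by simp)
  have h1 := Submodule.finrank_lt_finrank_of_lt hlt
  rw [finrank_span_singleton hv] at h1
  have h2 : Module.finrank F (Submodule.span F ({v, u} : Set V)) ≤ 2 := by
    have := finrank_span_finset_le_card (R := F) ({v, u} : Finset V)
    have h3 : (({v, u} : Finset V) : Set V) = {v, u} := by simp
    rw [h3] at this
    exact this.trans Finset.card_le_two
  omega

theorem span_pair_ti (hA : B.IsAlt) (v u : V) (hvu : B v u = 0) :
    ∀ x ∈ Submodule.span F {v, u}, ∀ y ∈ Submodule.span F {v, u}, B x y = 0 := by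
  intro x hx y hy
  rw [Submodule.mem_span_pair] at hx hy
  obtain ⟨a, b, rfl⟩ := hx
  obtain ⟨c, d, rfl⟩ := hy
  have huv : B u v = 0 := by rw [← hA.neg_eq, hvu, neg_zero]
  simp [hvu, huv, hA.self_eq_zero]

theorem eq_span_pair (W : Submodule F V) (hW : Module.finrank F W = 2) (v u : V) (hv : v ≠ 0)
    (hvW : v ∈ W) (huW : u ∈ W) (hu : u ∉ Submodule.span F {v}) :
    W = Submodule.span F {v, u} := by
  symm
  apply Submodule.eq_of_le_of_finrank_eq
  · rw [Submodule.span_le]
    rintro x (rfl | rfl)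
    · exact hvW
    · exact huW
  · rw [span_pair_finrank v u hv hu, hW]

theorem finrank_ker (hnd : ∀ v : V, v ≠ 0 → ∃ w, B v w ≠ 0) (v : V) (hv : v ≠ 0) :
    Module.finrank F (LinearMap.ker (B v)) + 1 = Module.finrank F V := by
  have h1 := LinearMap.finrank_range_add_finrank_ker (B v)
  have h2 : LinearMap.range (B v) = ⊤ := by
    rw [LinearMap.range_eq_top]
    intro c
    obtain ⟨w, hw⟩ := hnd v hv
    exact ⟨(c / B v w) • w, by rw [map_smul, smul_eq_mul, div_mul_cancel₀ _ hw]⟩
  rw [h2, finrank_top, Module.finrank_self] at h1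
  omega

theorem count_through (hA : B.IsAlt) (hnd : ∀ v : V, v ≠ 0 → ∃ w, B v w ≠ 0) (v : V)
    (hv : v ≠ 0) :
    Nat.card {W : Submodule F V // Module.finrank F W = 2 ∧ v ∈ W ∧
        ∀ u ∈ W, ∀ w ∈ W, B u w = 0} * (Fintype.card F ^ 2 - Fintype.card F) =
      Fintype.card F ^ (Module.finrank F V - 1) - Fintype.card F := by
  have hle : Submodule.span F {v} ≤ LinearMap.ker (B v) := by
    rw [Submodule.span_singleton_le_iff_mem, LinearMap.mem_ker]
    exact hA.self_eq_zero v
  have key := double_count' (A := V) (B := Submodule F V)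
    (fun u => u ∈ LinearMap.ker (B v) ∧ u ∉ Submodule.span F {v})
    (fun W => Module.finrank F W = 2 ∧ v ∈ W ∧ ∀ u ∈ W, ∀ w ∈ W, B u w = 0)
    (fun u W => u ∈ W) 1 (Fintype.card F ^ 2 - Fintype.card F) ?_ ?_
  · rw [← key, mul_one, card_sub_diff _ _ hle, finrank_span_singleton hv, pow_one]
    congr 2
    have := finrank_ker B hnd v hv
    omega
  · rintro u ⟨hu1, hu2⟩
    rw [LinearMap.mem_ker] at hu1
    rw [Nat.card_eq_one_iff_unique]
    constructor
    · constructor
      rintro ⟨W, ⟨hW, hvW, -⟩, huW⟩ ⟨W', ⟨hW', hvW', -⟩, huW'⟩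
      apply Subtype.ext
      show W = W'
      rw [eq_span_pair W hW v u hv hvW huW hu2, eq_span_pair W' hW' v u hv hvW' huW' hu2]
    · exact ⟨⟨Submodule.span F {v, u}, ⟨span_pair_finrank v u hv hu2,
        Submodule.subset_span (by simp), span_pair_ti B hA v u hu1⟩,
        Submodule.subset_span (by simp)⟩⟩
  · rintro W ⟨hW, hvW, hti⟩
    have hle' : Submodule.span F {v} ≤ W := by
      rw [Submodule.span_singleton_le_iff_mem]
      exact hvW
    have := card_sub_diff W _ hle'
    rw [hW, finrank_span_singleton hv, pow_one] at this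
    rw [← this]
    refine Nat.card_congr (Equiv.subtypeEquivRight (fun u => ?_))
    constructor
    · rintro ⟨⟨-, h2⟩, h3⟩
      exact ⟨h3, h2⟩
    · rintro ⟨h3, h2⟩
      exact ⟨⟨LinearMap.mem_ker.mpr (hti v hvW u h3), h2⟩, h3⟩

theorem count_all (N : ℕ)
    (hN : ∀ v : V, v ≠ 0 → Nat.card {W : Submodule F V // Module.finrank F W = 2 ∧ v ∈ W ∧
        ∀ u ∈ W, ∀ w ∈ W, B u w = 0} = N) :
    (Fintype.card F ^ Module.finrank F V - 1) * N =
      Nat.card {W : Submodule F V // Module.finrank F W = 2 ∧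
        ∀ u ∈ W, ∀ w ∈ W, B u w = 0} * (Fintype.card F ^ 2 - 1) := by
  have key := double_count' (A := V) (B := Submodule F V)
    (fun v => v ≠ 0)
    (fun W => Module.finrank F W = 2 ∧ ∀ u ∈ W, ∀ w ∈ W, B u w = 0)
    (fun u W => u ∈ W) N (Fintype.card F ^ 2 - 1) ?_ ?_
  · rw [← key]
    congr 1
    have := card_sub_nonzero (F := F) (⊤ : Submodule F V)
    rw [finrank_top] at this
    rw [← this]
    exact Nat.card_congr (Equiv.subtypeEquivRight (fun u => by simp))
  · intro v hv
    rw [← hN v hv]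
    exact Nat.card_congr (Equiv.subtypeEquivRight (fun W => by tauto))
  · rintro W ⟨hW, -⟩
    have := card_sub_nonzero (F := F) W
    rw [hW] at this
    exact this

end

theorem result {F : Type*} [Field F] [Fintype F] {q : ℕ} (hF : Fintype.card F = q) : Nat.card {W : Submodule F (Fin 2 ⊕ Fin 2 → F) // Module.finrank F W = 2 ∧ ∀ u ∈ W, ∀ v ∈ W, Cfsg.sympForm 2 F u v = 0} = (q + 1) * (q ^ 2 + 1) ∧ ∀ v : Fin 2 ⊕ Fin 2 → F, v ≠ 0 → Nat.card {W : Submodule F (Fin 2 ⊕ Fin 2 → F) // Module.finrank F W = 2 ∧ v ∈ W ∧ ∀ u ∈ W, ∀ w ∈ W, Cfsg.sympForm 2 F u w = 0} = q + 1 := by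
  subst hF
  have hq : 2 ≤ Fintype.card F := Fintype.one_lt_card
  obtain ⟨t, ht⟩ : ∃ t, Fintype.card F = t + 2 := ⟨Fintype.card F - 2, by omega⟩
  have hdim : Module.finrank F (Fin 2 ⊕ Fin 2 → F) = 4 := by simp
  have hA := Cfsg.Agent.H99.sympBilin_isAlt (F := F) 2
  have hnd := Cfsg.Agent.H99.sympBilin_nondeg (F := F) 2
  have hthrough : ∀ v : Fin 2 ⊕ Fin 2 → F, v ≠ 0 →
      Nat.card {W : Submodule F (Fin 2 ⊕ Fin 2 → F) // Module.finrank F W = 2 ∧ v ∈ W ∧
        ∀ u ∈ W, ∀ w ∈ W, Cfsg.Agent.H99.sympBilin 2 F u w = 0} = Fintype.card F + 1 := by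
    intro v hv
    have h1 := count_through (Cfsg.Agent.H99.sympBilin 2 F) hA hnd v hv
    rw [hdim, ht] at h1
    rw [ht]
    have e1 : (t + 2) ^ 2 - (t + 2) = (t + 2) * (t + 1) := by
      rw [Nat.sub_eq_iff_eq_add (by nlinarith)]; ring
    have e2 : (t + 2) ^ (4 - 1) - (t + 2) = (t + 2 + 1) * ((t + 2) * (t + 1)) := by
      rw [Nat.sub_eq_iff_eq_add (by norm_num; nlinarith [sq_nonneg t])]; ring
    rw [e1, e2] at h1
    exact Nat.eq_of_mul_eq_mul_right (by positivity) h1
  have hall := count_all (Cfsg.Agent.H99.sympBilin 2 F) (Fintype.card F + 1) hthrough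
  simp only [Cfsg.Agent.H99.sympBilin_apply] at hthrough hall
  refine ⟨?_, hthrough⟩
  rw [hdim, ht] at hall
  rw [ht]
  have e3 : (t + 2) ^ 2 - 1 = (t + 1) * (t + 3) := by
    rw [Nat.sub_eq_iff_eq_add (by nlinarith)]; ring
  have e4 : ((t + 2) ^ 4 - 1) * (t + 2 + 1) = (t + 2 + 1) * ((t + 2) ^ 2 + 1) * ((t + 1) * (t + 3)) := by
    have : (t + 2) ^ 4 - 1 = ((t + 2) ^ 2 + 1) * ((t + 1) * (t + 3)) := by
      rw [Nat.sub_eq_iff_eq_add (Nat.one_le_pow 4 (t + 2) (by omega))]; ring
    rw [this]; ring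
  rw [e3, e4] at hall
  exact (Nat.eq_of_mul_eq_mul_right (by positivity) hall).symm

end Cfsg.Agent.S0828
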