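import Cfsg.Statements.S0836

set_option autoImplicit false
open Cfsg

namespace Cfsg.Agent.S0836

theorem mem_commSet_of_mul_eq {G : Type*} [Group G] (t a b : G) (h : a * b = t * b * a) :
    t ∈ commutatorSet G := by
  refine ⟨a, b, ?_⟩
  rw [commutatorElement_def, h]
  group

theorem mem_commSet_of_matrix_eq {F : Type*} [Field F] (n : ℕ) (t : Matrix.SpecialLinearGroup (Fin n) F)
    (A B : Matrix (Fin n) (Fin n) F) (hA : A.det = 1) (hB : B.det = 1)
    (h : A * B = (t : Matrix (Fin n) (Fin n) F) * B * A) :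
    t ∈ commutatorSet (Matrix.SpecialLinearGroup (Fin n) F) := by
  obtain ⟨a, ha⟩ : ∃ a : Matrix.SpecialLinearGroup (Fin n) F, (a : Matrix (Fin n) (Fin n) F) = A :=
    ⟨⟨A, hA⟩, rfl⟩
  obtain ⟨b, hb⟩ : ∃ b : Matrix.SpecialLinearGroup (Fin n) F, (b : Matrix (Fin n) (Fin n) F) = B :=
    ⟨⟨B, hB⟩, rfl⟩
  apply mem_commSet_of_mul_eq t a b
  apply Matrix.SpecialLinearGroup.ext
  intro i j
  rw [Matrix.SpecialLinearGroup.coe_mul, Matrix.SpecialLinearGroup.coe_mul,
    Matrix.SpecialLinearGroup.coe_mul, ha, hb, h]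

/-- For i ≠ j and any scalar c, the elementary transvection 1 + c E_ij is a commutator ⁅g, h⁆ of two elements of SL_n(F) provided n ≥ 3, or n = 2 and F contains x ≠ 0 with x² ≠ 1. -/
theorem result {F : Type*} [Field F] (n : ℕ) (hn : 3 ≤ n ∨ (n = 2 ∧ ∃ x : F, x ≠ 0 ∧ x ^ 2 ≠ 1)) (i j : Fin n) (hij : i ≠ j) (c : F) (t : Matrix.SpecialLinearGroup (Fin n) F) (ht : (t : Matrix (Fin n) (Fin n) F) = Matrix.transvection i j c) : t ∈ commutatorSet (Matrix.SpecialLinearGroup (Fin n) F) := by
  rcases hn with hn | ⟨rfl, x, hx0, hx1⟩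
  · -- n ≥ 3: pick k different from i and j
    obtain ⟨k, hki, hkj⟩ : ∃ k : Fin n, k ≠ i ∧ k ≠ j := by
      by_contra hcon
      simp only [not_exists, not_and, not_not] at hcon
      have hsub : (Finset.univ : Finset (Fin n)) ⊆ {i, j} := by
        intro k _
        by_cases hk : k = i
        · simp [hk]
        · simp [hcon k hk]
      have := Finset.card_le_card hsub
      have h2 : ({i, j} : Finset (Fin n)).card ≤ 2 := Finset.card_insert_le _ _
      simp at this
      omega
    apply mem_commSet_of_matrix_eq n t (Matrix.transvection i k c) (Matrix.transvection k j 1)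
      (Matrix.det_transvection_of_ne i k (Ne.symm hki) c) (Matrix.det_transvection_of_ne k j hkj 1)
    rw [ht]
    simp only [Matrix.transvection, mul_add, add_mul, mul_one, one_mul]
    have e1 : Matrix.single i k c * Matrix.single k j (1 : F) = Matrix.single i j c := by
      rw [Matrix.single_mul_single_same, mul_one]
    have e2 : Matrix.single i j c * Matrix.single k j (1 : F) = 0 :=
      Matrix.single_mul_single_of_ne (h := hkj.symm) ..
    have e3 : Matrix.single k j (1 : F) * Matrix.single i k c = 0 :=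
      Matrix.single_mul_single_of_ne (h := hij.symm) ..
    have e4 : Matrix.single i j c * Matrix.single i k c = 0 :=
      Matrix.single_mul_single_of_ne (h := hij.symm) ..
    simp only [e1, e2, e3, e4, add_zero, Matrix.zero_mul]
    abel
  · -- n = 2
    have hx2 : x ^ 2 - 1 ≠ 0 := sub_ne_zero.mpr hx1
    set b : F := c / (x ^ 2 - 1) with hb
    have hbc : x ^ 2 * b = c + b := by
      rw [hb]; field_simp; ring
    have hij' : (i = 0 ∧ j = 1) ∨ (i = 1 ∧ j = 0) := by
      fin_cases i <;> fin_cases j <;> simp at hij ⊢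
    rcases hij' with ⟨rfl, rfl⟩ | ⟨rfl, rfl⟩
    · have ht' : (t : Matrix (Fin 2) (Fin 2) F) = !![1, c; 0, 1] := by
        rw [ht]
        ext p q
        fin_cases p <;> fin_cases q <;> simp [Matrix.transvection, Matrix.single]
      apply mem_commSet_of_matrix_eq 2 t !![x, 0; 0, x⁻¹] !![1, b; 0, 1]
      · simp [Matrix.det_fin_two, hx0]
      · simp [Matrix.det_fin_two]
      · rw [ht']
        ext p q
        fin_cases p <;> fin_cases q <;> simp [Matrix.mul_apply, Fin.sum_univ_two]
        field_simp
        linear_combination hbc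
    · have ht' : (t : Matrix (Fin 2) (Fin 2) F) = !![1, 0; c, 1] := by
        rw [ht]
        ext p q
        fin_cases p <;> fin_cases q <;> simp [Matrix.transvection, Matrix.single]
      apply mem_commSet_of_matrix_eq 2 t !![x⁻¹, 0; 0, x] !![1, 0; b, 1]
      · simp [Matrix.det_fin_two, hx0]
      · simp [Matrix.det_fin_two]
      · rw [ht']
        ext p q
        fin_cases p <;> fin_cases q <;> simp [Matrix.mul_apply, Fin.sum_univ_two]
        field_simp
        linear_combination hbc

end Cfsg.Agent.S0836
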