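import Cfsg.Statements.S0805
import Cfsg.Agent.H7.Basic

set_option autoImplicit false
open Cfsg

namespace Cfsg.Agent.S0805

open Matrix


theorem exists_field_hom {F K : Type*} [Field F] [Fintype F] [Field K] [Fintype K] (m : ℕ)
    (hK : Fintype.card K ^ m = Fintype.card F) : Nonempty (K →+* F) := by
  obtain ⟨p, hp⟩ := CharP.exists K
  have : Fact p.Prime := ⟨CharP.char_is_prime K p⟩
  have hpF : CharP F p := by
    rw [CharP.charP_iff_prime_eq_zero (CharP.char_is_prime K p)]
    obtain ⟨n, hn, hcard⟩ := FiniteField.card K p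
    have h0 : ((Fintype.card F : ℕ) : F) = 0 := FiniteField.cast_card_eq_zero F
    rw [← hK, hcard, ← pow_mul] at h0
    push_cast at h0
    exact eq_zero_of_pow_eq_zero h0
  let _ : Algebra (ZMod p) K := ZMod.algebra K p
  let _ : Algebra (ZMod p) F := ZMod.algebra F p
  have h1 := FiniteField.pow_finrank_eq_card p K
  have h2 := FiniteField.pow_finrank_eq_card p F
  have h3 : Module.finrank (ZMod p) K * m = Module.finrank (ZMod p) F := by
    apply Nat.pow_right_injective (Fact.out : p.Prime).two_le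
    show p ^ _ = p ^ _
    rw [pow_mul, h1, h2, hK]
  obtain ⟨f⟩ := FiniteField.nonempty_algHom_of_finrank_dvd (F := ZMod p) (K := K) (L := F)
    (Dvd.intro _ h3)
  exact ⟨f.toRingHom⟩

theorem exists_subgroup_of_range_le {A B C : Type*} [Group A] [Group B] [Group C] (j : B →* C)
    (hj : Function.Injective j) (θ : A →* C) (hθ : Function.Injective θ)
    (hle : θ.range ≤ j.range) : ∃ H : Subgroup B, Nonempty (H ≃* A) :=
  ⟨θ.range.comap j, ⟨((Subgroup.equivMapOfInjective _ j hj).trans
    (MulEquiv.subgroupCongr (Subgroup.map_comap_eq_self hle))).trans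
    (MonoidHom.ofInjective hθ).symm⟩⟩


section
variable {F K : Type*} [Field F] [Field K]

/-- the map PGL2(K) → PGL2(F) induced by a field hom -/
noncomputable def pglMap (f : K →+* F) :
    Matrix.ProjGenLinGroup (Fin 2) K →* Matrix.ProjGenLinGroup (Fin 2) F :=
  Matrix.ProjGenLinGroup.lift
    ((Matrix.ProjGenLinGroup.mk).comp (Matrix.GeneralLinearGroup.map f)) (by
      ext u
      simp only [MonoidHom.comp_apply, MonoidHom.one_apply]
      rw [Matrix.ProjGenLinGroup.mk_eq_one, Matrix.GeneralLinearGroup.center_eq_range_scalar]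
      refine ⟨Units.map f.toMonoidHom u, ?_⟩
      ext i j
      simp [Matrix.GeneralLinearGroup.map, Matrix.diagonal_apply]
      split_ifs <;> simp)

theorem pglMap_mk (f : K →+* F) (g : GL (Fin 2) K) :
    pglMap f (Matrix.ProjGenLinGroup.mk g) =
      Matrix.ProjGenLinGroup.mk (Matrix.GeneralLinearGroup.map f g) := rfl

theorem pglMap_injective (f : K →+* F) : Function.Injective (pglMap f) := by
  rw [injective_iff_map_eq_one]
  intro x hx
  induction x using Matrix.ProjGenLinGroup.induction_on with | mk g =>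
  rw [pglMap_mk, Matrix.ProjGenLinGroup.mk_eq_one,
    Matrix.GeneralLinearGroup.center_eq_range_scalar] at hx
  obtain ⟨u, hu⟩ := hx
  have hent : ∀ i j, f (g.1 i j) = if i = j then (u : F) else 0 := by
    intro i j
    have := congrArg (fun M : GL (Fin 2) F => M.1 i j) hu
    simp [Matrix.diagonal_apply] at this
    rw [← this]
  have hg : (g : Matrix (Fin 2) (Fin 2) K) = g.1 0 0 • (1 : Matrix (Fin 2) (Fin 2) K) := by
    ext i j
    apply f.injective
    rw [hent]
    by_cases hij : i = j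
    · subst hij
      simp [hent]
    · simp [hij]
  rw [Matrix.ProjGenLinGroup.mk_eq_one, Subgroup.mem_center_iff]
  intro h
  apply Units.ext
  show h.1 * g.1 = g.1 * h.1
  rw [hg]
  simp

theorem psl_range_le (f : K →+* F) :
    ((pglMap f).comp (Matrix.ProjectiveSpecialLinearGroup.toPGL (n := Fin 2) (R := K))).range ≤
      (Matrix.ProjectiveSpecialLinearGroup.toPGL (n := Fin 2) (R := F)).range := by
  rintro _ ⟨x, rfl⟩
  induction x using QuotientGroup.induction_on with | H g =>
  refine ⟨QuotientGroup.mk (Matrix.SpecialLinearGroup.map f g), ?_⟩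
  show Matrix.ProjGenLinGroup.mk (Matrix.SpecialLinearGroup.toGL (Matrix.SpecialLinearGroup.map f g)) =
    Matrix.ProjGenLinGroup.mk (Matrix.GeneralLinearGroup.map f (Matrix.SpecialLinearGroup.toGL g))
  congr 1
  apply Units.ext
  ext i j
  simp [Matrix.GeneralLinearGroup.map]

theorem pgl_range_le (f : K →+* F) (hsq : ∀ x : K, IsSquare (f x)) :
    (pglMap f).range ≤
      (Matrix.ProjectiveSpecialLinearGroup.toPGL (n := Fin 2) (R := F)).range := by
  rintro _ ⟨x, rfl⟩
  induction x using Matrix.ProjGenLinGroup.induction_on with | mk g =>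
  obtain ⟨s, hs⟩ := hsq (g.1.det)
  have hdet : (f.mapMatrix g.1).det = f g.1.det := by
    rw [← RingHom.map_det]
  have hd0 : f g.1.det ≠ 0 := by
    have : IsUnit g.1.det := by
      have := g.isUnit
      exact (Matrix.isUnit_iff_isUnit_det _).mp this
    exact (this.map f).ne_zero
  have hs0 : s ≠ 0 := by
    rintro rfl
    apply hd0
    rw [hs]; ring
  obtain ⟨a, ha⟩ : ∃ a : Matrix.SpecialLinearGroup (Fin 2) F,
      (a : Matrix (Fin 2) (Fin 2) F) = s⁻¹ • f.mapMatrix g.1 := by
    refine ⟨⟨s⁻¹ • f.mapMatrix g.1, ?_⟩, rfl⟩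
    rw [Matrix.det_smul, hdet, hs]
    simp
    field_simp
  refine ⟨QuotientGroup.mk a, ?_⟩
  show Matrix.ProjGenLinGroup.mk (Matrix.SpecialLinearGroup.toGL a) =
    Matrix.ProjGenLinGroup.mk (Matrix.GeneralLinearGroup.map f g)
  rw [Matrix.ProjGenLinGroup.mk_eq_mk_iff]
  refine ⟨Units.mk0 s hs0, ?_⟩
  apply Units.ext
  ext i j
  simp [ha, Matrix.GeneralLinearGroup.map, Matrix.mul_apply, Matrix.diagonal_apply]
  field_simp
end


theorem geom_aux (u k : ℕ) : ∃ S, (u + 1) ^ k = u * S + 1 ∧ (Even u → S % 2 = k % 2) := by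
  induction k with
  | zero => exact ⟨0, by simp, fun _ => rfl⟩
  | succ k ih =>
    obtain ⟨S, hS, hpar⟩ := ih
    refine ⟨S * (u + 1) + 1, by rw [pow_succ, hS]; ring, fun hu => ?_⟩
    have := hpar hu
    obtain ⟨c, rfl⟩ := hu
    have h2 : (S * (c + c + 1) + 1) = 2 * (S * c) + (S + 1) := by ring
    rw [h2]
    omega

theorem card_PGL2 (K : Type*) [Field K] [Fintype K] :
    Nat.card (Matrix.ProjGenLinGroup (Fin 2) K) * (Fintype.card K - 1) =
      (Fintype.card K ^ 2 - 1) * (Fintype.card K ^ 2 - Fintype.card K) := by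
  have h1 := Cfsg.Agent.H7.card_GL_eq_card_PGL_mul (Fin 2) K
  rw [Matrix.card_GL_field, Fin.prod_univ_two, Nat.card_units] at h1
  simp at h1
  rw [← h1]

theorem card_SL2 (F : Type*) [Field F] [Fintype F] :
    Nat.card (Matrix.SpecialLinearGroup (Fin 2) F) * (Fintype.card F - 1) =
      (Fintype.card F ^ 2 - 1) * (Fintype.card F ^ 2 - Fintype.card F) := by
  have h1 := Cfsg.Agent.H7.card_GL_eq_card_SL_mul (Fin 2) F
  rw [Matrix.card_GL_field, Fin.prod_univ_two, Nat.card_units] at h1
  simp at h1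
  rw [← h1]

theorem two_dvd_card_center (F : Type*) [Field F] [Fintype F] (h2 : (2 : F) ≠ 0) :
    2 ∣ Nat.card (Subgroup.center (Matrix.SpecialLinearGroup (Fin 2) F)) := by
  obtain ⟨a, ha⟩ : ∃ a : Matrix.SpecialLinearGroup (Fin 2) F,
      (a : Matrix (Fin 2) (Fin 2) F) = Matrix.scalar (Fin 2) (-1 : F) := by
    refine ⟨⟨Matrix.scalar (Fin 2) (-1 : F), ?_⟩, rfl⟩
    simp
  have hac : a ∈ Subgroup.center (Matrix.SpecialLinearGroup (Fin 2) F) := by
    rw [Matrix.SpecialLinearGroup.mem_center_iff]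
    exact ⟨-1, by simp, ha.symm⟩
  have ho : orderOf (⟨a, hac⟩ : Subgroup.center (Matrix.SpecialLinearGroup (Fin 2) F)) = 2 := by
    apply orderOf_eq_prime
    · apply Subtype.ext
      apply Subtype.ext
      show ((a ^ 2 : Matrix.SpecialLinearGroup (Fin 2) F) : Matrix (Fin 2) (Fin 2) F) = 1
      rw [Matrix.SpecialLinearGroup.coe_pow, ha]
      ext i j
      fin_cases i <;> fin_cases j <;> simp [pow_two, Matrix.mul_apply, Matrix.diagonal_apply]
    · intro h
      have h' := congrArg (fun z : Subgroup.center (Matrix.SpecialLinearGroup (Fin 2) F) =>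
        (z.1 : Matrix (Fin 2) (Fin 2) F) 0 0) h
      simp [ha] at h'
      apply h2
      linear_combination -h'
  have := orderOf_dvd_natCard (⟨a, hac⟩ : Subgroup.center (Matrix.SpecialLinearGroup (Fin 2) F))
  rwa [ho] at this


theorem two_mul_card_PSL2_dvd (F : Type*) [Field F] [Fintype F] (h2 : (2 : F) ≠ 0) :
    2 * Nat.card (Matrix.ProjectiveSpecialLinearGroup (Fin 2) F) * (Fintype.card F - 1) ∣
      (Fintype.card F ^ 2 - 1) * (Fintype.card F ^ 2 - Fintype.card F) := by
  rw [← card_SL2 F]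
  apply Nat.mul_dvd_mul_right
  have h1 := Subgroup.card_eq_card_quotient_mul_card_subgroup
    (Subgroup.center (Matrix.SpecialLinearGroup (Fin 2) F))
  obtain ⟨c, hc⟩ := two_dvd_card_center F h2
  rw [h1, hc]
  exact ⟨c, by
    show Nat.card (Matrix.SpecialLinearGroup (Fin 2) F ⧸
      Subgroup.center (Matrix.SpecialLinearGroup (Fin 2) F)) * (2 * c) =
      2 * Nat.card (Matrix.SpecialLinearGroup (Fin 2) F ⧸
      Subgroup.center (Matrix.SpecialLinearGroup (Fin 2) F)) * c
    ring⟩

theorem arith_contra (r q m N : ℕ) (hr : Odd r) (hr1 : 1 < r) (hm : Odd m) (hq : r ^ m = q)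
    (h : 2 * (N) * (q - 1) ∣ (q ^ 2 - 1) * (q ^ 2 - q))
    (hN : N * (r - 1) = (r ^ 2 - 1) * (r ^ 2 - r)) : False := by
  have hqodd : Odd q := hq ▸ hr.pow
  obtain ⟨t, rfl⟩ := hr
  have ht : 0 < t := by omega
  obtain ⟨S, hS, hpar⟩ := geom_aux (4 * t * (t + 1)) m
  have hu : Even (4 * t * (t + 1)) := ⟨2 * t * (t + 1), by ring⟩
  have hSodd : S % 2 = 1 := by
    rw [hpar hu]; exact Nat.odd_iff.mp hm
  have hr2 : (2 * t + 1) ^ 2 = 4 * t * (t + 1) + 1 := by ring
  have hq2 : q ^ 2 = 4 * t * (t + 1) * S + 1 := by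
    rw [← hS, ← hr2, ← hq, ← pow_mul, ← pow_mul, Nat.mul_comm m 2]
  have hm0 : m ≠ 0 := by
    rintro rfl
    simp at hm
  have hq3 : 2 * t + 1 ≤ q := hq ▸ Nat.le_self_pow hm0 _
  have hq1 : 0 < q - 1 := by omega
  have e1 : (2 * t + 1) ^ 2 - 1 = 4 * t * (t + 1) := by rw [hr2, Nat.add_sub_cancel]
  have e2 : (2 * t + 1) ^ 2 - (2 * t + 1) = (2 * t + 1) * (2 * t) := by
    rw [sq, ← Nat.mul_sub_one, Nat.add_sub_cancel]
  have e3 : q ^ 2 - 1 = 4 * t * (t + 1) * S := by rw [hq2, Nat.add_sub_cancel]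
  have e4 : q ^ 2 - q = q * (q - 1) := by rw [sq, ← Nat.mul_sub_one]
  rw [e1, e2, Nat.add_sub_cancel] at hN
  have hN' : N = 4 * t * (t + 1) * (2 * t + 1) := by
    apply Nat.eq_of_mul_eq_mul_right (show 0 < 2 * t by omega)
    rw [hN]; ring
  obtain ⟨c, hc⟩ := h
  rw [e3, e4, hN'] at hc
  have hpos : 0 < 4 * t * (t + 1) * (q - 1) := by positivity
  have h5 : S * q = 2 * ((2 * t + 1) * c) := by
    apply Nat.eq_of_mul_eq_mul_left hpos
    calc 4 * t * (t + 1) * (q - 1) * (S * q) = 4 * t * (t + 1) * S * (q * (q - 1)) := by ring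
      _ = _ := hc
      _ = _ := by ring
  have hSq : Odd (S * q) := (Nat.odd_iff.mpr hSodd).mul hqodd
  rw [h5] at hSq
  exact (Nat.not_odd_iff_even.mpr (even_two_mul _)) hSq

theorem isSquare_of_even {F K : Type*} [Field F] [Fintype F] [Field K] [Fintype K] (f : K →+* F)
    (hodd : Odd (Fintype.card F)) (m : ℕ) (hm : Even m)
    (hK : Fintype.card K ^ m = Fintype.card F) (x : K) : IsSquare (f x) := by
  by_cases hx : x = 0
  · subst hx; simp
  have hF2 : ringChar F ≠ 2 := by
    intro h
    rw [FiniteField.even_card_iff_char_two] at h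
    have := Nat.odd_iff.mp hodd
    omega
  rw [FiniteField.isSquare_iff hF2 (by simpa using hx)]
  obtain ⟨k, rfl⟩ := hm
  have hrodd : Odd (Fintype.card K) := by
    rcases Nat.even_or_odd (Fintype.card K) with he | ho
    · exfalso
      have hk0 : k + k ≠ 0 := by
        rintro h0
        rw [h0, pow_zero] at hK
        have := Fintype.one_lt_card (α := F)
        omega
      have : Even (Fintype.card F) := hK ▸ he.pow_of_ne_zero hk0
      exact (Nat.not_even_iff_odd.mpr hodd) this
    · exact ho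
  obtain ⟨t, ht⟩ := hrodd
  obtain ⟨S, hS, -⟩ := geom_aux (2 * (Fintype.card K - 1) * (t + 1)) k
  have hr2 : Fintype.card K ^ 2 = 2 * (Fintype.card K - 1) * (t + 1) + 1 := by
    rw [ht, Nat.add_sub_cancel]; ring
  have hq : Fintype.card F = 2 * ((Fintype.card K - 1) * ((t + 1) * S)) + 1 := by
    rw [← hK, ← two_mul, pow_mul, hr2, hS]; ring
  have hq2 : Fintype.card F / 2 = (Fintype.card K - 1) * ((t + 1) * S) := by omega
  rw [hq2, pow_mul, ← map_pow, FiniteField.pow_card_sub_one_eq_one x hx, map_one, one_pow]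

theorem result {F K : Type*} [Field F] [Fintype F] [Field K] [Fintype K] {q : ℕ} (hF : Fintype.card F = q) (hodd : Odd q) (m : ℕ) (hm : 1 ≤ m) (hK : Fintype.card K ^ m = q) : (∃ H : Subgroup (Matrix.ProjectiveSpecialLinearGroup (Fin 2) F), Nonempty (H ≃* Matrix.ProjectiveSpecialLinearGroup (Fin 2) K)) ∧ ((∃ H : Subgroup (Matrix.ProjectiveSpecialLinearGroup (Fin 2) F), Nonempty (H ≃* Matrix.ProjGenLinGroup (Fin 2) K)) ↔ Even m) := by
  subst hF
  obtain ⟨f⟩ := exists_field_hom (F := F) (K := K) m hK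
  refine ⟨?_, ?_, ?_⟩
  · exact exists_subgroup_of_range_le _ Matrix.ProjectiveSpecialLinearGroup.toPGL_injective
      ((pglMap f).comp Matrix.ProjectiveSpecialLinearGroup.toPGL)
      ((pglMap_injective f).comp Matrix.ProjectiveSpecialLinearGroup.toPGL_injective)
      (psl_range_le f)
  · rintro ⟨H, ⟨e⟩⟩
    by_contra hme
    rw [Nat.not_even_iff_odd] at hme
    have hdvd : Nat.card (Matrix.ProjGenLinGroup (Fin 2) K) ∣
        Nat.card (Matrix.ProjectiveSpecialLinearGroup (Fin 2) F) := by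
      rw [← Nat.card_congr e.toEquiv]
      exact Subgroup.card_subgroup_dvd_card H
    have hF2 : (2 : F) ≠ 0 := by
      intro h
      have hc : ringChar F = 2 := by
        have h2 : ((2 : ℕ) : F) = 0 := by exact_mod_cast h
        have := (ringChar.spec F 2).mp h2
        have hp := CharP.char_is_prime F (ringChar F)
        exact (Nat.prime_dvd_prime_iff_eq hp Nat.prime_two).mp this
      rw [FiniteField.even_card_iff_char_two] at hc
      have := Nat.odd_iff.mp hodd
      omega
    have hrodd : Odd (Fintype.card K) := by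
      rcases Nat.even_or_odd (Fintype.card K) with he | ho
      · exfalso
        have : Even (Fintype.card F) := hK ▸ he.pow_of_ne_zero (by omega)
        exact (Nat.not_even_iff_odd.mpr hodd) this
      · exact ho
    have h1 := two_mul_card_PSL2_dvd F hF2
    obtain ⟨c, hc⟩ := hdvd
    rw [hc] at h1
    refine arith_contra (Fintype.card K) (Fintype.card F) m _ hrodd Fintype.one_lt_card hme hK
      (Dvd.dvd.trans ?_ h1) (card_PGL2 K)
    exact ⟨c, by ring⟩
  · intro hme
    exact exists_subgroup_of_range_le _ Matrix.ProjectiveSpecialLinearGroup.toPGL_injective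
      (pglMap f) (pglMap_injective f)
      (pgl_range_le f (isSquare_of_even f hodd m hme hK))

end Cfsg.Agent.S0805
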