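import Cfsg.Statements.S0806
import Cfsg.Agent.H18.DkMax
import Cfsg.Agent.S0805

set_option autoImplicit false
open Cfsg

namespace Cfsg.Agent.S0806

open Cfsg.Agent.H18.Dk

theorem num_a (q z k : ℕ) (hq4 : 4 ≤ q) (hz : z = 1 ∨ z = 2)
    (hk : k ∣ (q + 1) / z ∨ k ∣ (q - 1) / z) : z * (2 * k) ≤ q * (q - 1) := by
  have hzpos : 0 < z := by rcases hz with h | h <;> omega
  have h1 : z * k ≤ q + 1 := by
    rcases hk with h | h
    · have hpos : 0 < (q + 1) / z := Nat.div_pos (by rcases hz with h | h <;> omega) hzpos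
      calc z * k ≤ z * ((q + 1) / z) := Nat.mul_le_mul_left _ (Nat.le_of_dvd hpos h)
        _ ≤ q + 1 := Nat.mul_div_le _ _
    · have hpos : 0 < (q - 1) / z := Nat.div_pos (by rcases hz with h | h <;> omega) hzpos
      calc z * k ≤ z * ((q - 1) / z) := Nat.mul_le_mul_left _ (Nat.le_of_dvd hpos h)
        _ ≤ q - 1 := Nat.mul_div_le _ _
        _ ≤ q + 1 := by omega
  obtain ⟨r, rfl⟩ : ∃ r, q = r + 4 := ⟨q - 4, by omega⟩
  have h2 : (r + 4) * (r + 4 - 1) = r * r + 7 * r + 12 := by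
    have : r + 4 - 1 = r + 3 := by omega
    rw [this]; ring
  have h3 : z * (2 * k) = 2 * (z * k) := by ring
  have h4 : 0 ≤ r * r := Nat.zero_le _
  omega

theorem num_c (q z N h : ℕ) (hq : q ∉ ({2, 3, 5, 7, 9, 11} : Finset ℕ)) (hq2 : 2 ≤ q)
    (hz : z = Nat.gcd 2 (q - 1)) (hN : z * N = q * (q ^ 2 - 1)) (hdvd : h ∣ N) (hlt : h < N)
    (hh : h = 12 ∨ h = 24 ∨ h = 60) : z * h ≤ q * (q - 1) := by
  rcases Nat.lt_or_ge q 13 with h13 | h13
  · interval_cases q <;> simp at hq <;> norm_num at hz <;> subst hz <;>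
      rcases hh with rfl | rfl | rfl <;> omega
  · have hz2 : z ≤ 2 := by rw [hz]; exact Nat.le_of_dvd (by norm_num) (Nat.gcd_dvd_left _ _)
    obtain ⟨r, rfl⟩ : ∃ r, q = r + 13 := ⟨q - 13, by omega⟩
    have h2 : (r + 13) * (r + 13 - 1) = r * r + 25 * r + 156 := by
      have : r + 13 - 1 = r + 12 := by omega
      rw [this]; ring
    have h3 : z * h ≤ 2 * h := Nat.mul_le_mul_right _ hz2
    have h4 : 0 ≤ r * r := Nat.zero_le _
    rcases hh with rfl | rfl | rfl <;> omega

theorem num_d (q z k m h : ℕ) (hk2 : 2 ≤ k) (hm2 : 2 ≤ m) (hkm : k ^ m = q) (hz : z ≤ 2)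
    (hH : h ≤ k * (k ^ 2 - 1)) : z * h ≤ q * (q - 1) := by
  have h1 : k ^ 2 ≤ q := by rw [← hkm]; exact Nat.pow_le_pow_right (by omega) hm2
  have h2 : k * (k ^ 2 - 1) ≤ k * (q - 1) := Nat.mul_le_mul_left _ (by omega)
  have h3 : 2 * k ≤ k ^ 2 := by rw [pow_two]; exact Nat.mul_le_mul_right _ hk2
  calc z * h ≤ 2 * (k * (q - 1)) := Nat.mul_le_mul hz (hH.trans h2)
    _ = (2 * k) * (q - 1) := by ring
    _ ≤ k ^ 2 * (q - 1) := Nat.mul_le_mul_right _ h3
    _ ≤ q * (q - 1) := Nat.mul_le_mul_right _ h1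

theorem card_PGL2' (K : Type*) [Field K] [Fintype K] :
    Nat.card (Matrix.ProjGenLinGroup (Fin 2) K) = Fintype.card K * (Fintype.card K ^ 2 - 1) := by
  have h := Cfsg.Agent.S0805.card_PGL2 K
  have hk : 2 ≤ Fintype.card K := Fintype.one_lt_card
  have h3 : Fintype.card K ^ 2 - Fintype.card K = Fintype.card K * (Fintype.card K - 1) := by
    rw [Nat.mul_sub, mul_one, pow_two]
  rw [h3, ← mul_assoc, mul_comm (Fintype.card K ^ 2 - 1)] at h
  exact Nat.eq_of_mul_eq_mul_right (by omega) h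

/-- Every proper subgroup of `PSL(2, q)`, `q ∉ {2, 3, 5, 7, 9, 11}`, has order at most
`q (q - 1) / d`. -/
theorem card_bound {F : Type*} [Field F] [Fintype F]
    (hq : Fintype.card F ∉ ({2, 3, 5, 7, 9, 11} : Finset ℕ))
    (H : Subgroup (Matrix.ProjectiveSpecialLinearGroup (Fin 2) F)) (hH : H ≠ ⊤) :
    Nat.gcd 2 (Fintype.card F - 1) * Nat.card H ≤ Fintype.card F * (Fintype.card F - 1) := by
  classical
  obtain ⟨p, hp⟩ := CharP.exists F
  haveI := hp
  haveI : Fact p.Prime := ⟨CharP.char_is_prime F p⟩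
  have hG := card_PSL2_mul (F := F)
  have hq2 : 2 ≤ Fintype.card F := Fintype.one_lt_card
  have hq4 : 4 ≤ Fintype.card F := by
    by_contra hlt
    have : Fintype.card F = 2 ∨ Fintype.card F = 3 := by omega
    rcases this with h | h <;> rw [h] at hq <;> simp at hq
  have hz : Nat.gcd 2 (Fintype.card F - 1) = 1 ∨ Nat.gcd 2 (Fintype.card F - 1) = 2 := by
    have h1 : Nat.gcd 2 (Fintype.card F - 1) ∣ 2 := Nat.gcd_dvd_left _ _
    have h2 := Nat.le_of_dvd (by norm_num) h1
    have h3 : 0 < Nat.gcd 2 (Fintype.card F - 1) := Nat.gcd_pos_of_pos_left _ (by norm_num)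
    omega
  have hdvd : Nat.card H ∣ Nat.card (Matrix.ProjectiveSpecialLinearGroup (Fin 2) F) :=
    Subgroup.card_subgroup_dvd_card H
  have hGpos : 0 < Nat.card (Matrix.ProjectiveSpecialLinearGroup (Fin 2) F) := Nat.card_pos
  have hlt : Nat.card H < Nat.card (Matrix.ProjectiveSpecialLinearGroup (Fin 2) F) := by
    have h1 := Nat.le_of_dvd hGpos hdvd
    have h2 : Nat.card H ≠ Nat.card (Matrix.ProjectiveSpecialLinearGroup (Fin 2) F) :=
      fun h => hH ((Subgroup.card_eq_iff_eq_top H).1 h)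
    omega
  rcases dickson p H with ⟨k, hk, h | ⟨⟨f⟩⟩⟩ | ⟨P, K, hK, ⟨f⟩⟩ | ⟨⟨f⟩⟩ | ⟨⟨f⟩⟩ | ⟨⟨f⟩⟩ |
    ⟨K, i1, i2, m, hm, hf⟩
  · have h1 := num_a _ _ k hq4 hz hk
    rw [h.2]
    calc _ ≤ Nat.gcd 2 (Fintype.card F - 1) * (2 * k) :=
          Nat.mul_le_mul_left _ (by omega)
      _ ≤ _ := h1
  · have h1 := num_a _ _ k hq4 hz hk
    rw [Nat.card_congr f.toEquiv, DihedralGroup.nat_card]
    exact h1
  · rw [Nat.card_congr f.toEquiv]
    calc _ ≤ Nat.gcd 2 (Fintype.card F - 1) * Nat.card ↥(Subgroup.normalizer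
          ((P : Subgroup (Matrix.ProjectiveSpecialLinearGroup (Fin 2) F)) :
            Set (Matrix.ProjectiveSpecialLinearGroup (Fin 2) F))) :=
          Nat.mul_le_mul_left _ (Nat.card_mono (Set.toFinite _) hK)
      _ ≤ _ := card_normalizer_sylow_le p P
  · exact num_c _ _ _ _ hq hq2 rfl hG hdvd hlt
      (Or.inl (by rw [Nat.card_congr f.toEquiv, card_A4]))
  · exact num_c _ _ _ _ hq hq2 rfl hG hdvd hlt
      (Or.inr (Or.inl (by rw [Nat.card_congr f.toEquiv, card_S4])))
  · exact num_c _ _ _ _ hq hq2 rfl hG hdvd hlt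
      (Or.inr (Or.inr (by rw [Nat.card_congr f.toEquiv, card_A5])))
  · letI : Field K := i1
    letI : Fintype K := i2
    have hk2 : 2 ≤ Fintype.card K := Fintype.one_lt_card
    have hKG := card_PSL2_mul (F := K)
    have hKP := card_PGL2' K
    have hHle : Nat.card H ≤ Fintype.card K * (Fintype.card K ^ 2 - 1) := by
      rcases hf with ⟨⟨f⟩⟩ | ⟨⟨f⟩⟩
      · rw [Nat.card_congr f.toEquiv, ← hKG]
        exact Nat.le_mul_of_pos_left _ (Nat.gcd_pos_of_pos_left _ (by norm_num))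
      · rw [Nat.card_congr f.toEquiv, hKP]
    rcases Nat.lt_or_ge m 2 with hm2 | hm2
    · exfalso
      interval_cases m
      · rw [pow_zero] at hm; omega
      · rw [pow_one] at hm
        rw [hm] at hKG hKP
        rcases hf with ⟨⟨f⟩⟩ | ⟨⟨f⟩⟩
        · have h1 := Nat.card_congr f.toEquiv
          rw [← h1, ← hG] at hKG
          have := Nat.eq_of_mul_eq_mul_left (by rcases hz with h | h <;> omega) hKG
          omega
        · have h1 := Nat.card_congr f.toEquiv
          rw [← h1, ← hG] at hKP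
          have h2 : Nat.card (Matrix.ProjectiveSpecialLinearGroup (Fin 2) F) ≤
              Nat.gcd 2 (Fintype.card F - 1) *
                Nat.card (Matrix.ProjectiveSpecialLinearGroup (Fin 2) F) :=
            Nat.le_mul_of_pos_left _ (by rcases hz with h | h <;> omega)
          omega
    · exact num_d _ _ _ m _ hk2 hm2 hm (by rcases hz with h | h <;> omega) hHle

/-- Minimal index (Galois): if q ∉ {2, 3, 5, 7, 9, 11} then every proper subgroup of PSL_2(q) has index ≥ q + 1, and some subgroup has index exactly q + 1. -/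
theorem result {F : Type*} [Field F] [Fintype F] {q : ℕ} (hF : Fintype.card F = q) (hq : q ∉ ({2, 3, 5, 7, 9, 11} : Finset ℕ)) : (∀ H : Subgroup (Matrix.ProjectiveSpecialLinearGroup (Fin 2) F), H ≠ ⊤ → q + 1 ≤ H.index) ∧ ∃ H : Subgroup (Matrix.ProjectiveSpecialLinearGroup (Fin 2) F), H.index = q + 1 := by
  subst hF
  refine ⟨?_, ⟨_, index_Bo_map⟩⟩
  intro H hH
  have hb := card_bound hq H hH
  have hG := card_PSL2_mul (F := F)
  have hq2 : 2 ≤ Fintype.card F := Fintype.one_lt_card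
  rw [sq_sub_one_eq _ (by omega)] at hG
  have h1 := Subgroup.index_mul_card H
  by_contra hlt
  push Not at hlt
  have h2 : H.index ≤ Fintype.card F := by omega
  have hpos : 0 < Fintype.card F * (Fintype.card F - 1) := Nat.mul_pos (by omega) (by omega)
  have h3 : Nat.gcd 2 (Fintype.card F - 1) *
      Nat.card (Matrix.ProjectiveSpecialLinearGroup (Fin 2) F) ≤
      Fintype.card F * (Fintype.card F * (Fintype.card F - 1)) := by
    rw [← h1]
    calc Nat.gcd 2 (Fintype.card F - 1) * (H.index * Nat.card H) =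
          H.index * (Nat.gcd 2 (Fintype.card F - 1) * Nat.card H) := by ring
      _ ≤ Fintype.card F * (Fintype.card F * (Fintype.card F - 1)) := Nat.mul_le_mul h2 hb
  rw [hG] at h3
  have h4 : Fintype.card F * ((Fintype.card F - 1) * (Fintype.card F + 1)) =
      Fintype.card F * (Fintype.card F * (Fintype.card F - 1)) +
        Fintype.card F * (Fintype.card F - 1) := by ring
  omega

end Cfsg.Agent.S0806
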