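import Mathlib
import Cfsg.Statements.S0264
import Cfsg.Agent.H7.GLComm

set_option autoImplicit false
open Cfsg

namespace Cfsg.Agent.S0264

/-- GL_n(F)' = SL_n(F) (as the kernel of det), for every field F and every n, except n = 2 over the field of two elements. -/
theorem result {F : Type*} [Field F] (n : ℕ) (h : n = 2 → ∃ a : F, a ≠ 0 ∧ a ≠ 1) : commutator (Matrix.GeneralLinearGroup (Fin n) F) = (Matrix.GeneralLinearGroup.det : Matrix.GeneralLinearGroup (Fin n) F →* Fˣ).ker := by
  apply le_antisymm
  · exact Abelianization.commutator_subset_ker _
  · intro g hg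
    rw [MonoidHom.mem_ker] at hg
    obtain ⟨s, rfl⟩ : ∃ s : Matrix.SpecialLinearGroup (Fin n) F,
        Matrix.SpecialLinearGroup.toGL s = g :=
      ⟨⟨g.1, by simpa using congrArg Units.val hg⟩, by ext; rfl⟩
    rcases Nat.lt_or_ge n 2 with hn | hn
    · have hs : s = 1 := by
        interval_cases n
        · exact Subsingleton.elim _ _
        · ext i j
          have := s.2
          rw [Matrix.det_fin_one] at this
          fin_cases i; fin_cases j
          simpa using this
      rw [hs, map_one]
      exact one_mem _
    · have : Nontrivial (Fin n) := Fin.nontrivial_iff_two_le.mpr hn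
      refine Matrix.SpecialLinearGroup.diagonal_transvection_induction'
        (fun s => Matrix.SpecialLinearGroup.toGL s ∈ commutator _) s ?_ ?_ ?_
      · intro i j hij c hc
        exact H7.diag2n_mem_commutator hij c hc
      · intro i j hij a
        by_cases hex : ∃ lam : F, lam ≠ 0 ∧ lam ≠ 1
        · obtain ⟨lam, h0, h1⟩ := hex
          exact H7.transvection_mem_commutator_of_scalar hij a lam h0 h1
        · have hn3 : 2 < n := by
            rcases Nat.lt_or_ge 2 n with h3 | h3
            · exact h3
            · have : n = 2 := by omega
              exact absurd (h this) hex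
          obtain ⟨k, hki, hkj⟩ : ∃ k, k ≠ i ∧ k ≠ j := Fin.exists_ne_and_ne_of_two_lt i j hn3
          exact H7.transvection_mem_commutator_of_three hij hki.symm hkj a
      · intro A B hA hB
        rw [map_mul]
        exact mul_mem hA hB

end Cfsg.Agent.S0264
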