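import Mathlib
import Cfsg.Statements.S0803
import Cfsg.Agent.H7.VonDyck
import Cfsg.Agent.H7.Omega4
import Cfsg.Agent.H91.S4Rel

set_option autoImplicit false
open Cfsg

namespace Cfsg.Agent.S0803

open Matrix
open scoped MatrixGroups

section Construct

variable {F : Type*} [Field F]

/-- Two elements of `SL₂` with proportional matrices have the same image in `PSL₂`. -/
theorem mk_eq_of_smul (A B : SL(2, F)) (c : F) (h : B.1 = c • A.1) :
    (QuotientGroup.mk' (Subgroup.center SL(2, F))) A =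
      (QuotientGroup.mk' (Subgroup.center SL(2, F))) B := by
  rw [QuotientGroup.mk'_apply, QuotientGroup.mk'_apply, QuotientGroup.eq]
  apply H7.sl2_mem_center_of_coe _ c
  rw [Matrix.SpecialLinearGroup.coe_mul, h, Matrix.mul_smul,
    ← Matrix.SpecialLinearGroup.coe_mul, inv_mul_cancel]
  rfl

variable (a b s : F) (hab : a * a + b * b = -1) (hs : 2 * s * s = 1)

def mD (a b s : F) (hab : a * a + b * b = -1) (hs : 2 * s * s = 1) : SL(2, F) :=
  ⟨!![s * (-b), s * (1 + a); s * (a - 1), s * b], by rw [Matrix.det_fin_two_of]; grind⟩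

def mV (a b s : F) (hab : a * a + b * b = -1) (hs : 2 * s * s = 1) : SL(2, F) :=
  ⟨!![s * b, s * (1 - a); s * (-1 - a), s * (-b)], by rw [Matrix.det_fin_two_of]; grind⟩

def mE (a b s : F) (hab : a * a + b * b = -1) (hs : 2 * s * s = 1) : SL(2, F) :=
  ⟨!![s * a, s * (b + 1); s * (b - 1), s * (-a)], by rw [Matrix.det_fin_two_of]; grind⟩

def mI (a b : F) (hab : a * a + b * b = -1) : SL(2, F) :=
  ⟨!![a, b; b, -a], by rw [Matrix.det_fin_two_of]; grind⟩

def mJ : SL(2, F) :=
  ⟨!![0, 1; -1, 0], by rw [Matrix.det_fin_two_of]; grind⟩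

def mK (a b : F) (hab : a * a + b * b = -1) : SL(2, F) :=
  ⟨!![-b, a; a, b], by rw [Matrix.det_fin_two_of]; grind⟩

theorem coe_mD : (mD a b s hab hs).1 = !![s * (-b), s * (1 + a); s * (a - 1), s * b] := rfl
theorem coe_mV : (mV a b s hab hs).1 = !![s * b, s * (1 - a); s * (-1 - a), s * (-b)] := rfl
theorem coe_mE : (mE a b s hab hs).1 = !![s * a, s * (b + 1); s * (b - 1), s * (-a)] := rfl
theorem coe_mI : (mI a b hab).1 = !![a, b; b, -a] := rfl
theorem coe_mJ : (mJ : SL(2, F)).1 = !![0, 1; -1, 0] := rfl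
theorem coe_mK : (mK a b hab).1 = !![-b, a; a, b] := rfl

theorem rel_DD : (1 : SL(2, F)).1 = (-1 : F) • (mD a b s hab hs * mD a b s hab hs).1 := by
  rw [Matrix.SpecialLinearGroup.coe_mul, coe_mD]
  ext i j
  fin_cases i <;> fin_cases j <;> simp [Matrix.mul_apply, Fin.sum_univ_two] <;> grind

theorem rel_VV : (1 : SL(2, F)).1 = (-1 : F) • (mV a b s hab hs * mV a b s hab hs).1 := by
  rw [Matrix.SpecialLinearGroup.coe_mul, coe_mV]
  ext i j
  fin_cases i <;> fin_cases j <;> simp [Matrix.mul_apply, Fin.sum_univ_two] <;> grind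

theorem rel_EE : (1 : SL(2, F)).1 = (-1 : F) • (mE a b s hab hs * mE a b s hab hs).1 := by
  rw [Matrix.SpecialLinearGroup.coe_mul, coe_mE]
  ext i j
  fin_cases i <;> fin_cases j <;> simp [Matrix.mul_apply, Fin.sum_univ_two] <;> grind

theorem rel_KK : (1 : SL(2, F)).1 = (-1 : F) • (mK a b hab * mK a b hab).1 := by
  rw [Matrix.SpecialLinearGroup.coe_mul, coe_mK]
  ext i j
  fin_cases i <;> fin_cases j <;> simp [Matrix.mul_apply, Fin.sum_univ_two] <;> grind

theorem rel_DV : (mI a b hab).1 = (-1 : F) • (mD a b s hab hs * mV a b s hab hs).1 := by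
  rw [Matrix.SpecialLinearGroup.coe_mul, coe_mD, coe_mV, coe_mI]
  ext i j
  fin_cases i <;> fin_cases j <;> simp [Matrix.mul_apply, Fin.sum_univ_two] <;> grind

theorem rel_VD : (mI a b hab).1 = (1 : F) • (mV a b s hab hs * mD a b s hab hs).1 := by
  rw [Matrix.SpecialLinearGroup.coe_mul, coe_mD, coe_mV, coe_mI]
  ext i j
  fin_cases i <;> fin_cases j <;> simp [Matrix.mul_apply, Fin.sum_univ_two] <;> grind

theorem rel_EI : (mE a b s hab hs * mI a b hab).1 =
    !![s * (b - 1), s * (-a); s * (-a), s * (-1 - b)] := by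
  rw [Matrix.SpecialLinearGroup.coe_mul, coe_mE, coe_mI]
  ext i j
  fin_cases i <;> fin_cases j <;> simp [Matrix.mul_apply, Fin.sum_univ_two] <;> grind

theorem rel_EIE : (mJ : SL(2, F)).1 =
    (-1 : F) • (mE a b s hab hs * mI a b hab * mE a b s hab hs).1 := by
  rw [Matrix.SpecialLinearGroup.coe_mul, rel_EI, coe_mE, coe_mJ]
  ext i j
  fin_cases i <;> fin_cases j <;> simp [Matrix.mul_apply, Fin.sum_univ_two] <;> grind

theorem rel_JDJ : (mV a b s hab hs).1 = (-1 : F) • (mJ * mD a b s hab hs * mJ).1 := by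
  rw [Matrix.SpecialLinearGroup.coe_mul, Matrix.SpecialLinearGroup.coe_mul, coe_mD, coe_mV, coe_mJ]
  ext i j
  fin_cases i <;> fin_cases j <;> simp [Matrix.mul_apply, Fin.sum_univ_two] <;> grind

theorem rel_JI : (mK a b hab).1 = (-1 : F) • (mJ * mI a b hab).1 := by
  rw [Matrix.SpecialLinearGroup.coe_mul, coe_mI, coe_mJ, coe_mK]
  ext i j
  fin_cases i <;> fin_cases j <;> simp [Matrix.mul_apply, Fin.sum_univ_two] <;> grind

theorem rel_KD : (mK a b hab * mD a b s hab hs).1 =
    !![s * (-1 - a), s * (-b); s * (-b), s * (a - 1)] := by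
  rw [Matrix.SpecialLinearGroup.coe_mul, coe_mD, coe_mK]
  ext i j
  fin_cases i <;> fin_cases j <;> simp [Matrix.mul_apply, Fin.sum_univ_two] <;> grind

theorem rel_KDK : (mV a b s hab hs).1 =
    (1 : F) • (mK a b hab * mD a b s hab hs * mK a b hab).1 := by
  rw [Matrix.SpecialLinearGroup.coe_mul, rel_KD, coe_mV, coe_mK]
  ext i j
  fin_cases i <;> fin_cases j <;> simp [Matrix.mul_apply, Fin.sum_univ_two] <;> grind

theorem rel_ED : (mE a b s hab hs * mD a b s hab hs) ^ 3 = 1 := by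
  apply H7.sl2_pow_three_of_trace
  rw [H7.sl2_mul_apply, H7.sl2_mul_apply, coe_mE, coe_mD]
  simp
  grind

theorem mI_not_mem (h2 : (2 : F) ≠ 0) : mI a b hab ∉ Subgroup.center SL(2, F) := by
  rw [H7.sl2_mem_center_iff, coe_mI]
  simp only [Matrix.of_apply, Matrix.cons_val', Matrix.cons_val_zero, Matrix.cons_val_one,
    Matrix.cons_val_fin_one]
  rintro ⟨hb, -, ha⟩
  have ha0 : a = 0 := by
    have : 2 * a = 0 := by linear_combination ha
    exact (mul_eq_zero.mp this).resolve_left h2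
  rw [ha0, hb] at hab
  norm_num at hab

include hab hs in
theorem exists_S4 [Finite F] (h2 : (2 : F) ≠ 0) :
    ∃ H : Subgroup (Matrix.ProjectiveSpecialLinearGroup (Fin 2) F),
      Nonempty (H ≃* Equiv.Perm (Fin 4)) := by
  obtain ⟨mk, hmk⟩ : ∃ mk : SL(2, F) →* Matrix.ProjectiveSpecialLinearGroup (Fin 2) F,
      mk = QuotientGroup.mk' (Subgroup.center SL(2, F)) := ⟨_, rfl⟩
  have hmk1 : ∀ g, mk g = 1 ↔ g ∈ Subgroup.center SL(2, F) := by
    intro g; rw [hmk]; exact QuotientGroup.eq_one_iff g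
  obtain ⟨d, hd⟩ : ∃ d, d = mk (mD a b s hab hs) := ⟨_, rfl⟩
  obtain ⟨v, hv⟩ : ∃ v, v = mk (mV a b s hab hs) := ⟨_, rfl⟩
  obtain ⟨e, he⟩ : ∃ e, e = mk (mE a b s hab hs) := ⟨_, rfl⟩
  obtain ⟨i, hi⟩ : ∃ i, i = mk (mI a b hab) := ⟨_, rfl⟩
  obtain ⟨j, hj⟩ : ∃ j, j = mk (mJ : SL(2, F)) := ⟨_, rfl⟩
  obtain ⟨k, hk⟩ : ∃ k, k = mk (mK a b hab) := ⟨_, rfl⟩
  have r1 : d * d = 1 := by
    rw [hd, ← map_mul, ← map_one mk, hmk]
    exact mk_eq_of_smul _ _ _ (rel_DD a b s hab hs)
  have r2 : v * v = 1 := by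
    rw [hv, ← map_mul, ← map_one mk, hmk]
    exact mk_eq_of_smul _ _ _ (rel_VV a b s hab hs)
  have r3 : e * e = 1 := by
    rw [he, ← map_mul, ← map_one mk, hmk]
    exact mk_eq_of_smul _ _ _ (rel_EE a b s hab hs)
  have r4 : k * k = 1 := by
    rw [hk, ← map_mul, ← map_one mk, hmk]
    exact mk_eq_of_smul _ _ _ (rel_KK a b hab)
  have r5 : d * v = i := by
    rw [hd, hv, hi, ← map_mul, hmk]
    exact mk_eq_of_smul _ _ _ (rel_DV a b s hab hs)
  have r6 : v * d = i := by
    rw [hd, hv, hi, ← map_mul, hmk]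
    exact mk_eq_of_smul _ _ _ (rel_VD a b s hab hs)
  have r7 : e * i * e = j := by
    rw [he, hi, hj, ← map_mul, ← map_mul, hmk]
    exact mk_eq_of_smul _ _ _ (rel_EIE a b s hab hs)
  have r8 : j * d * j = v := by
    rw [hj, hd, hv, ← map_mul, ← map_mul, hmk]
    exact mk_eq_of_smul _ _ _ (rel_JDJ a b s hab hs)
  have r9 : j * i = k := by
    rw [hj, hi, hk, ← map_mul, hmk]
    exact mk_eq_of_smul _ _ _ (rel_JI a b hab)
  have r10 : k * d * k = v := by
    rw [hk, hd, hv, ← map_mul, ← map_mul, hmk]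
    exact mk_eq_of_smul _ _ _ (rel_KDK a b s hab hs)
  have r11 : (e * d) ^ 3 = 1 := by
    rw [he, hd, ← map_mul, ← map_pow, rel_ED, map_one]
  have r12 : i ≠ 1 := by
    rw [hi, Ne, hmk1]
    exact mI_not_mem a b hab h2
  have hdi : d⁻¹ = d := inv_eq_of_mul_eq_one_right r1
  have hei : e⁻¹ = e := inv_eq_of_mul_eq_one_right r3
  have hbr : e * d * e = d * e * d := by
    have h : e * d * e * (d * e * d) = 1 := by
      rw [pow_succ, pow_two] at r11
      simpa [mul_assoc] using r11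
    have h' : e * d * e = (d * e * d)⁻¹ := eq_inv_of_mul_eq_one_left h
    rw [h', _root_.mul_inv_rev, _root_.mul_inv_rev, hdi, hei, mul_assoc]
  have hvd : v ≠ d := by
    intro h
    apply r12
    rw [← r5, h, r1]
  have hv1 : v ≠ 1 := by
    intro h
    rw [h] at r10
    have hd1 : d = 1 := by
      have h3 : k * d * k = k * 1 * k := by rw [r10, mul_one, r4]
      exact mul_left_cancel (mul_right_cancel h3)
    apply r12
    rw [← r5, hd1, h, mul_one]
  have hde : ¬ Commute d e := by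
    intro hc
    have hc' : d * e = e * d := hc
    have h1 : e * d * e = d := by rw [← hc', mul_assoc, r3, mul_one]
    have h2' : d * e * d = e := by rw [hc', mul_assoc, r1, mul_one]
    have hde : d = e := by rw [← h1, hbr, h2']
    have hji : j = i := by
      rw [← r7, ← hde, ← r5, ← mul_assoc, r1, one_mul, r6, r5]
    have hk1 : k = 1 := by
      rw [← r9, hji]
      nth_rewrite 1 [← r5]
      rw [← r6, mul_assoc, ← mul_assoc v v d, r2, one_mul, r1]
    rw [hk1, one_mul, mul_one] at r10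
    exact hvd r10.symm
  obtain ⟨H, hH⟩ : ∃ H : Subgroup (Matrix.ProjectiveSpecialLinearGroup (Fin 2) F),
      H = Subgroup.closure ({d, e, v} : Set (Matrix.ProjectiveSpecialLinearGroup (Fin 2) F)) :=
    ⟨_, rfl⟩
  have hdH : d ∈ H := by rw [hH]; exact Subgroup.subset_closure (by simp)
  have heH : e ∈ H := by rw [hH]; exact Subgroup.subset_closure (by simp)
  have hvH : v ∈ H := by rw [hH]; exact Subgroup.subset_closure (by simp)
  have hgen : Subgroup.closure ({⟨d, hdH⟩, ⟨e, heH⟩, ⟨v, hvH⟩} : Set H) = ⊤ := by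
    subst hH
    have := Subgroup.closure_closure_coe_preimage
      (k := ({d, e, v} : Set (Matrix.ProjectiveSpecialLinearGroup (Fin 2) F)))
    convert this using 2
    ext x
    simp [Subtype.ext_iff]
  haveI : Finite (Matrix.ProjectiveSpecialLinearGroup (Fin 2) F) := by
    unfold Matrix.ProjectiveSpecialLinearGroup
    infer_instance
  refine ⟨H, Cfsg.Agent.H91.s4_of_relations (⟨d, hdH⟩ : H) ⟨v, hvH⟩ ⟨e, heH⟩ ?_ ?_ ?_ ?_ ?_ ?_ ?_ ?_
    ?_ ?_ ?_ hgen⟩
  · exact Subtype.ext r1
  · exact Subtype.ext r2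
  · exact Subtype.ext r3
  · exact Subtype.ext (r5.trans r6.symm)
  · exact Subtype.ext hbr
  · intro hc
    apply hde
    have := congrArg Subtype.val hc.eq
    exact this
  · intro h
    exact hvd (congrArg Subtype.val h)
  · intro h
    exact hv1 (congrArg Subtype.val h)
  · apply Subtype.ext
    show (e * (d * v) * e) * d * (e * (d * v) * e) = v
    rw [r5, r7, r8]
  · apply Subtype.ext
    show (e * (d * v) * e * (d * v)) * d * (e * (d * v) * e * (d * v)) = v
    rw [r5, r7, r9, r10]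
  · apply Subtype.ext
    show (e * (d * v) * e * (d * v)) * (e * (d * v) * e * (d * v)) = 1
    rw [r5, r7, r9, r4]

end Construct

section Main

/-- In characteristic two, an element of `SL₂` of order dividing four has order dividing two. -/
theorem sq_eq_one_of_pow_four {F : Type*} [Field F] (h2 : (2 : F) = 0) (g : SL(2, F))
    (h4 : g ^ 4 = 1) : g ^ 2 = 1 := by
  have hc := H7.sl2_cayley g
  obtain ⟨t, ht⟩ : ∃ t, g.1 0 0 + g.1 1 1 = t := ⟨_, rfl⟩
  rw [ht] at hc
  have hneg : (-1 : F) = 1 := by linear_combination -h2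
  by_cases ht0 : t = 0
  · apply Subtype.ext
    rw [Matrix.SpecialLinearGroup.coe_pow, pow_two, hc, ht0, zero_smul, zero_sub]
    ext i j
    fin_cases i <;> fin_cases j <;> simp [hneg]
  · have h4m : g.1 ^ 4 = 1 := by
      rw [← Matrix.SpecialLinearGroup.coe_pow, h4]
      rfl
    have h5 : (t ^ 3 - 2 * t) • g.1 - (t * t - 1) • (1 : Matrix (Fin 2) (Fin 2) F) = 1 := by
      rw [← H7.pow_four_of_quad t hc]
      exact h4m
    have hM : g.1 = t⁻¹ • (1 : Matrix (Fin 2) (Fin 2) F) := by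
      ext i j
      have h6 := congrFun (congrFun h5 i) j
      simp only [Matrix.sub_apply, Matrix.smul_apply, smul_eq_mul] at h6
      rw [Matrix.smul_apply, smul_eq_mul]
      have h7 : t ^ 3 * g.1 i j = t ^ 3 * (t⁻¹ * (1 : Matrix (Fin 2) (Fin 2) F) i j) := by
        have h8 : t ^ 3 * (t⁻¹ * (1 : Matrix (Fin 2) (Fin 2) F) i j) =
            t * t * (1 : Matrix (Fin 2) (Fin 2) F) i j := by
          field_simp
        rw [h8]
        linear_combination h6 + (t * g.1 i j) * h2
      exact mul_left_cancel₀ (pow_ne_zero 3 ht0) h7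
    have hcen := H7.sl2_mem_center_of_coe g _ hM
    rw [H7.center_SL2_eq_bot_of_two h2, Subgroup.mem_bot] at hcen
    rw [hcen, one_pow]

set_option maxRecDepth 100000 in
theorem exists_order_four : ∃ σ : Equiv.Perm (Fin 4), σ ^ 4 = 1 ∧ σ ^ 2 ≠ 1 :=
  ⟨finRotate 4, by decide, by decide⟩

/-- PSL_2(q) has a subgroup isomorphic to S_4 iff q² ≡ 1 (mod 16). -/
theorem result {F : Type*} [Field F] [Fintype F] {q : ℕ} (hF : Fintype.card F = q) : (∃ H : Subgroup (Matrix.ProjectiveSpecialLinearGroup (Fin 2) F), Nonempty (H ≃* Equiv.Perm (Fin 4))) ↔ q ^ 2 % 16 = 1 := by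
  subst hF
  constructor
  · rintro ⟨H, ⟨e⟩⟩
    by_cases h2 : (2 : F) = 0
    · exfalso
      obtain ⟨σ, hσ4, hσ2⟩ := exists_order_four
      have hcen := H7.center_SL2_eq_bot_of_two h2
      obtain ⟨g, hg⟩ := QuotientGroup.mk'_surjective (Subgroup.center SL(2, F))
        ((e.symm σ : H) : Matrix.ProjectiveSpecialLinearGroup (Fin 2) F)
      have hinj : Function.Injective (QuotientGroup.mk' (Subgroup.center SL(2, F))) := by
        rw [← MonoidHom.ker_eq_bot_iff, QuotientGroup.ker_mk', hcen]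
      have hg4 : g ^ 4 = 1 := by
        apply hinj
        rw [map_pow, hg, map_one, ← Subgroup.coe_pow, ← map_pow, hσ4, map_one, Subgroup.coe_one]
      have hg2 := sq_eq_one_of_pow_four h2 g hg4
      apply hσ2
      apply e.symm.injective
      apply Subtype.ext
      rw [map_pow, Subgroup.coe_pow, ← hg, ← map_pow, hg2, map_one, map_one, Subgroup.coe_one]
    · have hodd : Fintype.card F % 2 = 1 := by
        apply FiniteField.odd_card_of_char_ne_two
        intro h
        apply h2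
        haveI := ringChar.of_eq h
        exact CharTwo.two_eq_zero
      have hc : Nat.card H = 24 := by
        rw [Nat.card_congr e.toEquiv, Nat.card_perm, Nat.card_fin]
        rfl
      have hdvd := Subgroup.card_subgroup_dvd_card H
      have hpsl := H7.card_PSL2_odd (F := F) (Nat.odd_iff.mpr hodd)
      rw [hc] at hdvd
      obtain ⟨m, hm⟩ := hdvd
      rw [hm] at hpsl
      have h16 : 16 ∣ Fintype.card F * (Fintype.card F ^ 2 - 1) :=
        ⟨3 * m, by rw [← hpsl]; ring⟩
      have hcop : Nat.Coprime 16 (Fintype.card F) := by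
        have h2c : Nat.Coprime 2 (Fintype.card F) :=
          Nat.coprime_two_left.mpr (Nat.odd_iff.mpr hodd)
        exact Nat.Coprime.pow_left 4 h2c
      have h16' : 16 ∣ Fintype.card F ^ 2 - 1 := hcop.dvd_of_dvd_mul_left h16
      have hpos : 1 ≤ Fintype.card F ^ 2 := Nat.one_le_pow _ _ Fintype.card_pos
      omega
  · intro hq
    have hr : Fintype.card F % 8 ≠ 3 ∧ Fintype.card F % 8 ≠ 5 ∧ Fintype.card F % 2 = 1 := by
      have h1 : Fintype.card F ^ 2 % 16 = (Fintype.card F % 16) ^ 2 % 16 := Nat.pow_mod _ _ _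
      rw [h1] at hq
      have h3 : Fintype.card F % 16 < 16 := Nat.mod_lt _ (by norm_num)
      generalize hr : Fintype.card F % 16 = r at hq h3
      interval_cases r <;> simp at hq <;> omega
    obtain ⟨h3, h5, hodd⟩ := hr
    have h2 : (2 : F) ≠ 0 := H7.two_ne_zero_of_odd_card (Nat.odd_iff.mpr hodd)
    obtain ⟨r, hr⟩ := FiniteField.isSquare_two_iff.mpr ⟨h3, h5⟩
    have hr0 : r ≠ 0 := by
      rintro rfl
      apply h2
      rw [hr, mul_zero]
    obtain ⟨a, b, hab⟩ : ∃ a b : F, a * a + b * b = -1 := by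
      have hf : (Polynomial.C (1 : F) * Polynomial.X ^ 2 + Polynomial.C 0 * Polynomial.X +
          Polynomial.C 0).degree = 2 := Polynomial.degree_quadratic one_ne_zero
      have hg : (Polynomial.C (1 : F) * Polynomial.X ^ 2 + Polynomial.C 0 * Polynomial.X +
          Polynomial.C 1).degree = 2 := Polynomial.degree_quadratic one_ne_zero
      obtain ⟨a, b, hab⟩ := FiniteField.exists_root_sum_quadratic hf hg hodd
      refine ⟨a, b, ?_⟩
      simp only [Polynomial.eval_add, Polynomial.eval_mul, Polynomial.eval_C, Polynomial.eval_pow,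
        Polynomial.eval_X] at hab
      linear_combination hab
    exact exists_S4 a b r⁻¹ hab (by rw [hr]; field_simp) h2

end Main

end Cfsg.Agent.S0803
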