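import Cfsg.Statements.S3377
import Cfsg.Agent.H61.CosetEnum

set_option autoImplicit false
open Cfsg

namespace Cfsg.Agent.S3377

/-- the relators of the (2,3,5) presentation -/
abbrev rels : Set (FreeGroup (Fin 2)) :=
  {FreeGroup.of (0 : Fin 2) ^ 3, FreeGroup.of (1 : Fin 2) ^ 5,
    (FreeGroup.of (0 : Fin 2) * FreeGroup.of 1) ^ 2}

theorem hx3 : (PresentedGroup.of 0 : PresentedGroup rels) * PresentedGroup.of 0 * PresentedGroup.of 0 = 1 := by
  have h : PresentedGroup.mk rels (FreeGroup.of (0 : Fin 2) ^ 3) = 1 :=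
    PresentedGroup.one_of_mem (by simp [rels])
  rw [map_pow] at h
  rw [← h, pow_succ, pow_succ, pow_one]
  rfl

theorem hy5 : (PresentedGroup.of 1 : PresentedGroup rels) * PresentedGroup.of 1 * PresentedGroup.of 1 *
    PresentedGroup.of 1 * PresentedGroup.of 1 = 1 := by
  have h : PresentedGroup.mk rels (FreeGroup.of (1 : Fin 2) ^ 5) = 1 :=
    PresentedGroup.one_of_mem (by simp [rels])
  rw [map_pow] at h
  rw [← h, pow_succ, pow_succ, pow_succ, pow_succ, pow_one]
  rfl

theorem hxy : (PresentedGroup.of 0 : PresentedGroup rels) * PresentedGroup.of 1 * PresentedGroup.of 0 *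
    PresentedGroup.of 1 = 1 := by
  have h : PresentedGroup.mk rels ((FreeGroup.of (0 : Fin 2) * FreeGroup.of 1) ^ 2) = 1 :=
    PresentedGroup.one_of_mem (by simp [rels])
  rw [map_pow, map_mul] at h
  rw [← h, pow_succ, pow_one, ← mul_assoc]
  rfl

/-- The presented group is finite of order at most 60 (coset enumeration over `⟨y⟩`). -/
theorem finite_card_le : Finite (PresentedGroup rels) ∧ Nat.card (PresentedGroup rels) ≤ 60 := by
  obtain ⟨x, hx⟩ : ∃ x : PresentedGroup rels, x = PresentedGroup.of 0 := ⟨_, rfl⟩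
  obtain ⟨y, hy⟩ : ∃ y : PresentedGroup rels, y = PresentedGroup.of 1 := ⟨_, rfl⟩
  have hx3' : x * x * x = 1 := by rw [hx]; exact hx3
  have hy5' : y * y * y * y * y = 1 := by rw [hy]; exact hy5
  have hxy' : x * y * x * y = 1 := by rw [hx, hy]; exact hxy
  have hyfin : IsOfFinOrder y := by
    rw [isOfFinOrder_iff_pow_eq_one]
    exact ⟨5, by norm_num, by rw [pow_succ, pow_succ, pow_succ, pow_succ, pow_one]; exact hy5'⟩
  have hxfin : IsOfFinOrder x := by
    rw [isOfFinOrder_iff_pow_eq_one]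
    exact ⟨3, by norm_num, by rw [pow_succ, pow_succ, pow_one]; exact hx3'⟩
  have hHfin : Finite (Subgroup.zpowers y) := by
    apply Nat.finite_of_card_ne_zero
    rw [Nat.card_zpowers]
    exact (orderOf_pos_iff.2 hyfin).ne'
  have hHcard : Nat.card (Subgroup.zpowers y) ≤ 5 := by
    rw [Nat.card_zpowers]
    exact orderOf_le_of_pow_eq_one (by norm_num)
      (by rw [pow_succ, pow_succ, pow_succ, pow_succ, pow_one]; exact hy5')
  have hS : Subgroup.closure ({x, y} : Set (PresentedGroup rels)) = ⊤ := by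
    rw [← PresentedGroup.closure_range_of rels]
    congr 1
    ext g
    constructor
    · rintro (rfl | rfl)
      · exact ⟨0, hx.symm⟩
      · exact ⟨1, hy.symm⟩
    · rintro ⟨i, rfl⟩
      fin_cases i
      · left; exact hx.symm
      · right; exact hy.symm
  have hfin : ∀ s ∈ ({x, y} : Set (PresentedGroup rels)), IsOfFinOrder s := by
    rintro s (rfl | rfl)
    · exact hxfin
    · exact hyfin
  have relx : ∀ c : PresentedGroup rels ⧸ Subgroup.zpowers y, x • x • x • c = c := by
    intro c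
    rw [smul_smul, smul_smul, hx3', one_smul]
  have rely : ∀ c : PresentedGroup rels ⧸ Subgroup.zpowers y, y • y • y • y • y • c = c := by
    intro c
    rw [smul_smul, smul_smul, smul_smul, smul_smul, hy5', one_smul]
  have relxy : ∀ c : PresentedGroup rels ⧸ Subgroup.zpowers y, x • y • x • y • c = c := by
    intro c
    rw [smul_smul, smul_smul, smul_smul, hxy', one_smul]
  obtain ⟨c0, hc0⟩ : ∃ c : PresentedGroup rels ⧸ Subgroup.zpowers y,
      c = ((1 : PresentedGroup rels) : PresentedGroup rels ⧸ Subgroup.zpowers y) := ⟨_, rfl⟩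
  have Ey0 : y • c0 = c0 := by
    rw [hc0]
    show ((y * 1 : PresentedGroup rels) : PresentedGroup rels ⧸ Subgroup.zpowers y) = _
    rw [QuotientGroup.eq]
    simp
  obtain ⟨c1, Ex0⟩ : ∃ c, x • c0 = c := ⟨_, rfl⟩
  obtain ⟨c2, Ex1⟩ : ∃ c, x • c1 = c := ⟨_, rfl⟩
  obtain ⟨c3, Ey2⟩ : ∃ c, y • c2 = c := ⟨_, rfl⟩
  obtain ⟨c4, Ex3⟩ : ∃ c, x • c3 = c := ⟨_, rfl⟩
  obtain ⟨c5, Ey3⟩ : ∃ c, y • c3 = c := ⟨_, rfl⟩
  obtain ⟨c6, Ex4⟩ : ∃ c, x • c4 = c := ⟨_, rfl⟩
  obtain ⟨c7, Ex5⟩ : ∃ c, x • c5 = c := ⟨_, rfl⟩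
  obtain ⟨c8, Ey6⟩ : ∃ c, y • c6 = c := ⟨_, rfl⟩
  obtain ⟨c9, Ey8⟩ : ∃ c, y • c8 = c := ⟨_, rfl⟩
  obtain ⟨c10, Ex9⟩ : ∃ c, x • c9 = c := ⟨_, rfl⟩
  obtain ⟨c11, Ex10⟩ : ∃ c, x • c10 = c := ⟨_, rfl⟩
  have Ex2 : x • c2 = c0 := by
    have h := relx c0
    rw [Ex0, Ex1] at h
    exact h
  have Ex6 : x • c6 = c3 := by
    have h := relx c3
    rw [Ex3, Ex4] at h
    exact h
  have Ex11 : x • c11 = c9 := by
    have h := relx c9
    rw [Ex9, Ex10] at h
    exact h
  have Ey1 : y • c1 = c2 := by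
    have h := relxy c0
    rw [Ey0, Ex0] at h
    have h2 : x • c2 = c0 := by
      rw [Ex2]
    have h3 := h.trans h2.symm
    replace h3 := smul_left_cancel _ h3
    exact h3
  have Ey4 : y • c4 = c1 := by
    have h := relxy c2
    rw [Ey2, Ex3] at h
    have h2 : x • c1 = c2 := by
      rw [Ex1]
    have h3 := h.trans h2.symm
    replace h3 := smul_left_cancel _ h3
    exact h3
  have Ey7 : y • c7 = c6 := by
    have h := relxy c3
    rw [Ey3, Ex5] at h
    have h2 : x • c6 = c3 := by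
      rw [Ex6]
    have h3 := h.trans h2.symm
    replace h3 := smul_left_cancel _ h3
    exact h3
  have Ey5 : y • c5 = c4 := by
    have h := rely c1
    rw [Ey1, Ey2, Ey3] at h
    have h2 : y • c4 = c1 := by
      rw [Ey4]
    have h3 := h.trans h2.symm
    replace h3 := smul_left_cancel _ h3
    exact h3
  have Ex8 : x • c8 = c5 := by
    have h := relxy c5
    rw [Ey5, Ex4, Ey6] at h
    exact h
  have Ex7 : x • c7 = c8 := by
    have h := relx c5
    rw [Ex5] at h
    have h2 : x • c8 = c5 := by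
      rw [Ex8]
    have h3 := h.trans h2.symm
    replace h3 := smul_left_cancel _ h3
    exact h3
  have Ey10 : y • c10 = c7 := by
    have h := relxy c8
    rw [Ey8, Ex9] at h
    have h2 : x • c7 = c8 := by
      rw [Ex7]
    have h3 := h.trans h2.symm
    replace h3 := smul_left_cancel _ h3
    exact h3
  have Ey9 : y • c9 = c10 := by
    have h := rely c6
    rw [Ey6, Ey8] at h
    have h2 : y • y • c10 = c6 := by
      rw [Ey10, Ey7]
    have h3 := h.trans h2.symm
    replace h3 := smul_left_cancel _ h3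
    replace h3 := smul_left_cancel _ h3
    exact h3
  have Ey11 : y • c11 = c11 := by
    have h := relxy c9
    rw [Ey9, Ex10] at h
    have h2 : x • c11 = c9 := by
      rw [Ex11]
    have h3 := h.trans h2.symm
    replace h3 := smul_left_cancel _ h3
    exact h3
  have key := Cfsg.Agent.H61.finite_and_card_le_of_cosets (Subgroup.zpowers y) ({x, y} : Set (PresentedGroup rels))
    hS hfin 12 5 hHcard ![c0, c1, c2, c3, c4, c5, c6, c7, c8, c9, c10, c11] ⟨0, hc0⟩ (by
      rintro s (rfl | rfl) i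
      · fin_cases i
        · exact ⟨1, Ex0⟩
        · exact ⟨2, Ex1⟩
        · exact ⟨0, Ex2⟩
        · exact ⟨4, Ex3⟩
        · exact ⟨6, Ex4⟩
        · exact ⟨7, Ex5⟩
        · exact ⟨3, Ex6⟩
        · exact ⟨8, Ex7⟩
        · exact ⟨5, Ex8⟩
        · exact ⟨10, Ex9⟩
        · exact ⟨11, Ex10⟩
        · exact ⟨9, Ex11⟩
      · fin_cases i
        · exact ⟨0, Ey0⟩
        · exact ⟨2, Ey1⟩
        · exact ⟨3, Ey2⟩
        · exact ⟨5, Ey3⟩
        · exact ⟨1, Ey4⟩
        · exact ⟨4, Ey5⟩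
        · exact ⟨8, Ey6⟩
        · exact ⟨6, Ey7⟩
        · exact ⟨9, Ey8⟩
        · exact ⟨10, Ey9⟩
        · exact ⟨7, Ey10⟩
        · exact ⟨11, Ey11⟩
      )
  exact key

def pa : Equiv.Perm (Fin 5) := Equiv.swap 0 1 * Equiv.swap 1 2
def pb : Equiv.Perm (Fin 5) := Equiv.swap 0 2 * Equiv.swap 2 4 * Equiv.swap 4 1 * Equiv.swap 1 3

theorem pa_mem : pa ∈ alternatingGroup (Fin 5) := by
  rw [Equiv.Perm.mem_alternatingGroup]
  decide
theorem pb_mem : pb ∈ alternatingGroup (Fin 5) := by
  rw [Equiv.Perm.mem_alternatingGroup]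
  decide

def ga : alternatingGroup (Fin 5) := ⟨pa, pa_mem⟩
def gb : alternatingGroup (Fin 5) := ⟨pb, pb_mem⟩

def gens : Fin 2 → alternatingGroup (Fin 5) := ![ga, gb]

theorem ga3 : ga ^ 3 = 1 := by decide
theorem gb5 : gb ^ 5 = 1 := by decide
theorem gab2 : (ga * gb) ^ 2 = 1 := by decide
theorem ga_ne : ga ≠ 1 := by decide
theorem gb_ne : gb ≠ 1 := by decide
theorem gab_ne : ga * gb ≠ 1 := by decide

theorem gens_rel : ∀ r ∈ rels, FreeGroup.lift gens r = 1 := by
  intro r hr
  rcases hr with rfl | rfl | rfl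
  · rw [map_pow, FreeGroup.lift_apply_of]
    exact ga3
  · rw [map_pow, FreeGroup.lift_apply_of]
    exact gb5
  · rw [map_pow, map_mul, FreeGroup.lift_apply_of, FreeGroup.lift_apply_of]
    exact gab2

/-- the homomorphism onto `A₅` -/
def phi : PresentedGroup rels →* alternatingGroup (Fin 5) := PresentedGroup.toGroup gens_rel

theorem phi_surjective : Function.Surjective phi := by
  rw [← MonoidHom.range_eq_top]
  have hcardA : Nat.card (alternatingGroup (Fin 5)) = 60 := by
    have h := two_mul_nat_card_alternatingGroup (α := Fin 5)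
    rw [Nat.card_perm, Nat.card_fin] at h
    have : (5 : ℕ).factorial = 120 := by decide
    omega
  have hmem_a : ga ∈ phi.range := ⟨PresentedGroup.of 0, PresentedGroup.toGroup.of gens_rel⟩
  have hmem_b : gb ∈ phi.range := ⟨PresentedGroup.of 1, PresentedGroup.toGroup.of gens_rel⟩
  have hmem_ab : ga * gb ∈ phi.range := mul_mem hmem_a hmem_b
  have ho3 : orderOf ga = 3 := by
    have := Fact.mk Nat.prime_three
    exact orderOf_eq_prime ga3 ga_ne
  have ho5 : orderOf gb = 5 := by
    have := Fact.mk (by norm_num : Nat.Prime 5)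
    exact orderOf_eq_prime gb5 gb_ne
  have ho2 : orderOf (ga * gb) = 2 := by
    have := Fact.mk Nat.prime_two
    exact orderOf_eq_prime gab2 gab_ne
  have h3 : 3 ∣ Nat.card phi.range := by
    have := orderOf_dvd_natCard (⟨ga, hmem_a⟩ : phi.range)
    rwa [Subgroup.orderOf_mk, ho3] at this
  have h5 : 5 ∣ Nat.card phi.range := by
    have := orderOf_dvd_natCard (⟨gb, hmem_b⟩ : phi.range)
    rwa [Subgroup.orderOf_mk, ho5] at this
  have h2 : 2 ∣ Nat.card phi.range := by
    have := orderOf_dvd_natCard (⟨ga * gb, hmem_ab⟩ : phi.range)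
    rwa [Subgroup.orderOf_mk, ho2] at this
  have hidx := Subgroup.card_mul_index phi.range
  rw [hcardA] at hidx
  have hidx2 : phi.range.index = 1 ∨ phi.range.index = 2 := by
    obtain ⟨k, hk⟩ : 30 ∣ Nat.card phi.range := by omega
    rw [hk] at hidx
    have h6 : k * phi.range.index = 2 := by nlinarith
    have h7 : phi.range.index ∣ 2 := ⟨k, by rw [mul_comm]; exact h6.symm⟩
    exact (Nat.dvd_prime Nat.prime_two).1 h7
  rcases hidx2 with h | h
  · exact Subgroup.index_eq_one.1 h
  · have hn : phi.range.Normal := Subgroup.normal_of_index_eq_two h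
    have hsimple : IsSimpleGroup (alternatingGroup (Fin 5)) := inferInstance
    rcases hsimple.eq_bot_or_eq_top_of_normal _ hn with h' | h'
    · exfalso
      rw [h', Subgroup.mem_bot] at hmem_a
      exact ga_ne hmem_a
    · exact h'

/-- The alternating group of degree 5 has the presentation ⟨x, y | x³ = 1, y⁵ = 1, (xy)² = 1⟩: the group so presented is isomorphic to Alt(5). -/
theorem result :
    Nonempty (PresentedGroup ({FreeGroup.of (0 : Fin 2) ^ 3, FreeGroup.of (1 : Fin 2) ^ 5,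
        (FreeGroup.of (0 : Fin 2) * FreeGroup.of 1) ^ 2} : Set (FreeGroup (Fin 2))) ≃* alternatingGroup (Fin 5)) := by
  obtain ⟨hfin, hcard⟩ := finite_card_le
  have hcardA : Nat.card (alternatingGroup (Fin 5)) = 60 := by
    have h := two_mul_nat_card_alternatingGroup (α := Fin 5)
    rw [Nat.card_perm, Nat.card_fin] at h
    have : (5 : ℕ).factorial = 120 := by decide
    omega
  have hbij : Function.Bijective phi :=
    phi_surjective.bijective_of_nat_card_le (by rw [hcardA]; exact hcard)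
  exact ⟨MulEquiv.ofBijective phi hbij⟩

end Cfsg.Agent.S3377
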