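import Mathlib
import Cfsg.Statements.S0804
import Cfsg.Agent.H7.VonDyck
import Cfsg.Agent.S3377

set_option autoImplicit false
open Cfsg

namespace Cfsg.Agent.S0804

open Matrix
open scoped MatrixGroups

theorem card_A5 : Nat.card (alternatingGroup (Fin 5)) = 60 := by
  have h := two_mul_nat_card_alternatingGroup (α := Fin 5)
  rw [Nat.card_perm, Nat.card_fin] at h
  have : (5 : ℕ).factorial = 120 := by decide
  omega

theorem exists_A5 {F : Type*} [Field F] (τ : F) (hτ : τ * τ + τ = 1) (α β : F)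
    (h : α * α + α + β * β + τ * β + 1 = 0) :
    ∃ H : Subgroup (Matrix.ProjectiveSpecialLinearGroup (Fin 2) F),
      Nonempty (H ≃* alternatingGroup (Fin 5)) := by
  obtain ⟨X, Y, hX, hXc, hY, hYX⟩ := H7.exists_xy τ α β h
  obtain ⟨e⟩ := Cfsg.Agent.S3377.result
  obtain ⟨mk, hmk⟩ : ∃ mk : SL(2, F) →* Matrix.ProjectiveSpecialLinearGroup (Fin 2) F,
      ∀ g, mk g = 1 ↔ g ∈ Subgroup.center SL(2, F) :=
    ⟨QuotientGroup.mk' (Subgroup.center SL(2, F)), fun g => QuotientGroup.eq_one_iff g⟩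
  have h3 : (mk Y⁻¹) ^ 3 = 1 := by
    rw [← map_pow, inv_pow, H7.sl2_pow_three_of_trace Y hY, inv_one, map_one]
  have h5 : (mk (Y * X)) ^ 5 = 1 := by
    rw [← map_pow, H7.sl2_pow_five_of_trace (Y * X) τ hYX hτ, map_one]
  have h2 : (mk Y⁻¹ * mk (Y * X)) ^ 2 = 1 := by
    rw [← map_mul, inv_mul_cancel_left, ← map_pow, hmk]
    exact H7.sl2_sq_mem_center_of_trace X hX
  have hne : mk Y⁻¹ * mk (Y * X) ≠ 1 := by
    rw [← map_mul, inv_mul_cancel_left, Ne, hmk]
    exact hXc
  have hrel : ∀ r ∈ ({FreeGroup.of (0 : Fin 2) ^ 3, FreeGroup.of (1 : Fin 2) ^ 5,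
      (FreeGroup.of (0 : Fin 2) * FreeGroup.of 1) ^ 2} : Set (FreeGroup (Fin 2))),
      FreeGroup.lift ![mk Y⁻¹, mk (Y * X)] r = 1 := by
    intro r hr
    simp only [Set.mem_insert_iff, Set.mem_singleton_iff] at hr
    rcases hr with rfl | rfl | rfl
    · simpa using h3
    · simpa using h5
    · simpa using h2
  let φ := PresentedGroup.toGroup hrel
  let ψ : alternatingGroup (Fin 5) →* Matrix.ProjectiveSpecialLinearGroup (Fin 2) F :=
    φ.comp e.symm.toMonoidHom
  have hψ : ψ (e (PresentedGroup.of 0 * PresentedGroup.of 1)) ≠ 1 := by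
    have : ψ (e (PresentedGroup.of 0 * PresentedGroup.of 1)) = mk Y⁻¹ * mk (Y * X) := by
      simp [ψ, φ]
    rw [this]
    exact hne
  have hinj : Function.Injective ψ := by
    rw [← MonoidHom.ker_eq_bot_iff]
    rcases (alternatingGroup.isSimpleGroup_five).eq_bot_or_eq_top_of_normal ψ.ker
      (MonoidHom.normal_ker ψ) with hk | hk
    · exact hk
    · exfalso
      apply hψ
      rw [← MonoidHom.mem_ker, hk]
      trivial
  exact ⟨ψ.range, ⟨(MonoidHom.ofInjective hinj).symm⟩⟩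

/-- PSL_2(q) has a subgroup isomorphic to A_5 iff 5 ∣ q(q² − 1). -/
theorem result {F : Type*} [Field F] [Fintype F] {q : ℕ} (hF : Fintype.card F = q) : (∃ H : Subgroup (Matrix.ProjectiveSpecialLinearGroup (Fin 2) F), Nonempty (H ≃* alternatingGroup (Fin 5))) ↔ 5 ∣ q * (q ^ 2 - 1) := by
  subst hF
  constructor
  · rintro ⟨H, ⟨e⟩⟩
    have hc : Nat.card H = 60 := by rw [Nat.card_congr e.toEquiv, card_A5]
    have hdvd : Nat.card H ∣ Nat.card (Matrix.ProjectiveSpecialLinearGroup (Fin 2) F) :=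
      Subgroup.card_subgroup_dvd_card H
    have hq : Nat.card SL(2, F) = Nat.card (Matrix.ProjectiveSpecialLinearGroup (Fin 2) F) *
        Nat.card (Subgroup.center SL(2, F)) :=
      Subgroup.card_eq_card_quotient_mul_card_subgroup (Subgroup.center SL(2, F))
    rw [← H7.card_SL2, hq]
    rw [hc] at hdvd
    exact Dvd.dvd.mul_right (dvd_trans (by norm_num) hdvd) _
  · intro h5
    rw [← H7.card_SL2] at h5
    haveI : Fact (Nat.Prime 5) := ⟨by norm_num⟩
    obtain ⟨g, hg⟩ := exists_prime_orderOf_dvd_card' (G := SL(2, F)) 5 h5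
    have hτ := H7.trace_of_orderOf_five g hg
    by_cases h2 : (2 : F) = 0
    · apply exists_A5 _ hτ (g.1 0 0 + g.1 1 1) 0
      have : (g.1 0 0 + g.1 1 1) * (g.1 0 0 + g.1 1 1) + (g.1 0 0 + g.1 1 1) + 1 = 0 := by
        rw [hτ]
        linear_combination h2
      linear_combination this
    · have hodd : Fintype.card F % 2 = 1 := by
        apply FiniteField.odd_card_of_char_ne_two
        intro h
        apply h2
        haveI := ringChar.of_eq h
        exact CharTwo.two_eq_zero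
      obtain ⟨α, β, hab⟩ := H7.exists_conic hodd (g.1 0 0 + g.1 1 1)
      exact exists_A5 _ hτ α β hab

end Cfsg.Agent.S0804
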