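import Cfsg.Statements.S0851
import Cfsg.Agent.H5.Coherent
import Cfsg.Agent.H83.Gagola2

set_option autoImplicit false
open Cfsg

namespace Cfsg.Agent.S0851

open Cfsg.Agent.H4 Cfsg.Agent.H5
open scoped ComplexConjugate

/-- Let K be a subgroup of the finite group G that meets each conjugate by an element outside its normalizer N trivially, is properly contained in N, and contains the centralizer of each of its non-identity elements (a T.I. subgroup with Frobenius normalizer). Suppose K is abelian, let e be the index of K in N, and call an irreducible character of N relevant when it takes at some element of K a value different from its degree. Then either there is exactly one relevant character and K is an elementary abelian p-group of order e + 1 for some prime p, or there are a sign ε and an injective map f from the relevant characters to the irreducible characters of G such that inducing χ - ξ to G gives ε (f χ - f ξ) for all relevant χ and ξ. -/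
theorem result {G : Type*} [Group G] [Fintype G] (K : Subgroup G) (hTI : ∀ g : G, g ∉ Subgroup.normalizer (K : Set G) → ∀ k ∈ K, g * k * g⁻¹ ∈ K → k = 1) (hlt : K < Subgroup.normalizer (K : Set G)) (hC : ∀ k ∈ K, k ≠ 1 → Subgroup.centralizer ({k} : Set G) ≤ K) (hab : ∀ a ∈ K, ∀ b ∈ K, a * b = b * a) : (Nat.card {χ : Cfsg.IrrCharacter (Subgroup.normalizer (K : Set G)) // ∃ k : Subgroup.normalizer (K : Set G), (k : G) ∈ K ∧ (χ : ↥(Subgroup.normalizer (K : Set G)) → ℂ) k ≠ (χ : ↥(Subgroup.normalizer (K : Set G)) → ℂ) 1} = 1 ∧ ∃ p : ℕ, p.Prime ∧ Cfsg.IsElementaryAbelian p K ∧ Nat.card K = (K.subgroupOf (Subgroup.normalizer (K : Set G))).index + 1) ∨ ∃ (ε : ℂ) (f : {χ : Cfsg.IrrCharacter (Subgroup.normalizer (K : Set G)) // ∃ k : Subgroup.normalizer (K : Set G), (k : G) ∈ K ∧ (χ : ↥(Subgroup.normalizer (K : Set G)) → ℂ) k ≠ (χ : ↥(Subgroup.normalizer (K : Set G)) → ℂ) 1} → Cfsg.IrrCharacter G), (ε = 1 ∨ ε = -1) ∧ Function.Injective f ∧ ∀ χ ξ, Cfsg.indFun (Subgroup.normalizer (K : Set G)) ((χ.1 : ↥(Subgroup.normalizer (K : Set G))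 → ℂ) - (ξ.1 : ↥(Subgroup.normalizer (K : Set G)) → ℂ)) = ε • ((f χ : G → ℂ) - (f ξ : G → ℂ)) := by
  classical
  haveI : Fintype ↥(Subgroup.normalizer (K : Set G)) := Fintype.ofFinite _
  letI := fintypeIrr ↥(Subgroup.normalizer (K : Set G))
  have hfpf := normalizer_fpf K hC
  haveI : Fintype (K.subgroupOf (Subgroup.normalizer (K : Set G))) := Fintype.ofFinite _
  have hcomm : ∀ a b : K.subgroupOf (Subgroup.normalizer (K : Set G)), a * b = b * a := by
    intro a b
    apply Subtype.ext
    apply Subtype.ext
    exact hab _ a.2 _ b.2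
  -- the relevant characters lie in `relSet`
  have hmem : ∀ χ : {χ : Cfsg.IrrCharacter (Subgroup.normalizer (K : Set G)) //
      ∃ k : Subgroup.normalizer (K : Set G), (k : G) ∈ K ∧
        (χ : ↥(Subgroup.normalizer (K : Set G)) → ℂ) k ≠
          (χ : ↥(Subgroup.normalizer (K : Set G)) → ℂ) 1},
      (χ.1 : ↥(Subgroup.normalizer (K : Set G)) → ℂ) ∈
        relSet (K.subgroupOf (Subgroup.normalizer (K : Set G))) := fun χ => ⟨χ.1.2, χ.2⟩
  -- all relevant characters have degree `e`
  have hdeg : ∀ χ ∈ relSet (K.subgroupOf (Subgroup.normalizer (K : Set G))),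
      χ 1 = ((K.subgroupOf (Subgroup.normalizer (K : Set G))).index : ℂ) := by
    intro χ hχ
    obtain ⟨τ, hτ, hτ1, rfl⟩ := (mem_relSet_iff _ hfpf χ).mp hχ
    rw [indFun_one_eq, (Cfsg.Agent.H83.IsIrrCharacter.linear_of_comm hcomm hτ).1, mul_one]
  by_cases h1 : Nat.card {χ : Cfsg.IrrCharacter (Subgroup.normalizer (K : Set G)) //
      ∃ k : Subgroup.normalizer (K : Set G), (k : G) ∈ K ∧
        (χ : ↥(Subgroup.normalizer (K : Set G)) → ℂ) k ≠
          (χ : ↥(Subgroup.normalizer (K : Set G)) → ℂ) 1} = 1
  · left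
    refine ⟨h1, ?_⟩
    obtain ⟨hsub, ⟨χ₀⟩⟩ := Nat.card_eq_one_iff_unique.mp h1
    have hχ₀ := hmem χ₀
    have hall : ∀ χ ∈ relSet (K.subgroupOf (Subgroup.normalizer (K : Set G))),
        χ = (χ₀.1 : ↥(Subgroup.normalizer (K : Set G)) → ℂ) := by
      intro χ hχ
      have : (⟨⟨χ, hχ.1⟩, hχ.2⟩ : {χ : Cfsg.IrrCharacter (Subgroup.normalizer (K : Set G)) //
          ∃ k : Subgroup.normalizer (K : Set G), (k : G) ∈ K ∧
            (χ : ↥(Subgroup.normalizer (K : Set G)) → ℂ) k ≠
              (χ : ↥(Subgroup.normalizer (K : Set G)) → ℂ) 1}) = χ₀ := Subsingleton.elim _ _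
      rw [← this]
    set f : K.subgroupOf (Subgroup.normalizer (K : Set G)) → ℂ :=
      fun k => (χ₀.1 : ↥(Subgroup.normalizer (K : Set G)) → ℂ) k with hf
    have hχ₀cf : IsClassFunction ↥(Subgroup.normalizer (K : Set G))
        (χ₀.1 : ↥(Subgroup.normalizer (K : Set G)) → ℂ) := irr_isClassFunction χ₀.1
    have hfcf : IsClassFunction (K.subgroupOf (Subgroup.normalizer (K : Set G))) f :=
      fun g h => hχ₀cf (g : ↥(Subgroup.normalizer (K : Set G)))
        (h : ↥(Subgroup.normalizer (K : Set G)))
    have hs : ∀ τ : IrrCharacter (K.subgroupOf (Subgroup.normalizer (K : Set G))),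
        τ.1 ≠ (fun _ => 1) → classInner f τ.1 = 1 * τ.1 1 := by
      intro τ hτ
      have hind : indFun (K.subgroupOf (Subgroup.normalizer (K : Set G))) τ.1 =
          (χ₀.1 : ↥(Subgroup.normalizer (K : Set G)) → ℂ) :=
        hall _ ((mem_relSet_iff _ hfpf _).mpr ⟨τ.1, τ.2, hτ, rfl⟩)
      rw [(Cfsg.Agent.H83.IsIrrCharacter.linear_of_comm hcomm τ.2).1, mul_one,
        ← classInner_conj_symm,
        ← frobenius_reciprocity (K.subgroupOf (Subgroup.normalizer (K : Set G))) τ.1
          (χ₀.1 : ↥(Subgroup.normalizer (K : Set G)) → ℂ) hχ₀cf,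
        hind, irr_inner_self χ₀.1, map_one]
    have h1f : classInner f (fun _ => (1 : ℂ)) = 0 := by
      rw [← classInner_conj_symm,
        ← frobenius_reciprocity (K.subgroupOf (Subgroup.normalizer (K : Set G))) _
          (χ₀.1 : ↥(Subgroup.normalizer (K : Set G)) → ℂ) hχ₀cf,
        Cfsg.Agent.H82.classInner_permChar_eq_zero
          (K.subgroupOf (Subgroup.normalizer (K : Set G))) χ₀.1 (by
            intro hle
            rw [Subgroup.normalCore_eq_self] at hle
            obtain ⟨k, hk, hkne⟩ := χ₀.2
            exact hkne (hle hk)), map_zero]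
    have hval : ∀ k : K.subgroupOf (Subgroup.normalizer (K : Set G)), k ≠ 1 → f k = -1 := by
      intro k hk
      rw [const_off_one hfcf 1 hs k hk, h1f]
      ring
    have hcardK' : (Nat.card (K.subgroupOf (Subgroup.normalizer (K : Set G))) : ℂ) =
        ((K.subgroupOf (Subgroup.normalizer (K : Set G))).index : ℂ) + 1 := by
      have hsum : ∑ k : K.subgroupOf (Subgroup.normalizer (K : Set G)), f k = 0 := by
        unfold classInner at h1f
        rcases mul_eq_zero.mp h1f with h | h
        · exact absurd (inv_eq_zero.mp h) (neZero_card_complex _).out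
        · simpa using h
      rw [← Finset.add_sum_erase Finset.univ f (Finset.mem_univ 1),
        Finset.sum_congr rfl (fun k hk => hval k (Finset.ne_of_mem_erase hk)),
        Finset.sum_const, Finset.card_erase_of_mem (Finset.mem_univ _), Finset.card_univ] at hsum
      have hf1 : f 1 = ((K.subgroupOf (Subgroup.normalizer (K : Set G))).index : ℂ) :=
        hdeg _ hχ₀
      rw [hf1] at hsum
      rw [Nat.card_eq_fintype_card]
      have hpos : 1 ≤ Fintype.card (K.subgroupOf (Subgroup.normalizer (K : Set G))) :=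
        Fintype.card_pos
      simp only [nsmul_eq_mul] at hsum
      rw [Nat.cast_sub hpos] at hsum
      push_cast at hsum
      linear_combination (-1 : ℂ) * hsum
    have hcardK'nat : Nat.card (K.subgroupOf (Subgroup.normalizer (K : Set G))) =
        (K.subgroupOf (Subgroup.normalizer (K : Set G))).index + 1 := by
      exact_mod_cast hcardK'
    have hcardK : Nat.card K = (K.subgroupOf (Subgroup.normalizer (K : Set G))).index + 1 := by
      have e1 : Nat.card (K.subgroupOf (Subgroup.normalizer (K : Set G))) = Nat.card K :=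
        Nat.card_congr (Subgroup.subgroupOfEquivOfLe Subgroup.le_normalizer).toEquiv
      rw [← e1]
      exact hcardK'nat
    have hK'card : 2 ≤ Nat.card (K.subgroupOf (Subgroup.normalizer (K : Set G))) := by
      have : 0 < (K.subgroupOf (Subgroup.normalizer (K : Set G))).index :=
        Nat.pos_of_ne_zero Subgroup.index_ne_zero_of_finite
      omega
    have hpp : (Nat.card (K.subgroupOf (Subgroup.normalizer (K : Set G)))).minFac.Prime :=
      Nat.minFac_prime (by omega)
    haveI : Fact (Nat.card (K.subgroupOf (Subgroup.normalizer (K : Set G)))).minFac.Prime :=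
      ⟨hpp⟩
    obtain ⟨k₀, hk₀⟩ := exists_prime_orderOf_dvd_card'
      (G := K.subgroupOf (Subgroup.normalizer (K : Set G)))
      (Nat.card (K.subgroupOf (Subgroup.normalizer (K : Set G)))).minFac (Nat.minFac_dvd _)
    have hk₀1 : k₀ ≠ 1 := by
      rintro rfl
      rw [orderOf_one] at hk₀
      exact hpp.one_lt.ne hk₀
    refine ⟨_, hpp, ⟨⟨⟨fun a b => Subtype.ext (hab a a.2 b b.2)⟩⟩, ?_⟩, hcardK⟩
    intro a ha
    by_cases ha1 : a = 1
    · rw [ha1, one_pow]
    · set a' : K.subgroupOf (Subgroup.normalizer (K : Set G)) :=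
        ⟨⟨a, Subgroup.le_normalizer ha⟩, ha⟩ with ha'
      have ha'1 : a' ≠ 1 := by
        intro h
        apply ha1
        have h' := congrArg (fun x : K.subgroupOf (Subgroup.normalizer (K : Set G)) =>
          ((x : ↥(Subgroup.normalizer (K : Set G))) : G)) h
        exact h'
      have hconj : IsConj (a' : ↥(Subgroup.normalizer (K : Set G)))
          (k₀ : ↥(Subgroup.normalizer (K : Set G))) := by
        rw [isConj_iff_irr]
        intro ψ
        by_cases hψ : ∃ k : Subgroup.normalizer (K : Set G), (k : G) ∈ K ∧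
            (ψ : ↥(Subgroup.normalizer (K : Set G)) → ℂ) k ≠
              (ψ : ↥(Subgroup.normalizer (K : Set G)) → ℂ) 1
        · have : (ψ : ↥(Subgroup.normalizer (K : Set G)) → ℂ) =
              (χ₀.1 : ↥(Subgroup.normalizer (K : Set G)) → ℂ) := hall _ ⟨ψ.2, hψ⟩
          rw [this]
          exact (hval a' ha'1).trans (hval k₀ hk₀1).symm
        · push Not at hψ
          rw [hψ (a' : ↥(Subgroup.normalizer (K : Set G))) a'.2,
            hψ (k₀ : ↥(Subgroup.normalizer (K : Set G))) k₀.2]
      obtain ⟨c, hc⟩ := isConj_iff.mp hconj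
      have hk₀p : (k₀ : ↥(Subgroup.normalizer (K : Set G))) ^
          (Nat.card (K.subgroupOf (Subgroup.normalizer (K : Set G)))).minFac = 1 := by
        have := pow_orderOf_eq_one k₀
        rw [hk₀] at this
        have h' := congrArg Subtype.val this
        simpa using h'
      rw [← hc, conj_pow] at hk₀p
      have hap : (a' : ↥(Subgroup.normalizer (K : Set G))) ^
          (Nat.card (K.subgroupOf (Subgroup.normalizer (K : Set G)))).minFac = 1 := by
        have h2 : (a' : ↥(Subgroup.normalizer (K : Set G))) ^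
            (Nat.card (K.subgroupOf (Subgroup.normalizer (K : Set G)))).minFac =
            c⁻¹ * (c * (a' : ↥(Subgroup.normalizer (K : Set G))) ^
              (Nat.card (K.subgroupOf (Subgroup.normalizer (K : Set G)))).minFac * c⁻¹) * c := by
          group
        rw [h2, hk₀p]
        group
      have h3 := congrArg Subtype.val hap
      simpa using h3
  · right
    by_cases h0 : Nat.card {χ : Cfsg.IrrCharacter (Subgroup.normalizer (K : Set G)) //
        ∃ k : Subgroup.normalizer (K : Set G), (k : G) ∈ K ∧
          (χ : ↥(Subgroup.normalizer (K : Set G)) → ℂ) k ≠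
            (χ : ↥(Subgroup.normalizer (K : Set G)) → ℂ) 1} = 0
    · have hemp : IsEmpty {χ : Cfsg.IrrCharacter (Subgroup.normalizer (K : Set G)) //
          ∃ k : Subgroup.normalizer (K : Set G), (k : G) ∈ K ∧
            (χ : ↥(Subgroup.normalizer (K : Set G)) → ℂ) k ≠
              (χ : ↥(Subgroup.normalizer (K : Set G)) → ℂ) 1} := by
        rcases Nat.card_eq_zero.mp h0 with h | h
        · exact h
        · exact absurd (Finite.of_fintype _) (not_finite_iff_infinite.mpr h)
      exact ⟨1, fun χ => (hemp.false χ).elim, Or.inl rfl, fun χ => (hemp.false χ).elim,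
        fun χ => (hemp.false χ).elim⟩
    · have hn2 : 2 ≤ Nat.card {χ : Cfsg.IrrCharacter (Subgroup.normalizer (K : Set G)) //
          ∃ k : Subgroup.normalizer (K : Set G), (k : G) ∈ K ∧
            (χ : ↥(Subgroup.normalizer (K : Set G)) → ℂ) k ≠
              (χ : ↥(Subgroup.normalizer (K : Set G)) → ℂ) 1} := by omega
      let e := Finite.equivFin {χ : Cfsg.IrrCharacter (Subgroup.normalizer (K : Set G)) //
          ∃ k : Subgroup.normalizer (K : Set G), (k : G) ∈ K ∧
            (χ : ↥(Subgroup.normalizer (K : Set G)) → ℂ) k ≠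
              (χ : ↥(Subgroup.normalizer (K : Set G)) → ℂ) 1}
      obtain ⟨ε, hε, θ, hθirr, hθinj, heq⟩ := exceptional_characters (K : Set G) hTI _ hn2
        (fun i => ((e.symm i).1 : ↥(Subgroup.normalizer (K : Set G)) → ℂ))
        (fun i => (e.symm i).1.2)
        (by
          intro i j hij
          have h2 : (e.symm i).1 = (e.symm j).1 := Subtype.ext hij
          have h3 : e.symm i = e.symm j := Subtype.ext h2
          exact e.symm.injective h3)
        (fun i x hx => relSet_vanish _ hfpf (hmem _) hx)
        (fun i j => by rw [hdeg _ (hmem _), hdeg _ (hmem _)])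
      refine ⟨ε, fun χ => ⟨θ (e χ), hθirr _⟩, hε, ?_, ?_⟩
      · intro χ ξ h
        have h2 := hθinj (congrArg Subtype.val h)
        exact e.injective h2
      · intro χ ξ
        rw [indFun_sub]
        have h2 := heq (e χ) (e ξ)
        simp only [Equiv.symm_apply_apply] at h2
        exact h2

end Cfsg.Agent.S0851
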