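import Cfsg.Statements.S0039
import Cfsg.Agent.Lib.Helper96.Frob

set_option autoImplicit false
open Cfsg

namespace Cfsg.Agent.S0039

/-- In a finite group that is a semidirect product of a normal subgroup K by a nontrivial subgroup H, H is a Frobenius complement exactly when each nonidentity element of H acts without nonidentity fixed points on K by conjugation. -/
theorem result {G : Type*} [Group G] [Finite G] (K H : Subgroup G) [K.Normal]
    (hc : Subgroup.IsComplement' K H) (hK : K ≠ ⊥) (hH : H ≠ ⊥) :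
    Cfsg.IsFrobeniusComplement H ↔ ∀ h ∈ H, h ≠ 1 → K ⊓ Subgroup.centralizer {h} = ⊥ := by
  have hdisj : K ⊓ H = ⊥ := hc.disjoint.eq_bot
  constructor
  · intro hF h hh h1
    rw [eq_bot_iff]
    intro k hk
    rw [Subgroup.mem_bot]
    rw [Subgroup.mem_inf] at hk
    obtain ⟨hkK, hkc⟩ := hk
    rw [Subgroup.mem_centralizer_iff] at hkc
    have hcomm : h * k = k * h := hkc h rfl
    have hkH : k ∈ H := by
      apply Lib.Helper96.frob_mem_of_conj_mem hF hh h1
      rw [← hcomm, mul_inv_cancel_right]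
      exact hh
    have : k ∈ K ⊓ H := ⟨hkK, hkH⟩
    rwa [hdisj, Subgroup.mem_bot] at this
  · intro hfix
    refine ⟨hH, ?_, ?_⟩
    · intro htop
      apply hK
      rw [← hdisj, htop, inf_top_eq]
    · intro g hg
      rw [eq_bot_iff]
      intro x hx
      rw [Subgroup.mem_bot]
      rw [Subgroup.mem_inf] at hx
      obtain ⟨hxH, hxg⟩ := hx
      by_contra hx1
      obtain ⟨⟨k, h'⟩, hkh⟩ := hc.2 g
      simp only at hkh
      have hk1 : (k : G) ≠ 1 := by
        intro hk
        apply hg
        rw [← hkh, hk, one_mul]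
        exact h'.2
      have hxg' : g⁻¹ * x * g ∈ H := Lib.Helper96.mem_conj_smul_iff.mp hxg
      -- y = h' * (g⁻¹ x g) * h'⁻¹ = k⁻¹ x k ∈ H
      have hy : (k : G)⁻¹ * x * k ∈ H := by
        have h2 : (k : G)⁻¹ * x * k = h' * (g⁻¹ * x * g) * (h' : G)⁻¹ := by
          rw [← hkh]; group
        rw [h2]
        exact H.mul_mem (H.mul_mem h'.2 hxg') (H.inv_mem h'.2)
      -- x * (k⁻¹ x k)⁻¹ ∈ K ∩ H
      have hz : x * ((k : G)⁻¹ * x * k)⁻¹ ∈ K ⊓ H := by
        refine ⟨?_, H.mul_mem hxH (H.inv_mem hy)⟩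
        have h3 : x * ((k : G)⁻¹ * x * k)⁻¹ = (x * (k : G)⁻¹ * x⁻¹) * k := by group
        rw [h3]
        exact K.mul_mem (Subgroup.Normal.conj_mem inferInstance _ (K.inv_mem k.2) x) k.2
      rw [hdisj, Subgroup.mem_bot] at hz
      have hcomm : x * k = k * x := by
        have h4 : x = (k : G)⁻¹ * x * k := by
          rw [mul_inv_eq_one] at hz; exact hz
        calc x * k = k * ((k : G)⁻¹ * x * k) := by group
          _ = k * x := by rw [← h4]
      have hkc : (k : G) ∈ K ⊓ Subgroup.centralizer {x} := by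
        rw [Subgroup.mem_inf]
        refine ⟨k.2, ?_⟩
        rw [Subgroup.mem_centralizer_iff]
        intro y hy'
        rw [Set.mem_singleton_iff] at hy'
        rw [hy']; exact hcomm
      rw [hfix x hxH hx1, Subgroup.mem_bot] at hkc
      exact hk1 hkc

end Cfsg.Agent.S0039
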