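import Cfsg.Statements.S0042
import Mathlib
import Cfsg.Agent.S0035
import Cfsg.Agent.S0039
import Cfsg.Agent.S0033

set_option autoImplicit false
open Cfsg

namespace Cfsg.Agent.S0042

/-- In a finite Frobenius group, the Frobenius kernel is (the carrier of) a normal subgroup which is nilpotent. -/
theorem result {G : Type*} [Group G] [Finite G] (H : Subgroup G) (hH : Cfsg.IsFrobeniusComplement H) :
    ∃ N : Subgroup G, (N : Set G) = Cfsg.frobeniusKernel H ∧ N.Normal ∧ Group.IsNilpotent N := by
  obtain ⟨N, hNset, hNn, hc⟩ := Cfsg.Agent.S0035.result H hH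
  refine ⟨N, hNset, hNn, ?_⟩
  have := hNn
  by_cases hN : N = ⊥
  · subst hN
    infer_instance
  have hH1 : H ≠ ⊥ := hH.1
  have hcard : Nat.card H ≠ 1 := fun h => hH1 (Subgroup.card_eq_one.mp h)
  obtain ⟨r, hr, hrH⟩ := Nat.exists_prime_and_dvd hcard
  have : Fact r.Prime := ⟨hr⟩
  obtain ⟨h, hh⟩ := exists_prime_orderOf_dvd_card' r hrH
  have hh1 : (h : G) ≠ 1 := by
    intro e
    have : h = 1 := Subtype.ext e
    rw [this, orderOf_one] at hh
    exact hr.one_lt.ne hh
  have hfix := (Cfsg.Agent.S0039.result N H hc hN hH1).mp hH (h : G) h.2 hh1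
  have hφapply : ∀ n : N, ((MulAut.conjNormal (h : G) n : N) : G) = h * n * (h : G)⁻¹ :=
    fun n => MulAut.conjNormal_apply _ _
  have hfpf : MonoidHom.FixedPointFree
      ((MulAut.conjNormal (h : G) : N ≃* N) : N →* N) := by
    intro n hn
    have h1 : (h : G) * n * (h : G)⁻¹ = n := by
      rw [← hφapply]; exact congrArg Subtype.val hn
    have h2 : (n : G) ∈ N ⊓ Subgroup.centralizer {(h : G)} := by
      refine ⟨n.2, ?_⟩
      show (n : G) ∈ Subgroup.centralizer {(h : G)}
      rw [Subgroup.mem_centralizer_iff]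
      intro x hx
      rw [Set.mem_singleton_iff] at hx
      subst hx
      calc (h : G) * n = h * n * (h : G)⁻¹ * h := by group
        _ = n * h := by rw [h1]
    rw [hfix, Subgroup.mem_bot] at h2
    exact Subtype.ext h2
  have hφr : (MulAut.conjNormal (h : G) : N ≃* N) ^ r = 1 := by
    rw [← map_pow]
    have : (h : G) ^ r = 1 := by
      rw [← Subgroup.coe_pow, ← hh, pow_orderOf_eq_one]; rfl
    rw [this, map_one]
  have hφ1 : (MulAut.conjNormal (h : G) : N ≃* N) ≠ 1 := by
    intro e
    apply hN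
    rw [eq_bot_iff]
    intro n hn
    have := hfpf ⟨n, hn⟩ (by rw [e]; rfl)
    exact congrArg Subtype.val this
  exact Cfsg.Agent.S0033.result _ hfpf r hr (orderOf_eq_prime hφr hφ1)

end Cfsg.Agent.S0042
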