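import Cfsg.Statements.S0700
import Cfsg.Agent.H16.Burnside2T
import Mathlib

set_option autoImplicit false
open Cfsg

namespace Cfsg.Agent.S0700

open MulAction Equiv

/-- Burnside's Theorem on doubly transitive groups: a minimal normal subgroup of a finite doubly transitive permutation group is elementary abelian and regular, or simple and primitive. -/
theorem result {α : Type*} [Fintype α] [DecidableEq α] (G : Subgroup (Equiv.Perm α)) (hG : MulAction.IsMultiplyPretransitive G α 2) (N : Subgroup G) [N.Normal] (hN : N ≠ ⊥) (hmin : ∀ M : Subgroup G, M.Normal → M ≤ N → M = ⊥ ∨ M = N) : (IsMulCommutative N ∧ (∃ p : ℕ, p.Prime ∧ ∀ n ∈ N, n ^ p = 1) ∧ ∀ a : α, MulAction.stabilizer N a = ⊥) ∨ (IsSimpleGroup N ∧ MulAction.IsPreprimitive N α) := by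
  classical
  obtain ⟨M, hMdef⟩ : ∃ M : Subgroup (Perm α), M = N.map G.subtype := ⟨_, rfl⟩
  have hmemM : ∀ x : Perm α, x ∈ M ↔ ∃ n ∈ N, (n : Perm α) = x := by
    intro x; rw [hMdef]; exact Subgroup.mem_map
  have hG2 : ∀ a b a' b' : α, a ≠ b → a' ≠ b' → ∃ g ∈ G, g a = a' ∧ g b = b' := by
    intro a b a' b' hab hab'
    obtain ⟨g, h1, h2⟩ := MulAction.is_two_pretransitive_iff.mp hG hab hab'
    exact ⟨g.1, g.2, h1, h2⟩
  have hnorm : ∀ g ∈ G, ∀ x ∈ M, g * x * g⁻¹ ∈ M := by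
    intro g hg x hx
    obtain ⟨n, hn, rfl⟩ := (hmemM x).mp hx
    exact (hmemM _).mpr ⟨⟨g, hg⟩ * n * ⟨g, hg⟩⁻¹, ‹N.Normal›.conj_mem n hn ⟨g, hg⟩, rfl⟩
  have hM : M ≠ ⊥ := by
    intro h
    apply hN
    rw [hMdef] at h
    rwa [Subgroup.map_eq_bot_iff_of_injective N G.subtype_injective] at h
  have hminM : ∀ L : Subgroup (Perm α), L ≤ M → (∀ g ∈ G, ∀ x ∈ L, g * x * g⁻¹ ∈ L) →
      L = ⊥ ∨ L = M := by
    intro L hLM hLn
    let L' : Subgroup G := L.comap G.subtype
    have hL'n : L'.Normal := ⟨fun x hx g => by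
      change ((g * x * g⁻¹ : G) : Perm α) ∈ L
      have := hLn g g.2 x hx
      simpa using this⟩
    have hL'N : L' ≤ N := by
      intro x hx
      obtain ⟨n, hn, hnx⟩ := (hmemM _).mp (hLM hx)
      have : n = x := Subtype.ext hnx
      rw [← this]; exact hn
    have hLmap : L'.map G.subtype = L := by
      ext y
      constructor
      · rintro ⟨x, hx, rfl⟩; exact hx
      · intro hy
        obtain ⟨n, hn, rfl⟩ := (hmemM _).mp (hLM hy)
        exact ⟨n, hy, rfl⟩
    rcases hmin L' hL'n hL'N with h | h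
    · left; rw [← hLmap, h]; simp
    · right; rw [← hLmap, h, hMdef]
  by_cases hreg : ∀ x ∈ M, ∀ a, x a = a → x = 1
  · left
    obtain ⟨hcomm, p, hp, hexp⟩ := H16.regular_normalized_elementary G M hG2 hnorm hM hreg
    refine ⟨⟨⟨fun u v => ?_⟩⟩, ⟨p, hp, fun n hn => ?_⟩, fun a => ?_⟩
    · apply Subtype.ext; apply Subtype.ext
      exact hcomm _ ((hmemM _).mpr ⟨u, u.2, rfl⟩) _ ((hmemM _).mpr ⟨v, v.2, rfl⟩)
    · apply Subtype.ext
      have := hexp _ ((hmemM _).mpr ⟨n, hn, rfl⟩)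
      simpa using this
    · rw [eq_bot_iff]
      intro n hn
      rw [MulAction.mem_stabilizer_iff] at hn
      rw [Subgroup.mem_bot]
      apply Subtype.ext; apply Subtype.ext
      exact hreg _ ((hmemM _).mpr ⟨n, n.2, rfl⟩) a hn
  · right
    push Not at hreg
    obtain ⟨x₀, hx₀, a₀, hx₀a, hx₀1⟩ := hreg
    have hnonreg : ∃ x ∈ M, x ≠ 1 ∧ ∃ a, x a = a := ⟨x₀, hx₀, hx₀1, a₀, hx₀a⟩
    have hblocks := H16.blocks_trivial_of_nonregular G M hG2 hnorm hM hminM hnonreg
    have htrans := H16.transitive_of_normalized G M hG2 hnorm hM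
    constructor
    · refine { toNontrivial := (Subgroup.nontrivial_iff_ne_bot N).mpr hN,
               eq_bot_or_eq_top_of_normal := fun K hK => ?_ }
      let K' : Subgroup (Perm α) := (K.map N.subtype).map G.subtype
      have hK'mem : ∀ x : Perm α, x ∈ K' ↔ ∃ k ∈ K, ((k : G) : Perm α) = x := by
        intro x
        constructor
        · rintro ⟨_, ⟨k, hk, rfl⟩, rfl⟩; exact ⟨k, hk, rfl⟩
        · rintro ⟨k, hk, rfl⟩; exact ⟨_, ⟨k, hk, rfl⟩, rfl⟩
      have hK'M : K' ≤ M := by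
        intro x hx
        obtain ⟨k, hk, rfl⟩ := (hK'mem x).mp hx
        exact (hmemM _).mpr ⟨k, k.2, rfl⟩
      have hK'n : ∀ m ∈ M, ∀ x ∈ K', m * x * m⁻¹ ∈ K' := by
        intro m hm x hx
        obtain ⟨n, hn, rfl⟩ := (hmemM m).mp hm
        obtain ⟨k, hk, rfl⟩ := (hK'mem x).mp hx
        exact (hK'mem _).mpr ⟨⟨n, hn⟩ * k * ⟨n, hn⟩⁻¹, hK.conj_mem k hk ⟨n, hn⟩, rfl⟩
      rcases H16.simple_of_blocks_trivial G M hG2 hnorm hminM hblocks K' hK'M hK'n with h | h
      · left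
        rw [eq_bot_iff]
        intro k hk
        have : ((k : G) : Perm α) ∈ K' := (hK'mem _).mpr ⟨k, hk, rfl⟩
        rw [h, Subgroup.mem_bot] at this
        rw [Subgroup.mem_bot]
        apply Subtype.ext; apply Subtype.ext
        exact this
      · right
        rw [eq_top_iff]
        intro n _
        have : ((n : G) : Perm α) ∈ K' := by rw [h]; exact (hmemM _).mpr ⟨n, n.2, rfl⟩
        obtain ⟨k, hk, hkn⟩ := (hK'mem _).mp this
        have : k = n := by apply Subtype.ext; apply Subtype.ext; exact hkn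
        rw [← this]; exact hk
    · have : IsPretransitive N α := ⟨fun a b => by
        obtain ⟨x, hx, hxa⟩ := htrans a b
        obtain ⟨n, hn, rfl⟩ := (hmemM x).mp hx
        exact ⟨⟨n, hn⟩, hxa⟩⟩
      refine ⟨fun {B} hB => ?_⟩
      apply hblocks B
      rw [isBlock_iff_smul_eq_or_disjoint] at hB ⊢
      rintro ⟨x, hx⟩
      obtain ⟨n, hn, rfl⟩ := (hmemM x).mp hx
      exact hB ⟨n, hn⟩

end Cfsg.Agent.S0700
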