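import Mathlib
import Cfsg.Statements.S0883
import Cfsg.Agent.H19.ZassFrob

set_option autoImplicit false
open Cfsg

namespace Cfsg.Agent.S0883

/-- Let G be a finite simple Zassenhaus group on Ω with h + 1 points whose two-point stabilizer E has odd order e with 2e < h - 1, and let H be the subgroup of the stabilizer of a consisting of the identity and the elements fixing no point other than a (given here as a subgroup of the stabilizer of order one less than the number of points whose non-identity elements fix only a; it is the Frobenius kernel of the stabilizer). If a non-identity element u of H is a product of two involutions of G, then u is an involution. -/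
theorem result {G Ω : Type*} [Group G] [Finite G] [MulAction G Ω] [Fintype Ω] (hZ : Cfsg.IsZassenhausGroup G Ω) {a b : Ω} (hab : a ≠ b) [IsSimpleGroup G] (h e : ℕ) (hh : Fintype.card Ω = h + 1) (he : Nat.card ↥(MulAction.stabilizer G a ⊓ MulAction.stabilizer G b : Subgroup G) = e) (hodd : Odd e) (hlt : 2 * e < h - 1) (H : Subgroup G) (hHa : H ≤ MulAction.stabilizer G a) (hHcard : Nat.card H + 1 = Fintype.card Ω) (hHfix : ∀ u ∈ H, u ≠ 1 → ∀ c : Ω, u • c = c → c = a) (u : G) (hu : u ∈ H) (hu1 : u ≠ 1) (x y : G) (hx : orderOf x = 2) (hy : orderOf y = 2) (hxy : x * y = u) : orderOf u = 2 := by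
  classical
  have hx2 := Cfsg.Agent.H19.invol_mul_self hx
  have hy2 := Cfsg.Agent.H19.invol_mul_self hy
  have hxinv : x⁻¹ = x := inv_eq_of_mul_eq_one_left hx2
  have hyinv : y⁻¹ = y := inv_eq_of_mul_eq_one_left hy2
  have huinv : u⁻¹ = y * x := by rw [← hxy, mul_inv_rev, hxinv, hyinv]
  have huinvH : u⁻¹ ∈ H := H.inv_mem hu
  have huinv1 : u⁻¹ ≠ 1 := fun h => hu1 (inv_eq_one.mp h)
  have hua : u • a = a := hHa hu
  have hxa : x • a = a := by
    apply hHfix u⁻¹ huinvH huinv1
    have h1 : u⁻¹ • a = a := hHa huinvH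
    have h2 : u⁻¹ * x = x * u := by
      rw [huinv, ← hxy, mul_assoc, ← mul_assoc x x y, hx2, one_mul, mul_one]
    rw [← mul_smul, h2, mul_smul, hua]
  have hya : y • a = a := by
    have h1 : y = x * u := by rw [← hxy, ← mul_assoc, hx2, one_mul]
    rw [h1, mul_smul, hua, hxa]
  have hodd' : Odd (Nat.card (MulAction.stabilizer G a ⊓ MulAction.stabilizer G b : Subgroup G)) := by
    rw [he]; exact hodd
  have hxH : x ∈ H := Cfsg.Agent.H19.zass_mem_kernel hZ a H hHa hHcard hHfix x hxa
    (fun c hc => Cfsg.Agent.H19.zass_invol_fix_unique hZ hab hodd' hx hc hxa)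
  have hyH : y ∈ H := Cfsg.Agent.H19.zass_mem_kernel hZ a H hHa hHcard hHfix y hya
    (fun c hc => Cfsg.Agent.H19.zass_invol_fix_unique hZ hab hodd' hy hc hya)
  have hcomm : x * y = y * x :=
    Cfsg.Agent.H19.zass_kernel_invol_commute hZ hab hodd' H hHa hHcard hHfix hx hxH hyH (k := 1)
      (by rw [pow_one]; exact hy)
  have : Fact (Nat.Prime 2) := ⟨Nat.prime_two⟩
  apply orderOf_eq_prime _ hu1
  rw [pow_two, ← hxy]
  calc x * y * (x * y) = x * y * (y * x) := by rw [hcomm]
    _ = 1 := by rw [mul_assoc, ← mul_assoc y y x, hy2, one_mul, hx2]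

end Cfsg.Agent.S0883
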