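import Cfsg.Statements.S0738
import Mathlib

set_option autoImplicit false
open Cfsg

namespace Cfsg.Agent.S0738

open MulAction

/-- Let a finite Zassenhaus group of degree `n + 1` have two-point stabilisers of order `d` with `2d ≥ n - 1`. Then a normal subgroup of a point stabiliser acting regularly on the remaining points is elementary abelian, and the degree is a prime power plus one. -/
theorem result {G Ω : Type*} [Group G] [Finite G] [MulAction G Ω] [Fintype Ω] (hZ : Cfsg.IsZassenhausGroup G Ω) {a b : Ω} (hab : a ≠ b) (hd : Fintype.card Ω - 2 ≤ 2 * Nat.card ↥(MulAction.stabilizer G a ⊓ MulAction.stabilizer G b)) (F : Subgroup G) (hFle : F ≤ MulAction.stabilizer G a) (hFn : (F.subgroupOf (MulAction.stabilizer G a)).Normal) (hreg : ∀ y z : Ω, y ≠ a → z ≠ a → ∃! u : F, (u : G) • y = z) : IsMulCommutative F ∧ ∃ p f : ℕ, p.Prime ∧ (∀ u ∈ F, u ^ p = 1) ∧ Fintype.card Ω = p ^ f + 1 := by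
  classical
  obtain ⟨hfaith, h2, h3pt, ⟨g₀, hg₀1, a', b', hab', hg₀a, hg₀b⟩, _⟩ := hZ
  have := Fintype.ofFinite G
  set H := stabilizer G a ⊓ stabilizer G b with hH
  have hHmem : ∀ h : G, h ∈ H ↔ h • a = a ∧ h • b = b := by
    intro h; rw [hH, Subgroup.mem_inf, mem_stabilizer_iff, mem_stabilizer_iff]
  have hFa : ∀ u ∈ F, u • a = a := fun u hu => mem_stabilizer_iff.mp (hFle hu)
  have hFconj : ∀ g : G, g • a = a → ∀ u ∈ F, g * u * g⁻¹ ∈ F := by
    intro g hg u hu
    have h1 : (⟨u, hFle hu⟩ : stabilizer G a) ∈ F.subgroupOf (stabilizer G a) := by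
      rw [Subgroup.mem_subgroupOf]; exact hu
    have h2 := hFn.conj_mem _ h1 ⟨g, mem_stabilizer_iff.mpr hg⟩
    rw [Subgroup.mem_subgroupOf] at h2
    simpa using h2
  have hne_a : ∀ u ∈ F, ∀ y, y ≠ a → u • y ≠ a := by
    intro u hu y hy h
    apply hy
    have : u • y = u • a := by rw [h, hFa u hu]
    exact smul_left_cancel u this
  have huniq : ∀ u ∈ F, ∀ v ∈ F, ∀ y, y ≠ a → u • y = v • y → u = v := by
    intro u hu v hv y hy h
    obtain ⟨w, _, hw⟩ := hreg y (u • y) hy (hne_a u hu y hy)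
    have h1 := hw ⟨u, hu⟩ rfl
    have h2 := hw ⟨v, hv⟩ h.symm
    have := h1.trans h2.symm
    exact congrArg Subtype.val this
  have hmove : ∀ u ∈ F, u ≠ 1 → ∀ y, y ≠ a → u • y ≠ y := by
    intro u hu hu1 y hy h
    exact hu1 (huniq u hu 1 F.one_mem y hy (by rw [h, one_smul]))
  have hFH : ∀ u ∈ F, u ∈ H → u = 1 := by
    intro u hu huH
    by_contra h1
    exact hmove u hu h1 b hab.symm ((hHmem u).mp huH).2
  have hfpf : ∀ h ∈ H, ∀ x ∈ F, x ≠ 1 → h * x = x * h → h = 1 := by
    intro h hh x hx hx1 hcomm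
    obtain ⟨hha, hhb⟩ := (hHmem h).mp hh
    refine h3pt h a b (x • b) hab (Ne.symm (hmove x hx hx1 b hab.symm))
      (Ne.symm (hne_a x hx b hab.symm)) hha hhb ?_
    rw [← mul_smul, hcomm, mul_smul, hhb]
  have hsurj : ∀ h ∈ H, h ≠ 1 → ∀ u ∈ F, ∃ v ∈ F, u = v * h * v⁻¹ * h⁻¹ := by
    intro h hh hh1 u hu
    obtain ⟨hha, hhb⟩ := (hHmem h).mp hh
    let φ : F → F := fun v => ⟨v * h * (v : G)⁻¹ * h⁻¹, by
      have h1 : h * (v : G)⁻¹ * h⁻¹ ∈ F := hFconj h hha _ (F.inv_mem v.2)
      have h2 : (v : G) * h * (v : G)⁻¹ * h⁻¹ = v * (h * (v : G)⁻¹ * h⁻¹) := by group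
      rw [h2]; exact F.mul_mem v.2 h1⟩
    have hinj : Function.Injective φ := by
      intro v w hvw
      have h1 : (v : G) * h * (v : G)⁻¹ * h⁻¹ = w * h * (w : G)⁻¹ * h⁻¹ :=
        congrArg Subtype.val hvw
      have h3 : (v : G) * h * (v : G)⁻¹ = w * h * (w : G)⁻¹ := mul_right_cancel h1
      have h2 : ((w : G)⁻¹ * v) * h = h * ((w : G)⁻¹ * v) := by
        calc ((w : G)⁻¹ * v) * h = (w : G)⁻¹ * (v * h * (v : G)⁻¹) * v := by group
          _ = (w : G)⁻¹ * (w * h * (w : G)⁻¹) * v := by rw [h3]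
          _ = h * ((w : G)⁻¹ * v) := by group
      by_contra hne
      have h4 : (w : G)⁻¹ * v ≠ 1 := by
        intro h5
        apply hne
        apply Subtype.ext
        have := congrArg (fun z => (w : G) * z) h5
        simpa using this
      exact hh1 (hfpf h hh _ (F.mul_mem (F.inv_mem w.2) v.2) h4 h2.symm)
    obtain ⟨v, hv⟩ := (Finite.injective_iff_surjective.mp hinj) ⟨u, hu⟩
    exact ⟨v, v.2, (congrArg Subtype.val hv).symm⟩
  have hcent : ∀ g : G, g • a = a → ∀ x ∈ F, x ≠ 1 → g * x = x * g → g ∈ F := by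
    intro g hga x hx hx1 hcomm
    have hgb : g • b ≠ a := by
      intro h
      apply hab
      have : g • b = g • a := by rw [h, hga]
      exact (smul_left_cancel g this).symm
    obtain ⟨u, hu, -⟩ := hreg b (g • b) hab.symm hgb
    have hu' : (u : G) • b = g • b := hu
    have hhH : (u : G)⁻¹ * g ∈ H := by
      rw [hHmem]
      constructor
      · rw [mul_smul, hga, inv_smul_eq_iff, hFa u u.2]
      · rw [mul_smul, inv_smul_eq_iff, hu']
    obtain ⟨h, hhdef⟩ : ∃ h, h = (u : G)⁻¹ * g := ⟨_, rfl⟩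
    rw [← hhdef] at hhH
    have hguh : g = (u : G) * h := by rw [hhdef]; group
    by_cases hh1 : h = 1
    · rw [hguh, hh1, mul_one]; exact u.2
    · obtain ⟨v, hv, huv⟩ := hsurj _ hhH hh1 u u.2
      have hg : g = v * h * v⁻¹ := by
        calc g = (u : G) * h := hguh
          _ = (v * h * v⁻¹ * h⁻¹) * h := by rw [← huv]
          _ = v * h * v⁻¹ := by group
      have hfix1 : g • (v • b) = v • b := by
        conv_lhs => rw [hg]
        rw [mul_smul, mul_smul, inv_smul_smul, ((hHmem _).mp hhH).2]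
      have hfix2 : g • (x • (v • b)) = x • (v • b) := by
        rw [← mul_smul, hcomm, mul_smul, hfix1]
      have hvb : v • b ≠ a := hne_a v hv b hab.symm
      have := h3pt g a (v • b) (x • (v • b)) (Ne.symm hvb) (Ne.symm (hmove x hx hx1 _ hvb))
        (Ne.symm (hne_a x hx _ hvb)) hga hfix1 hfix2
      rw [this]; exact F.one_mem
  set Hf : Finset G := Finset.univ.filter (· ∈ H) with hHfdef
  set Ff : Finset G := Finset.univ.filter (· ∈ F) with hFfdef
  have hHf : Hf.card = Nat.card H := by rw [Nat.card_eq_fintype_card, Fintype.card_subtype]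
  have hFf : Ff.card = Nat.card F := by rw [Nat.card_eq_fintype_card, Fintype.card_subtype]
  have hmemHf : ∀ h, h ∈ Hf ↔ h ∈ H := by intro h; simp [hHfdef]
  have hmemFf : ∀ h, h ∈ Ff ↔ h ∈ F := by intro h; simp [hFfdef]
  have hFcard : Nat.card F + 1 = Fintype.card Ω := by
    have e : F ≃ {y : Ω // y ≠ a} := Equiv.ofBijective
      (fun u => ⟨(u : G) • b, hne_a u u.2 b hab.symm⟩) ⟨by
        intro u v huv
        have h1 : (u : G) • b = (v : G) • b := congrArg Subtype.val huv
        exact Subtype.ext (huniq u u.2 v v.2 b hab.symm h1), by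
        rintro ⟨z, hz⟩
        obtain ⟨u, hu, -⟩ := hreg b z hab.symm hz
        exact ⟨u, Subtype.ext hu⟩⟩
    rw [Nat.card_congr e, Nat.card_eq_fintype_card, Fintype.card_subtype_compl,
      Fintype.card_subtype_eq]
    have : 0 < Fintype.card Ω := Fintype.card_pos_iff.mpr ⟨a⟩
    omega
  have h3 : 3 ≤ Fintype.card Ω := by
    obtain ⟨c, hc⟩ : ∃ c : Ω, g₀ • c ≠ c := by
      by_contra hcon
      push Not at hcon
      apply hg₀1
      apply hfaith.eq_of_smul_eq_smul
      intro c
      rw [hcon c, one_smul]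
    have h1 : a' ≠ c := by rintro rfl; exact hc hg₀a
    have h2 : b' ≠ c := by rintro rfl; exact hc hg₀b
    exact Fintype.two_lt_card_iff.mpr ⟨a', b', c, hab', h1, h2⟩
  have hOcard : ∀ x ∈ F, x ≠ 1 → (Hf.image (fun h => h * x * h⁻¹)).card = Nat.card H := by
    intro x hx hx1
    rw [Finset.card_image_of_injOn, hHf]
    intro h hh h' hh' heq
    have hh1 : h ∈ H := (hmemHf h).mp hh
    have hh1' : h' ∈ H := (hmemHf h').mp hh'
    have heq' : h * x * h⁻¹ = h' * x * h'⁻¹ := heq
    have h1 : (h'⁻¹ * h) * x = x * (h'⁻¹ * h) := by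
      calc (h'⁻¹ * h) * x = h'⁻¹ * (h * x * h⁻¹) * h := by group
        _ = h'⁻¹ * (h' * x * h'⁻¹) * h := by rw [heq']
        _ = x * (h'⁻¹ * h) := by group
    have h2 := hfpf _ (H.mul_mem (H.inv_mem hh1') hh1) x hx hx1 h1
    have := congrArg (fun z => h' * z) h2
    simpa using this
  have hOsub : ∀ x ∈ F, x ≠ 1 → Hf.image (fun h => h * x * h⁻¹) ⊆ Ff.erase 1 := by
    intro x hx hx1 z hz
    obtain ⟨h, hh, rfl⟩ := Finset.mem_image.mp hz
    have hh1 : h ∈ H := (hmemHf h).mp hh
    rw [Finset.mem_erase]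
    refine ⟨?_, ?_⟩
    · intro h1
      apply hx1
      have := congrArg (fun z => h⁻¹ * z * h) h1
      simpa [mul_assoc] using this
    · rw [hmemFf]
      exact hFconj h ((hHmem h).mp hh1).1 x hx
  have hFerase : (Ff.erase 1).card = Fintype.card Ω - 2 := by
    rw [Finset.card_erase_of_mem ((hmemFf 1).mpr F.one_mem), hFf]; omega
  have hcomm : ∀ x ∈ F, ∀ y ∈ F, x * y = y * x := by
    by_contra hcon
    push Not at hcon
    obtain ⟨x, hx, y, hy, hxy⟩ := hcon
    have hx1 : x ≠ 1 := by rintro rfl; simp at hxy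
    obtain ⟨x', hx'⟩ : ∃ x', x' = y * x * y⁻¹ := ⟨_, rfl⟩
    have hx'F : x' ∈ F := by rw [hx']; exact F.mul_mem (F.mul_mem hy hx) (F.inv_mem hy)
    have hx'1 : x' ≠ 1 := by
      intro h
      apply hx1
      rw [hx'] at h
      have := congrArg (fun z => y⁻¹ * z * y) h
      simpa [mul_assoc] using this
    have hdisj : Disjoint (Hf.image (fun h => h * x * h⁻¹))
        (Hf.image (fun h => h * x' * h⁻¹)) := by
      rw [Finset.disjoint_left]
      intro z hz hz'
      obtain ⟨h, hh, rfl⟩ := Finset.mem_image.mp hz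
      obtain ⟨h', hh', heq⟩ := Finset.mem_image.mp hz'
      have hh1 : h ∈ H := (hmemHf h).mp hh
      have hh1' : h' ∈ H := (hmemHf h').mp hh'
      have heq' : h' * x' * h'⁻¹ = h * x * h⁻¹ := heq
      have hg : (h⁻¹ * h' * y) * x = x * (h⁻¹ * h' * y) := by
        calc (h⁻¹ * h' * y) * x = h⁻¹ * (h' * (y * x * y⁻¹) * h'⁻¹) * h' * y := by group
          _ = h⁻¹ * (h * x * h⁻¹) * h' * y := by rw [← hx', heq']
          _ = x * (h⁻¹ * h' * y) := by group
      have hga : (h⁻¹ * h' * y) • a = a := by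
        rw [mul_smul, mul_smul, hFa y hy, ((hHmem h').mp hh1').1, inv_smul_eq_iff,
          ((hHmem h).mp hh1).1]
      have hgF := hcent _ hga x hx hx1 hg
      have h1 : h⁻¹ * h' ∈ F := by
        have : h⁻¹ * h' = (h⁻¹ * h' * y) * y⁻¹ := by group
        rw [this]; exact F.mul_mem hgF (F.inv_mem hy)
      have h2 := hFH _ h1 (H.mul_mem (H.inv_mem hh1) hh1')
      have h3 : h' = h := by
        have := congrArg (fun z => h * z) h2
        simpa using this
      rw [h3] at heq'
      have h4 : x' = x := by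
        have := congrArg (fun z => h⁻¹ * z * h) heq'
        simpa [mul_assoc] using this
      apply hxy
      rw [hx'] at h4
      have := congrArg (fun z => z * y) h4
      simpa [mul_assoc] using this.symm
    have hunion : Hf.image (fun h => h * x * h⁻¹) ∪ Hf.image (fun h => h * x' * h⁻¹) =
        Ff.erase 1 := by
      apply Finset.eq_of_subset_of_card_le
        (Finset.union_subset (hOsub x hx hx1) (hOsub x' hx'F hx'1))
      rw [Finset.card_union_of_disjoint hdisj, hOcard x hx hx1, hOcard x' hx'F hx'1, hFerase]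
      omega
    have hconj : ∀ z ∈ F, z ≠ 1 → ∃ g : G, g • a = a ∧ z = g * x * g⁻¹ := by
      intro z hz hz1
      have hzmem : z ∈ Ff.erase 1 := by
        rw [Finset.mem_erase]; exact ⟨hz1, (hmemFf z).mpr hz⟩
      rw [← hunion, Finset.mem_union] at hzmem
      rcases hzmem with h | h
      · obtain ⟨h', hh', rfl⟩ := Finset.mem_image.mp h
        exact ⟨h', ((hHmem h').mp ((hmemHf h').mp hh')).1, rfl⟩
      · obtain ⟨h', hh', rfl⟩ := Finset.mem_image.mp h
        refine ⟨h' * y, by rw [mul_smul, hFa y hy, ((hHmem h').mp ((hmemHf h').mp hh')).1], ?_⟩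
        rw [hx']; group
    have hord : ∀ z ∈ F, z ≠ 1 → orderOf z = orderOf x := by
      intro z hz hz1
      obtain ⟨g, -, rfl⟩ := hconj z hz hz1
      have := orderOf_injective (MulAut.conj g).toMonoidHom (MulAut.conj g).injective x
      simpa using this
    have hFnt : Nontrivial F := ⟨⟨⟨x, hx⟩, 1, fun h => hx1 (congrArg Subtype.val h)⟩⟩
    obtain ⟨p, hp, hpdvd⟩ := Nat.exists_prime_and_dvd (n := Nat.card F) (by
      have := Finite.one_lt_card_iff_nontrivial.mpr hFnt
      omega)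
    have : Fact p.Prime := ⟨hp⟩
    obtain ⟨z₀, hz₀⟩ := exists_prime_orderOf_dvd_card' (G := F) p hpdvd
    have hz₀1 : (z₀ : G) ≠ 1 := by
      intro h
      have : z₀ = 1 := Subtype.ext h
      rw [this, orderOf_one] at hz₀
      exact hp.one_lt.ne hz₀
    have hxp : orderOf x = p := by
      rw [← hord z₀ z₀.2 hz₀1, Subgroup.orderOf_coe, hz₀]
    have hFp : IsPGroup p F := by
      intro u
      by_cases hu1 : (u : G) = 1
      · exact ⟨0, by apply Subtype.ext; simpa using hu1⟩
      · refine ⟨1, ?_⟩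
        apply Subtype.ext
        have h1 : orderOf (u : G) = p := by rw [hord u u.2 hu1, hxp]
        rw [pow_one]
        push_cast
        rw [← h1]; exact pow_orderOf_eq_one _
    have := hFp.center_nontrivial
    obtain ⟨⟨z, hz⟩, hzne⟩ := exists_ne (1 : Subgroup.center F)
    have hz1 : (z : G) ≠ 1 := by
      intro h
      apply hzne
      apply Subtype.ext
      apply Subtype.ext
      exact h
    obtain ⟨g, hga, hzg⟩ := hconj z z.2 hz1
    have hw : g * y * g⁻¹ ∈ F := hFconj g hga y hy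
    have h1 := (Subgroup.mem_center_iff.mp hz) ⟨g * y * g⁻¹, hw⟩
    have h2 : (g * y * g⁻¹) * (z : G) = (z : G) * (g * y * g⁻¹) := congrArg Subtype.val h1
    rw [hzg] at h2
    apply hxy
    have h3 := congrArg (fun w => g⁻¹ * w * g) h2
    simp only [mul_assoc, inv_mul_cancel_left, inv_mul_cancel, mul_one] at h3
    exact h3.symm
  refine ⟨⟨⟨fun u v => Subtype.ext (hcomm u u.2 v v.2)⟩⟩, ?_⟩
  have hFnt : Nontrivial F := Finite.one_lt_card_iff_nontrivial.mp (by omega)
  obtain ⟨p, hp, hpdvd⟩ := Nat.exists_prime_and_dvd (n := Nat.card F) (by omega)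
  have : Fact p.Prime := ⟨hp⟩
  obtain ⟨x₀, hx₀⟩ := exists_prime_orderOf_dvd_card' (G := F) p hpdvd
  have hx₀1 : (x₀ : G) ≠ 1 := by
    intro h
    have : x₀ = 1 := Subtype.ext h
    rw [this, orderOf_one] at hx₀
    exact hp.one_lt.ne hx₀
  have hx₀p : (x₀ : G) ^ p = 1 := by
    have := pow_orderOf_eq_one x₀
    rw [hx₀] at this
    exact_mod_cast congrArg Subtype.val this
  let E : Subgroup G :=
    { carrier := {u | u ∈ F ∧ u ^ p = 1}
      mul_mem' := by
        rintro u v ⟨hu, hu'⟩ ⟨hv, hv'⟩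
        refine ⟨F.mul_mem hu hv, ?_⟩
        have hc : Commute u v := hcomm u hu v hv
        rw [hc.mul_pow, hu', hv', one_mul]
      one_mem' := ⟨F.one_mem, one_pow p⟩
      inv_mem' := by
        rintro u ⟨hu, hu'⟩
        exact ⟨F.inv_mem hu, by rw [inv_pow, hu', inv_one]⟩ }
  have hEF : E ≤ F := fun u hu => hu.1
  have hEcard : Nat.card H + 1 ≤ Nat.card E := by
    have hsub : insert 1 (Hf.image (fun h => h * (x₀ : G) * h⁻¹)) ⊆
        Finset.univ.filter (· ∈ E) := by
      intro z hz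
      rw [Finset.mem_filter]
      refine ⟨Finset.mem_univ _, ?_⟩
      rcases Finset.mem_insert.mp hz with rfl | hz
      · exact E.one_mem
      · obtain ⟨h, hh, rfl⟩ := Finset.mem_image.mp hz
        refine ⟨hFconj h ((hHmem h).mp ((hmemHf h).mp hh)).1 _ x₀.2, ?_⟩
        rw [conj_pow, hx₀p]; simp
    have h1 := Finset.card_le_card hsub
    have hnot : (1 : G) ∉ Hf.image (fun h => h * (x₀ : G) * h⁻¹) := by
      intro h
      have := hOsub x₀ x₀.2 hx₀1 h
      simp at this
    rw [Finset.card_insert_of_notMem hnot, hOcard x₀ x₀.2 hx₀1] at h1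
    have hE : Nat.card E = (Finset.univ.filter (· ∈ E)).card := by
      rw [Nat.card_eq_fintype_card, Fintype.card_subtype]
    rw [hE]; exact h1
  have hEeq : E = F := by
    apply Subgroup.eq_of_le_of_card_ge hEF
    obtain ⟨k, hk⟩ := Subgroup.card_dvd_of_le hEF
    have hFpos : 0 < Nat.card F := Nat.card_pos
    rcases k with _ | _ | k
    · rw [mul_zero] at hk; omega
    · omega
    · exfalso
      have : Nat.card F ≥ 2 * Nat.card E := by rw [hk]; nlinarith
      omega
  have hexp : ∀ u ∈ F, u ^ p = 1 := by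
    intro u hu
    rw [← hEeq] at hu
    exact hu.2
  have hFp : IsPGroup p F := by
    intro u
    refine ⟨1, ?_⟩
    apply Subtype.ext
    rw [pow_one]
    push_cast
    exact hexp u u.2
  obtain ⟨f, hf⟩ := IsPGroup.iff_card.mp hFp
  exact ⟨p, f, hp, hexp, by rw [← hf]; omega⟩

end Cfsg.Agent.S0738
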