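import Cfsg.Statements.S0740
import Cfsg.Agent.H16.Zassenhaus

set_option autoImplicit false
open Cfsg

namespace Cfsg.Agent.S0740

open Cfsg.Agent.H16 MulAction

/-- In a finite Zassenhaus group any two points `a ≠ b` are swapped by an involution; every such involution has exactly one fixed point when the degree is odd and 0 or 2 fixed points when the degree is even; and if the two-point stabiliser has even order, some such involution has exactly 2 fixed points. -/
theorem result {G Ω : Type*} [Group G] [Finite G] [MulAction G Ω] [Fintype Ω] (hZ : Cfsg.IsZassenhausGroup G Ω) {a b : Ω} (hab : a ≠ b) : (∃ s : G, orderOf s = 2 ∧ s • a = b ∧ s • b = a) ∧ (∀ s : G, orderOf s = 2 → s • a = b → s • b = a → (Odd (Fintype.card Ω) → Nat.card (MulAction.fixedBy Ω s) = 1) ∧ (Even (Fintype.card Ω) → Nat.card (MulAction.fixedBy Ω s) = 0 ∨ Nat.card (MulAction.fixedBy Ω s) = 2)) ∧ (Even (Fintype.card Ω) → Even (Nat.card ↥(MulAction.stabilizer G a ⊓ MulAction.stabilizer G b)) → ∃ s : G, orderOf s = 2 ∧ s • a = b ∧ s • b =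 a ∧ Nat.card (MulAction.fixedBy Ω s) = 2) := by
  have hZ' := hZ
  obtain ⟨hfaith, h2, h3pt, _, _⟩ := hZ
  haveI := hfaith
  haveI : Fact (Nat.Prime 2) := ⟨Nat.prime_two⟩
  refine ⟨?_, ?_, ?_⟩
  · -- existence of an involution swapping a and b
    obtain ⟨g, hga, hgb⟩ := MulAction.is_two_pretransitive_iff.mp h2 hab (Ne.symm hab)
    have hg2 : g ^ 2 ∈ MulAction.stabilizer G a := by
      rw [MulAction.mem_stabilizer_iff, pow_two, mul_smul, hga, hgb]
    have heven : 2 ∣ orderOf g := by
      by_contra hodd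
      have hodd' : Odd (orderOf g) := Nat.odd_iff.mpr (by omega)
      obtain ⟨m, hm⟩ := hodd'
      have h1 : g ^ (2 * m + 1) = 1 := by rw [← hm]; exact pow_orderOf_eq_one g
      have h2' : (g ^ 2) ^ m ∈ MulAction.stabilizer G a := Subgroup.pow_mem _ hg2 m
      have h3 : g ^ (2 * m + 1) • a = b := by
        rw [pow_succ', pow_mul, mul_smul, MulAction.mem_stabilizer_iff.mp h2', hga]
      rw [h1, one_smul] at h3
      exact hab h3
    have hdvd : 2 ∣ Nat.card G := heven.trans (orderOf_dvd_natCard g)
    obtain ⟨u, hu⟩ := exists_prime_orderOf_dvd_card' (G := G) 2 hdvd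
    have hu1 : u ≠ 1 := by
      intro h
      rw [h, orderOf_one] at hu
      norm_num at hu
    obtain ⟨c, hc⟩ := exists_smul_ne_of_ne_one (Ω := Ω) hu1
    obtain ⟨s, hs, hsa, hsb, _⟩ := exists_involution_swap h2 hu hc hab
    exact ⟨s, hs, hsa, hsb⟩
  · intro s hs hsa hsb
    have hs1 : s ≠ 1 := by
      intro h
      rw [h, orderOf_one] at hs
      norm_num at hs
    have hle := zass_card_fixedBy_le_two hZ' hs1
    have hmod := involution_card_fixedBy_modEq (Ω := Ω) hs
    rw [Nat.card_eq_fintype_card] at hmod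
    have hmod' : Fintype.card Ω % 2 = Nat.card (MulAction.fixedBy Ω s) % 2 := hmod
    constructor
    · intro hodd
      have := Nat.odd_iff.mp hodd
      omega
    · intro heven
      have := Nat.even_iff.mp heven
      omega
  · intro hevenΩ hevenH
    obtain ⟨z, hz⟩ := exists_prime_orderOf_dvd_card'
      (G := ↥(MulAction.stabilizer G a ⊓ MulAction.stabilizer G b)) 2 (even_iff_two_dvd.mp hevenH)
    have hzG : orderOf (z : G) = 2 := by rw [Subgroup.orderOf_coe]; exact hz
    have hz1 : (z : G) ≠ 1 := by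
      intro h
      rw [h, orderOf_one] at hzG
      norm_num at hzG
    have hza : (z : G) • a = a := z.2.1
    have hzb : (z : G) • b = b := z.2.2
    obtain ⟨c, hc⟩ := exists_smul_ne_of_ne_one (Ω := Ω) hz1
    obtain ⟨s, hs, hsa, hsb, hcard⟩ := exists_involution_swap h2 hzG hc hab
    refine ⟨s, hs, hsa, hsb, ?_⟩
    rw [hcard]
    apply le_antisymm (zass_card_fixedBy_le_two hZ' hz1)
    rw [Nat.card_coe_set_eq]
    have hsub : ({a, b} : Set Ω) ⊆ MulAction.fixedBy Ω (z : G) := by
      intro x hx
      rcases hx with rfl | rfl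
      · exact hza
      · exact hzb
    calc 2 = ({a, b} : Set Ω).ncard := (Set.ncard_pair hab).symm
      _ ≤ (MulAction.fixedBy Ω (z : G)).ncard := Set.ncard_le_ncard hsub (Set.toFinite _)

end Cfsg.Agent.S0740
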