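import Cfsg.Statements.S0741
import Mathlib

set_option autoImplicit false
open Cfsg

namespace Cfsg.Agent.S0741

open MulAction

/-- Counting core: in a finite group acting doubly transitively such that non-identity elements
fix at most two points, if some involution fixes two points then the number of involutions
swapping two given points is at least half of `card Ω - 2`. -/
theorem involution_count {G Ω : Type*} [Group G] [Fintype G] [DecidableEq G] [MulAction G Ω]
    [Fintype Ω] [DecidableEq Ω]
    (h2 : ∀ x y x' y' : Ω, x ≠ y → x' ≠ y' → ∃ g : G, g • x = x' ∧ g • y = y')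
    (h3pt : ∀ g : G, ∀ x y z : Ω, x ≠ y → y ≠ z → x ≠ z → g • x = x → g • y = y → g • z = z →
      g = 1)
    {a b : Ω} (hab : a ≠ b) {τ : G} (hτ1 : τ ≠ 1) (hτ2 : τ * τ = 1) (hτa : τ • a = a)
    (hτb : τ • b = b) :
    Fintype.card Ω - 2 ≤
      2 * (Finset.univ.filter (fun t : G => (t ≠ 1 ∧ t * t = 1) ∧ t • a = b)).card := by
  set T : Finset G := Finset.univ.filter (fun t : G => t ≠ 1 ∧ t * t = 1) with hT
  set Pairs : Finset (Ω × Ω) := Finset.univ.filter (fun p : Ω × Ω => p.1 ≠ p.2) with hPairs
  set w := (Finset.univ.filter (fun t : G => (t ≠ 1 ∧ t * t = 1) ∧ t • a = b)).card with hw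
  have hfix : ∀ t ∈ T, (Finset.univ.filter (fun x : Ω => t • x = x)).card ≤ 2 := by
    intro t ht
    by_contra hcon
    push Not at hcon
    obtain ⟨x, hx, y, hy, z, hz, hxy, hxz, hyz⟩ := Finset.two_lt_card.mp hcon
    simp only [Finset.mem_filter, Finset.mem_univ, true_and] at hx hy hz
    have ht' := (Finset.mem_filter.mp ht).2
    exact ht'.1 (h3pt t x y z hxy hyz hxz hx hy hz)
  -- (A)
  have hA : T.card * (Fintype.card Ω - 2) ≤ Pairs.card * w := by
    refine Finset.card_mul_le_card_mul (fun (t : G) (p : Ω × Ω) => t • p.1 = p.2) ?_ ?_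
    · intro t ht
      have h1 : (Finset.univ.filter (fun x : Ω => ¬ t • x = x)).card ≤
          (Finset.bipartiteAbove (fun (t : G) (p : Ω × Ω) => t • p.1 = p.2) Pairs t).card := by
        refine Finset.card_le_card_of_injOn (fun x => (x, t • x)) ?_ ?_
        · intro x hx
          simp only [Finset.coe_filter, Finset.mem_univ, true_and, Set.mem_ofPred_eq] at hx
          simp only [Finset.coe_bipartiteAbove, Set.mem_ofPred_eq, hPairs, Finset.mem_filter,
            Finset.mem_univ, true_and, and_true]
          exact fun h => hx h.symm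
        · intro x _ y _ hxy
          exact (Prod.mk.inj hxy).1
      have h2' := Finset.card_filter_add_card_filter_not (s := (Finset.univ : Finset Ω))
        (fun x : Ω => t • x = x)
      rw [Finset.card_univ] at h2'
      have h3 := hfix t ht
      omega
    · intro p hp
      have hp' : p.1 ≠ p.2 := (Finset.mem_filter.mp hp).2
      obtain ⟨g, hg1, hg2⟩ := h2 p.1 p.2 a b hp' hab
      refine Finset.card_le_card_of_injOn (fun t => g * t * g⁻¹) ?_ ?_
      · intro t ht
        simp only [Finset.coe_bipartiteBelow, Set.mem_ofPred_eq, hT, Finset.mem_filter,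
          Finset.mem_univ, true_and] at ht
        simp only [Finset.coe_filter, Finset.mem_univ, true_and, Set.mem_ofPred_eq]
        refine ⟨⟨?_, ?_⟩, ?_⟩
        · intro h
          apply ht.1.1
          have h' : g⁻¹ * (g * t * g⁻¹) * g = g⁻¹ * 1 * g := by rw [h]
          simpa [mul_assoc] using h'
        · have : g * t * g⁻¹ * (g * t * g⁻¹) = g * (t * t) * g⁻¹ := by group
          rw [this, ht.1.2]; simp
        · rw [mul_smul, mul_smul]
          have h' : g⁻¹ • a = p.1 := by rw [inv_smul_eq_iff, hg1]
          rw [h', ht.2, hg2]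
      · intro t _ t' _ htt'
        have h' : g * t * g⁻¹ = g * t' * g⁻¹ := htt'
        simpa using h'
  -- (B)
  have hB : Pairs.card * 1 ≤ T.card * 2 := by
    refine Finset.card_mul_le_card_mul'
      (fun (t : G) (p : Ω × Ω) => t • p.1 = p.1 ∧ t • p.2 = p.2) ?_ ?_
    · intro p hp
      have hp' : p.1 ≠ p.2 := (Finset.mem_filter.mp hp).2
      obtain ⟨g, hg1, hg2⟩ := h2 a b p.1 p.2 hab hp'
      rw [Nat.succ_le_iff, Finset.card_pos]
      refine ⟨g * τ * g⁻¹, ?_⟩
      simp only [Finset.mem_bipartiteBelow, hT, Finset.mem_filter, Finset.mem_univ, true_and]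
      refine ⟨⟨?_, ?_⟩, ?_, ?_⟩
      · intro h
        apply hτ1
        have h' : g⁻¹ * (g * τ * g⁻¹) * g = g⁻¹ * 1 * g := by rw [h]
        simpa [mul_assoc] using h'
      · have : g * τ * g⁻¹ * (g * τ * g⁻¹) = g * (τ * τ) * g⁻¹ := by group
        rw [this, hτ2]; simp
      · rw [mul_smul, mul_smul]
        have h' : g⁻¹ • p.1 = a := by rw [inv_smul_eq_iff, hg1]
        rw [h', hτa, hg1]
      · rw [mul_smul, mul_smul]
        have h' : g⁻¹ • p.2 = b := by rw [inv_smul_eq_iff, hg2]
        rw [h', hτb, hg2]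
    · intro t ht
      have h1 : Finset.bipartiteAbove (fun (t : G) (p : Ω × Ω) => t • p.1 = p.1 ∧ t • p.2 = p.2)
          Pairs t ⊆ (Finset.univ.filter (fun x : Ω => t • x = x)).offDiag := by
        intro p hp
        simp only [Finset.mem_bipartiteAbove, hPairs, Finset.mem_filter, Finset.mem_univ,
          true_and] at hp
        simp only [Finset.mem_offDiag, Finset.mem_filter, Finset.mem_univ, true_and]
        exact ⟨hp.2.1, hp.2.2, hp.1⟩
      have h2' := Finset.card_le_card h1
      rw [Finset.offDiag_card] at h2'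
      have h3 := hfix t ht
      have h4 : (Finset.univ.filter (fun x : Ω => t • x = x)).card *
          (Finset.univ.filter (fun x : Ω => t • x = x)).card -
          (Finset.univ.filter (fun x : Ω => t • x = x)).card ≤ 2 := by
        generalize (Finset.univ.filter (fun x : Ω => t • x = x)).card = f at h3
        interval_cases f <;> simp
      exact h2'.trans h4
  have hPpos : 0 < Pairs.card := by
    rw [Finset.card_pos]
    exact ⟨(a, b), by simp [hPairs, hab]⟩
  have hfin : Pairs.card * (Fintype.card Ω - 2) ≤ Pairs.card * (2 * w) := by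
    calc Pairs.card * (Fintype.card Ω - 2) ≤ (T.card * 2) * (Fintype.card Ω - 2) := by
          apply Nat.mul_le_mul_right; omega
      _ = 2 * (T.card * (Fintype.card Ω - 2)) := by ring
      _ ≤ 2 * (Pairs.card * w) := Nat.mul_le_mul_left 2 hA
      _ = Pairs.card * (2 * w) := by ring
  exact Nat.le_of_mul_le_mul_left hfin hPpos

/-- If the two-point stabilisers of a finite Zassenhaus group of degree `n + 1` have even order `d`, then `2d ≥ n - 1`. -/
theorem result {G Ω : Type*} [Group G] [Finite G] [MulAction G Ω] [Fintype Ω] (hZ : Cfsg.IsZassenhausGroup G Ω) {a b : Ω} (hab : a ≠ b) (heven : Even (Nat.card ↥(MulAction.stabilizer G a ⊓ MulAction.stabilizer G b))) : Fintype.card Ω - 2 ≤ 2 * Nat.card ↥(MulAction.stabilizer G a ⊓ MulAction.stabilizer G b) := by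
  classical
  obtain ⟨hfaith, h2, h3pt, _, _⟩ := hZ
  have := Fintype.ofFinite G
  have : Fact (Nat.Prime 2) := ⟨Nat.prime_two⟩
  set H := MulAction.stabilizer G a ⊓ MulAction.stabilizer G b with hH
  obtain ⟨τ, hτ⟩ := exists_prime_orderOf_dvd_card' (G := H) 2 heven.two_dvd
  have hτ1 : (τ : G) ≠ 1 := by
    intro h
    have : τ = 1 := Subtype.ext h
    rw [this, orderOf_one] at hτ
    omega
  have hτ2 : (τ : G) * τ = 1 := by
    have h := pow_orderOf_eq_one τ
    rw [hτ, pow_two] at h
    exact congrArg Subtype.val h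
  have hτmem : (τ : G) ∈ MulAction.stabilizer G a ⊓ MulAction.stabilizer G b := τ.2
  rw [Subgroup.mem_inf, MulAction.mem_stabilizer_iff, MulAction.mem_stabilizer_iff] at hτmem
  have h2' : ∀ x y x' y' : Ω, x ≠ y → x' ≠ y' → ∃ g : G, g • x = x' ∧ g • y = y' := by
    intro x y x' y' hxy hxy'
    exact MulAction.is_two_pretransitive_iff.mp h2 hxy hxy'
  have key := involution_count h2' h3pt hab hτ1 hτ2 hτmem.1 hτmem.2
  refine key.trans (Nat.mul_le_mul_left 2 ?_)
  -- the involutions swapping `a` and `b` inject into `H`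
  set W := Finset.univ.filter (fun t : G => (t ≠ 1 ∧ t * t = 1) ∧ t • a = b) with hW
  rw [Nat.card_eq_fintype_card, Fintype.card_subtype]
  rcases W.eq_empty_or_nonempty with hemp | ⟨s, hs⟩
  · rw [hemp]; simp
  · have hswap : ∀ t ∈ W, t • a = b ∧ t • b = a := by
      intro t ht
      simp only [hW, Finset.mem_filter, Finset.mem_univ, true_and] at ht
      refine ⟨ht.2, ?_⟩
      rw [← ht.2, ← mul_smul, ht.1.2, one_smul]
    have hs' := hswap s hs
    refine Finset.card_le_card_of_injOn (fun t => s⁻¹ * t) ?_ ?_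
    · intro t ht
      have ht' := hswap t ht
      simp only [Finset.coe_filter, Finset.mem_univ, true_and, Set.mem_ofPred_eq, hH,
        Subgroup.mem_inf, MulAction.mem_stabilizer_iff]
      constructor
      · rw [mul_smul, ht'.1, inv_smul_eq_iff, hs'.1]
      · rw [mul_smul, ht'.2, inv_smul_eq_iff, hs'.2]
    · intro t _ t' _ htt'
      have h' : s⁻¹ * t = s⁻¹ * t' := htt'
      simpa using h'

end Cfsg.Agent.S0741
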