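import Cfsg.Statements.S0916
import Mathlib.GroupTheory.Nilpotent

set_option autoImplicit false
open Cfsg

namespace Cfsg.Agent.S0916

variable {G : Type*} [Group G]

/-- From a Sylow subgroup of a subgroup `K` whose image is `P`: `P ≤ K`. -/
theorem le_of_sylow_map {p : ℕ} (K P : Subgroup G) (S : Sylow p K)
    (hS : (S : Subgroup K).map K.subtype = P) : P ≤ K := by
  rw [← hS]
  exact Subgroup.map_subtype_le _

/-- From a Sylow subgroup of a subgroup `K` whose image is `P`: maximality of `P` among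
`p`-subgroups of `K`. -/
theorem max_of_sylow_map {p : ℕ} (K P : Subgroup G) (S : Sylow p K)
    (hS : (S : Subgroup K).map K.subtype = P) (R : Subgroup G) (hRK : R ≤ K) (hR : IsPGroup p R)
    (hPR : P ≤ R) : R = P := by
  have h1 : IsPGroup p (R.subgroupOf K) := hR.comap_subtype
  have h2 : (S : Subgroup K) ≤ R.subgroupOf K := by
    intro x hx
    rw [Subgroup.mem_subgroupOf]
    apply hPR
    rw [← hS]
    exact Subgroup.mem_map_of_mem _ hx
  have h3 := S.is_maximal' h1 h2
  rw [← hS, ← h3]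
  exact (Subgroup.map_subgroupOf_eq_of_le hRK).symm

/-- In a finite `p`-group `Q ≤ G`, a proper subgroup `P < Q` is properly contained in its
normalizer in `Q`. -/
theorem exists_normalizing {p : ℕ} [Fact p.Prime] [Finite G] (P Q : Subgroup G) (hQ : IsPGroup p Q)
    (hPQ : P < Q) : ∃ x ∈ Q, x ∉ P ∧ x ∈ Subgroup.normalizer (P : Set G) := by
  have : Group.IsNilpotent Q := hQ.isNilpotent
  have hnc : NormalizerCondition Q := Group.normalizerCondition_of_isNilpotent
  have hlt : P.subgroupOf Q < ⊤ := by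
    rw [lt_top_iff_ne_top]
    intro h
    rw [Subgroup.subgroupOf_eq_top] at h
    exact absurd (le_antisymm hPQ.le h) hPQ.ne
  have h2 := hnc _ hlt
  obtain ⟨y, hy1, hy2⟩ := SetLike.exists_of_lt h2
  refine ⟨(y : G), y.2, ?_, ?_⟩
  · intro h
    exact hy2 (Subgroup.mem_subgroupOf.mpr h)
  · rw [Subgroup.mem_set_normalizer_iff]
    intro h
    have key := fun (z : Q) => (Subgroup.mem_normalizer_iff.mp hy1) z
    constructor
    · intro hh
      have := (key ⟨h, hPQ.le hh⟩).mp (Subgroup.mem_subgroupOf.mpr hh)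
      exact Subgroup.mem_subgroupOf.mp this
    · intro hh
      have hhQ : h ∈ Q := by
        have h1 : (y : G) * h * (y : G)⁻¹ ∈ Q := hPQ.le hh
        have h2 : h = (y : G)⁻¹ * ((y : G) * h * (y : G)⁻¹) * (y : G) := by group
        rw [h2]
        exact Q.mul_mem (Q.mul_mem (Q.inv_mem y.2) h1) y.2
      have := (key ⟨h, hhQ⟩).mpr (Subgroup.mem_subgroupOf.mpr hh)
      exact Subgroup.mem_subgroupOf.mp this

/-- If `P` is a Sylow `p`-subgroup of `C(g)` and `c = a g a⁻¹` centralizes `P`, then some element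
of the normalizer of `P` conjugates `c` to `g`. -/
theorem exists_normalizer_conj {p : ℕ} [Fact p.Prime] [Finite G] (P : Subgroup G) (g : G)
    (S : Sylow p (Subgroup.centralizer ({g} : Set G)))
    (hS : (S : Subgroup (Subgroup.centralizer ({g} : Set G))).map
      (Subgroup.centralizer ({g} : Set G)).subtype = P)
    (c : G) (hc : IsConj g c) (hcP : c ∈ Subgroup.centralizer (P : Set G)) :
    ∃ n ∈ Subgroup.normalizer (P : Set G), n * c * n⁻¹ = g := by
  obtain ⟨a, ha⟩ := isConj_iff.mp hc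
  revert S
  generalize hC : Subgroup.centralizer ({g} : Set G) = C
  intro S hS
  obtain ⟨T, hT⟩ : ∃ T : Subgroup G, T = P.map (MulAut.conj a⁻¹).toMonoidHom := ⟨_, rfl⟩
  have hTmem : ∀ t : G, t ∈ T ↔ a * t * a⁻¹ ∈ P := by
    intro t
    rw [hT, Subgroup.mem_map]
    constructor
    · rintro ⟨u, hu, rfl⟩
      simpa [mul_assoc] using hu
    · intro h
      refine ⟨a * t * a⁻¹, h, ?_⟩
      simp [MulAut.conj_apply, mul_assoc]
  have hTC : T ≤ C := by
    intro t ht
    rw [hTmem] at ht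
    rw [← hC, Subgroup.mem_centralizer_iff]
    intro x hx
    rw [Set.mem_singleton_iff] at hx
    subst hx
    have h1 := hcP _ ht
    rw [← ha] at h1
    -- h1 : a * t * a⁻¹ * (a * x * a⁻¹) = a * x * a⁻¹ * (a * t * a⁻¹)
    have h2 : a * (x * t) * a⁻¹ = a * (t * x) * a⁻¹ := by
      have e1 : a * (x * t) * a⁻¹ = a * x * a⁻¹ * (a * t * a⁻¹) := by group
      have e2 : a * (t * x) * a⁻¹ = a * t * a⁻¹ * (a * x * a⁻¹) := by group
      rw [e1, e2, h1]
    have h3 := mul_right_cancel (mul_left_cancel (by simpa [mul_assoc] using h2 : a * ((x * t) * a⁻¹) = a * ((t * x) * a⁻¹)))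
    exact h3
  have hcardT : Nat.card T = Nat.card P := by
    rw [hT]
    exact Nat.card_congr (Subgroup.equivMapOfInjective P _ (MulEquiv.injective _)).symm.toEquiv
  have hcardP : Nat.card P = Nat.card (S : Subgroup C) := by
    rw [← hS]
    exact Nat.card_congr (Subgroup.equivMapOfInjective _ _ (Subgroup.subtype_injective _)).symm.toEquiv
  have hcardT' : Nat.card (T.subgroupOf C) = Nat.card T :=
    Nat.card_congr (Subgroup.subgroupOfEquivOfLe hTC).toEquiv
  have hcard : Nat.card (T.subgroupOf C) = p ^ (Nat.card C).factorization p := by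
    rw [hcardT', hcardT, hcardP]
    exact S.card_eq_multiplicity
  let S₁ : Sylow p C := Sylow.ofCard (T.subgroupOf C) hcard
  obtain ⟨x, hx⟩ := MulAction.exists_smul_eq C S₁ S
  have hmemS : ∀ y : C, y ∈ (S : Subgroup C) ↔ (y : G) ∈ P := by
    intro y
    rw [← hS]
    constructor
    · intro h; exact Subgroup.mem_map_of_mem _ h
    · rintro ⟨z, hz, hzy⟩
      have : z = y := Subtype.ext hzy
      rw [← this]; exact hz
  have hmemS₁ : ∀ y : C, y ∈ (S₁ : Subgroup C) ↔ a * (y : G) * a⁻¹ ∈ P := by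
    intro y
    show y ∈ T.subgroupOf C ↔ _
    rw [Subgroup.mem_subgroupOf, hTmem]
  have hkey : ∀ y : C, y ∈ (S : Subgroup C) ↔ x⁻¹ * y * x ∈ (S₁ : Subgroup C) := by
    intro y
    rw [← hx, Sylow.coe_subgroup_smul, Subgroup.mem_pointwise_smul_iff_inv_smul_mem]
    simp [MulAut.smul_def, mul_assoc]
  have hxg : (x : G) * g = g * (x : G) := by
    have h0 : (x : G) ∈ Subgroup.centralizer ({g} : Set G) := by rw [hC]; exact x.2
    rw [Subgroup.mem_centralizer_iff] at h0
    exact (h0 g rfl).symm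
  refine ⟨(x : G) * a⁻¹, ?_, ?_⟩
  · rw [Subgroup.mem_set_normalizer_iff]
    have hkey' : ∀ y : G, y ∈ C → (y ∈ P ↔ a * (x : G)⁻¹ * y * (x : G) * a⁻¹ ∈ P) := by
      intro y hy
      have := hkey ⟨y, hy⟩
      rw [hmemS, hmemS₁] at this
      simp only [Subgroup.coe_mul, Subgroup.coe_inv] at this
      rw [this]
      simp [mul_assoc]
    intro h
    have e1 : a * (x : G)⁻¹ * ((x : G) * a⁻¹ * h * ((x : G) * a⁻¹)⁻¹) * (x : G) * a⁻¹ = h := by group
    constructor
    · intro hh
      have hy : (x : G) * a⁻¹ * h * ((x : G) * a⁻¹)⁻¹ ∈ C := by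
        have h1 : a⁻¹ * h * a ∈ T := by
          rw [hTmem]
          have : a * (a⁻¹ * h * a) * a⁻¹ = h := by group
          rw [this]; exact hh
        have h2 : (x : G) * a⁻¹ * h * ((x : G) * a⁻¹)⁻¹ = (x : G) * (a⁻¹ * h * a) * (x : G)⁻¹ := by
          group
        rw [h2]
        exact C.mul_mem (C.mul_mem x.2 (hTC h1)) (C.inv_mem x.2)
      have := hkey' _ hy
      rw [e1] at this
      exact this.mpr hh
    · intro hh
      have hPC : P ≤ C := by rw [← hS]; exact Subgroup.map_subtype_le _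
      have := hkey' _ (hPC hh)
      rw [e1] at this
      exact this.mp hh
  · rw [← ha]
    have e : (x : G) * a⁻¹ * (a * g * a⁻¹) * ((x : G) * a⁻¹)⁻¹ = (x : G) * g * (x : G)⁻¹ := by group
    rw [e, hxg]; group

theorem result {G : Type*} [Group G] [Finite G] (p : ℕ) [Fact p.Prime] (P : Subgroup G) (hP : IsPGroup p P) : (∀ g : G, (∃ S : Sylow p (Subgroup.centralizer ({g} : Set G)), (S : Subgroup (Subgroup.centralizer ({g} : Set G))).map (Subgroup.centralizer ({g} : Set G)).subtype = P) → (∃ c : G, IsConj g c ∧ c ∈ Subgroup.centralizer (P : Set G)) ∧ (∀ c₁ c₂ : G, IsConj g c₁ → IsConj g c₂ → c₁ ∈ Subgroup.centralizer (P : Set G) → c₂ ∈ Subgroup.centralizer (P : Set G) → ∃ n ∈ Subgroup.normalizer (P : Set G), n * c₁ * n⁻¹ = c₂)) ∧ (∀ c : G, c ∈ Subgroup.centralizer (P : Set G) → (∃ S : Sylow p (Subgroup.centralizer ({c} : Set G) ⊓ Subgroup.normalizer (P : Set G) : Subgroup G), (S : Subgroup ↥(Subgroup.centralizer ({c} : Set G) ⊓ Subgroup.normalizer (P : Set G))).map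 (Subgroup.centralizer ({c} : Set G) ⊓ Subgroup.normalizer (P : Set G)).subtype = P) → ∃ S : Sylow p (Subgroup.centralizer ({c} : Set G)), (S : Subgroup (Subgroup.centralizer ({c} : Set G))).map (Subgroup.centralizer ({c} : Set G)).subtype = P) := by
  refine ⟨?_, ?_⟩
  · rintro g ⟨S, hS⟩
    have hPC : P ≤ Subgroup.centralizer ({g} : Set G) := le_of_sylow_map _ _ S hS
    refine ⟨⟨g, IsConj.refl g, ?_⟩, ?_⟩
    · rw [Subgroup.mem_centralizer_iff]
      intro u hu
      have := hPC hu
      rw [Subgroup.mem_centralizer_iff] at this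
      exact (this g rfl).symm
    · intro c₁ c₂ h1 h2 hc1 hc2
      obtain ⟨n₁, hn₁, e₁⟩ := exists_normalizer_conj P g S hS c₁ h1 hc1
      obtain ⟨n₂, hn₂, e₂⟩ := exists_normalizer_conj P g S hS c₂ h2 hc2
      refine ⟨n₂⁻¹ * n₁, Subgroup.mul_mem _ (Subgroup.inv_mem _ hn₂) hn₁, ?_⟩
      have e : n₂⁻¹ * n₁ * c₁ * (n₂⁻¹ * n₁)⁻¹ = n₂⁻¹ * (n₁ * c₁ * n₁⁻¹) * n₂ := by group
      rw [e, e₁, ← e₂]; group
  · rintro c hc ⟨S, hS⟩
    have hPC : P ≤ Subgroup.centralizer ({c} : Set G) := by
      intro u hu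
      rw [Subgroup.mem_centralizer_iff]
      intro x hx
      rw [Set.mem_singleton_iff] at hx
      subst hx
      exact (hc u hu).symm
    revert S
    generalize Subgroup.centralizer ({c} : Set G) = C at hPC ⊢
    generalize hN : Subgroup.normalizer (P : Set G) = N
    intro S hS
    obtain ⟨S', hS'⟩ := (hP.comap_subtype (H := P) (K := C)).exists_le_sylow
    refine ⟨S', ?_⟩
    set Q : Subgroup G := (S' : Subgroup C).map C.subtype with hQ
    have hQC : Q ≤ C := Subgroup.map_subtype_le _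
    have hQp : IsPGroup p Q := S'.isPGroup'.map _
    have hPQ : P ≤ Q := by
      intro u hu
      exact ⟨⟨u, hPC hu⟩, hS' (Subgroup.mem_subgroupOf.mpr hu), rfl⟩
    by_contra hne
    have hlt : P < Q := lt_of_le_of_ne hPQ (Ne.symm hne)
    obtain ⟨x, hxQ, hxP, hxN⟩ := exists_normalizing P Q hQp hlt
    set R : Subgroup G := P ⊔ Subgroup.zpowers x with hR
    have hRQ : R ≤ Q := sup_le hPQ (by rw [Subgroup.zpowers_le]; exact hxQ)
    have hRp : IsPGroup p R := hQp.to_le hRQ
    have hRK : R ≤ C ⊓ N := by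
      refine le_inf (hRQ.trans hQC) ?_
      rw [← hN]
      refine sup_le Subgroup.le_normalizer ?_
      rw [Subgroup.zpowers_le]; exact hxN
    have := max_of_sylow_map (C ⊓ N) P S hS R hRK hRp le_sup_left
    apply hxP
    rw [← this]
    exact (le_sup_right : Subgroup.zpowers x ≤ R) (Subgroup.mem_zpowers x)

end Cfsg.Agent.S0916
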