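import Cfsg.Statements.S0917
import Cfsg.Agent.H20.MinMax
import Cfsg.Agent.H80.Block
import Cfsg.Agent.S0906

set_option autoImplicit false
set_option linter.style.haveILetI false
open Cfsg

namespace Cfsg.Agent.S0917

/-- Let H be a subgroup of the finite group G, p a prime and M a maximal ideal of the algebraic integers containing p. If the block b of H induces the block B of G relative to M, then every defect group of b (a subgroup of H, viewed in G) is contained in some defect group of B. -/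
theorem result {G : Type*} [Group G] [Finite G] (p : ℕ) [Fact p.Prime] (M : Ideal Cfsg.AlgInt) (hM : Cfsg.IsPModular p M) (H : Subgroup G) (b : Set (Cfsg.IrrCharacter H)) (hb : Cfsg.IsPBlock M b) (B : Set (Cfsg.IrrCharacter G)) (hB : Cfsg.IsPBlock M B) (hind : Cfsg.IsInducedBlock M H b B) (D : Subgroup H) (hD : Cfsg.IsDefectGroup p M b D) : ∃ E : Subgroup G, Cfsg.IsDefectGroup p M B E ∧ D.map H.subtype ≤ E := by
  classical
  haveI : Fintype G := Fintype.ofFinite G
  haveI : Fintype H := Fintype.ofFinite H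
  have hMp := Cfsg.Agent.H20.isPrime_of_isPModular hM
  obtain ⟨_, _, hcong⟩ := hind
  obtain ⟨g₀, hg₀⟩ := Cfsg.Agent.S0906.result p M hM B hB
  obtain ⟨χ₀, rfl⟩ := hB
  obtain ⟨ξ₀, rfl⟩ := hb
  have hχ₀ : χ₀ ∈ Cfsg.blockOf M (χ₀ : G → ℂ) := fun x => by
    rw [sub_self]
    exact Cfsg.Agent.H20.memLocalIdeal_zero hMp
  have hξ₀ : ξ₀ ∈ Cfsg.blockOf M (ξ₀ : H → ℂ) := fun x => by
    rw [sub_self]
    exact Cfsg.Agent.H20.memLocalIdeal_zero hMp
  -- the induced central character at the defect class is a unit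
  have hind0 : ¬ Cfsg.MemLocalIdeal M (Cfsg.inducedCentralChar H (ξ₀ : H → ℂ) g₀) := by
    intro hc
    have h1 := hcong ξ₀ hξ₀ χ₀ hχ₀ g₀
    have h2 := Cfsg.Agent.H20.memLocalIdeal_sub hMp hc h1
    rw [sub_sub_cancel] at h2
    exact hg₀.2.2 χ₀ hχ₀ h2
  -- some H-class inside the G-class of g₀ has unit central character
  have hex : ∃ h₁ : H, IsConj g₀ (h₁ : G) ∧
      ¬ Cfsg.MemLocalIdeal M (Cfsg.centralChar (ξ₀ : H → ℂ) h₁) := by
    by_contra hno
    apply hind0
    unfold Cfsg.inducedCentralChar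
    rw [finsum_mem_eq_finite_toFinset_sum _ (Set.toFinite _)]
    have hfin : (Set.toFinite {h : H | IsConj g₀ (h : G)}).toFinset
        = Finset.univ.filter (fun h : H => IsConj g₀ (h : G)) := by
      ext h; simp
    rw [hfin]
    have hsum : ∑ h ∈ Finset.univ.filter (fun h : H => IsConj g₀ (h : G)),
        (ξ₀ : H → ℂ) h / (ξ₀ : H → ℂ) 1
        = ∑ h ∈ Finset.univ.filter (fun h : H => IsConj g₀ (h : G)),
          (if IsConj g₀ (h : G) then (ξ₀ : H → ℂ) h / (ξ₀ : H → ℂ) 1 else 0) :=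
      Finset.sum_congr rfl (fun h hh => by rw [if_pos (Finset.mem_filter.mp hh).2])
    rw [hsum]
    apply Cfsg.Agent.H20.sum_mem_of_conj_closed (Cfsg.Agent.H20.localIdeal M hMp)
      (fun h : H => if IsConj g₀ (h : G) then (ξ₀ : H → ℂ) h / (ξ₀ : H → ℂ) 1 else 0)
    · intro h x
      have h1 : IsConj g₀ ((x * h * x⁻¹ : H) : G) ↔ IsConj g₀ (h : G) := by
        have e : ((x * h * x⁻¹ : H) : G) = (x : G) * (h : G) * (x : G)⁻¹ := by simp
        rw [e]
        exact ⟨fun hc => hc.trans (isConj_iff.mpr ⟨(x : G), rfl⟩).symm,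
          fun hc => hc.trans (isConj_iff.mpr ⟨(x : G), rfl⟩)⟩
      have h2 : (ξ₀ : H → ℂ) (x * h * x⁻¹) = (ξ₀ : H → ℂ) h :=
        Cfsg.Agent.H4.irr_isClassFunction ξ₀ h x
      simp only [h1, h2]
    · intro h
      by_cases hc : IsConj g₀ (h : G)
      · simp only [if_pos hc]
        have h3 : Cfsg.MemLocalIdeal M (Cfsg.centralChar (ξ₀ : H → ℂ) h) := by
          by_contra h4
          exact hno ⟨h, hc, h4⟩
        unfold Cfsg.centralChar at h3
        rw [← mul_div_assoc]
        exact h3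
      · simp only [if_neg hc, mul_zero]
        exact (Cfsg.Agent.H20.localIdeal M hMp).zero_mem
    · intro h hh x
      rw [Finset.mem_filter] at hh ⊢
      refine ⟨Finset.mem_univ _, ?_⟩
      exact hh.2.trans (isConj_iff.mpr ⟨(x : G), by simp⟩)
  obtain ⟨h₁, hh₁, hh₁'⟩ := hex
  obtain ⟨y, hy, P, rfl⟩ := hD
  -- min–max in H
  have hPp : IsPGroup p ((P : Subgroup (Subgroup.centralizer ({y} : Set H))).map
      (Subgroup.centralizer ({y} : Set H)).subtype) := P.isPGroup'.map _
  have hPy : (P : Subgroup (Subgroup.centralizer ({y} : Set H))).map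
      (Subgroup.centralizer ({y} : Set H)).subtype ≤ Subgroup.centralizer ({y} : Set H) := by
    rintro _ ⟨q, _, rfl⟩
    exact q.2
  obtain ⟨x₁, hx₁, hPx⟩ := Cfsg.Agent.H20.exists_conj_centralized_of_block hM ξ₀ h₁ y
    hh₁' hy.2.1 _ hPp hPy
  -- transfer to G
  have hconjG : IsConj g₀ (x₁ : G) := by
    obtain ⟨c, hc⟩ := isConj_iff.mp hx₁
    refine hh₁.trans (isConj_iff.mpr ⟨(c : G), ?_⟩)
    rw [← hc]
    simp
  have hdef : Cfsg.IsDefectClass M (Cfsg.blockOf M (χ₀ : G → ℂ)) (x₁ : G) := by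
    obtain ⟨c, hc⟩ := isConj_iff.mp hconjG
    rw [← hc]
    exact Cfsg.Agent.H80.isDefectClass_conj hg₀ c
  have hDG : IsPGroup p (((P : Subgroup (Subgroup.centralizer ({y} : Set H))).map
      (Subgroup.centralizer ({y} : Set H)).subtype).map H.subtype) := hPp.map _
  have hDGx : ((P : Subgroup (Subgroup.centralizer ({y} : Set H))).map
      (Subgroup.centralizer ({y} : Set H)).subtype).map H.subtype ≤
      Subgroup.centralizer ({(x₁ : G)} : Set G) := by
    rintro _ ⟨q, hq, rfl⟩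
    have h1 := hPx hq
    rw [Subgroup.mem_centralizer_iff] at h1 ⊢
    intro z hz
    rw [Set.mem_singleton_iff] at hz
    subst hz
    have h2 := h1 x₁ (Set.mem_singleton _)
    exact congrArg Subtype.val h2
  obtain ⟨S, hS⟩ := Cfsg.Agent.H20.exists_sylow_centralizer_ge (x₁ : G) _ hDG hDGx
  exact ⟨_, ⟨(x₁ : G), hdef, S, rfl⟩, hS⟩

end Cfsg.Agent.S0917
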