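import Cfsg.Statements.S4653
import Cfsg.Agent.H80.NilBlock
import Cfsg.Agent.H80.OsimaOn

set_option autoImplicit false
open Cfsg

namespace Cfsg.Agent.S4653

open Cfsg.Agent.H20 Cfsg.Agent.H4 Cfsg.Agent.H80

/-- Fix a prime p and a maximal ideal M of the algebraic integers containing p. Let P be a normal p-subgroup of the finite group G and B a p-block of G. Then the idempotent of B is supported on C_G(P): its coefficient at every element of G outside C_G(P) is zero. -/
theorem result {G : Type*} [Group G] [Fintype G] (p : ℕ) [Fact p.Prime] (M : Ideal Cfsg.AlgInt) (hM : Cfsg.IsPModular p M) (P : Subgroup G) [P.Normal] (hP : IsPGroup p P) (B : Set (Cfsg.IrrCharacter G)) (hB : Cfsg.IsPBlock M B) (g : G) (hg : g ∉ Subgroup.centralizer (P : Set G)) : Cfsg.blockCoeff B g = 0 := by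
  have hMp := isPrime_of_isPModular hM
  obtain ⟨χ₀, rfl⟩ := hB
  have hCn : (Subgroup.centralizer (P : Set G)).Normal := Subgroup.normal_centralizer
  have key : blockElt (blockOf M (χ₀ : G → ℂ))
      ∈ cfSubringOn (Subgroup.centralizer (P : Set G)) (localRing M hMp) := by
    apply blockElt_mem_of_separating hMp χ₀ _ (cfSubringOn_le _ _)
    · intro c hc z hz
      exact smul_mem_cfSubringOn hc hz
    · intro ψ hψ
      have hψ' : ¬ ∀ x : G, MemLocalIdeal M
          (centralChar (χ₀ : G → ℂ) x - centralChar (ψ : G → ℂ) x) := hψ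
      rw [not_forall] at hψ'
      obtain ⟨x, hx⟩ := hψ'
      refine ⟨x, ?_, hx⟩
      apply classSum_mem_cfSubringOn
      by_contra hxC
      apply hx
      have h1 := centralChar_memLocalIdeal_of_not_centralizer p hM P hP x
        (not_mem_centralizer_of_isConj P hxC) χ₀
      have h2 := centralChar_memLocalIdeal_of_not_centralizer p hM P hP x
        (not_mem_centralizer_of_isConj P hxC) ψ
      exact memLocalIdeal_sub hMp h1 h2
  have := key.2 g hg
  rwa [coeff_blockElt] at this

end Cfsg.Agent.S4653
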