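import Cfsg.Statements.S4425
import Mathlib
import Cfsg.Agent.S0164
import Cfsg.Agent.H20.CentralChar
import Cfsg.Agent.H81.Reg
import Cfsg.Agent.H4.PaQb

set_option autoImplicit false
open Cfsg

namespace Cfsg.Agent.S4425


open Cfsg.Agent.H4
open scoped ComplexConjugate

universe u

/-- Structure of an elementary group relative to a prime `p`. -/
theorem exists_PQ {E : Type u} [Group E] [Finite E] (p q : ℕ) [hp : Fact p.Prime] (hq : q.Prime)
    (hE : IsElementary q E) :
    ∃ (P Q : Subgroup E), Q.Normal ∧ IsPGroup p P ∧ ¬ p ∣ Nat.card Q ∧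
      Nat.card P * Nat.card Q = Nat.card E ∧ ∀ x ∈ P, ∀ y ∈ Q, x * y = y * x := by
  obtain ⟨x, hxc, hcop, k, hk⟩ := hE
  have hxc' : ∀ g : E, g * x = x * g := fun g => Subgroup.mem_center_iff.mp hxc g
  have hzc : ∀ z ∈ Subgroup.zpowers x, ∀ g : E, g * z = z * g := by
    intro z hz g
    obtain ⟨i, rfl⟩ := hz
    exact ((Commute.zpow_right (hxc' g) i)).eq
  have hzn : (Subgroup.zpowers x).Normal := by
    refine ⟨fun n hn g => ?_⟩
    have : g * n * g⁻¹ = n := by rw [hzc n hn g]; group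
    rw [this]; exact hn
  have hcard : Nat.card E = orderOf x * q ^ k := by
    rw [← Subgroup.card_mul_index (Subgroup.zpowers x), Nat.card_zpowers, hk]
  let P : Sylow p E := default
  by_cases hpq : q = p
  · subst hpq
    refine ⟨P, Subgroup.zpowers x, hzn, P.isPGroup', ?_, ?_, ?_⟩
    · rw [Nat.card_zpowers]
      intro hd
      exact hp.out.one_lt.ne' (Nat.eq_one_of_dvd_coprimes hcop hd (dvd_refl _))
    · rw [Sylow.card_eq_multiplicity, hcard, Nat.card_zpowers]
      have hox : orderOf x ≠ 0 := (orderOf_pos x).ne'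
      have hnd : ¬ q ∣ orderOf x := by
        intro hd
        exact hp.out.one_lt.ne' (Nat.eq_one_of_dvd_coprimes hcop hd (dvd_refl _))
      rw [Nat.factorization_mul hox (pow_ne_zero _ hp.out.ne_zero)]
      simp [Nat.factorization_eq_zero_of_not_dvd hnd, hp.out.factorization_pow, mul_comm]
    · intro a _ b hb
      exact hzc b hb a
  · -- `P ≤ zpowers x`
    have hPle : (P : Subgroup E) ≤ Subgroup.zpowers x := by
      intro y hy
      have h1 : (QuotientGroup.mk y : E ⧸ Subgroup.zpowers x) ^ (q ^ k) = 1 := by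
        have := pow_card_eq_one' (G := E ⧸ Subgroup.zpowers x) (x := QuotientGroup.mk y)
        rwa [← Subgroup.index_eq_card, hk] at this
      obtain ⟨j, hj⟩ := (P.isPGroup' ⟨y, hy⟩)
      have hj' : y ^ (p ^ j) = 1 := by
        have := congrArg Subtype.val hj
        simpa using this
      have h2 : (QuotientGroup.mk y : E ⧸ Subgroup.zpowers x) ^ (p ^ j) = 1 := by
        rw [← QuotientGroup.mk_pow, hj']; rfl
      have hg : Nat.gcd (q ^ k) (p ^ j) = 1 := by
        apply Nat.Coprime.pow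
        exact (Nat.coprime_primes hq hp.out).mpr hpq
      have h3 := pow_gcd_eq_one.mpr ⟨h1, h2⟩
      rw [hg, pow_one] at h3
      exact (QuotientGroup.eq_one_iff y).mp h3
    have hPc : ∀ z ∈ (P : Subgroup E), ∀ g : E, g * z = z * g := fun z hz g => hzc z (hPle hz) g
    have hPn : (P : Subgroup E).Normal := by
      refine ⟨fun n hn g => ?_⟩
      have : g * n * g⁻¹ = n := by rw [hPc n hn g]; group
      rw [this]; exact hn
    obtain ⟨Q, hQ⟩ := Subgroup.exists_right_complement'_of_coprime (N := (P : Subgroup E))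
      P.card_coprime_index
    refine ⟨P, Q, ?_, P.isPGroup', ?_, hQ.card_mul_card, ?_⟩
    · refine ⟨fun n hn g => ?_⟩
      obtain ⟨⟨a, b⟩, hab⟩ := hQ.2 g
      simp only at hab
      have : g * n * g⁻¹ = b * n * b⁻¹ := by
        rw [← hab]
        have h1 := hPc a.1 a.2 (b.1 * n * b.1⁻¹)
        calc a.1 * b.1 * n * (a.1 * b.1)⁻¹ = a.1 * (b.1 * n * b.1⁻¹) * a.1⁻¹ := by group
          _ = b.1 * n * b.1⁻¹ := by rw [← h1]; group
      rw [this]
      exact Q.mul_mem (Q.mul_mem b.2 hn) (Q.inv_mem b.2)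
    · rw [← hQ.symm.index_eq_card]
      exact P.not_dvd_index
    · intro a ha b _
      exact (hPc a ha b).symm

/-- In the situation of `exists_PQ`, the `p`-regular elements are exactly those of `Q`. -/
theorem regular_iff_mem {E : Type u} [Group E] [Finite E] (p : ℕ) [hp : Fact p.Prime]
    (P Q : Subgroup E) [hQn : Q.Normal] (hP : IsPGroup p P) (hQ : ¬ p ∣ Nat.card Q)
    (hPQ : Nat.card P * Nat.card Q = Nat.card E) (y : E) :
    ¬ p ∣ orderOf y ↔ y ∈ Q := by
  constructor
  · intro hy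
    obtain ⟨j, hj⟩ := IsPGroup.exists_card_eq hP
    have hidx : Q.index = p ^ j := by
      have h1 := Subgroup.card_mul_index Q
      rw [← hPQ, hj, mul_comm] at h1
      exact Nat.eq_of_mul_eq_mul_right Nat.card_pos h1
    have h1 : (QuotientGroup.mk y : E ⧸ Q) ^ (p ^ j) = 1 := by
      have := pow_card_eq_one' (G := E ⧸ Q) (x := QuotientGroup.mk y)
      rwa [← Subgroup.index_eq_card, hidx] at this
    have h2 : (QuotientGroup.mk y : E ⧸ Q) ^ (orderOf y) = 1 := by
      rw [← QuotientGroup.mk_pow, pow_orderOf_eq_one]; rfl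
    have hg : Nat.gcd (p ^ j) (orderOf y) = 1 := by
      apply Nat.Coprime.pow_left
      exact (Nat.Prime.coprime_iff_not_dvd hp.out).mpr hy
    have h3 := pow_gcd_eq_one.mpr ⟨h1, h2⟩
    rw [hg, pow_one] at h3
    exact (QuotientGroup.eq_one_iff y).mp h3
  · intro hy hd
    apply hQ
    have : orderOf (⟨y, hy⟩ : Q) ∣ Nat.card Q := orderOf_dvd_natCard _
    rw [← Subgroup.orderOf_coe] at this
    exact hd.trans this


/-- A class function with integer inner products with all irreducible characters is a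
generalized character. -/
theorem isGeneralizedCharacter_of_int {E : Type u} [Group E] [Fintype E] {f : E → ℂ}
    (hf : IsClassFunction E f) (h : ∀ ψ : IrrCharacter E, ∃ z : ℤ, classInner f ψ.1 = z) :
    IsGeneralizedCharacter E f := by
  choose z hz using h
  refine ⟨∑ᶠ ψ : IrrCharacter E, ((z ψ).toNat : ℂ) • (ψ : E → ℂ),
    ∑ᶠ ψ : IrrCharacter E, ((- z ψ).toNat : ℂ) • (ψ : E → ℂ),
    isCharacter_finsum_irr _, isCharacter_finsum_irr _, ?_⟩
  have h1 := classFunction_eq_finsum hf
  rw [finsum_irr_eq_sum] at h1 ⊢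
  rw [finsum_irr_eq_sum]
  rw [← Finset.sum_sub_distrib]
  conv_lhs => rw [h1]
  refine Finset.sum_congr rfl fun ψ _ => ?_
  rw [hz ψ, ← sub_smul]
  congr 1
  have : (z ψ : ℤ) = ((z ψ).toNat : ℤ) - ((- z ψ).toNat : ℤ) := by omega
  have h2 : ((z ψ : ℤ) : ℂ) = ((((z ψ).toNat : ℤ) - ((- z ψ).toNat : ℤ) : ℤ) : ℂ) := by
    rw [← this]
  rw [h2]
  push_cast
  ring

/-- A quotient of natural numbers that is an algebraic integer is an integer. -/
theorem dvd_of_isIntegral_div {u d : ℕ} (hd : d ≠ 0) (h : IsIntegral ℤ ((u : ℂ) / (d : ℂ))) :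
    d ∣ u := by
  have hq : IsIntegral ℤ ((u : ℚ) / (d : ℚ)) := by
    rw [← isIntegral_algebraMap_iff (algebraMap ℚ ℂ).injective]
    simpa using h
  obtain ⟨y, hy⟩ := IsIntegrallyClosed.isIntegral_iff.mp hq
  have hdq : (d : ℚ) ≠ 0 := by exact_mod_cast hd
  have h3 : (u : ℚ) = (y : ℚ) * (d : ℚ) := by
    have : (algebraMap ℤ ℚ) y = (y : ℚ) := rfl
    rw [this] at hy
    rw [hy, div_mul_cancel₀ _ hdq]
  have h4 : (u : ℤ) = y * (d : ℤ) := by exact_mod_cast h3
  have h5 : ((d : ℕ) : ℤ) ∣ ((u : ℕ) : ℤ) := ⟨y, by rw [h4, mul_comm]⟩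
  exact Int.natCast_dvd_natCast.mp h5

/-- If a subgroup `P` centralizes `y`, then `(|G| / |P|) χ(y) / χ(1)` is an algebraic
integer. -/
theorem isIntegral_of_centralizes {G : Type u} [Group G] [Fintype G] (χ : IrrCharacter G)
    (P : Subgroup G) (y : G) (hy : ∀ x ∈ P, x * y = y * x) :
    IsIntegral ℤ (((Nat.card G / Nat.card P : ℕ) : ℂ) * (χ : G → ℂ) y / (χ : G → ℂ) 1) := by
  have hle : P ≤ Subgroup.centralizer ({y} : Set G) := by
    intro x hx
    rw [Subgroup.mem_centralizer_iff]
    intro z hz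
    rw [Set.mem_singleton_iff] at hz
    subst hz
    exact (hy x hx).symm
  obtain ⟨c, hc⟩ := Subgroup.card_dvd_of_le hle
  have h1 := Subgroup.card_mul_index (Subgroup.centralizer ({y} : Set G))
  have h2 : Nat.card G / Nat.card P = c * (Subgroup.centralizer ({y} : Set G)).index := by
    rw [← h1, hc, mul_assoc]
    exact Nat.mul_div_cancel_left _ Nat.card_pos
  have h3 := H20.centralChar_isIntegral χ y
  unfold centralChar at h3
  have h4 : ((Nat.card G / Nat.card P : ℕ) : ℂ) * (χ : G → ℂ) y / (χ : G → ℂ) 1 =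
      (c : ℂ) * (((Subgroup.centralizer ({y} : Set G)).index : ℂ) * (χ : G → ℂ) y /
        (χ : G → ℂ) 1) := by
    rw [h2]; push_cast; ring
  rw [h4]
  exact IsIntegral.mul (isIntegral_natCast _) h3

/-- Values of characters are algebraic integers. -/
theorem isIntegral_of_isCharacter {E : Type u} [Group E] [Finite E] {ψ : E → ℂ}
    (hψ : IsCharacter E ψ) (y : E) : IsIntegral ℤ (ψ y) := by
  obtain ⟨n, ρ, rfl⟩ := hψ
  exact character_isIntegral ρ y

/-- The arithmetic at the end. -/
theorem arith {p N d e c n : ℕ} (hp : p.Prime) (hN : N ≠ 0) (hdN : d ∣ N) (heN : p ^ e ∣ N)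
    (hc : ¬ p ∣ c) (h : d ∣ N / p ^ e * c * n) :
    p ^ e ∣ p ^ (N.factorization p - d.factorization p) * n := by
  by_cases hn : n = 0
  · subst hn; simp
  have hd : d ≠ 0 := fun h0 => hN (by rw [h0] at hdN; exact Nat.eq_zero_of_zero_dvd hdN)
  have hc0 : c ≠ 0 := fun h0 => hc (by rw [h0]; exact dvd_zero _)
  have hq : N / p ^ e ≠ 0 := by
    obtain ⟨t, ht⟩ := heN
    rw [ht, Nat.mul_div_cancel_left _ (pow_pos hp.pos _)]
    rintro rfl
    exact hN (by rw [ht, mul_zero])
  have h1 := (Nat.factorization_le_iff_dvd hd (mul_ne_zero (mul_ne_zero hq hc0) hn)).mpr h p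
  rw [Nat.factorization_mul (mul_ne_zero hq hc0) hn, Nat.factorization_mul hq hc0,
    Nat.factorization_div heN] at h1
  simp only [Finsupp.coe_add, Finsupp.coe_tsub, Pi.add_apply, Pi.sub_apply,
    hp.factorization_pow, Finsupp.single_eq_same, Nat.factorization_eq_zero_of_not_dvd hc,
    add_zero] at h1
  have h2 : e ≤ N.factorization p := (hp.pow_dvd_iff_le_factorization hN).mp heN
  have h3 : e ≤ (N.factorization p - d.factorization p) + n.factorization p := by omega
  calc p ^ e ∣ p ^ ((N.factorization p - d.factorization p) + n.factorization p) :=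
        pow_dvd_pow p h3
    _ = p ^ (N.factorization p - d.factorization p) * p ^ n.factorization p := pow_add _ _ _
    _ ∣ p ^ (N.factorization p - d.factorization p) * n :=
        Nat.mul_dvd_mul_left _ (Nat.ordProj_dvd n p)


theorem part1_core {G : Type u} [Group G] [Fintype G] (p : ℕ) [hp : Fact p.Prime]
    (χ : IrrCharacter G) (E : Subgroup G) [Fintype E] (P Q : Subgroup E) [hQn : Q.Normal]
    (hP : IsPGroup p P) (hQ : ¬ p ∣ Nat.card Q)
    (hPQ : Nat.card P * Nat.card Q = Nat.card E) (hcomm : ∀ x ∈ P, ∀ y ∈ Q, x * y = y * x)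
    (ψ : IrrCharacter E) :
    ∃ z : ℤ, classInner (fun e : E => if p ∣ orderOf (e : G) then (0 : ℂ) else
      ((p ^ ((Nat.card G).factorization p - (charDegree (χ : G → ℂ)).factorization p) : ℕ) : ℂ)
        * (χ : G → ℂ) e) ψ.1 = z := by
  classical
  have : Fintype Q := Fintype.ofFinite _
  set K : ℕ := p ^ ((Nat.card G).factorization p - (charDegree (χ : G → ℂ)).factorization p)
    with hK
  obtain ⟨hχ1, hdpos⟩ := H81.irr_charDegree χ
  have hddvd := H81.irr_charDegree_dvd χ
  set d : ℕ := charDegree (χ : G → ℂ) with hd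
  -- rewrite the function
  have hfun : (fun e : E => if p ∣ orderOf (e : G) then (0 : ℂ) else (K : ℂ) * (χ : G → ℂ) e) =
      fun e : E => if e ∈ Q then (K : ℂ) * (χ : G → ℂ) e else 0 := by
    funext e
    have h := regular_iff_mem p P Q hP hQ hPQ e
    rw [Subgroup.orderOf_coe] 
    by_cases he : e ∈ Q
    · rw [if_pos he, if_neg (h.mpr he)]
    · rw [if_neg he, if_pos (by by_contra h'; exact he (h.mp h'))]
  rw [hfun]
  unfold classInner
  -- the sum over `Q`
  set T : ℂ := ∑ e : Q, (χ : G → ℂ) ((e : E) : G) * conj (ψ.1 (e : E)) with hT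
  have hsum : ∑ e : E, (if e ∈ Q then (K : ℂ) * (χ : G → ℂ) e else 0) * conj (ψ.1 e) =
      (K : ℂ) * T := by
    have h1 : ∀ e : E, (if e ∈ Q then (K : ℂ) * (χ : G → ℂ) e else 0) * conj (ψ.1 e) =
        if e ∈ Q then (K : ℂ) * ((χ : G → ℂ) e * conj (ψ.1 e)) else 0 := by
      intro e
      split_ifs
      · ring
      · ring
    rw [Finset.sum_congr rfl fun e _ => h1 e, ← Finset.sum_filter, hT, Finset.mul_sum]
    exact Finset.sum_subtype (Finset.univ.filter (· ∈ Q)) (by simp)
      (fun e : E => (K : ℂ) * ((χ : G → ℂ) e * conj (ψ.1 e)))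
  rw [hsum]
  -- Claim A
  have hχE : IsCharacter E (fun e : E => (χ : G → ℂ) e) :=
    isCharacter_restrict E (isCharacter_of_isIrrCharacter χ.2)
  have hχQ : IsCharacter Q (fun e : Q => (χ : G → ℂ) ((e : E) : G)) := isCharacter_restrict Q hχE
  have hψQ : IsCharacter Q (fun e : Q => ψ.1 (e : E)) :=
    isCharacter_restrict Q (isCharacter_of_isIrrCharacter ψ.2)
  obtain ⟨n, hn⟩ := classInner_isCharacter_nat hχQ hψQ
  unfold classInner at hn
  have hQ0 : (Nat.card Q : ℂ) ≠ 0 := by exact_mod_cast (Nat.card_pos (α := Q)).ne'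
  have hTn : T = (Nat.card Q : ℂ) * n := by
    rw [← hn, ← mul_assoc, mul_inv_cancel₀ hQ0, one_mul]
  -- Claim B
  set P' : Subgroup G := P.map E.subtype with hP'
  have hP'card : Nat.card P' = Nat.card P :=
    Subgroup.card_map_of_injective E.subtype_injective
  have hint : IsIntegral ℤ (∑ e : Q, ((Nat.card G / Nat.card P' : ℕ) : ℂ) *
      (χ : G → ℂ) ((e : E) : G) / (χ : G → ℂ) 1 * conj (ψ.1 (e : E))) := by
    refine IsIntegral.sum _ fun e _ => ?_
    refine IsIntegral.mul (isIntegral_of_centralizes χ P' _ ?_)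
      (map_isIntegral_int (starRingEnd ℂ)
        (isIntegral_of_isCharacter (isCharacter_of_isIrrCharacter ψ.2) _))
    intro x hx
    obtain ⟨x₀, hx₀, rfl⟩ := Subgroup.mem_map.mp hx
    have := hcomm x₀ hx₀ e.1 e.2
    have h2 := congrArg (Subtype.val : E → G) this
    simpa using h2
  have hsum2 : ∑ e : Q, ((Nat.card G / Nat.card P' : ℕ) : ℂ) *
      (χ : G → ℂ) ((e : E) : G) / (χ : G → ℂ) 1 * conj (ψ.1 (e : E)) =
      ((Nat.card G / Nat.card P * (Nat.card Q * n) : ℕ) : ℂ) / (d : ℂ) := by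
    rw [hP'card, hχ1]
    push_cast
    rw [← hTn, hT, Finset.mul_sum, Finset.sum_div]
    refine Finset.sum_congr rfl fun e _ => ?_
    ring
  rw [hsum2] at hint
  have hdvd := dvd_of_isIntegral_div hdpos.ne' hint
  obtain ⟨e, he⟩ := IsPGroup.exists_card_eq hP
  have heG : p ^ e ∣ Nat.card G := by
    rw [← he]
    have h1 : Nat.card P ∣ Nat.card E := Subgroup.card_subgroup_dvd_card P
    exact h1.trans (Subgroup.card_subgroup_dvd_card E)
  rw [he, ← mul_assoc] at hdvd
  obtain ⟨k, hk⟩ := arith hp.out Nat.card_pos.ne' hddvd heG hQ hdvd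
  refine ⟨k, ?_⟩
  rw [hTn, ← hPQ, he]
  have hpe : ((p ^ e : ℕ) : ℂ) ≠ 0 := by
    exact_mod_cast (pow_pos hp.out.pos e).ne'
  have hk' : (K : ℂ) * (n : ℂ) = ((p ^ e : ℕ) : ℂ) * (k : ℂ) := by exact_mod_cast hk
  push_cast at hpe hk' ⊢
  field_simp
  linear_combination hk'

theorem part1 {G : Type u} [Group G] [Finite G] (p : ℕ) [hp : Fact p.Prime]
    (χ : IrrCharacter G) :
    IsGeneralizedCharacter G (fun x : G => if p ∣ orderOf x then (0 : ℂ) else
      ((p ^ ((Nat.card G).factorization p - (charDegree (χ : G → ℂ)).factorization p) : ℕ) : ℂ)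
        * (χ : G → ℂ) x) := by
  classical
  have : Fintype G := Fintype.ofFinite G
  apply brauer_characterization
  · intro g h
    have h1 : orderOf (h * g * h⁻¹) = orderOf g := by
      have := MulEquiv.orderOf_eq (MulAut.conj h) g
      simpa using this
    have h2 := irr_isClassFunction χ g h
    simp only [h1, h2]
  · intro E q hq hE
    have : Fintype E := Fintype.ofFinite _
    obtain ⟨P, Q, hQn, hP, hQ, hPQ, hcomm⟩ := exists_PQ p q hq hE
    apply isGeneralizedCharacter_of_int
    · intro g h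
      have h1 : orderOf ((h * g * h⁻¹ : E) : G) = orderOf (g : G) := by
        have := MulEquiv.orderOf_eq (MulAut.conj (h : G)) (g : G)
        simpa using this
      have h2 := irr_isClassFunction χ (g : G) (h : G)
      simp only [h1]
      have h3 : (χ : G → ℂ) ((h * g * h⁻¹ : E) : G) = (χ : G → ℂ) (g : G) := by
        simpa using h2
      rw [h3]
    · intro ψ
      exact part1_core p χ E P Q hP hQ hPQ hcomm ψ

theorem part2 {G : Type u} [Group G] [Finite G] (p : ℕ) [hp : Fact p.Prime]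
    (χ : IrrCharacter G) :
    ¬ IsGeneralizedCharacter G (fun x : G => if p ∣ orderOf x then (0 : ℂ) else
      ((p ^ (Nat.card G).factorization p : ℕ) : ℂ) /
        ((p ^ ((charDegree (χ : G → ℂ)).factorization p + 1) : ℕ) : ℂ) * (χ : G → ℂ) x) := by
  classical
  rintro ⟨α, β, hα, hβ, heq⟩
  obtain ⟨hχ1, hdpos⟩ := H81.irr_charDegree χ
  set d : ℕ := charDegree (χ : G → ℂ) with hd
  let P : Sylow p G := default
  have : Fintype (P : Subgroup G) := Fintype.ofFinite _
  have hαP := isCharacter_restrict (P : Subgroup G) hα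
  have hβP := isCharacter_restrict (P : Subgroup G) hβ
  have h1 : IsCharacter (P : Subgroup G) (fun _ => (1 : ℂ)) :=
    isCharacter_of_isIrrCharacter isIrrCharacter_one
  obtain ⟨n₁, hn₁⟩ := classInner_isCharacter_nat hαP h1
  obtain ⟨n₂, hn₂⟩ := classInner_isCharacter_nat hβP h1
  unfold classInner at hn₁ hn₂
  simp only [map_one, mul_one] at hn₁ hn₂
  have hPcard : Nat.card (P : Subgroup G) = p ^ (Nat.card G).factorization p :=
    Sylow.card_eq_multiplicity P
  have hP0 : (Nat.card (P : Subgroup G) : ℂ) ≠ 0 := by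
    exact_mod_cast (Nat.card_pos (α := (P : Subgroup G))).ne'
  have hs1 : ∑ g : (P : Subgroup G), α g = (Nat.card (P : Subgroup G) : ℂ) * n₁ := by
    rw [← hn₁, ← mul_assoc, mul_inv_cancel₀ hP0, one_mul]
  have hs2 : ∑ g : (P : Subgroup G), β g = (Nat.card (P : Subgroup G) : ℂ) * n₂ := by
    rw [← hn₂, ← mul_assoc, mul_inv_cancel₀ hP0, one_mul]
  have hs3 : ∑ g : (P : Subgroup G), (α g - β g) =
      ((p ^ (Nat.card G).factorization p : ℕ) : ℂ) /
        ((p ^ (d.factorization p + 1) : ℕ) : ℂ) * (d : ℂ) := by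
    rw [Finset.sum_eq_single (1 : (P : Subgroup G))]
    · have := congrFun heq (1 : G)
      simp only [orderOf_one, Pi.sub_apply] at this
      rw [if_neg (Nat.Prime.not_dvd_one hp.out)] at this
      rw [Subgroup.coe_one, ← this, hχ1]
    · intro g _ hg
      have := congrFun heq (g : G)
      simp only [Pi.sub_apply] at this
      rw [← this, if_pos]
      obtain ⟨j, hj⟩ := (IsPGroup.iff_orderOf.mp P.isPGroup') g
      rw [Subgroup.orderOf_coe, hj]
      have hj0 : j ≠ 0 := by
        rintro rfl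
        rw [pow_zero, orderOf_eq_one_iff] at hj
        exact hg hj
      exact dvd_pow_self p hj0
    · intro h; exact absurd (Finset.mem_univ _) h
  rw [Finset.sum_sub_distrib, hs1, hs2, hPcard] at hs3
  have hpa : ((p ^ (Nat.card G).factorization p : ℕ) : ℂ) ≠ 0 := by
    exact_mod_cast (pow_pos hp.out.pos _).ne'
  have hpb : ((p ^ (d.factorization p + 1) : ℕ) : ℂ) ≠ 0 := by
    exact_mod_cast (pow_pos hp.out.pos _).ne'
  have h4 : (d : ℂ) = ((p ^ (d.factorization p + 1) : ℕ) : ℂ) * ((n₁ : ℂ) - (n₂ : ℂ)) := by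
    field_simp at hs3
    rw [← hs3]; ring
  have h5 : (d : ℤ) = ((p ^ (d.factorization p + 1) : ℕ) : ℤ) * ((n₁ : ℤ) - (n₂ : ℤ)) := by
    exact_mod_cast h4
  have h6 : ((p ^ (d.factorization p + 1) : ℕ) : ℤ) ∣ (d : ℤ) := ⟨_, h5⟩
  exact Nat.pow_succ_factorization_not_dvd hdpos.ne' hp.out (Int.natCast_dvd_natCast.mp h6)

/-- Let χ be an irreducible character of the finite group G, p a prime, p^a the p-part of the order of G and p^b the p-part of the degree χ(1). Let χ̃ be the class function equal to p^a · χ on p-regular elements and zero on p-singular elements. Then p^(−b) · χ̃ is a generalized character of G, while p^(−(b+1)) · χ̃ is not. -/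
theorem result {G : Type*} [Group G] [Finite G] (p : ℕ) [Fact p.Prime] (χ : Cfsg.IrrCharacter G) : Cfsg.IsGeneralizedCharacter G (fun x : G => if p ∣ orderOf x then (0 : ℂ) else ((p ^ ((Nat.card G).factorization p - (Cfsg.charDegree (χ : G → ℂ)).factorization p) : ℕ) : ℂ) * (χ : G → ℂ) x) ∧ ¬ Cfsg.IsGeneralizedCharacter G (fun x : G => if p ∣ orderOf x then (0 : ℂ) else ((p ^ (Nat.card G).factorization p : ℕ) : ℂ) / ((p ^ ((Cfsg.charDegree (χ : G → ℂ)).factorization p + 1) : ℕ) : ℂ) * (χ : G → ℂ) x) := by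
  exact ⟨part1 p χ, part2 p χ⟩

end Cfsg.Agent.S4425
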