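import Cfsg.Statements.S0912
import Cfsg.Agent.H20.Nilpotent
import Cfsg.Agent.H80.GroupBasic

set_option autoImplicit false
set_option linter.style.haveILetI false
open Cfsg

namespace Cfsg.Agent.S0912

/-- Let B be a block of the finite group G relative to a maximal ideal M of the algebraic integers containing the prime p. Every defect group of B contains the largest normal p-subgroup O_p(G). -/
theorem result {G : Type*} [Group G] [Finite G] (p : ℕ) [Fact p.Prime] (M : Ideal Cfsg.AlgInt) (hM : Cfsg.IsPModular p M) (B : Set (Cfsg.IrrCharacter G)) (hB : Cfsg.IsPBlock M B) (D : Subgroup G) (hD : Cfsg.IsDefectGroup p M B D) : Cfsg.pCore p G ≤ D := by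
  classical
  haveI : Fintype G := Fintype.ofFinite G
  obtain ⟨χ₀, rfl⟩ := hB
  obtain ⟨g, ⟨_, _, hcc⟩, P, rfl⟩ := hD
  haveI hPn : (Cfsg.pCore p G).Normal := Cfsg.Agent.H80.pCore_normal p G
  have hP : IsPGroup p (Cfsg.pCore p G) := Cfsg.Agent.H80.pCore_isPGroup p G
  have hχ₀ : χ₀ ∈ Cfsg.blockOf M (χ₀ : G → ℂ) := fun x => by
    rw [sub_self]
    exact Cfsg.Agent.H20.memLocalIdeal_zero (Cfsg.Agent.H20.isPrime_of_isPModular hM)
  have hgc : g ∈ Subgroup.centralizer (Cfsg.pCore p G : Set G) := by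
    by_contra h
    exact hcc χ₀ hχ₀
      (Cfsg.Agent.H20.centralChar_memLocalIdeal_of_not_mem_centralizer hM _ hP g h χ₀)
  have hle : Cfsg.pCore p G ≤ Subgroup.centralizer ({g} : Set G) := by
    intro x hx
    rw [Subgroup.mem_centralizer_iff]
    intro y hy
    rw [Set.mem_singleton_iff] at hy
    subst hy
    exact (Subgroup.mem_centralizer_iff.mp hgc x hx).symm
  have hQp : IsPGroup p ((Cfsg.pCore p G).subgroupOf (Subgroup.centralizer ({g} : Set G))) :=
    hP.comap_subtype
  have hQle := hQp.le_sylow_of_normal P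
  intro x hx
  rw [Subgroup.mem_map]
  exact ⟨⟨x, hle hx⟩, hQle (Subgroup.mem_subgroupOf.mpr hx), rfl⟩

end Cfsg.Agent.S0912
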