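import Cfsg.Statements.S1485
import Cfsg.Agent.H31.IndFun

set_option autoImplicit false
open Cfsg

namespace Cfsg.Agent.S1485

open Cfsg.Agent.H31

/-- Let H be a normal subgroup of the finite group G and θ an irreducible character of H. On H, the function induced from θ equals r times the sum of the distinct G-conjugates of θ, where r is the number of elements of G fixing θ under conjugation divided by the order of H (the index of H in the inertia group). -/
theorem result {G : Type*} [Group G] [Fintype G] (H : Subgroup G) [hN : H.Normal] (θ : H → ℂ) (hθ : Cfsg.IsIrrCharacter H θ) : (fun h : H => Cfsg.indFun H θ h) = ((Nat.card {g : G // ∀ h : H, θ ⟨g * h * g⁻¹, hN.conj_mem h h.2 g⟩ = θ h} : ℂ) / (Nat.card H : ℂ)) • ∑ᶠ ψ ∈ {ψ : H → ℂ | ∃ g : G, ψ = fun h : H => θ ⟨g * h * g⁻¹, hN.conj_mem h h.2 g⟩}, ψ := by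
  classical
  have hsub : ∀ (a b : G) (ha : a ∈ H) (hb : b ∈ H), a = b → θ ⟨a, ha⟩ = θ ⟨b, hb⟩ := by
    intro a b ha hb hab
    subst hab
    rfl
  set cθ : G → (H → ℂ) := fun g => fun h : H => θ ⟨g * h * g⁻¹, hN.conj_mem h h.2 g⟩ with hcθ
  have h1 : ∀ h : H, Cfsg.indFun H θ h = (Nat.card H : ℂ)⁻¹ * ∑ x : G, cθ x h := by
    intro h
    unfold Cfsg.indFun
    congr 1
    rw [← Equiv.sum_comp (Equiv.inv G) (fun x => cθ x h)]
    apply Finset.sum_congr rfl
    intro x _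
    have hx : x⁻¹ * (h : G) * x ∈ H := by
      have := hN.conj_mem h h.2 x⁻¹
      simpa using this
    rw [extendByZero_mem H θ _ hx]
    simp only [hcθ, Equiv.inv_apply]
    apply hsub
    simp
  have hfib : ∀ g : G, (Finset.univ.filter (fun x => cθ x = cθ g)).card =
      Nat.card {g : G // ∀ h : H, θ ⟨g * h * g⁻¹, hN.conj_mem h h.2 g⟩ = θ h} := by
    intro g
    rw [← Fintype.card_subtype, ← Nat.card_eq_fintype_card]
    apply Nat.card_congr
    exact {
      toFun := fun x => ⟨x.1 * g⁻¹, fun h => by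
        have hm : g⁻¹ * (h : G) * g ∈ H := by
          have := hN.conj_mem h h.2 g⁻¹
          simpa using this
        have h2 := congrFun x.2 ⟨g⁻¹ * h * g, hm⟩
        simp only [hcθ] at h2
        calc θ ⟨x.1 * g⁻¹ * ↑h * (x.1 * g⁻¹)⁻¹, _⟩
            = θ ⟨x.1 * (g⁻¹ * ↑h * g) * x.1⁻¹, hN.conj_mem _ hm x.1⟩ := hsub _ _ _ _ (by group)
          _ = θ ⟨g * (g⁻¹ * ↑h * g) * g⁻¹, hN.conj_mem _ hm g⟩ := h2
          _ = θ h := hsub _ _ _ _ (by group)⟩
      invFun := fun t => ⟨t.1 * g, by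
        funext h
        have h2 := t.2 ⟨g * h * g⁻¹, hN.conj_mem h h.2 g⟩
        simp only [hcθ]
        calc θ ⟨t.1 * g * ↑h * (t.1 * g)⁻¹, _⟩
            = θ ⟨t.1 * (g * ↑h * g⁻¹) * t.1⁻¹, hN.conj_mem _ (hN.conj_mem h h.2 g) t.1⟩ :=
              hsub _ _ _ _ (by group)
          _ = θ ⟨g * ↑h * g⁻¹, hN.conj_mem h h.2 g⟩ := h2⟩
      left_inv := fun x => by apply Subtype.ext; simp
      right_inv := fun t => by apply Subtype.ext; simp }
  have hsum : ∑ x : G, cθ x =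
      (Nat.card {g : G // ∀ h : H, θ ⟨g * h * g⁻¹, hN.conj_mem h h.2 g⟩ = θ h} : ℂ) •
        ∑ ψ ∈ Finset.univ.image cθ, ψ := by
    have := Finset.sum_comp (s := (Finset.univ : Finset G)) (fun ψ : H → ℂ => ψ) cθ
    rw [this, Finset.smul_sum]
    apply Finset.sum_congr rfl
    intro ψ hψ
    obtain ⟨g, -, rfl⟩ := Finset.mem_image.mp hψ
    rw [hfib g, Nat.cast_smul_eq_nsmul]
  have hS : {ψ : H → ℂ | ∃ g : G, ψ = fun h : H => θ ⟨g * h * g⁻¹, hN.conj_mem h h.2 g⟩} =
      ↑(Finset.univ.image cθ) := by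
    ext ψ
    simp only [Set.mem_setOf_eq, Finset.coe_image, Finset.coe_univ, Set.image_univ, Set.mem_range]
    constructor
    · rintro ⟨g, rfl⟩; exact ⟨g, rfl⟩
    · rintro ⟨g, rfl⟩; exact ⟨g, rfl⟩
  rw [hS, finsum_mem_coe_finset]
  funext h
  rw [h1 h, ← Finset.sum_apply, hsum]
  simp only [Pi.smul_apply, smul_eq_mul]
  ring

end Cfsg.Agent.S1485
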