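import Cfsg.Statements.S0963
import Cfsg.Agent.Lib.Gallagher
import Cfsg.Agent.S1485
import Cfsg.Agent.H20.Basic

set_option autoImplicit false
open Cfsg

namespace Cfsg.Agent.S0963

open Cfsg.Agent.H4 Cfsg.Agent.Clifford
open scoped ComplexConjugate

/-- the central-character condition is equivalent to proportionality of `χ|N` and `(θ^G)|N` -/
theorem key {G : Type*} [Group G] [Fintype G] (N : Subgroup G) [Fintype N]
    (χ : G → ℂ) (θ : N → ℂ) (hχ1 : χ 1 ≠ 0) (hθ1 : θ 1 ≠ 0) (g : G) :
    Cfsg.centralChar χ g = Cfsg.inducedCentralChar N θ g ↔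
      χ g * Cfsg.indFun N θ 1 = χ 1 * Cfsg.indFun N θ g := by
  classical
  have hsum : Cfsg.inducedCentralChar N θ g =
      (∑ h ∈ Finset.univ.filter (fun h : N => IsConj g (h : G)), θ h) / θ 1 := by
    unfold Cfsg.inducedCentralChar
    rw [finsum_mem_eq_finite_toFinset_sum _ (Set.toFinite _), Finset.sum_div]
    refine Finset.sum_congr ?_ fun _ _ => rfl
    ext h
    simp
  have hC : (Nat.card (Subgroup.centralizer ({g} : Set G)) : ℂ) ≠ 0 := by
    have : 0 < Nat.card (Subgroup.centralizer ({g} : Set G)) := Nat.card_pos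
    exact_mod_cast this.ne'
  have hN : (Nat.card N : ℂ) ≠ 0 := by
    have : 0 < Nat.card N := Nat.card_pos
    exact_mod_cast this.ne'
  have hidx : ((Subgroup.centralizer ({g} : Set G)).index : ℂ) =
      (Nat.card G : ℂ) / (Nat.card (Subgroup.centralizer ({g} : Set G)) : ℂ) := by
    rw [eq_div_iff hC]
    exact_mod_cast (mul_comm _ _).trans (Subgroup.card_mul_index (Subgroup.centralizer ({g} : Set G)))
  have h1 := Cfsg.Agent.H20.indFun_eq_sum N θ g
  have h2 := Cfsg.Agent.H20.indFun_one N θ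
  have hS : (∑ h ∈ Finset.univ.filter (fun h : N => IsConj g (h : G)), θ h) =
      (Nat.card N : ℂ) * Cfsg.indFun N θ g / (Nat.card (Subgroup.centralizer ({g} : Set G)) : ℂ) := by
    rw [h1]; field_simp
  unfold Cfsg.centralChar
  rw [hsum, hS, hidx, h2]
  constructor
  · intro h
    field_simp at h
    field_simp
    linear_combination h
  · intro h
    field_simp at h
    field_simp
    linear_combination h

/-- Let N be a normal subgroup of the finite group G, χ an irreducible character of G and θ an irreducible character of N. Then θ occurs in the restriction of χ to N if and only if, for every n ∈ N, the central character of χ at n (class size in G times χ n over χ 1) equals the sum of θ m / θ 1 over the elements m of N conjugate in G to n. -/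
theorem result {G : Type*} [Group G] [Fintype G] (N : Subgroup G) [N.Normal] [Fintype N] (χ : Cfsg.IrrCharacter G) (θ : Cfsg.IrrCharacter N) : Cfsg.classInner (fun n : N => (χ : G → ℂ) n) (θ : N → ℂ) ≠ 0 ↔ ∀ n : N, Cfsg.centralChar (χ : G → ℂ) (n : G) = Cfsg.inducedCentralChar N (θ : N → ℂ) (n : G) := by
  classical
  have hχ1 : (χ : G → ℂ) 1 ≠ 0 := irr_one_ne_zero' χ.2
  have hθ1 : (θ : N → ℂ) 1 ≠ 0 := irr_one_ne_zero' θ.2
  have hN : (Nat.card N : ℂ) ≠ 0 := by
    have : 0 < Nat.card N := Nat.card_pos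
    exact_mod_cast this.ne'
  have hG : (Nat.card G : ℂ) ≠ 0 := by
    have : 0 < Nat.card G := Nat.card_pos
    exact_mod_cast this.ne'
  have hind1 : Cfsg.indFun N θ.1 1 ≠ 0 := by
    rw [Cfsg.Agent.H20.indFun_one]
    exact mul_ne_zero (inv_ne_zero hN) (mul_ne_zero hG hθ1)
  simp only [key N χ.1 θ.1 hχ1 hθ1]
  constructor
  · intro hcon n
    have hcl := clifford_res N χ.2 θ.2 hcon
    have hs := Cfsg.Agent.S1485.result N θ.1 θ.2
    set O : N → ℂ := ∑ᶠ ψ ∈ {ψ : N → ℂ | ∃ g : G, ψ = conjChar N θ.1 g}, ψ with hO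
    have hs' : (fun h : N => Cfsg.indFun N θ.1 h) =
        ((Nat.card {g : G // ∀ h : N, θ.1 ⟨g * h * g⁻¹, Subgroup.Normal.conj_mem inferInstance (h : G) h.2 g⟩ = θ.1 h} : ℂ) /
          (Nat.card N : ℂ)) • O := hs
    set a : ℂ := (Nat.card {g : G // ∀ h : N, θ.1 ⟨g * h * g⁻¹, Subgroup.Normal.conj_mem inferInstance (h : G) h.2 g⟩ = θ.1 h} : ℂ) with ha
    set e : ℂ := Cfsg.classInner (fun n : N => (χ : G → ℂ) n) (θ : N → ℂ) with he
    have hcn : χ.1 (n : G) = e * O n := congrFun hcl n
    have hc1 : χ.1 1 = e * O 1 := congrFun hcl 1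
    have hsn : Cfsg.indFun N θ.1 (n : G) = a / (Nat.card N : ℂ) * O n := congrFun hs' n
    have hs1 : Cfsg.indFun N θ.1 1 = a / (Nat.card N : ℂ) * O 1 := congrFun hs' 1
    rw [hcn, hc1, hsn, hs1]
    ring
  · intro h
    have hres : (fun n : N => (χ : G → ℂ) n) =
        (χ.1 1 / Cfsg.indFun N θ.1 1) • (fun n : N => Cfsg.indFun N θ.1 (n : G)) := by
      funext n
      have := h n
      simp only [Pi.smul_apply, smul_eq_mul]
      field_simp
      linear_combination this
    rw [hres, classInner_smul_left]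
    refine mul_ne_zero (div_ne_zero hχ1 hind1) ?_
    have hθG : Cfsg.IsCharacter G (Cfsg.indFun N θ.1) :=
      isCharacter_indFun N θ.1 (isCharacter_of_isIrrCharacter θ.2)
    have hne : Cfsg.indFun N θ.1 ≠ 0 := fun h0 => hind1 (by rw [h0]; rfl)
    obtain ⟨k, hk1, hk⟩ := one_le_norm_of_ne_zero hθG hne
    rw [frobenius_reciprocity N θ.1 (Cfsg.indFun N θ.1) (isClassFunction_of_isCharacter hθG)] at hk
    rw [← classInner_conj_symm, hk]
    simp only [Complex.conj_natCast]
    exact_mod_cast (Nat.one_le_iff_ne_zero.mp hk1)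

end Cfsg.Agent.S0963
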