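import Cfsg.Statements.S1023
import Cfsg.Agent.H22.ChevData

set_option autoImplicit false
set_option maxRecDepth 1000000
open Cfsg

namespace Cfsg.Agent.S1023

open Cfsg.Lie Cfsg.Agent.H22

/-- the parameter `t₁` -/
def pX : Poly := [⟨1, 0, 1, 0, 0, 0⟩]
/-- the parameter `t₂` -/
def pY : Poly := [⟨1, 0, 0, 0, 1, 0⟩]
/-- the parameter `t₁ + t₂` -/
def pXY : Poly := [⟨1, 0, 1, 0, 0, 0⟩, ⟨1, 0, 0, 0, 1, 0⟩]

/-- the check of `x_r(t₁) x_r(t₂) = x_r(t₁ + t₂)` for the roots `lo ≤ r < lo + n` -/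
def addChk (D : ChevalleyDatum) (lo n : ℕ) : Bool :=
  allBelow n fun i => wordEqCheck2 D 4 0 4 0 [(Nat.add lo i, pX), (Nat.add lo i, pY)] [(Nat.add lo i, pXY)]

theorem addChk_spec (D : ChevalleyDatum) (lo n : ℕ) (h : addChk D lo n = true) (r : ℕ)
    (h1 : lo ≤ r) (h2 : r < lo + n) : wordEqCheck2 D 4 0 4 0 [(r, pX), (r, pY)] [(r, pXY)] = true := by
  have h3 := (allBelow_iff _ _).mp h (r - lo) (by omega)
  have h4 : Nat.add lo (r - lo) = r := by
    show lo + (r - lo) = r
    omega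
  rw [h4] at h3
  exact h3

theorem chk_G2 : addChk chevG2 0 12 = true := by decide +kernel
theorem chk_B2 : addChk chevB2 0 8 = true := by decide +kernel
theorem chk_D4 : addChk chevD4 0 24 = true := by decide +kernel
theorem chk_F4 : addChk chevF4 0 48 = true := by decide +kernel
theorem chk_E6 : addChk chevE6 0 72 = true := by decide +kernel
theorem chk_E7a : addChk chevE7 0 63 = true := by decide +kernel
theorem chk_E7b : addChk chevE7 63 63 = true := by decide +kernel
theorem chk_E8a : addChk chevE8 0 60 = true := by decide +kernel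
theorem chk_E8b : addChk chevE8 60 60 = true := by decide +kernel
theorem chk_E8c : addChk chevE8 120 60 = true := by decide +kernel
theorem chk_E8d : addChk chevE8 180 60 = true := by decide +kernel

theorem chk_all (D : ChevalleyDatum)
    (hD : D ∈ [chevG2, chevB2, chevD4, chevF4, chevE6, chevE7, chevE8]) (r : ℕ)
    (hr : r < D.nroots) : wordEqCheck2 D 4 0 4 0 [(r, pX), (r, pY)] [(r, pXY)] = true := by
  simp only [List.mem_cons, List.not_mem_nil, or_false] at hD
  rcases hD with rfl | rfl | rfl | rfl | rfl | rfl | rfl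
  · exact addChk_spec _ 0 12 chk_G2 r (by omega) hr
  · exact addChk_spec _ 0 8 chk_B2 r (by omega) hr
  · exact addChk_spec _ 0 24 chk_D4 r (by omega) hr
  · exact addChk_spec _ 0 48 chk_F4 r (by omega) hr
  · exact addChk_spec _ 0 72 chk_E6 r (by omega) hr
  · have hr' : r < 126 := hr
    by_cases h1 : r < 63
    · exact addChk_spec _ 0 63 chk_E7a r (by omega) (by omega)
    · exact addChk_spec _ 63 63 chk_E7b r (by omega) (by omega)
  · have hr' : r < 240 := hr
    by_cases h1 : r < 60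
    · exact addChk_spec _ 0 60 chk_E8a r (by omega) (by omega)
    by_cases h2 : r < 120
    · exact addChk_spec _ 60 60 chk_E8b r (by omega) (by omega)
    by_cases h3 : r < 180
    · exact addChk_spec _ 120 60 chk_E8c r (by omega) (by omega)
    · exact addChk_spec _ 180 60 chk_E8d r (by omega) (by omega)

/-- Additivity of root elements: for every type G₂, B₂, D₄, F₄, E₆, E₇, E₈ and every root `r`, `x_r(t₁) x_r(t₂) = x_r(t₁ + t₂)` as matrices. -/
theorem result {F : Type*} [Field F] (D : Cfsg.Lie.ChevalleyDatum) (hD : D ∈ [Cfsg.Lie.chevG2, Cfsg.Lie.chevB2, Cfsg.Lie.chevD4, Cfsg.Lie.chevF4, Cfsg.Lie.chevE6, Cfsg.Lie.chevE7, Cfsg.Lie.chevE8]) (r : ℕ) (hr : r < D.nroots) (t₁ t₂ : F) :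
    D.x F r t₁ * D.x F r t₂ = D.x F r (t₁ + t₂) := by
  by_cases h1 : t₁ = 0
  · subst h1
    rw [x_zero, Matrix.one_mul, zero_add]
  by_cases h2 : t₂ = 0
  · subst h2
    rw [x_zero, Matrix.mul_one, add_zero]
  have key := wordMat_eq_of_check2 (tablesCheck_all D hD) (maskCheck_all D hD) 4 0 4 0
    [(r, pX), (r, pY)] [(r, pXY)] (chk_all D hD r hr) (⟨t₁, t₂, h1, h2⟩ : Val F)
  simpa [evalWord, ChevalleyDatum.wordMat, pX, pY, pXY, Poly.eval, Mono.eval, Mono.mon] using key

end Cfsg.Agent.S1023
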