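-- Statement S0428 (helper10).
import Cfsg.Statements.S0428
import Cfsg.Agent.H10.Steiner22

set_option autoImplicit false
open Cfsg

namespace Cfsg.Agent.S0428

open Cfsg.Agent.H10

/-- Cardinality of a set of blocks (as a set in the subtype) via the block finset. -/
theorem card_subtype_set {α : Type*} [Fintype α] [DecidableEq α] {B : Set (Finset α)}
    (X : Set B) [Fintype X] (P : Finset α → Prop) [DecidablePred P]
    (h : ∀ v : B, v ∈ X ↔ P v.1) :
    Fintype.card X = ((blockFinset B).filter P).card := by
  rw [Fintype.card_eq_nat_card, Nat.card_coe_set_eq,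
    ← Set.ncard_image_of_injective X Subtype.val_injective, ← Set.ncard_coe_finset]
  congr 1
  ext d
  simp only [Set.mem_image, Finset.coe_filter, Set.mem_ofPred_eq, mem_blockFinset]
  constructor
  · rintro ⟨v, hv, rfl⟩
    exact ⟨v.2, (h v).1 hv⟩
  · rintro ⟨hd, hP⟩
    exact ⟨⟨d, hd⟩, (h ⟨d, hd⟩).2 hP, rfl⟩

theorem card_vertex_set {α : Type*} [Fintype α] [DecidableEq α] {B : Set (Finset α)} [Fintype B]
    (X : Set (Option (α ⊕ B))) [Fintype X] (P0 : Prop) [Decidable P0] (P1 : α → Prop)
    [DecidablePred P1] (P2 : Finset α → Prop) [DecidablePred P2] (h0 : none ∈ X ↔ P0)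
    (h1 : ∀ a, some (Sum.inl a) ∈ X ↔ P1 a) (h2 : ∀ b : B, some (Sum.inr b) ∈ X ↔ P2 b.1) :
    Fintype.card X = (if P0 then 1 else 0) + (Finset.univ.filter P1).card +
      ((blockFinset B).filter P2).card := by
  classical
  rw [Fintype.card_of_finset' (Finset.univ.filter (fun v => v ∈ X)) (by simp)]
  rw [Finset.card_filter, Fintype.sum_option, Fintype.sum_sum_type]
  have e0 : (if none ∈ X then 1 else 0) = (if P0 then 1 else 0) := by
    by_cases h : P0 <;> simp [h, h0]
  have e1 : ∑ a : α, (if some (Sum.inl a) ∈ X then 1 else 0) = (Finset.univ.filter P1).card := by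
    rw [Finset.card_filter]
    exact Finset.sum_congr rfl (fun a _ => by by_cases h : P1 a <;> simp [h, h1])
  have e2 : ∑ b : B, (if some (Sum.inr b) ∈ X then 1 else 0) = ((blockFinset B).filter P2).card := by
    rw [← card_subtype_set {b : B | P2 b.1} P2 (fun v => Iff.rfl)]
    rw [Fintype.card_of_finset' (Finset.univ.filter (fun b : B => P2 b.1)) (by simp)]
    rw [Finset.card_filter]
    exact Finset.sum_congr rfl (fun b _ => by by_cases h : P2 b.1 <;> simp [h, h2])
  rw [e0, e1, e2, add_assoc]

section Adj

variable {α : Type*} {B : Set (Finset α)}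

theorem adj_none_point (a : α) :
    (Cfsg.pointBlockGraph B).Adj none (some (Sum.inl a)) := by
  unfold Cfsg.pointBlockGraph
  rw [SimpleGraph.fromRel_adj]
  simp [Cfsg.pointBlockRel]

theorem adj_point_none (a : α) :
    (Cfsg.pointBlockGraph B).Adj (some (Sum.inl a)) none :=
  (adj_none_point a).symm

theorem adj_none_block (b : B) :
    ¬ (Cfsg.pointBlockGraph B).Adj none (some (Sum.inr b)) := by
  unfold Cfsg.pointBlockGraph
  rw [SimpleGraph.fromRel_adj]
  simp [Cfsg.pointBlockRel]

theorem adj_block_none (b : B) :
    ¬ (Cfsg.pointBlockGraph B).Adj (some (Sum.inr b)) none :=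
  fun h => adj_none_block b h.symm

theorem adj_point_point (a a' : α) :
    ¬ (Cfsg.pointBlockGraph B).Adj (some (Sum.inl a)) (some (Sum.inl a')) := by
  unfold Cfsg.pointBlockGraph
  rw [SimpleGraph.fromRel_adj]
  simp [Cfsg.pointBlockRel]

theorem adj_point_block (a : α) (b : B) :
    (Cfsg.pointBlockGraph B).Adj (some (Sum.inl a)) (some (Sum.inr b)) ↔ a ∈ b.1 := by
  unfold Cfsg.pointBlockGraph
  rw [SimpleGraph.fromRel_adj]
  simp [Cfsg.pointBlockRel]

theorem adj_block_point (b : B) (a : α) :
    (Cfsg.pointBlockGraph B).Adj (some (Sum.inr b)) (some (Sum.inl a)) ↔ a ∈ b.1 := by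
  rw [SimpleGraph.adj_comm, adj_point_block]

theorem adj_block_block [DecidableEq α] (hB : Cfsg.IsSteinerSystem 3 6 B) (b c : B) :
    (Cfsg.pointBlockGraph B).Adj (some (Sum.inr b)) (some (Sum.inr c)) ↔ Disjoint b.1 c.1 := by
  unfold Cfsg.pointBlockGraph
  rw [SimpleGraph.fromRel_adj]
  simp only [Cfsg.pointBlockRel]
  constructor
  · rintro ⟨-, h | h⟩
    · exact h
    · exact h.symm
  · intro h
    refine ⟨fun hbc => ?_, Or.inl h⟩
    have : b = c := by simpa using hbc
    rw [this] at h
    exact steiner3_not_disjoint_self hB c.2 h

end Adj

theorem filter_mem_card {α : Type*} [Fintype α] [DecidableEq α] (b : Finset α) :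
    (Finset.univ.filter (fun a => a ∈ b)).card = b.card := by
  rw [Finset.filter_mem_eq_inter, Finset.univ_inter]

theorem filter_mem_mem_card {α : Type*} [Fintype α] [DecidableEq α] (b c : Finset α) :
    (Finset.univ.filter (fun a => a ∈ b ∧ a ∈ c)).card = (b ∩ c).card := by
  congr 1
  ext a
  simp

/-- The point-block graph of an S(3, 6, 22) is strongly regular with parameters (100, 22, 0, 6). -/
theorem result {α : Type*} [Fintype α] (hα : Fintype.card α = 22) {B : Set (Finset α)} (hB : Cfsg.IsSteinerSystem 3 6 B) [Fintype B] [DecidableRel (Cfsg.pointBlockGraph B).Adj] : (Cfsg.pointBlockGraph B).IsSRGWith 100 22 0 6 := by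
  classical
  have hcardB : Fintype.card B = 77 := by
    have h := card_subtype_set (Set.univ : Set B) (fun _ => True) (fun v => by simp)
    rw [Finset.filter_true_of_mem (fun _ _ => trivial), steiner3_card_blocks hα hB] at h
    rw [← h, Fintype.card_congr (Equiv.Set.univ B)]
  have hF : ∀ (S : Finset (Finset α)), (S.filter (fun _ => False)).card = 0 := by
    intro S; simp
  have hF' : ((Finset.univ : Finset α).filter (fun _ => False)).card = 0 := by simp
  have hT' : ((Finset.univ : Finset α).filter (fun _ => True)).card = 22 := by
    rw [Finset.filter_true_of_mem (fun _ _ => trivial), Finset.card_univ, hα]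
  refine ⟨?_, ?_, ?_, ?_⟩
  · rw [Fintype.card_option, Fintype.card_sum, hα, hcardB]
  · intro v
    rw [← SimpleGraph.card_neighborSet_eq_degree]
    rcases v with _ | a | b
    · rw [card_vertex_set ((Cfsg.pointBlockGraph B).neighborSet none) False (fun _ => True)
        (fun _ => False)
        (by simp [SimpleGraph.mem_neighborSet])
        (fun a => by simp [SimpleGraph.mem_neighborSet, adj_none_point])
        (fun b => by simp [SimpleGraph.mem_neighborSet, adj_none_block]), hF, hT']
      simp
    · rw [card_vertex_set ((Cfsg.pointBlockGraph B).neighborSet (some (Sum.inl a))) True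
        (fun _ => False) (fun d => a ∈ d)
        (by simp [SimpleGraph.mem_neighborSet, adj_point_none])
        (fun a' => by simp [SimpleGraph.mem_neighborSet, adj_point_point])
        (fun b => by simp [SimpleGraph.mem_neighborSet, adj_point_block]), hF',
        steiner3_card_one hα hB a]
      simp
    · rw [card_vertex_set ((Cfsg.pointBlockGraph B).neighborSet (some (Sum.inr b))) False
        (fun a => a ∈ b.1) (fun d => Disjoint b.1 d)
        (by simp [SimpleGraph.mem_neighborSet, adj_block_none])
        (fun a' => by simp [SimpleGraph.mem_neighborSet, adj_block_point])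
        (fun c => by simp [SimpleGraph.mem_neighborSet, adj_block_block hB]),
        filter_mem_card, hB.1 b.1 b.2, steiner3_card_disjoint hα hB b.2]
      simp
  · intro v w hvw
    rcases v with _ | a | b <;> rcases w with _ | a' | c
    · exact absurd hvw (SimpleGraph.irrefl _)
    · rw [card_vertex_set ((Cfsg.pointBlockGraph B).commonNeighbors none (some (Sum.inl a'))) False
        (fun _ => False) (fun _ => False)
        (by simp [SimpleGraph.mem_commonNeighbors])
        (fun a => by simp [SimpleGraph.mem_commonNeighbors, adj_point_point])
        (fun b => by simp [SimpleGraph.mem_commonNeighbors, adj_none_block]), hF, hF']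
      simp
    · exact absurd hvw (adj_none_block c)
    · rw [card_vertex_set ((Cfsg.pointBlockGraph B).commonNeighbors (some (Sum.inl a)) none) False
        (fun _ => False) (fun _ => False)
        (by simp [SimpleGraph.mem_commonNeighbors])
        (fun a => by simp [SimpleGraph.mem_commonNeighbors, adj_point_point])
        (fun b => by simp [SimpleGraph.mem_commonNeighbors, adj_none_block]), hF, hF']
      simp
    · exact absurd hvw (adj_point_point a a')
    · have hac : a ∈ c.1 := (adj_point_block a c).1 hvw
      rw [card_vertex_set
        ((Cfsg.pointBlockGraph B).commonNeighbors (some (Sum.inl a)) (some (Sum.inr c))) False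
        (fun _ => False) (fun _ => False)
        (by simp [SimpleGraph.mem_commonNeighbors, adj_block_none])
        (fun a => by simp [SimpleGraph.mem_commonNeighbors, adj_point_point])
        (fun b => by
          simp only [SimpleGraph.mem_commonNeighbors, adj_point_block, adj_block_block hB,
            iff_false, not_and]
          intro hab hdis
          exact Finset.disjoint_left.1 hdis hac hab), hF, hF']
      simp
    · exact absurd hvw (adj_block_none b)
    · have hab : a' ∈ b.1 := (adj_block_point b a').1 hvw
      rw [card_vertex_set
        ((Cfsg.pointBlockGraph B).commonNeighbors (some (Sum.inr b)) (some (Sum.inl a'))) False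
        (fun _ => False) (fun _ => False)
        (by simp [SimpleGraph.mem_commonNeighbors, adj_block_none])
        (fun a => by simp [SimpleGraph.mem_commonNeighbors, adj_point_point])
        (fun c => by
          simp only [SimpleGraph.mem_commonNeighbors, adj_point_block, adj_block_block hB,
            iff_false, not_and]
          intro hdis hac
          exact Finset.disjoint_left.1 hdis hab hac), hF, hF']
      simp
    · have hdis : Disjoint b.1 c.1 := (adj_block_block hB b c).1 hvw
      have hne : b.1 ≠ c.1 := fun h => by
        rw [h] at hdis; exact steiner3_not_disjoint_self hB c.2 hdis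
      rw [card_vertex_set
        ((Cfsg.pointBlockGraph B).commonNeighbors (some (Sum.inr b)) (some (Sum.inr c))) False
        (fun a => a ∈ b.1 ∧ a ∈ c.1) (fun d => Disjoint b.1 d ∧ Disjoint c.1 d)
        (by simp [SimpleGraph.mem_commonNeighbors, adj_block_none])
        (fun a => by simp [SimpleGraph.mem_commonNeighbors, adj_block_point])
        (fun d => by simp [SimpleGraph.mem_commonNeighbors, adj_block_block hB]),
        filter_mem_mem_card, steiner3_card_disjoint_two hα hB b.2 c.2 hne,
        Finset.disjoint_iff_inter_eq_empty.1 hdis]
      simp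
  · intro v w hvw hnadj
    rcases v with _ | a | b <;> rcases w with _ | a' | c
    · exact absurd rfl hvw
    · exact absurd (adj_none_point a') hnadj
    · rw [card_vertex_set
        ((Cfsg.pointBlockGraph B).commonNeighbors none (some (Sum.inr c))) False
        (fun a => a ∈ c.1) (fun _ => False)
        (by simp [SimpleGraph.mem_commonNeighbors])
        (fun a => by simp [SimpleGraph.mem_commonNeighbors, adj_none_point, adj_block_point])
        (fun d => by simp [SimpleGraph.mem_commonNeighbors, adj_none_block]),
        filter_mem_card, hB.1 c.1 c.2, hF]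
      simp
    · exact absurd (adj_point_none a) hnadj
    · have hne : a ≠ a' := fun h => hvw (by rw [h])
      rw [card_vertex_set
        ((Cfsg.pointBlockGraph B).commonNeighbors (some (Sum.inl a)) (some (Sum.inl a'))) True
        (fun _ => False) (fun d => a ∈ d ∧ a' ∈ d)
        (by simp [SimpleGraph.mem_commonNeighbors, adj_point_none])
        (fun a => by simp [SimpleGraph.mem_commonNeighbors, adj_point_point])
        (fun d => by simp [SimpleGraph.mem_commonNeighbors, adj_point_block]),
        hF', steiner3_card_two hα hB hne]
      simp
    · have hac : a ∉ c.1 := fun h => hnadj ((adj_point_block a c).2 h)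
      rw [card_vertex_set
        ((Cfsg.pointBlockGraph B).commonNeighbors (some (Sum.inl a)) (some (Sum.inr c))) False
        (fun _ => False) (fun d => a ∈ d ∧ Disjoint c.1 d)
        (by simp [SimpleGraph.mem_commonNeighbors, adj_block_none])
        (fun a => by simp [SimpleGraph.mem_commonNeighbors, adj_point_point])
        (fun d => by simp [SimpleGraph.mem_commonNeighbors, adj_point_block, adj_block_block hB]),
        hF', steiner3_card_point_disjoint hα hB c.2 hac]
      simp
    · rw [card_vertex_set
        ((Cfsg.pointBlockGraph B).commonNeighbors (some (Sum.inr b)) none) False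
        (fun a => a ∈ b.1) (fun _ => False)
        (by simp [SimpleGraph.mem_commonNeighbors])
        (fun a => by simp [SimpleGraph.mem_commonNeighbors, adj_none_point, adj_block_point])
        (fun d => by simp [SimpleGraph.mem_commonNeighbors, adj_none_block]),
        filter_mem_card, hB.1 b.1 b.2, hF]
      simp
    · have hab : a' ∉ b.1 := fun h => hnadj ((adj_block_point b a').2 h)
      rw [card_vertex_set
        ((Cfsg.pointBlockGraph B).commonNeighbors (some (Sum.inr b)) (some (Sum.inl a'))) False
        (fun _ => False) (fun d => a' ∈ d ∧ Disjoint b.1 d)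
        (by simp [SimpleGraph.mem_commonNeighbors, adj_block_none])
        (fun a => by simp [SimpleGraph.mem_commonNeighbors, adj_point_point])
        (fun d => by
          simp only [SimpleGraph.mem_commonNeighbors, adj_point_block, adj_block_block hB]
          exact and_comm),
        hF', steiner3_card_point_disjoint hα hB b.2 hab]
      simp
    · have hne : b.1 ≠ c.1 := fun h => hvw (by rw [Subtype.ext h])
      have hnd : ¬ Disjoint b.1 c.1 := fun h => hnadj ((adj_block_block hB b c).2 h)
      have h2 : (b.1 ∩ c.1).card = 2 := by
        rcases steiner3_inter_zero_or_two hα hB c.2 b.2 hne with h | h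
        · exact absurd (Finset.disjoint_iff_inter_eq_empty.2 (Finset.card_eq_zero.1 h)) hnd
        · exact h
      rw [card_vertex_set
        ((Cfsg.pointBlockGraph B).commonNeighbors (some (Sum.inr b)) (some (Sum.inr c))) False
        (fun a => a ∈ b.1 ∧ a ∈ c.1) (fun d => Disjoint b.1 d ∧ Disjoint c.1 d)
        (by simp [SimpleGraph.mem_commonNeighbors, adj_block_none])
        (fun a => by simp [SimpleGraph.mem_commonNeighbors, adj_block_point])
        (fun d => by simp [SimpleGraph.mem_commonNeighbors, adj_block_block hB]),
        filter_mem_mem_card, steiner3_card_disjoint_two hα hB b.2 c.2 hne, h2]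
      simp

end Cfsg.Agent.S0428
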