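import Cfsg.Statements.S0519
import Cfsg.Agent.H11.AbNormalCyclic

set_option autoImplicit false
open Cfsg

namespace Cfsg.Agent.S0519

/-- A finite p-group in which every abelian normal subgroup is cyclic but some abelian subgroup is not cyclic is a 2-group that is generalized quaternion, dihedral of order at least 16, or quasi-dihedral. -/
theorem result {P : Type*} [Group P] [Finite P] (p : ℕ) [Fact p.Prime]
    (hP : IsPGroup p P) (hn : ∀ A : Subgroup P, A.Normal → IsMulCommutative A → IsCyclic A)
    (hm : ∃ B : Subgroup P, IsMulCommutative B ∧ ¬ IsCyclic B) :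
    p = 2 ∧ ((∃ n : ℕ, Nonempty (P ≃* QuaternionGroup n)) ∨ (∃ n : ℕ, 8 ≤ n ∧ Nonempty (P ≃* DihedralGroup n)) ∨
      Cfsg.IsQuasiDihedral P) := by
  apply Cfsg.Agent.H11.abelian_normal_cyclic_main p hP hn
  intro hc
  obtain ⟨B, -, hB⟩ := hm
  haveI := hc
  exact hB inferInstance

end Cfsg.Agent.S0519
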