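import Mathlib
import Cfsg.Statements.S0646
import Cfsg.Agent.H59.CyclicMax

set_option autoImplicit false
open Cfsg

namespace Cfsg.Agent.S0646

/-- Classification of non-abelian 2-groups with a cyclic maximal subgroup: dihedral, generalized quaternion, and for order at least 16 the modular group and the semidihedral group, each given by generators a (of index 2) and b with the stated relations. -/
theorem result {G : Type*} [Group G] [Finite G] (n : ℕ) (hn : 3 ≤ n) (hG : Nat.card G = 2 ^ n) (C : Subgroup G) (hC : IsCyclic C) (hCi : C.index = 2) (hna : ∃ x y : G, x * y ≠ y * x) : ∃ a b : G, orderOf a = 2 ^ (n - 1) ∧ b ∉ Subgroup.zpowers a ∧ ((b ^ 2 = 1 ∧ b * a * b⁻¹ = a⁻¹) ∨ (b ^ 2 = a ^ (2 ^ (n - 2)) ∧ b * a * b⁻¹ = a⁻¹) ∨ (4 ≤ n ∧ b ^ 2 = 1 ∧ b * a * b⁻¹ = a ^ (1 + 2 ^ (n - 2))) ∨ (4 ≤ n ∧ b ^ 2 = 1 ∧ b * a * b⁻¹ = a ^ (2 ^ (n - 2) - 1))) := by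
  obtain ⟨⟨a, haC⟩, hgen⟩ := hC.exists_generator
  have hcardC : Nat.card C = 2 ^ (n - 1) := by
    have h := C.card_mul_index
    rw [hCi, hG] at h
    have e : 2 ^ n = 2 ^ (n - 1) * 2 := by rw [← pow_succ, Nat.sub_add_cancel (by omega)]
    rw [e] at h
    exact Nat.eq_of_mul_eq_mul_right (by norm_num) h
  have horda : orderOf a = 2 ^ (n - 1) := by
    rw [← hcardC, ← Subgroup.orderOf_mk a haC]
    exact orderOf_eq_card_of_forall_mem_zpowers hgen
  have hCeq : Subgroup.zpowers a = C := by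
    apply Subgroup.eq_of_le_of_card_ge (Subgroup.zpowers_le.mpr haC)
    rw [Nat.card_zpowers, horda, hcardC]
  have hnorm : C.Normal := Subgroup.normal_of_index_eq_two hCi
  obtain ⟨b₀, hb₀⟩ : ∃ b₀ : G, b₀ ∉ C := by
    by_contra hcon
    push Not at hcon
    have hCtop : C = ⊤ := eq_top_iff.mpr (fun x _ => hcon x)
    rw [hCtop, Subgroup.index_top] at hCi
    omega
  have hb2 : b₀ * b₀ ∈ Subgroup.zpowers a := by
    rw [hCeq, Subgroup.mul_mem_iff_of_index_two hCi]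
  have hconj : b₀ * a * b₀⁻¹ ∈ Subgroup.zpowers a := by
    rw [hCeq]; exact hnorm.conj_mem a haC b₀
  have hcos : ∀ h : G, h ∈ Subgroup.zpowers a ∨ b₀⁻¹ * h ∈ Subgroup.zpowers a := by
    intro h
    rw [hCeq]
    by_cases hh : h ∈ C
    · exact Or.inl hh
    · right
      rw [Subgroup.mul_mem_iff_of_index_two hCi]
      exact iff_of_false (fun h' => hb₀ (by simpa using inv_mem h')) hh
  have hnc : b₀ * a ≠ a * b₀ := by
    intro h
    obtain ⟨x, y, hxy⟩ := hna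
    exact hxy (Cfsg.Agent.H59.comm_of_coset hcos h x y)
  obtain ⟨b, hb, hcases⟩ := Cfsg.Agent.H59.cyclic_max_classification (n - 1) (by omega) a b₀
    horda hb2 hconj hnc
  have hbnot : b ∉ Subgroup.zpowers a := by
    intro hbm
    apply hb₀
    rw [← hCeq]
    have e : b₀ = b * (b₀⁻¹ * b)⁻¹ := by group
    rw [e]
    exact mul_mem hbm (inv_mem hb)
  have hn2 : n - 1 - 1 = n - 2 := by omega
  rw [hn2] at hcases
  refine ⟨a, b, horda, hbnot, ?_⟩
  rcases hcases with ⟨h1, h2⟩ | ⟨h1, h2⟩ | ⟨h0, h1, h2⟩ | ⟨h0, h1, h2⟩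
  · exact Or.inl ⟨by rw [pow_two]; exact h1, h2⟩
  · exact Or.inr (Or.inl ⟨by rw [pow_two]; exact h1, h2⟩)
  · refine Or.inr (Or.inr (Or.inl ⟨by omega, by rw [pow_two]; exact h1, ?_⟩))
    rw [h2, pow_add, pow_one]
  · refine Or.inr (Or.inr (Or.inr ⟨by omega, by rw [pow_two]; exact h1, ?_⟩))
    rw [h2]
    have hpos : 1 ≤ 2 ^ (n - 2) := Nat.one_le_two_pow
    have e : a ^ (2 ^ (n - 2)) = a * a ^ (2 ^ (n - 2) - 1) := by
      rw [← pow_succ', Nat.sub_add_cancel hpos]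
    rw [e, inv_mul_cancel_left]

end Cfsg.Agent.S0646
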