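import Mathlib
import Cfsg.Statements.S0680

set_option autoImplicit false
open Cfsg

namespace Cfsg.Agent.S0680

/-- Structure of a finite sharply 2-transitive action: the identity together with the
fixed-point-free elements form a normal elementary abelian regular subgroup. -/
theorem sharp_main {G : Type*} [Group G] {α : Type*} [MulAction G α] [Finite G] [Fintype α]
    [DecidableEq α]
    (h2t : MulAction.IsMultiplyPretransitive G α 2)
    (hsharp : ∀ a b : α, a ≠ b → ∀ g : G, g • a = a → g • b = b → g = 1)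
    (h2 : 2 ≤ Fintype.card α) :
    ∃ (p j : ℕ) (N : Subgroup G), p.Prime ∧ 1 ≤ j ∧ Fintype.card α = p ^ j ∧ N.Normal ∧
      (∀ x ∈ N, ∀ y ∈ N, x * y = y * x) ∧ (∀ x ∈ N, x ^ p = 1) ∧
      (∀ g : G, g ∈ N ↔ g = 1 ∨ ∀ a : α, g • a ≠ a) ∧ Nat.card N = Fintype.card α ∧
      Nat.card G = Fintype.card α * (Fintype.card α - 1) := by
  classical
  haveI : Fintype G := Fintype.ofFinite G
  set n := Fintype.card α with hn
  have htr : MulAction.IsPretransitive G α := MulAction.isPretransitive_of_is_two_pretransitive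
  obtain ⟨a0, b0, hab0⟩ := Fintype.exists_pair_of_one_lt_card (by omega : 1 < Fintype.card α)
  -- (I1) card G = n * (n-1)
  have hG : Nat.card G = n * (n - 1) := by
    let e0 : Fin 2 ↪ α := Function.Embedding.embFinTwo hab0
    have hbij : Function.Bijective (fun g : G => g • e0) := by
      constructor
      · intro g h hgh
        have h1 : (h⁻¹ * g) • e0 = e0 := by
          rw [mul_smul]
          simp only at hgh
          rw [hgh, inv_smul_smul]
        have ha : (h⁻¹ * g) • a0 = a0 := congrArg (fun e : Fin 2 ↪ α => e 0) h1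
        have hb : (h⁻¹ * g) • b0 = b0 := congrArg (fun e : Fin 2 ↪ α => e 1) h1
        have := hsharp a0 b0 hab0 _ ha hb
        exact (inv_mul_eq_one.mp this).symm
      · intro e
        exact MulAction.exists_smul_eq G e0 e
    rw [Nat.card_congr (Equiv.ofBijective _ hbij), Nat.card_eq_fintype_card,
      Fintype.card_embedding_eq, Fintype.card_fin, ← hn]
    rw [show (2 : ℕ) = 1 + 1 from rfl, Nat.descFactorial_succ, Nat.descFactorial_one, mul_comm]
  have hfix_le : ∀ g : G, g ≠ 1 → ∀ a b : α, g • a = a → g • b = b → a = b := by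
    intro g hg a b ha hb
    by_contra hab
    exact hg (hsharp a b hab g ha hb)
  -- (I3) Burnside count
  let N0 : Finset G := Finset.univ.filter (fun g => g = 1 ∨ ∀ a : α, g • a ≠ a)
  have hN0mem : ∀ g : G, g ∈ N0 ↔ (g = 1 ∨ ∀ a : α, g • a ≠ a) := by
    intro g; simp [N0]
  have hN0 : N0.card = n := by
    have hB := MulAction.sum_card_fixedBy_eq_card_orbits_mul_card_group G α
    have hΩ : Fintype.card (Quotient (MulAction.orbitRel G α)) = 1 := by
      rw [Fintype.card_eq_one_iff]
      refine ⟨Quotient.mk'' a0, ?_⟩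
      intro q
      induction q using Quotient.inductionOn' with
      | h a =>
        apply Quotient.sound'
        rw [MulAction.orbitRel_apply]
        exact MulAction.mem_orbit_iff.mpr (MulAction.exists_smul_eq G a0 a)
    rw [hΩ, one_mul] at hB
    have h1 : ∀ g : G, Fintype.card (MulAction.fixedBy α g) =
        (if g = 1 then n else 0) + (if g ∈ N0 then 0 else 1) := by
      intro g
      by_cases hg1 : g = 1
      · subst hg1
        have : (1 : G) ∈ N0 := (hN0mem 1).mpr (Or.inl rfl)
        rw [if_pos rfl, if_pos this, add_zero, hn]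
        apply Fintype.card_of_bijective (f := fun a : MulAction.fixedBy α (1 : G) => (a : α))
        exact ⟨Subtype.val_injective, fun a => ⟨⟨a, by simp⟩, rfl⟩⟩
      · by_cases hf : ∀ a : α, g • a ≠ a
        · have : g ∈ N0 := (hN0mem g).mpr (Or.inr hf)
          rw [if_neg hg1, if_pos this, add_zero, Fintype.card_eq_zero_iff]
          exact ⟨fun ⟨a, ha⟩ => hf a ha⟩
        · have : g ∉ N0 := fun h => by
            rcases (hN0mem g).mp h with h | h
            · exact hg1 h
            · exact hf h
          rw [if_neg hg1, if_neg this, zero_add, Fintype.card_eq_one_iff]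
          push Not at hf
          obtain ⟨a, ha⟩ := hf
          exact ⟨⟨a, ha⟩, fun ⟨b, hb⟩ => Subtype.ext (hfix_le g hg1 b a hb ha)⟩
    simp_rw [h1] at hB
    rw [Finset.sum_add_distrib, Finset.sum_ite_eq', if_pos (Finset.mem_univ _)] at hB
    have h3 : ∑ g : G, (if g ∈ N0 then 0 else 1) + N0.card = Fintype.card G := by
      have : N0.card = ∑ g : G, (if g ∈ N0 then 1 else 0) := by
        rw [Finset.sum_boole]
        simp
      rw [this, ← Finset.sum_add_distrib]
      have : ∀ g : G, (if g ∈ N0 then 0 else 1) + (if g ∈ N0 then 1 else 0) = 1 := by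
        intro g; split_ifs <;> rfl
      simp_rw [this]
      simp
    omega
  -- (I2) stabilizers have order n - 1
  have hstab : ∀ a : α, Nat.card (MulAction.stabilizer G a) = n - 1 := by
    intro a
    have h1 := Subgroup.card_mul_index (MulAction.stabilizer G a)
    rw [MulAction.index_stabilizer_of_transitive, hG, Nat.card_eq_fintype_card (α := α), ← hn] at h1
    have hnpos : 0 < n := by omega
    rw [mul_comm] at h1
    exact Nat.eq_of_mul_eq_mul_left hnpos h1
  -- (I4) an element of prime order p ∣ n, fixed-point-free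
  obtain ⟨p, hp, hpn⟩ := Nat.exists_prime_and_dvd (by omega : n ≠ 1)
  haveI : Fact p.Prime := ⟨hp⟩
  have hpG : p ∣ Nat.card G := by rw [hG]; exact Dvd.dvd.mul_right hpn _
  obtain ⟨x, hx⟩ := exists_prime_orderOf_dvd_card' (G := G) p hpG
  have hxfpf : ∀ a : α, x • a ≠ a := by
    intro a ha
    have h1 : orderOf x ∣ Nat.card (MulAction.stabilizer G a) :=
      Subgroup.orderOf_dvd_natCard _ (MulAction.mem_stabilizer_iff.mpr ha)
    rw [hx, hstab] at h1
    have h2 : p ∣ n - (n - 1) := Nat.dvd_sub hpn h1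
    have h3 : n - (n - 1) = 1 := by omega
    rw [h3] at h2
    exact hp.one_lt.ne' (Nat.dvd_one.mp h2)
  have hx1 : x ≠ 1 := by
    intro h
    exact hxfpf a0 (by rw [h, one_smul])
  -- (I5) the centralizer of x
  let C : Subgroup G := Subgroup.centralizer {x}
  have hCcomm : ∀ c ∈ C, x * c = c * x := by
    intro c hc
    exact (Subgroup.mem_centralizer_iff.mp hc) x (Set.mem_singleton x)
  have hCsemi : ∀ c ∈ C, c = 1 ∨ ∀ a : α, c • a ≠ a := by
    intro c hc
    by_contra hcon
    push Not at hcon
    obtain ⟨hc1, a, ha⟩ := hcon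
    apply hc1
    refine hsharp a (x • a) (fun h => hxfpf a h.symm) c ha ?_
    rw [← mul_smul, ← hCcomm c hc, mul_smul, ha]
  let Cf : Finset G := Finset.univ.filter (· ∈ C)
  have hCfmem : ∀ g : G, g ∈ Cf ↔ g ∈ C := by intro g; simp [Cf]
  have hCfN0 : Cf ⊆ N0 := by
    intro g hg
    exact (hN0mem g).mpr (hCsemi g ((hCfmem g).mp hg))
  have hCfcard : Cf.card = Nat.card C := by
    rw [Nat.card_eq_fintype_card, Fintype.card_subtype]
  -- (I6) conjugates of x
  let φ : G → G := fun g => g * x * g⁻¹
  have hφfpf : ∀ g : G, ∀ a : α, φ g • a ≠ a := by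
    intro g a ha
    apply hxfpf (g⁻¹ • a)
    calc x • (g⁻¹ • a) = g⁻¹ • (φ g • a) := by
          rw [← mul_smul, ← mul_smul]
          congr 1
          simp only [φ]
          group
      _ = g⁻¹ • a := by rw [ha]
  have hφ1 : ∀ g : G, φ g ≠ 1 := by
    intro g h
    exact hφfpf g a0 (by rw [h, one_smul])
  let K : Finset G := Finset.univ.image φ
  have hKsub : K ⊆ N0.erase 1 := by
    intro y hy
    obtain ⟨g, -, rfl⟩ := Finset.mem_image.mp hy
    exact Finset.mem_erase.mpr ⟨hφ1 g, (hN0mem _).mpr (Or.inr (hφfpf g))⟩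
  have h1N0 : (1 : G) ∈ N0 := (hN0mem 1).mpr (Or.inl rfl)
  have hKcard : K.card ≤ n - 1 := by
    have := Finset.card_le_card hKsub
    rwa [Finset.card_erase_of_mem h1N0, hN0] at this
  -- (I7) fibres of φ
  have hGle : Fintype.card G ≤ Cf.card * K.card := by
    have := Finset.card_le_mul_card_image (f := φ) (Finset.univ : Finset G) Cf.card (by
      intro y hy
      obtain ⟨g0, -, rfl⟩ := Finset.mem_image.mp hy
      apply Finset.card_le_card_of_injOn (fun g => g0⁻¹ * g)
      · intro g hg
        have hg' : φ g = φ g0 := (Finset.mem_filter.mp hg).2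
        refine (hCfmem _).mpr ?_
        refine Subgroup.mem_centralizer_iff.mpr ?_
        intro h hh
        rw [Set.mem_singleton_iff] at hh
        subst hh
        simp only [φ] at hg'
        have : g0⁻¹ * (g * h * g⁻¹) * g = g0⁻¹ * (g0 * h * g0⁻¹) * g := by rw [hg']
        calc h * (g0⁻¹ * g) = g0⁻¹ * (g0 * h * g0⁻¹) * g := by group
          _ = g0⁻¹ * (g * h * g⁻¹) * g := this.symm
          _ = g0⁻¹ * g * h := by group
      · intro g _ g' _ h
        exact mul_left_cancel h)
    simpa using this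
  -- (I8) sizes
  have hCfle : Cf.card ≤ n := by
    have := Finset.card_le_card hCfN0
    rwa [hN0] at this
  have hGcard : Fintype.card G = n * (n - 1) := by rw [← Nat.card_eq_fintype_card, hG]
  have hn1 : 1 ≤ n - 1 := by omega
  have hCfeq : Cf.card = n := by
    by_contra hne
    have hlt : Cf.card ≤ n - 1 := by omega
    have h1 : Cf.card * K.card ≤ (n - 1) * (n - 1) := Nat.mul_le_mul hlt hKcard
    have h2 : (n - 1) * (n - 1) < n * (n - 1) := by
      apply Nat.mul_lt_mul_of_pos_right (by omega) (by omega)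
    omega
  have hKeq : K.card = n - 1 := by
    have h1 : n * (n - 1) ≤ n * K.card := by rw [← hGcard, ← hCfeq]; exact hGle
    have h2 : n - 1 ≤ K.card := Nat.le_of_mul_le_mul_left h1 (by omega)
    omega
  have hCfN0eq : Cf = N0 := Finset.eq_of_subset_of_card_le hCfN0 (by rw [hN0, hCfeq])
  have hKN0eq : K = N0.erase 1 := Finset.eq_of_subset_of_card_le hKsub (by
    rw [Finset.card_erase_of_mem h1N0, hN0, hKeq])
  have hCmem : ∀ g : G, g ∈ C ↔ g = 1 ∨ ∀ a : α, g • a ≠ a := by
    intro g
    rw [← hCfmem, hCfN0eq, hN0mem]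
  have hCnormal : C.Normal := by
    constructor
    intro g hg h
    rw [hCmem] at hg ⊢
    rcases hg with hg | hg
    · left; rw [hg]; group
    · right
      intro a ha
      apply hg (h⁻¹ • a)
      calc g • (h⁻¹ • a) = h⁻¹ • ((h * g * h⁻¹) • a) := by
            rw [← mul_smul, ← mul_smul]
            congr 1
            group
        _ = h⁻¹ • a := by rw [ha]
  have hCconj : ∀ y ∈ C, y ≠ 1 → ∃ g : G, y = g * x * g⁻¹ := by
    intro y hy hy1
    have : y ∈ K := by
      rw [hKN0eq]
      exact Finset.mem_erase.mpr ⟨hy1, hCfN0eq ▸ (hCfmem y).mpr hy⟩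
    obtain ⟨g, -, hg⟩ := Finset.mem_image.mp this
    exact ⟨g, hg.symm⟩
  have hCexp : ∀ y ∈ C, y ^ p = 1 := by
    intro y hy
    by_cases hy1 : y = 1
    · rw [hy1, one_pow]
    · obtain ⟨g, rfl⟩ := hCconj y hy hy1
      rw [conj_pow, ← hx, pow_orderOf_eq_one]
      group
  have hCab : ∀ y ∈ C, ∀ z ∈ C, y * z = z * y := by
    intro y hy z hz
    by_cases hy1 : y = 1
    · rw [hy1, one_mul, mul_one]
    · obtain ⟨g, rfl⟩ := hCconj y hy hy1
      have hz' : g⁻¹ * z * g⁻¹⁻¹ ∈ C := hCnormal.conj_mem z hz g⁻¹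
      have := hCcomm _ hz'
      calc g * x * g⁻¹ * z = g * (x * (g⁻¹ * z * g⁻¹⁻¹)) * g⁻¹ := by group
        _ = g * ((g⁻¹ * z * g⁻¹⁻¹) * x) * g⁻¹ := by rw [this]
        _ = z * (g * x * g⁻¹) := by group
  have hCcard : Nat.card C = n := by rw [← hCfcard, hCfeq]
  have hCp : IsPGroup p C := by
    intro y
    refine ⟨1, ?_⟩
    rw [pow_one]
    apply Subtype.ext
    rw [Subgroup.coe_pow]
    exact hCexp y y.2
  obtain ⟨j, hj⟩ := IsPGroup.iff_card.mp hCp
  rw [hCcard] at hj
  have hj1 : 1 ≤ j := by
    by_contra h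
    have : j = 0 := by omega
    rw [this, pow_zero] at hj
    omega
  exact ⟨p, j, C, hp, hj1, hj, hCnormal, hCab, hCexp, hCmem, hCcard, hG⟩

/-- A finite sharply doubly transitive permutation group has degree a prime power `p ^ j`; a Sylow `p`-subgroup is normal, elementary abelian and regular, and consists of the identity together with the elements without fixed points. (Frobenius' Theorem is not needed.) -/
theorem result {α : Type*} [Fintype α] [DecidableEq α] (G : Subgroup (Equiv.Perm α)) [MulAction.IsMultiplyPretransitive G α 2] (hsharp : ∀ x : Fin 2 ↪ α, MulAction.stabilizer G x = ⊥) (h2 : 2 ≤ Fintype.card α) : ∃ p j : ℕ, p.Prime ∧ 1 ≤ j ∧ Fintype.card α = p ^ j ∧ ∀ (hp : Fact p.Prime) (P : Sylow p G), (P : Subgroup G).Normal ∧ IsMulCommutative (P : Subgroup G) ∧ (∀ x ∈ (P : Subgroup G), x ^ p = 1) ∧ MulAction.IsPretransitive (P : Subgroup G) α ∧ (∀ a : α, MulAction.stabilizer (P : Subgroup G) a = ⊥) ∧ ∀ g : G, g ∈ (P : Subgroup G) ↔ g = 1 ∨ ∀ a : α, g • a ≠ a := by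
  have hsharp' : ∀ a b : α, a ≠ b → ∀ g : G, g • a = a → g • b = b → g = 1 := by
    intro a b hab g ha hb
    have hmem : g ∈ MulAction.stabilizer G (Function.Embedding.embFinTwo hab) := by
      rw [MulAction.mem_stabilizer_iff]
      ext i
      fin_cases i
      · exact ha
      · exact hb
    rw [hsharp] at hmem
    exact Subgroup.mem_bot.mp hmem
  obtain ⟨p, j, N, hp, hj1, hj, hNn, hNab, hNexp, hNmem, hNcard, hGcard⟩ :=
    sharp_main (G := G) (α := α) inferInstance hsharp' h2
  refine ⟨p, j, hp, hj1, hj, ?_⟩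
  intro hpF P
  have hNp : IsPGroup p N := by
    intro y
    refine ⟨1, ?_⟩
    rw [pow_one]
    apply Subtype.ext
    rw [Subgroup.coe_pow]
    exact hNexp y y.2
  have hidx : ¬ p ∣ N.index := by
    have h1 := Subgroup.card_mul_index N
    rw [hNcard, hGcard] at h1
    have hnpos : 0 < Fintype.card α := by omega
    have h2' : N.index = Fintype.card α - 1 := Nat.eq_of_mul_eq_mul_left hnpos h1
    rw [h2']
    intro hdvd
    have hpn : p ∣ Fintype.card α := by rw [hj]; exact dvd_pow_self p (by omega)
    have h3 : p ∣ Fintype.card α - (Fintype.card α - 1) := Nat.dvd_sub hpn hdvd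
    have h4 : Fintype.card α - (Fintype.card α - 1) = 1 := by omega
    rw [h4] at h3
    exact hp.one_lt.ne' (Nat.dvd_one.mp h3)
  have hNP : N ≤ (P : Subgroup G) := hNp.le_sylow_of_normal P
  have hPN : (P : Subgroup G) = N := (hNp.toSylow hidx).is_maximal' P.isPGroup' hNP
  rw [hPN]
  have hfree : ∀ a : α, ∀ g ∈ N, g • a = a → g = 1 := by
    intro a g hg ha
    rcases (hNmem g).mp hg with h | h
    · exact h
    · exact absurd ha (h a)
  refine ⟨hNn, ⟨⟨fun a b => Subtype.ext (hNab a a.2 b b.2)⟩⟩, hNexp, ?_, ?_, hNmem⟩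
  · -- transitivity by counting
    constructor
    intro a b
    have hinj : Function.Injective (fun g : N => g • a) := by
      intro g h hgh
      have h1 : (h⁻¹ * g) • a = a := by
        rw [mul_smul]
        simp only at hgh
        rw [hgh, inv_smul_smul]
      have h2' := hfree a (h⁻¹ * g : N) (h⁻¹ * g).2 h1
      have h3 : h⁻¹ * g = 1 := Subtype.ext h2'
      exact (inv_mul_eq_one.mp h3).symm
    have hsurj : Function.Surjective (fun g : N => g • a) := by
      have hfin : Finite N := inferInstance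
      apply (Function.Injective.bijective_of_nat_card_le hinj ?_).2
      rw [hNcard, Nat.card_eq_fintype_card]
    exact hsurj b
  · intro a
    rw [eq_bot_iff]
    intro g hg
    rw [MulAction.mem_stabilizer_iff] at hg
    rw [Subgroup.mem_bot]
    apply Subtype.ext
    exact hfree a g g.2 hg

end Cfsg.Agent.S0680
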