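import Mathlib
import Cfsg.Statements.S0683
import Cfsg.Agent.S0680

set_option autoImplicit false
open Cfsg

namespace Cfsg.Agent.S0683

section construct
variable {G α : Type*} [Group G] [MulAction G α] [DecidableEq α]

/-- The near-field structure on `α` built from a regular normal subgroup (parametrised by `τ`)
and a regular point stabiliser (parametrised by `η`). -/
noncomputable def nfOf (o e : α) (τ η : α → G)
    (hoe : o ≠ e)
    (hτ : ∀ a, τ a • o = a)
    (hτmul : ∀ a b, τ (τ a • b) = τ a * τ b)
    (hτconj : ∀ c b, c ≠ o → τ (η c • b) = η c * τ b * (η c)⁻¹)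
    (hηo : ∀ a, a ≠ o → η a • o = o)
    (hηe : ∀ a, a ≠ o → η a • e = a)
    (hηmul : ∀ a b, a ≠ o → b ≠ o → η (η b • a) = η b * η a)
    (hηinv : ∀ a, a ≠ o → η ((η a)⁻¹ • e) = (η a)⁻¹) : Cfsg.NearField α :=
  have hτo : τ o = 1 := by
    have h := hτmul o o
    rw [hτ o] at h
    exact (mul_eq_left.mp h.symm)
  have hηe1 : η e = 1 := by
    have h := hηmul e e hoe.symm hoe.symm
    rw [hηe e hoe.symm] at h
    exact (mul_eq_left.mp h.symm)
  letI iAdd : Add α := ⟨fun a b => τ b • a⟩
  letI iZero : Zero α := ⟨o⟩
  letI iNeg : Neg α := ⟨fun a => (τ a)⁻¹ • o⟩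
  letI iAG : AddGroup α := AddGroup.ofLeftAxioms
    (by
      intro a b c
      change τ c • (τ b • a) = τ (τ c • b) • a
      rw [hτmul, mul_smul])
    (by
      intro a
      change τ a • o = a
      exact hτ a)
    (by
      intro a
      change τ a • ((τ a)⁻¹ • o) = o
      rw [smul_inv_smul])
  letI iMon : Monoid α :=
    { mul := fun x a => if a = o then o else η a • x
      one := e
      mul_assoc := by
        intro x a b
        change (if b = o then o else η b • (if a = o then o else η a • x)) =
          (if (if b = o then o else η b • a) = o then o else η (if b = o then o else η b • a) • x)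
        by_cases hb : b = o
        · simp [hb]
        · by_cases ha : a = o
          · simp [hb, ha, hηo b hb]
          · have hne : η b • a ≠ o := by
              intro h
              apply ha
              have h2 : η b • a = η b • o := by rw [h, hηo b hb]
              exact smul_left_cancel _ h2
            simp only [if_neg hb, if_neg ha, if_neg hne]
            rw [hηmul a b ha hb, mul_smul]
      one_mul := by
        intro a
        change (if a = o then o else η a • e) = a
        by_cases ha : a = o
        · simp [ha]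
        · simp [ha, hηe a ha]
      mul_one := by
        intro x
        change (if e = o then o else η e • x) = x
        rw [if_neg hoe.symm, hηe1, one_smul] }
  { toAddGroup := iAG
    toMonoid := iMon
    right_distrib := by
      intro a b c
      change (if c = o then o else η c • (τ b • a)) =
        τ (if c = o then o else η c • b) • (if c = o then o else η c • a)
      by_cases hc : c = o
      · simp [hc, hτ]
      · simp only [if_neg hc]
        rw [hτconj c b hc, mul_smul, mul_smul, inv_smul_smul]
    mul_zero := by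
      intro a
      change (if o = o then o else η o • a) = o
      rw [if_pos rfl]
    zero_ne_one := hoe
    exists_inv := by
      intro a ha
      have ha' : a ≠ o := ha
      have hb : (η a)⁻¹ • e ≠ o := by
        intro h
        apply hoe
        have : η a • ((η a)⁻¹ • e) = η a • o := by rw [h]
        rw [smul_inv_smul, hηo a ha'] at this
        exact this.symm
      refine ⟨(η a)⁻¹ • e, ?_, ?_⟩
      · change (if (η a)⁻¹ • e = o then o else η ((η a)⁻¹ • e) • a) = e
        rw [if_neg hb, hηinv a ha']
        nth_rewrite 2 [← hηe a ha']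
        rw [inv_smul_smul]
      · change (if a = o then o else η a • ((η a)⁻¹ • e)) = e
        rw [if_neg ha', smul_inv_smul] }

theorem nfOf_spec (o e : α) (τ η : α → G)
    (hoe : o ≠ e)
    (hτ : ∀ a, τ a • o = a)
    (hτmul : ∀ a b, τ (τ a • b) = τ a * τ b)
    (hτconj : ∀ c b, c ≠ o → τ (η c • b) = η c * τ b * (η c)⁻¹)
    (hηo : ∀ a, a ≠ o → η a • o = o)
    (hηe : ∀ a, a ≠ o → η a • e = a)
    (hηmul : ∀ a b, a ≠ o → b ≠ o → η (η b • a) = η b * η a)
    (hηinv : ∀ a, a ≠ o → η ((η a)⁻¹ • e) = (η a)⁻¹) :
    letI := nfOf o e τ η hoe hτ hτmul hτconj hηo hηe hηmul hηinv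
    (0 : α) = o ∧ ∀ x a b : α, x * a + b = τ b • (if a = o then o else η a • x) :=
  ⟨rfl, fun _ _ _ => rfl⟩

end construct

/-- A finite sharply doubly transitive permutation group is the affine group of a near-field: the permuted set carries a near-field structure for which the group consists exactly of the maps `x ↦ x * a + b` with `a ≠ 0`. -/
theorem result {α : Type*} [Fintype α] [DecidableEq α] (H : Subgroup (Equiv.Perm α)) [MulAction.IsMultiplyPretransitive H α 2] (hsharp : ∀ x : Fin 2 ↪ α, MulAction.stabilizer H x = ⊥) (h2 : 2 ≤ Fintype.card α) : ∃ _ : Cfsg.NearField α, ∀ σ : Equiv.Perm α, σ ∈ H ↔ ∃ a b : α, a ≠ 0 ∧ ∀ x : α, σ x = x * a + b := by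
  have hsharp' : ∀ a b : α, a ≠ b → ∀ g : H, g • a = a → g • b = b → g = 1 := by
    intro a b hab g ha hb
    have hmem : g ∈ MulAction.stabilizer H (Function.Embedding.embFinTwo hab) := by
      rw [MulAction.mem_stabilizer_iff]
      ext i
      fin_cases i
      · exact ha
      · exact hb
    rw [hsharp] at hmem
    exact Subgroup.mem_bot.mp hmem
  obtain ⟨p, j, N, hp, hj1, hj, hNn, hNab, hNexp, hNmem, hNcard, hGcard⟩ :=
    Cfsg.Agent.S0680.sharp_main (G := H) (α := α) inferInstance hsharp' h2
  obtain ⟨o, e, hoe⟩ := Fintype.exists_pair_of_one_lt_card (by omega : 1 < Fintype.card α)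
  have hfree : ∀ a : α, ∀ g ∈ N, g • a = a → g = 1 := by
    intro a g hg ha
    rcases (hNmem g).mp hg with h | h
    · exact h
    · exact absurd ha (h a)
  have hNuniq : ∀ a : α, ∀ g ∈ N, ∀ g' ∈ N, g • a = g' • a → g = g' := by
    intro a g hg g' hg' h
    have h1 : (g'⁻¹ * g) • a = a := by rw [mul_smul, h, inv_smul_smul]
    have h2' := hfree a (g'⁻¹ * g) (N.mul_mem (N.inv_mem hg') hg) h1
    exact (inv_mul_eq_one.mp h2').symm
  have hNtrans : ∀ a b : α, ∃ g : H, g ∈ N ∧ g • a = b := by
    intro a b
    have hinj : Function.Injective (fun g : N => (g : H) • a) := by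
      intro g h hgh
      exact Subtype.ext (hNuniq a g g.2 h h.2 hgh)
    have hsurj : Function.Surjective (fun g : N => (g : H) • a) := by
      apply (Function.Injective.bijective_of_nat_card_le hinj ?_).2
      rw [hNcard, Nat.card_eq_fintype_card]
    obtain ⟨g, hg⟩ := hsurj b
    exact ⟨g, g.2, hg⟩
  -- the parametrisation of N
  let τ : α → H := fun a => Classical.choose (hNtrans o a)
  have hτN : ∀ a, τ a ∈ N := fun a => (Classical.choose_spec (hNtrans o a)).1
  have hτ : ∀ a, τ a • o = a := fun a => (Classical.choose_spec (hNtrans o a)).2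
  have hτuniq : ∀ a : α, ∀ g ∈ N, g • o = a → τ a = g := by
    intro a g hg hga
    exact hNuniq o _ (hτN a) g hg (by rw [hτ, hga])
  -- the parametrisation of the stabiliser of o
  have h2t : ∀ a b c d : α, a ≠ b → c ≠ d → ∃ g : H, g • a = c ∧ g • b = d :=
    fun a b c d h h' => (MulAction.is_two_pretransitive_iff.mp
      (inferInstance : MulAction.IsMultiplyPretransitive H α 2)) h h'
  have hηex : ∀ a : α, a ≠ o → ∃ h : H, h • o = o ∧ h • e = a := by
    intro a ha
    exact h2t o e o a hoe ha.symm
  let η : α → H := fun a => if ha : a ≠ o then Classical.choose (hηex a ha) else 1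
  have hηo : ∀ a, a ≠ o → η a • o = o := by
    intro a ha
    simp only [η, dif_pos ha]
    exact (Classical.choose_spec (hηex a ha)).1
  have hηe : ∀ a, a ≠ o → η a • e = a := by
    intro a ha
    simp only [η, dif_pos ha]
    exact (Classical.choose_spec (hηex a ha)).2
  have hηuniq : ∀ a : α, a ≠ o → ∀ g : H, g • o = o → g • e = a → η a = g := by
    intro a ha g hgo hge
    have h1 : (g⁻¹ * η a) • o = o := by rw [mul_smul, hηo a ha, ← hgo, inv_smul_smul, hgo]
    have h3 : (g⁻¹ * η a) • e = e := by rw [mul_smul, hηe a ha, ← hge, inv_smul_smul]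
    have := hsharp' o e hoe _ h1 h3
    exact (inv_mul_eq_one.mp this).symm
  have hτmul : ∀ a b, τ (τ a • b) = τ a * τ b := by
    intro a b
    apply hτuniq _ _ (N.mul_mem (hτN a) (hτN b))
    rw [mul_smul, hτ b]
  have hτconj : ∀ c b, c ≠ o → τ (η c • b) = η c * τ b * (η c)⁻¹ := by
    intro c b hc
    apply hτuniq _ _ (hNn.conj_mem _ (hτN b) _)
    have : (η c)⁻¹ • o = o := by
      nth_rewrite 1 [← hηo c hc]
      rw [inv_smul_smul]
    rw [mul_smul, mul_smul, this, hτ b]
  have hηmul : ∀ a b, a ≠ o → b ≠ o → η (η b • a) = η b * η a := by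
    intro a b ha hb
    have hne : η b • a ≠ o := by
      intro h
      apply ha
      have h2' : η b • a = η b • o := by rw [h, hηo b hb]
      exact smul_left_cancel _ h2'
    apply hηuniq _ hne
    · rw [mul_smul, hηo a ha, hηo b hb]
    · rw [mul_smul, hηe a ha]
  have hinvo : ∀ a, a ≠ o → (η a)⁻¹ • o = o := by
    intro a ha
    nth_rewrite 1 [← hηo a ha]
    rw [inv_smul_smul]
  have hηinv : ∀ a, a ≠ o → η ((η a)⁻¹ • e) = (η a)⁻¹ := by
    intro a ha
    have hne : (η a)⁻¹ • e ≠ o := by
      intro h
      apply hoe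
      have : η a • ((η a)⁻¹ • e) = η a • o := by rw [h]
      rw [smul_inv_smul, hηo a ha] at this
      exact this.symm
    exact hηuniq _ hne _ (hinvo a ha) rfl
  refine ⟨nfOf o e τ η hoe hτ hτmul hτconj hηo hηe hηmul hηinv, ?_⟩
  obtain ⟨h0, hop⟩ := nfOf_spec o e τ η hoe hτ hτmul hτconj hηo hηe hηmul hηinv
  intro σ
  simp only [h0, hop]
  constructor
  · intro hσ
    let g : H := ⟨σ, hσ⟩
    set b := g • o with hb
    set g' : H := (τ b)⁻¹ * g with hg'
    have hg'o : g' • o = o := by
      rw [hg', mul_smul, ← hb]
      nth_rewrite 2 [← hτ b]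
      rw [inv_smul_smul]
    set a := g' • e with ha
    have hao : a ≠ o := by
      intro h
      apply hoe
      have : g' • e = g' • o := by rw [← ha, h, hg'o]
      exact (smul_left_cancel _ this).symm
    have hηa : η a = g' := hηuniq a hao g' hg'o rfl
    refine ⟨a, b, hao, fun x => ?_⟩
    rw [if_neg hao, hηa, hg', ← mul_smul, mul_inv_cancel_left]
    rfl
  · rintro ⟨a, b, hao, hx⟩
    have : σ = ((τ b * η a : H) : Equiv.Perm α) := by
      ext x
      rw [hx x, if_neg hao, ← mul_smul]
      rfl
    rw [this]
    exact (τ b * η a).2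

end Cfsg.Agent.S0683
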