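import Cfsg.Statements.S1229
import Cfsg.Agent.H26.CIT3

set_option autoImplicit false
open Cfsg

namespace Cfsg.Agent.S1229

open Cfsg.Agent.H26

theorem smul_mk_eq {G : Type*} [Group G] (N : Subgroup G) (g a b : G) :
    g • (QuotientGroup.mk a : G ⧸ N) = QuotientGroup.mk b ↔ (g * a)⁻¹ * b ∈ N := by
  have h1 : g • (QuotientGroup.mk a : G ⧸ N) = QuotientGroup.mk (g * a) := rfl
  rw [h1, QuotientGroup.eq]

theorem fix_mk_iff {G : Type*} [Group G] (N : Subgroup G) (g a : G) :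
    g • (QuotientGroup.mk a : G ⧸ N) = QuotientGroup.mk a ↔ a⁻¹ * g * a ∈ N := by
  rw [smul_mk_eq]
  have : (g * a)⁻¹ * a = (a⁻¹ * g * a)⁻¹ := by group
  rw [this, Subgroup.inv_mem_iff]

section

variable {G : Type*} [Group G] [Finite G] (T : Sylow 2 G) (hnc : ¬ IsCyclic (T : Subgroup G))
  (hnn : ¬ (T : Subgroup G).Normal) (hC : CITHyp G)
include hnc hnn hC

theorem norm2 {u : G} (huN : u ∉ NT T) (x₁ x₂ : G ⧸ NT T) (h : x₁ ≠ x₂) :
    ∃ g : G, g • x₁ = QuotientGroup.mk 1 ∧ g • x₂ = QuotientGroup.mk u := by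
  obtain ⟨a, rfl⟩ := QuotientGroup.mk_surjective x₁
  obtain ⟨b, rfl⟩ := QuotientGroup.mk_surjective x₂
  have hab : a⁻¹ * b ∉ NT T := fun hh => h (QuotientGroup.eq.mpr hh)
  obtain ⟨s, hs, hsu⟩ := cit_T_trans T hnc hnn hC hab huN
  refine ⟨s * a⁻¹, ?_, ?_⟩
  · rw [smul_mk_eq]
    have : (s * a⁻¹ * a)⁻¹ * 1 = s⁻¹ := by group
    rw [this]
    exact (NT T).inv_mem (Subgroup.le_normalizer hs)
  · rw [smul_mk_eq]
    have : (s * a⁻¹ * b)⁻¹ * u = (s * (a⁻¹ * b))⁻¹ * u := by group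
    rw [this]; exact hsu

theorem D_trans_pts {u c c' : G} (hu : orderOf u = 2) (huN : u ∉ NT T) (hc : c ∉ NT T)
    (huc : u⁻¹ * c ∉ NT T) (hc' : c' ∉ NT T) (huc' : u⁻¹ * c' ∉ NT T) :
    ∃ d ∈ Dg (NT T) u, (d * c)⁻¹ * c' ∈ NT T := by
  obtain ⟨t, ht, htc⟩ := cit_T_trans T hnc hnn hC huN hc
  obtain ⟨t', ht', htc'⟩ := cit_T_trans T hnc hnn hC huN hc'
  have ht1 : t ≠ 1 := by
    rintro rfl
    apply huc
    have : u⁻¹ * c = (1 * u)⁻¹ * c := by group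
    rw [this]; exact htc
  have ht'1 : t' ≠ 1 := by
    rintro rfl
    apply huc'
    have : u⁻¹ * c' = (1 * u)⁻¹ * c' := by group
    rw [this]; exact htc'
  have hto := cit_orderOf T hnc hC ht ht1
  have ht'o := cit_orderOf T hnc hC ht' ht'1
  obtain ⟨d, hd, hdt⟩ := se_D_trans (cit_se T hnc hC hnn) hu huN hto
    (Subgroup.le_normalizer ht) ht'o (Subgroup.le_normalizer ht')
  refine ⟨d, hd, ?_⟩
  have e : (d * c)⁻¹ * c' = ((t * u)⁻¹ * c)⁻¹ * (u⁻¹ * d * u)⁻¹ * ((t' * u)⁻¹ * c') := by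
    rw [← hdt]; group
  rw [e]
  exact (NT T).mul_mem ((NT T).mul_mem ((NT T).inv_mem htc)
    ((NT T).inv_mem ((mem_Dg _ _ _).mp hd).2)) htc'

end

/-- Let G be a finite group with a Sylow 2-subgroup T that is neither cyclic nor normal, such that the centralizer of every involution is an elementary abelian 2-group; put H = N_G(T) and X = G/H. Then G is triply transitive on X, an element fixing three distinct points of X is the identity, and T acts regularly on X minus the point H. -/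
theorem result {G : Type*} [Group G] [Finite G] (T : Sylow 2 G) (hnc : ¬ IsCyclic (T : Subgroup G)) (hnn : ¬ (T : Subgroup G).Normal) (hC : ∀ t : G, orderOf t = 2 → IsMulCommutative (Subgroup.centralizer ({t} : Set G)) ∧ ∀ c ∈ Subgroup.centralizer ({t} : Set G), c ^ 2 = 1) : (∀ x₁ x₂ x₃ y₁ y₂ y₃ : G ⧸ Subgroup.normalizer ((T : Subgroup G) : Set G), x₁ ≠ x₂ → x₁ ≠ x₃ → x₂ ≠ x₃ → y₁ ≠ y₂ → y₁ ≠ y₃ → y₂ ≠ y₃ → ∃ g : G, g • x₁ = y₁ ∧ g • x₂ = y₂ ∧ g • x₃ = y₃) ∧ (∀ g : G, ∀ x₁ x₂ x₃ : G ⧸ Subgroup.normalizer ((T : Subgroup G) : Set G), x₁ ≠ x₂ → x₁ ≠ x₃ → x₂ ≠ x₃ → g • x₁ = x₁ → g • x₂ = x₂ → g • x₃ = x₃ → g = 1) ∧ (∀ x y : G ⧸ Subgroup.normalizer ((T : Subgroup G) : Set G), x ≠ QuotientGroup.mk 1 → y ≠ QuotientGroup.mk 1 → ∃! t : G, t ∈ T ∧ t • x = y) := by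
  have hne : ∃ g : G, g ∉ NT T := by
    by_contra h
    simp only [not_exists, not_not] at h
    exact hnn (Subgroup.normalizer_eq_top_iff.mp ((Subgroup.eq_top_iff' _).mpr h))
  obtain ⟨g₀, hg₀⟩ := hne
  obtain ⟨u, hu, huN, -⟩ := cit_exists_inv_coset T hnc hnn hC hg₀
  refine ⟨?_, ?_, ?_⟩
  · intro x₁ x₂ x₃ y₁ y₂ y₃ hx12 hx13 hx23 hy12 hy13 hy23
    obtain ⟨gx, hgx1, hgx2⟩ := norm2 T hnc hnn hC huN x₁ x₂ hx12
    obtain ⟨gy, hgy1, hgy2⟩ := norm2 T hnc hnn hC huN y₁ y₂ hy12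
    obtain ⟨c, hc⟩ := QuotientGroup.mk_surjective (gx • x₃)
    obtain ⟨c', hc'⟩ := QuotientGroup.mk_surjective (gy • y₃)
    have hcN : c ∉ NT T := by
      intro h
      apply hx13
      have h1 : (QuotientGroup.mk c : G ⧸ NT T) = QuotientGroup.mk 1 := by
        rw [QuotientGroup.eq, mul_one]; exact (NT T).inv_mem h
      rw [hc, ← hgx1] at h1
      exact (smul_left_cancel gx h1).symm
    have hucN : u⁻¹ * c ∉ NT T := by
      intro h
      apply hx23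
      have h1 : (QuotientGroup.mk c : G ⧸ NT T) = QuotientGroup.mk u := by
        rw [QuotientGroup.eq]
        have : c⁻¹ * u = (u⁻¹ * c)⁻¹ := by group
        rw [this]; exact (NT T).inv_mem h
      rw [hc, ← hgx2] at h1
      exact (smul_left_cancel gx h1).symm
    have hc'N : c' ∉ NT T := by
      intro h
      apply hy13
      have h1 : (QuotientGroup.mk c' : G ⧸ NT T) = QuotientGroup.mk 1 := by
        rw [QuotientGroup.eq, mul_one]; exact (NT T).inv_mem h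
      rw [hc', ← hgy1] at h1
      exact (smul_left_cancel gy h1).symm
    have huc'N : u⁻¹ * c' ∉ NT T := by
      intro h
      apply hy23
      have h1 : (QuotientGroup.mk c' : G ⧸ NT T) = QuotientGroup.mk u := by
        rw [QuotientGroup.eq]
        have : c'⁻¹ * u = (u⁻¹ * c')⁻¹ := by group
        rw [this]; exact (NT T).inv_mem h
      rw [hc', ← hgy2] at h1
      exact (smul_left_cancel gy h1).symm
    obtain ⟨d, hd, hdc⟩ := D_trans_pts T hnc hnn hC hu huN hcN hucN hc'N huc'N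
    have hd' := (mem_Dg _ _ _).mp hd
    have hd1 : d • (QuotientGroup.mk 1 : G ⧸ NT T) = QuotientGroup.mk 1 := by
      rw [smul_mk_eq]
      have : (d * 1)⁻¹ * 1 = d⁻¹ := by group
      rw [this]; exact (NT T).inv_mem hd'.1
    have hd2 : d • (QuotientGroup.mk u : G ⧸ NT T) = QuotientGroup.mk u := by
      rw [fix_mk_iff]; exact hd'.2
    have hd3 : d • (QuotientGroup.mk c : G ⧸ NT T) = QuotientGroup.mk c' := by
      rw [smul_mk_eq]; exact hdc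
    refine ⟨gy⁻¹ * d * gx, ?_, ?_, ?_⟩
    · rw [mul_smul, mul_smul, hgx1, hd1, inv_smul_eq_iff, hgy1]
    · rw [mul_smul, mul_smul, hgx2, hd2, inv_smul_eq_iff, hgy2]
    · rw [mul_smul, mul_smul, ← hc, hd3, inv_smul_eq_iff, hc']
  · intro g x₁ x₂ x₃ h12 h13 h23 hf1 hf2 hf3
    obtain ⟨a₁, rfl⟩ := QuotientGroup.mk_surjective x₁
    obtain ⟨a₂, rfl⟩ := QuotientGroup.mk_surjective x₂
    obtain ⟨a₃, rfl⟩ := QuotientGroup.mk_surjective x₃
    rw [fix_mk_iff] at hf1 hf2 hf3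
    have hg2 : a₁⁻¹ * a₂ ∉ NT T := fun hh => h12 (QuotientGroup.eq.mpr hh)
    have hg3 : a₁⁻¹ * a₃ ∉ NT T := fun hh => h13 (QuotientGroup.eq.mpr hh)
    have hg23 : (a₁⁻¹ * a₂)⁻¹ * (a₁⁻¹ * a₃) ∉ NT T := by
      intro hh
      apply h23
      rw [QuotientGroup.eq]
      have : a₂⁻¹ * a₃ = (a₁⁻¹ * a₂)⁻¹ * (a₁⁻¹ * a₃) := by group
      rw [this]; exact hh
    have he2 : (a₁⁻¹ * a₂)⁻¹ * (a₁⁻¹ * g * a₁) * (a₁⁻¹ * a₂) ∈ NT T := by
      have : (a₁⁻¹ * a₂)⁻¹ * (a₁⁻¹ * g * a₁) * (a₁⁻¹ * a₂) = a₂⁻¹ * g * a₂ := by group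
      rw [this]; exact hf2
    have he3 : (a₁⁻¹ * a₃)⁻¹ * (a₁⁻¹ * g * a₁) * (a₁⁻¹ * a₃) ∈ NT T := by
      have : (a₁⁻¹ * a₃)⁻¹ * (a₁⁻¹ * g * a₁) * (a₁⁻¹ * a₃) = a₃⁻¹ * g * a₃ := by group
      rw [this]; exact hf3
    have h1 := cit_three_fix T hnc hnn hC hg2 hg3 hg23 hf1 he2 he3
    have := congrArg (fun x => a₁ * x * a₁⁻¹) h1
    simpa [mul_assoc] using this
  · intro x y hx hy
    obtain ⟨a, rfl⟩ := QuotientGroup.mk_surjective x
    obtain ⟨b, rfl⟩ := QuotientGroup.mk_surjective y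
    have haN : a ∉ NT T := by
      intro h
      apply hx
      rw [QuotientGroup.eq, mul_one]; exact (NT T).inv_mem h
    have hbN : b ∉ NT T := by
      intro h
      apply hy
      rw [QuotientGroup.eq, mul_one]; exact (NT T).inv_mem h
    obtain ⟨s, hs, hsab⟩ := cit_T_trans T hnc hnn hC haN hbN
    refine ⟨s, ⟨hs, (smul_mk_eq _ _ _ _).mpr hsab⟩, ?_⟩
    rintro t ⟨ht, htab⟩
    have h1 : t • (QuotientGroup.mk a : G ⧸ NT T) = s • (QuotientGroup.mk a : G ⧸ NT T) := by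
      rw [htab, (smul_mk_eq _ _ _ _).mpr hsab]
    have h2 : (s⁻¹ * t) • (QuotientGroup.mk a : G ⧸ NT T) = QuotientGroup.mk a := by
      rw [mul_smul, h1, inv_smul_smul]
    rw [fix_mk_iff] at h2
    have hr : s⁻¹ * t ∈ (T : Subgroup G) := (T : Subgroup G).mul_mem ((T : Subgroup G).inv_mem hs) ht
    by_contra hne
    have hr1 : s⁻¹ * t ≠ 1 := by
      intro h
      apply hne
      exact (inv_mul_eq_one.mp h).symm
    have hro := cit_orderOf T hnc hC hr hr1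
    exact haN (se_mem_of_inv_mem_inter (cit_se T hnc hC hnn) hro (Subgroup.le_normalizer hr) h2)

end Cfsg.Agent.S1229
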