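import Cfsg.Statements.S1230
import Cfsg.Agent.S1229
import Cfsg.Agent.H60.Sharp3Main

set_option autoImplicit false
open Cfsg

namespace Cfsg.Agent.S1230

/-- Let G be a finite group with a Sylow 2-subgroup T that is neither cyclic nor normal, such that the centralizer of every involution is an elementary abelian 2-group. Then G ≅ PSL(2,F) for a finite field F with |F| = |T|. -/
theorem result {G : Type*} [Group G] [Finite G] (T : Sylow 2 G) (hnc : ¬ IsCyclic (T : Subgroup G)) (hnn : ¬ (T : Subgroup G).Normal) (hC : ∀ t : G, orderOf t = 2 → IsMulCommutative (Subgroup.centralizer ({t} : Set G)) ∧ ∀ c ∈ Subgroup.centralizer ({t} : Set G), c ^ 2 = 1) : ∃ (F : Type) (_ : Field F) (_ : Fintype F), Fintype.card F = Nat.card T ∧ Nonempty (G ≃* Matrix.ProjectiveSpecialLinearGroup (Fin 2) F) := by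
  classical
  obtain ⟨h3, hs, hreg⟩ := Cfsg.Agent.S1229.result T hnc hnn hC
  have hfin : Fintype (G ⧸ Subgroup.normalizer ((T : Subgroup G) : Set G)) := Fintype.ofFinite _
  have hfinT : Fintype (T : Subgroup G) := Fintype.ofFinite _
  -- a second point
  have hNtop : Subgroup.normalizer ((T : Subgroup G) : Set G) ≠ ⊤ := by
    intro h
    exact hnn (Subgroup.normalizer_eq_top_iff.mp h)
  obtain ⟨g₀, hg₀⟩ : ∃ g₀ : G, g₀ ∉ Subgroup.normalizer ((T : Subgroup G) : Set G) := by
    by_contra hcon
    apply hNtop
    rw [eq_top_iff]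
    intro g _
    by_contra hg
    exact hcon ⟨g, hg⟩
  have hx₀ : (QuotientGroup.mk g₀ : G ⧸ Subgroup.normalizer ((T : Subgroup G) : Set G)) ≠
      QuotientGroup.mk 1 := by
    intro h
    rw [QuotientGroup.eq] at h
    apply hg₀
    have h' := Subgroup.inv_mem _ h
    simpa using h'
  -- elements of `T` fix the base point
  have hTfix : ∀ t : G, t ∈ T → t • (QuotientGroup.mk 1 :
      G ⧸ Subgroup.normalizer ((T : Subgroup G) : Set G)) = QuotientGroup.mk 1 := by
    intro t ht
    rw [MulAction.Quotient.smul_mk, QuotientGroup.eq]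
    have htN : t ∈ Subgroup.normalizer ((T : Subgroup G) : Set G) := Subgroup.le_normalizer ht
    simpa using Subgroup.inv_mem _ htN
  -- the cardinality of the coset space
  have hcard : Fintype.card (G ⧸ Subgroup.normalizer ((T : Subgroup G) : Set G)) =
      Nat.card T + 1 := by
    let φ : Option (T : Subgroup G) → G ⧸ Subgroup.normalizer ((T : Subgroup G) : Set G) :=
      fun o => match o with
        | none => QuotientGroup.mk 1
        | some t => (t : G) • (QuotientGroup.mk g₀ : G ⧸ Subgroup.normalizer ((T : Subgroup G) : Set G))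
    have hne : ∀ t : (T : Subgroup G), (t : G) • (QuotientGroup.mk g₀ :
        G ⧸ Subgroup.normalizer ((T : Subgroup G) : Set G)) ≠ QuotientGroup.mk 1 := by
      intro t h
      apply hx₀
      have h1 := hTfix (t : G) t.2
      rw [← h1] at h
      exact smul_left_cancel _ h
    have hbij : Function.Bijective φ := by
      constructor
      · intro o₁ o₂ h
        match o₁, o₂ with
        | none, none => rfl
        | none, some t => exact absurd h.symm (hne t)
        | some t, none => exact absurd h (hne t)
        | some t₁, some t₂ =>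
          obtain ⟨t, -, huniq⟩ := hreg _ _ hx₀ (hne t₂)
          have e1 := huniq (t₁ : G) ⟨t₁.2, h⟩
          have e2 := huniq (t₂ : G) ⟨t₂.2, rfl⟩
          exact congrArg some (Subtype.ext (e1.trans e2.symm))
      · intro y
        by_cases hy : y = QuotientGroup.mk 1
        · exact ⟨none, hy.symm⟩
        · obtain ⟨t, ⟨htT, ht⟩, -⟩ := hreg _ y hx₀ hy
          exact ⟨some ⟨t, htT⟩, ht⟩
    rw [← Fintype.card_congr (Equiv.ofBijective φ hbij), Fintype.card_option,
      Nat.card_eq_fintype_card]
  -- `T` is a nontrivial 2-group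
  obtain ⟨k, hk⟩ := (IsPGroup.iff_card (p := 2) (G := (T : Subgroup G))).mp T.isPGroup'
  have hk0 : k ≠ 0 := by
    rintro rfl
    rw [pow_zero] at hk
    apply hnc
    have : Subsingleton (T : Subgroup G) := (Nat.card_eq_one_iff_unique.mp hk).1
    exact isCyclic_of_subsingleton
  have hTe : Even (Nat.card T) := by
    show Even (Nat.card (T : Subgroup G))
    rw [hk]
    exact (Nat.even_pow.mpr ⟨even_two, hk0⟩)
  have hT2 : 2 ≤ Nat.card T := by
    show 2 ≤ Nat.card (T : Subgroup G)
    rw [hk]
    calc 2 = 2 ^ 1 := by norm_num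
      _ ≤ 2 ^ k := Nat.pow_le_pow_right (by norm_num) (by omega)
  obtain ⟨F, -, h1, -⟩ := H60.sharp3_abstract h3 hs (Nat.card T) hcard hTe hT2
  exact ⟨Fin (Nat.card T), F, inferInstance, Fintype.card_fin _, h1⟩

end Cfsg.Agent.S1230
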