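import Cfsg.Statements.S3277
import Cfsg.Agent.H60.V4CaseA
import Cfsg.Agent.H60.V4A5

set_option autoImplicit false
open Cfsg

namespace Cfsg.Agent.S3277

open Subgroup Cfsg.Agent.H60

/-- Let G be a finite group containing an involution whose centralizer is elementary abelian of order 4. If G has no normal 2-complement and no normal elementary abelian 2-subgroup of order 2 or 4, then G is isomorphic to the alternating group of degree 5 (that is, to PSL(2, 5)). -/
theorem result {G : Type*} [Group G] [Finite G] (x : G) (hx : orderOf x = 2)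
    (hC4 : Nat.card ↥(Subgroup.centralizer ({x} : Set G)) = 4) (hCe : ∀ c ∈ Subgroup.centralizer ({x} : Set G), c ^ 2 = 1)
    (hnc : ¬ Cfsg.HasNormalPComplement 2 G)
    (hne : ∀ E : Subgroup G, E.Normal → Cfsg.IsElementaryAbelian 2 E → Nat.card ↥E ≠ 2 ∧ Nat.card ↥E ≠ 4) :
    Nonempty (G ≃* ↥(alternatingGroup (Fin 5))) := by
  classical
  have hp2 : Fact (Nat.Prime 2) := ⟨Nat.prime_two⟩
  have hx1 : x ≠ 1 := by intro h; rw [h, orderOf_one] at hx; omega
  have hxx : x * x = 1 := by rw [← pow_two, ← hx]; exact pow_orderOf_eq_one x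
  have hxinv : x⁻¹ = x := inv_eq_of_mul_eq_one_left hxx
  -- exponent 2 gives elementary abelian
  have hcomm2 : ∀ E : Subgroup G, (∀ e ∈ E, e * e = 1) → ∀ a ∈ E, ∀ b ∈ E, a * b = b * a := by
    intro E hE a ha b hb
    have h1 := hE (a * b) (E.mul_mem ha hb)
    have h2 := hE a ha
    have h3 := hE b hb
    calc a * b = (a * b)⁻¹ := (inv_eq_of_mul_eq_one_left h1).symm
      _ = b⁻¹ * a⁻¹ := mul_inv_rev a b
      _ = b * a := by rw [inv_eq_of_mul_eq_one_left h3, inv_eq_of_mul_eq_one_left h2]
  have hEA : ∀ E : Subgroup G, (∀ e ∈ E, e * e = 1) → Cfsg.IsElementaryAbelian 2 E := by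
    intro E hE
    refine ⟨IsMulCommutative.of_comm fun a b => Subtype.ext (hcomm2 E hE a.1 a.2 b.1 b.2),
      fun a ha => by rw [pow_two]; exact hE a ha⟩
  by_cases h8 : 8 ∣ Nat.card G
  · exfalso
    obtain ⟨E, hEn, hE2, hEc⟩ := caseA x hx1 hxx hC4 h8
    have := hne E hEn (hEA E hE2)
    rcases hEc with h | h
    · exact this.1 h
    · exact this.2 h
  -- now the centralizer `V` of `x` is a Sylow 2-subgroup
  have hVe : ∀ c ∈ centralizer ({x} : Set G), c * c = 1 := fun c hc => by
    rw [← pow_two]; exact hCe c hc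
  have hVcomm := hcomm2 _ hVe
  have hVnn : ¬ (centralizer ({x} : Set G)).Normal := fun hn => (hne _ hn (hEA _ hVe)).2 hC4
  have hxV : x ∈ centralizer ({x} : Set G) := by rw [mem_centralizer_singleton]
  have h4 : 4 ∣ Nat.card G := hC4 ▸ Subgroup.card_subgroup_dvd_card _
  have hfac : (Nat.card G).factorization 2 = 2 := by
    have hG0 : Nat.card G ≠ 0 := Nat.card_pos.ne'
    have h1 : 2 ≤ (Nat.card G).factorization 2 :=
      (Nat.prime_two.pow_dvd_iff_le_factorization hG0).mp (by norm_num; exact h4)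
    have h2 : ¬ 3 ≤ (Nat.card G).factorization 2 := fun h => h8 (by
      have := (Nat.prime_two.pow_dvd_iff_le_factorization hG0).mpr h
      norm_num at this; exact this)
    omega
  obtain ⟨P, hP⟩ : ∃ P : Sylow 2 G, (P : Subgroup G) = centralizer ({x} : Set G) :=
    ⟨Sylow.ofCard (centralizer ({x} : Set G)) (by rw [hC4, hfac]; norm_num), Sylow.coe_ofCard _ _⟩
  -- Burnside: some element of the normalizer does not centralize `V`
  have hNC : ¬ (normalizer (P : Set G) ≤ centralizer (P : Set G)) := by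
    intro h
    apply hnc
    exact ⟨P, (MonoidHom.transferSylow P h).ker, MonoidHom.normal_ker _,
      MonoidHom.ker_transferSylow_isComplement' P h⟩
  obtain ⟨g, hgN, hgC⟩ := SetLike.not_le_iff_exists.mp hNC
  have hgN' : g ∈ normalizer ((centralizer ({x} : Set G) : Subgroup G) : Set G) := by
    rw [← hP]; exact hgN
  have hgV : g ∉ centralizer ({x} : Set G) := by
    intro h
    apply hgC
    rw [Subgroup.mem_centralizer_iff]
    intro v hv
    have hv' : v ∈ centralizer ({x} : Set G) := by rw [← hP]; exact hv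
    exact hVcomm v hv' g h
  have hgnorm := mem_normalizer_iff.mp hgN'
  -- the three involutions x, y = g x g⁻¹, g y g⁻¹ of V
  have hyV : g * x * g⁻¹ ∈ centralizer ({x} : Set G) := (hgnorm x).mp hxV
  have hyx : g * x * g⁻¹ ≠ x := by
    intro h
    apply hgV
    rw [mem_centralizer_singleton]
    exact (mul_inv_eq_iff_eq_mul.mp h).symm
  have hy1 : g * x * g⁻¹ ≠ 1 := by
    intro h; apply hx1
    have : x = g⁻¹ * (g * x * g⁻¹) * g := by group
    rw [this, h]; group
  have hy'V : g * (g * x * g⁻¹) * g⁻¹ ∈ centralizer ({x} : Set G) := (hgnorm _).mp hyV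
  have hy'y : g * (g * x * g⁻¹) * g⁻¹ ≠ g * x * g⁻¹ := by
    intro h; apply hyx
    have : g * x * g⁻¹ = g⁻¹ * (g * (g * x * g⁻¹) * g⁻¹) * g := by group
    rw [this, h]; group
  have hy'1 : g * (g * x * g⁻¹) * g⁻¹ ≠ 1 := by
    intro h; apply hy1
    have : g * x * g⁻¹ = g⁻¹ * (g * (g * x * g⁻¹) * g⁻¹) * g := by group
    rw [this, h]; group
  have hy'x : g * (g * x * g⁻¹) * g⁻¹ ≠ x := by
    intro h
    apply hgV
    have hgg : g * g ∈ centralizer ({x} : Set G) := by
      rw [mem_centralizer_singleton]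
      have h1 : (g * g) * x * (g * g)⁻¹ = x := by
        calc (g * g) * x * (g * g)⁻¹ = g * (g * x * g⁻¹) * g⁻¹ := by group
          _ = x := h
      exact (mul_inv_eq_iff_eq_mul.mp h1).symm
    have h2 : g ^ 2 ^ 2 = 1 := by
      have h3 := hVe _ hgg
      have h4 : g ^ 2 ^ 2 = (g * g) * (g * g) := by
        rw [show (2 : ℕ) ^ 2 = 2 + 2 from rfl, pow_add, pow_two]
      rw [h4, h3]
    have h5 := mem_sylow_of_mem_normalizer_of_pow P g hgN 2 h2
    rw [hP] at h5
    exact h5
  have hxy1 : x * (g * x * g⁻¹) ≠ 1 := by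
    intro h; apply hyx
    have := eq_inv_of_mul_eq_one_right h
    rw [this, hxinv]
  have hfour := mem_four (centralizer ({x} : Set G)) hC4 x (g * x * g⁻¹) hxV hyV hx1 hy1
    (Ne.symm hyx) hxy1
  have hy'eq : g * (g * x * g⁻¹) * g⁻¹ = x * (g * x * g⁻¹) := by
    rcases hfour _ hy'V with h | h | h | h
    · exact absurd h hy'1
    · exact absurd h hy'x
    · exact absurd h hy'y
    · exact h
  -- every nontrivial element of V is conjugate to x
  have hVconj : ∀ v ∈ centralizer ({x} : Set G), v ≠ 1 → ∃ c : G, c * x * c⁻¹ = v := by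
    intro v hv hv1
    rcases hfour v hv with h | h | h | h
    · exact absurd h hv1
    · exact ⟨1, by rw [h]; group⟩
    · exact ⟨g, h.symm⟩
    · exact ⟨g * g, by rw [h, ← hy'eq]; group⟩
  -- every involution is conjugate to x
  have hconjx : ∀ u : G, u ≠ 1 → u * u = 1 → ∃ c : G, c * x * c⁻¹ = u := by
    intro u hu1 huu
    have hup : IsPGroup 2 (zpowers u) := by
      rintro ⟨v, hv⟩
      obtain ⟨i, rfl⟩ := mem_zpowers_iff.mp hv
      refine ⟨1, Subtype.ext ?_⟩
      show (u ^ i) ^ 2 ^ 1 = 1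
      rw [pow_one, ← zpow_natCast, ← zpow_mul, mul_comm, zpow_mul, zpow_natCast, pow_two, huu,
        one_zpow]
    obtain ⟨Q, hQ⟩ := hup.exists_le_sylow
    obtain ⟨a, ha⟩ := MulAction.exists_smul_eq G P Q
    have huQ : u ∈ ((a • P : Sylow 2 G) : Subgroup G) := by
      rw [ha]; exact hQ (mem_zpowers u)
    rw [Sylow.coe_subgroup_smul] at huQ
    obtain ⟨s, hs, hsu⟩ := huQ
    have hsu' : a * s * a⁻¹ = u := by simpa using hsu
    have hsV : s ∈ centralizer ({x} : Set G) := by rw [← hP]; exact hs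
    have hs1 : s ≠ 1 := by
      intro h; apply hu1
      rw [← hsu', h]; group
    obtain ⟨c, hc⟩ := hVconj s hsV hs1
    exact ⟨a * c, by rw [← hsu', ← hc]; group⟩
  -- the hypotheses of the counting argument
  have H : V4Hyp G := by
    refine ⟨?_, ?_, ?_⟩
    · intro u hu1 huu
      obtain ⟨c, rfl⟩ := hconjx u hu1 huu
      rw [card_centralizer_conj, hC4]
    · intro u hu1 huu d hd
      obtain ⟨c, rfl⟩ := hconjx u hu1 huu
      have h1 : d ∈ centralizer ({c * x * c⁻¹} : Set G) := (mem_centralizer_singleton _ _).mpr hd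
      rw [mem_centralizer_conj_iff] at h1
      have h2 := hVe _ h1
      calc d * d = c * ((c⁻¹ * d * c) * (c⁻¹ * d * c)) * c⁻¹ := by group
        _ = 1 := by rw [h2]; group
    · intro u v hu1 huu hv1 hvv
      obtain ⟨a, rfl⟩ := hconjx u hu1 huu
      obtain ⟨b, rfl⟩ := hconjx v hv1 hvv
      exact ⟨b * a⁻¹, by group⟩
  have : Fintype G := Fintype.ofFinite G
  have hG := card_invs H x hx1 hxx
  rcases card_invs_eq_three_or_fifteen H x hx1 hxx with h3 | h15
  · -- three involutions: V is normal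
    exfalso
    apply hVnn
    have hxI : x ∈ invs G := mem_invs.mpr ⟨hx1, hxx⟩
    have hsub : (invs G).filter (fun v => x * v = v * x) = invs G :=
      Finset.eq_of_subset_of_card_le (Finset.filter_subset _ _)
        (by rw [card_comm_invs H x hxI, h3])
    have hall : ∀ w : G, w ≠ 1 → w * w = 1 → w ∈ centralizer ({x} : Set G) := by
      intro w hw1 hww
      have hw : w ∈ invs G := mem_invs.mpr ⟨hw1, hww⟩
      rw [← hsub, Finset.mem_filter] at hw
      exact (mem_centralizer_singleton x w).mpr hw.2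
    refine ⟨fun v hv h => ?_⟩
    by_cases hv1 : v = 1
    · rw [hv1]; simp
    · have hvv : v * v = 1 := hVe v hv
      apply hall
      · intro h1; apply hv1
        have : v = h⁻¹ * (h * v * h⁻¹) * h := by group
        rw [this, h1]; group
      · calc h * v * h⁻¹ * (h * v * h⁻¹) = h * (v * v) * h⁻¹ := by group
          _ = 1 := by rw [hvv]; group
  · -- fifteen involutions: |G| = 60
    have hcard : Nat.card G = 60 := by
      rw [Nat.card_eq_fintype_card, ← hG, h15]
    exact iso_A5_of_V4Hyp H x hx1 hxx hcard hVnn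

end Cfsg.Agent.S3277
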