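import Cfsg.Statements.S0848
import Cfsg.Agent.H5.D8Char
import Cfsg.Agent.H5.D8Arith

set_option autoImplicit false
open Cfsg

namespace Cfsg.Agent.S0848

/-- If a finite group equals its own commutator subgroup and contains an involution whose centralizer is isomorphic to the dihedral group of order 8, then the group has order 168 or 360. -/
theorem result {G : Type*} [Group G] [Finite G] (hperf : commutator G = ⊤) (t : G) (ht : orderOf t = 2) (e : Subgroup.centralizer ({t} : Set G) ≃* DihedralGroup 4) : Nat.card G = 168 ∨ Nat.card G = 360 := by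
  obtain ⟨F₁, F₂, F₃, X₁, X₂, X₃, M₁, M₂, M₃, h1, h2, h3, hX₁, hX₂, hX₃, hF₁, hF₂, hF₃, E1, E2, E3,
    E4, E5, h8⟩ := Cfsg.Agent.H5.D8Char.d8_data hperf t ht e
  exact Cfsg.Agent.H5.D8Arith.main (Nat.card G) F₁ F₂ F₃ X₁ X₂ X₃ M₁ M₂ M₃ h1 h2 h3 hX₁ hX₂ hX₃
    hF₁ hF₂ hF₃ E1 E2 E3 E4 E5 h8

end Cfsg.Agent.S0848
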