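import Cfsg.Statements.S3035
import Cfsg.Agent.S0215
import Cfsg.Agent.H27.D8A
import Cfsg.Agent.H27.D8B
import Cfsg.Agent.H27.D8C

set_option autoImplicit false
open Cfsg

namespace Cfsg.Agent.S3035

/-- Let G be a finite group with an involution z whose centralizer is dihedral of order 8. Then G = C_G(z) O(G) with O(G) the largest normal subgroup of odd order, or G is isomorphic to the symmetric group of degree 4, the symmetric group of degree 5, the group SL₃(2), or the alternating group of degree 6. -/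
theorem result {G : Type*} [Group G] [Finite G] (z : G) (hz : orderOf z = 2)
    (hC : Nonempty (↥(Subgroup.centralizer ({z} : Set G)) ≃* DihedralGroup 4)) :
    Subgroup.centralizer ({z} : Set G) ⊔ Cfsg.oddCore G = ⊤ ∨ Nonempty (G ≃* Equiv.Perm (Fin 4)) ∨ Nonempty (G ≃* Equiv.Perm (Fin 5)) ∨
      Nonempty (G ≃* Matrix.SpecialLinearGroup (Fin 3) (ZMod 2)) ∨ Nonempty (G ≃* ↥(alternatingGroup (Fin 6))) := by
  obtain ⟨e⟩ := hC
  by_cases hiso : ∀ g : G, g * z * g⁻¹ * z = z * (g * z * g⁻¹) → g * z * g⁻¹ = z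
  · left
    exact Cfsg.Agent.H27.D8.isolated_case
      (fun G _ _ P x hx hxP hiso => Cfsg.Agent.S0215.result P x hx hxP hiso) z e hz hiso
  · right
    push Not at hiso
    obtain ⟨g, hgc, hgne⟩ := hiso
    have hzz : z * z = 1 := by
      rw [← pow_two, ← hz, pow_orderOf_eq_one]
    have hz1 : z ≠ 1 := by
      intro h
      rw [h, orderOf_one] at hz
      omega
    have hx2 : (g * z * g⁻¹) * (g * z * g⁻¹) = 1 := by
      calc (g * z * g⁻¹) * (g * z * g⁻¹) = g * (z * z) * g⁻¹ := by group
        _ = 1 := by rw [hzz]; group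
    have hx1 : g * z * g⁻¹ ≠ 1 := by
      intro h
      apply hz1
      have : z = g⁻¹ * (g * z * g⁻¹) * g := by group
      rw [this, h]; group
    obtain ⟨e', he'⟩ := Cfsg.Agent.H27.D8.exists_equiv_sr0 z e hz (g * z * g⁻¹) hgc hx2 hx1 hgne
    have hb : ∃ g : G, g * z * g⁻¹ = Cfsg.Agent.H5.D8Local.emb z e' (DihedralGroup.sr 0) :=
      ⟨g, he'.symm⟩
    by_cases hc : ∃ g : G, g * z * g⁻¹ = Cfsg.Agent.H5.D8Local.emb z e' (DihedralGroup.sr 1)
    · rcases Cfsg.Agent.H27.D8.caseC z e' hz hb hc with h | h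
      · exact Or.inr (Or.inr (Or.inl h))
      · exact Or.inr (Or.inr (Or.inr h))
    · push Not at hc
      rcases Cfsg.Agent.H27.D8.caseB z e' hz hb hc with h | h
      · exact Or.inl h
      · exact Or.inr (Or.inl h)

end Cfsg.Agent.S3035
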