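import Cfsg.Statements.S1475

set_option autoImplicit false
open Cfsg

namespace Cfsg.Agent.S1475

/-- If a finite group `K` acts on a finite abelian group `A` so that every non-identity element acts
without non-identity fixed points, and `K` contains a nontrivial subgroup `M` normalised by an
element `x` no non-identity power of which commutes with a non-identity element of `M`,
and `|M|` is coprime to `|A|`, then `A` is trivial. -/
theorem fpf_action_trivial {A K : Type*} [CommGroup A] [Finite A] [Group K] [Finite K]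
    (act : K →* MulAut A)
    (hfpf : ∀ k : K, k ≠ 1 → ∀ a : A, act k a = a → a = 1)
    (M : Subgroup K) (hM : M ≠ ⊥) (x : K) (hx1 : x ≠ 1) (hxM : ∀ m ∈ M, x * m * x⁻¹ ∈ M)
    (hC : ∀ i : ℕ, x ^ i ≠ 1 → ∀ m ∈ M, m * x ^ i = x ^ i * m → m = 1)
    (hcop : (Nat.card M).Coprime (Nat.card A)) : ∀ a : A, a = 1 := by
  classical
  have hfinM : Fintype M := Fintype.ofFinite M
  -- Step 1: products over M are fixed by M, hence trivial
  have step1 : ∀ u : A, ∏ m : M, act (m : K) u = 1 := by
    intro u
    obtain ⟨n, hn1⟩ := (Subgroup.ne_bot_iff_exists_ne_one).mp hM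
    apply hfpf (n : K) (fun h => hn1 (by exact_mod_cast h))
    rw [map_prod]
    have : ∀ m : M, act (n : K) (act (m : K) u) = act ((n * m : M) : K) u := by
      intro m
      rw [Subgroup.coe_mul, map_mul]
      rfl
    rw [Finset.prod_congr rfl (fun m _ => this m)]
    exact Fintype.prod_equiv (Equiv.mulLeft n) _ _ (fun m => rfl)
  -- Step 2: products over powers of a non-identity element y with y ^ r = 1 are trivial
  have step2 : ∀ (y : K) (r : ℕ), y ≠ 1 → y ^ r = 1 → ∀ v : A,
      ∏ i ∈ Finset.range r, act (y ^ i) v = 1 := by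
    intro y r hy hyr v
    apply hfpf y hy
    rw [map_prod]
    have : ∀ i : ℕ, act y (act (y ^ i) v) = act (y ^ (i + 1)) v := by
      intro i
      rw [pow_succ', map_mul]
      rfl
    rw [Finset.prod_congr rfl (fun i _ => this i)]
    have h1 := Finset.prod_range_succ_comm (fun i => act (y ^ i) v) r
    have h2 := Finset.prod_range_succ' (fun i => act (y ^ i) v) r
    rw [h2, hyr, pow_zero, mul_comm ((act 1) v)] at h1
    exact mul_right_cancel h1
  -- x ^ i normalises M
  have hxiM : ∀ i : ℕ, ∀ m ∈ M, x ^ i * m * (x ^ i)⁻¹ ∈ M := by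
    intro i
    induction i with
    | zero => intro m hm; simpa using hm
    | succ i ih =>
      intro m hm
      have := hxM _ (ih m hm)
      have h2 : x ^ (i + 1) * m * (x ^ (i + 1))⁻¹ = x * (x ^ i * m * (x ^ i)⁻¹) * x⁻¹ := by
        rw [pow_succ']; group
      rw [h2]; exact this
  -- Step 3: for x ^ i ≠ 1 the products over conjugates of x ^ i are trivial
  have step3 : ∀ i : ℕ, x ^ i ≠ 1 → ∀ v : A,
      ∏ m : M, act ((m : K) * x ^ i * (m : K)⁻¹) v = 1 := by
    intro i hi v
    let φ : M → M := fun m => ⟨(m : K) * (x ^ i * (m : K)⁻¹ * (x ^ i)⁻¹),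
      M.mul_mem m.2 (hxiM i _ (M.inv_mem m.2))⟩
    have hφinj : Function.Injective φ := by
      intro m n hmn
      have h1 : (m : K) * (x ^ i * (m : K)⁻¹ * (x ^ i)⁻¹) = (n : K) * (x ^ i * (n : K)⁻¹ * (x ^ i)⁻¹) :=
        congrArg Subtype.val hmn
      have h2 : ((n : K)⁻¹ * (m : K)) * x ^ i = x ^ i * ((n : K)⁻¹ * (m : K)) := by
        have h3 : (n : K)⁻¹ * (m : K) * x ^ i * (m : K)⁻¹ = x ^ i * (n : K)⁻¹ := by
          have := congrArg (fun z => (n : K)⁻¹ * z * x ^ i) h1
          have e1 : (n : K)⁻¹ * ((m : K) * (x ^ i * (m : K)⁻¹ * (x ^ i)⁻¹)) * x ^ i =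
              (n : K)⁻¹ * (m : K) * x ^ i * (m : K)⁻¹ := by group
          have e2 : (n : K)⁻¹ * ((n : K) * (x ^ i * (n : K)⁻¹ * (x ^ i)⁻¹)) * x ^ i =
              x ^ i * (n : K)⁻¹ := by group
          rw [e1, e2] at this
          exact this
        calc (n : K)⁻¹ * (m : K) * x ^ i = ((n : K)⁻¹ * (m : K) * x ^ i * (m : K)⁻¹) * (m : K) := by group
          _ = x ^ i * (n : K)⁻¹ * (m : K) := by rw [h3]
          _ = x ^ i * ((n : K)⁻¹ * (m : K)) := by group
      have h4 := hC i hi _ (M.mul_mem (M.inv_mem n.2) m.2) h2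
      apply Subtype.ext
      exact (inv_mul_eq_one.mp h4).symm
    have hφbij : Function.Bijective φ := Finite.injective_iff_bijective.mp hφinj
    have key : ∀ m : M, act ((m : K) * x ^ i * (m : K)⁻¹) v = act ((φ m : M) : K) (act (x ^ i) v) := by
      intro m
      have : (m : K) * x ^ i * (m : K)⁻¹ = ((φ m : M) : K) * x ^ i := by
        show _ = (m : K) * (x ^ i * (m : K)⁻¹ * (x ^ i)⁻¹) * x ^ i
        group
      rw [this, map_mul]
      rfl
    rw [Finset.prod_congr rfl (fun m _ => key m)]
    rw [Fintype.prod_bijective φ hφbij (fun m => act ((φ m : M) : K) (act (x ^ i) v))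
      (fun m => act (m : K) (act (x ^ i) v)) (fun m => rfl)]
    exact step1 _
  intro v
  set r := orderOf x with hr
  have hrpos : 0 < r := orderOf_pos x
  -- the double product
  have hD1 : ∏ m : M, ∏ i ∈ Finset.range r, act ((m : K) * x ^ i * (m : K)⁻¹) v = 1 := by
    apply Finset.prod_eq_one
    intro m _
    · have hy : (m : K) * x * (m : K)⁻¹ ≠ 1 := by
        intro h
        apply hx1
        have : x = (m : K)⁻¹ * ((m : K) * x * (m : K)⁻¹) * (m : K) := by group
        rw [this, h]; group
      have hyr : ((m : K) * x * (m : K)⁻¹) ^ r = 1 := by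
        rw [conj_pow, hr, pow_orderOf_eq_one]; group
      have := step2 _ r hy hyr v
      rw [← this]
      apply Finset.prod_congr rfl
      intro i _
      rw [conj_pow]
  rw [Finset.prod_comm] at hD1
  have hD2 : ∏ i ∈ Finset.range r, ∏ m : M, act ((m : K) * x ^ i * (m : K)⁻¹) v = v ^ Nat.card M := by
    rw [Finset.prod_eq_single 0]
    · simp [Nat.card_eq_fintype_card]
    · intro i hi hi0
      exact step3 i (pow_ne_one_of_lt_orderOf hi0 (Finset.mem_range.mp hi)) v
    · intro h
      exact absurd (Finset.mem_range.mpr hrpos) h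
  rw [hD2] at hD1
  have h1 : orderOf v ∣ Nat.card M := orderOf_dvd_of_pow_eq_one hD1
  have h2 : orderOf v ∣ Nat.card A := orderOf_dvd_natCard v
  have h3 : orderOf v ∣ Nat.gcd (Nat.card M) (Nat.card A) := Nat.dvd_gcd h1 h2
  rw [hcop] at h3
  exact orderOf_eq_one_iff.mp (Nat.dvd_one.mp h3)


/-- Commuting elements of coprime orders in a group whose elements have prime power order. -/
theorem nc_of_eppo {G : Type*} [Group G] [Finite G] (h : ∀ g : G, IsPrimePow (orderOf g) ∨ g = 1)
    (a b : G) (hab : a * b = b * a) (hcop : (orderOf a).Coprime (orderOf b)) : a = 1 ∨ b = 1 := by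
  by_contra hcon
  rw [not_or] at hcon
  obtain ⟨ha, hb⟩ := hcon
  have ho : orderOf (a * b) = orderOf a * orderOf b :=
    Commute.orderOf_mul_eq_mul_orderOf_of_coprime hab hcop
  rcases h (a * b) with hpp | h1
  · rw [ho] at hpp
    obtain ⟨p, k, hp, hk, hpk⟩ := (isPrimePow_nat_iff _).mp hpp
    have ha' : orderOf a ∣ p ^ k := Dvd.intro _ hpk.symm
    have hb' : orderOf b ∣ p ^ k := Dvd.intro_left _ hpk.symm
    obtain ⟨i, hi, hai⟩ := (Nat.dvd_prime_pow hp).mp ha'
    obtain ⟨j, hj, hbj⟩ := (Nat.dvd_prime_pow hp).mp hb'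
    have hi0 : i ≠ 0 := by
      rintro rfl; rw [pow_zero] at hai; exact ha (orderOf_eq_one_iff.mp hai)
    have hj0 : j ≠ 0 := by
      rintro rfl; rw [pow_zero] at hbj; exact hb (orderOf_eq_one_iff.mp hbj)
    have : p ∣ Nat.gcd (orderOf a) (orderOf b) :=
      Nat.dvd_gcd (hai ▸ dvd_pow_self p hi0) (hbj ▸ dvd_pow_self p hj0)
    rw [hcop] at this
    exact hp.one_lt.ne' (Nat.dvd_one.mp this)
  · have h2 : orderOf (a * b) = 1 := by rw [h1, orderOf_one]
    rw [ho] at h2
    have h3 : orderOf a = 1 := Nat.eq_one_of_mul_eq_one_right h2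
    exact ha (orderOf_eq_one_iff.mp h3)

/-- A nontrivial finite solvable group has a nontrivial normal elementary abelian subgroup. -/
theorem exists_normal_elementary {G : Type*} [Group G] [Finite G] [hs : Group.IsSolvable G]
    [Nontrivial G] :
    ∃ (p : ℕ) (N : Subgroup G), p.Prime ∧ N.Normal ∧ N ≠ ⊥ ∧ (∀ a ∈ N, ∀ b ∈ N, a * b = b * a) ∧
      ∀ a ∈ N, a ^ p = 1 := by
  classical
  have hex : ∃ n, derivedSeries G n = ⊥ := hs.solvable
  have hn0 : Nat.find hex ≠ 0 := by
    intro h0
    have := Nat.find_spec hex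
    rw [h0, derivedSeries_zero] at this
    exact top_ne_bot this
  obtain ⟨k, hk⟩ : ∃ k, Nat.find hex = k + 1 := Nat.exists_eq_succ_of_ne_zero hn0
  set A := derivedSeries G k with hA
  have hAne : A ≠ ⊥ := by
    intro h
    exact Nat.find_min hex (m := k) (by omega) h
  have hAcomm : ∀ a ∈ A, ∀ b ∈ A, a * b = b * a := by
    have h1 : ⁅A, A⁆ = ⊥ := by
      have := Nat.find_spec hex
      rw [hk, derivedSeries_succ] at this
      exact this
    have h2 := Subgroup.commutator_eq_bot_iff_le_centralizer.mp h1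
    intro a ha b hb
    exact (Subgroup.mem_centralizer_iff.mp (h2 ha) b hb).symm
  have hAn : A.Normal := derivedSeries_normal G k
  have hcard : Nat.card A ≠ 1 := by
    have := (Subgroup.one_lt_card_iff_ne_bot _).mpr hAne
    omega
  set p := (Nat.card A).minFac with hp
  have hpp : p.Prime := Nat.minFac_prime hcard
  haveI : Fact p.Prime := ⟨hpp⟩
  obtain ⟨a, ha⟩ := exists_prime_orderOf_dvd_card' (G := A) p (Nat.minFac_dvd _)
  let N : Subgroup G :=
    { carrier := {g | g ∈ A ∧ g ^ p = 1}
      mul_mem' := fun {x y} hx hy => ⟨A.mul_mem hx.1 hy.1, by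
        rw [(show Commute x y from hAcomm x hx.1 y hy.1).mul_pow, hx.2, hy.2, one_mul]⟩
      one_mem' := ⟨A.one_mem, one_pow p⟩
      inv_mem' := fun {x} hx => ⟨A.inv_mem hx.1, by rw [inv_pow, hx.2, inv_one]⟩ }
  refine ⟨p, N, hpp, ?_, ?_, ?_, ?_⟩
  · constructor
    intro g hg x
    exact ⟨hAn.conj_mem g hg.1 x, by rw [conj_pow, hg.2]; group⟩
  · intro h
    have hmem : (a : G) ∈ N := ⟨a.2, by rw [← Subgroup.coe_pow, ← ha, pow_orderOf_eq_one]; rfl⟩
    rw [h, Subgroup.mem_bot] at hmem
    have ha1 : a = 1 := Subtype.ext hmem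
    rw [ha1, orderOf_one] at ha
    exact hpp.one_lt.ne' ha.symm
  · intro x hx y hy; exact hAcomm x hx.1 y hy.1
  · intro x hx; exact hx.2

theorem eppo_quotient {G : Type*} [Group G] [Finite G]
    (h : ∀ g : G, IsPrimePow (orderOf g) ∨ g = 1) (N : Subgroup G) [N.Normal] :
    ∀ q : G ⧸ N, IsPrimePow (orderOf q) ∨ q = 1 := by
  intro q
  obtain ⟨g, rfl⟩ := QuotientGroup.mk_surjective q
  rcases h g with hpp | h1
  · obtain ⟨p, k, hp, hk, hpk⟩ := (isPrimePow_nat_iff _).mp hpp
    have hdvd : orderOf (g : G ⧸ N) ∣ p ^ k := by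
      rw [hpk]
      apply orderOf_dvd_of_pow_eq_one
      rw [← QuotientGroup.mk_pow, pow_orderOf_eq_one]
      rfl
    obtain ⟨j, hj, hoj⟩ := (Nat.dvd_prime_pow hp).mp hdvd
    rcases Nat.eq_zero_or_pos j with h0 | hpos
    · right; rw [h0, pow_zero] at hoj; exact orderOf_eq_one_iff.mp hoj
    · left; rw [isPrimePow_nat_iff]; exact ⟨p, j, hp, hpos, hoj.symm⟩
  · right; rw [h1]; rfl

theorem eppo_subgroup {G : Type*} [Group G]
    (h : ∀ g : G, IsPrimePow (orderOf g) ∨ g = 1) (H : Subgroup G) :
    ∀ x : H, IsPrimePow (orderOf x) ∨ x = 1 := by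
  intro x
  rcases h (x : G) with hpp | h1
  · left; rwa [Subgroup.orderOf_coe] at hpp
  · right; exact Subtype.ext h1

universe u

theorem main (n : ℕ) : ∀ (G : Type u) [Group G] [Finite G] [Group.IsSolvable G], Nat.card G = n →
    (∀ g : G, IsPrimePow (orderOf g) ∨ g = 1) → (Nat.card G).primeFactors.card ≤ 2 := by
  induction n using Nat.strong_induction_on with
  | _ n ih =>
    intro G _ _ _ hn h
    by_contra hcon
    rw [not_le] at hcon
    have hnt : Nontrivial G := by
      by_contra hnt
      rw [not_nontrivial_iff_subsingleton] at hnt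
      have : Nat.card G = 1 := Nat.card_of_subsingleton 1
      rw [this] at hcon
      simp at hcon
    obtain ⟨p, N, hp, hNn, hNne, hNcomm, hNp⟩ := exists_normal_elementary (G := G)
    haveI := hNn
    haveI : Fact p.Prime := ⟨hp⟩
    have hNpg : IsPGroup p N := fun g => ⟨1, by
      rw [pow_one]; exact Subtype.ext (by simpa using hNp g g.2)⟩
    obtain ⟨j, hj⟩ := IsPGroup.iff_card.mp hNpg
    have hNcard1 : 1 < Nat.card N := (Subgroup.one_lt_card_iff_ne_bot _).mpr hNne
    have hj0 : j ≠ 0 := by
      rintro rfl; rw [pow_zero] at hj; omega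
    have hmul : Nat.card G = Nat.card (G ⧸ N) * Nat.card N :=
      Subgroup.card_eq_card_quotient_mul_card_subgroup N
    have hqpos : 0 < Nat.card (G ⧸ N) := Nat.card_pos
    have hlt : Nat.card (G ⧸ N) < n := by
      rw [← hn, hmul]
      nlinarith
    have ihq := ih _ hlt (G ⧸ N) rfl (eppo_quotient h N)
    have hpf : (Nat.card G).primeFactors = (Nat.card (G ⧸ N)).primeFactors ∪ {p} := by
      rw [hmul, Nat.primeFactors_mul hqpos.ne' (Nat.card_pos.ne'), hj,
        Nat.primeFactors_prime_pow hj0 hp]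
    have hpnot : p ∉ (Nat.card (G ⧸ N)).primeFactors := by
      intro hmem
      rw [hpf, Finset.union_eq_left.mpr (Finset.singleton_subset_iff.mpr hmem)] at hcon
      omega
    have hcard2 : 2 ≤ (Nat.card (G ⧸ N)).primeFactors.card := by
      rw [hpf] at hcon
      have := Finset.card_union_le (Nat.card (G ⧸ N)).primeFactors {p}
      rw [Finset.card_singleton] at this
      omega
    have hpdvd : ¬ p ∣ Nat.card (G ⧸ N) := fun hd =>
      hpnot (Nat.mem_primeFactors.mpr ⟨hp, hd, hqpos.ne'⟩)
    have hcop : (Nat.card N).Coprime N.index := by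
      rw [hj, Subgroup.index_eq_card]
      apply Nat.Coprime.pow_left
      exact (Nat.Prime.coprime_iff_not_dvd hp).mpr hpdvd
    obtain ⟨H, hH⟩ := Subgroup.exists_right_complement'_of_coprime hcop
    have hHcard : Nat.card H = Nat.card (G ⧸ N) := by
      have := hH.symm.index_eq_card
      rw [← this, Subgroup.index_eq_card]
    have hHnt : Nontrivial H := by
      rw [← Finite.one_lt_card_iff_nontrivial, hHcard]
      by_contra hle
      have : Nat.card (G ⧸ N) = 1 := by omega
      rw [this] at hcard2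
      simp at hcard2
    obtain ⟨s, M, hs, hMn, hMne, hMcomm, hMs⟩ := exists_normal_elementary (G := H)
    haveI : Fact s.Prime := ⟨hs⟩
    have hMpg : IsPGroup s M := fun g => ⟨1, by
      rw [pow_one]; exact Subtype.ext (by simpa using hMs g g.2)⟩
    obtain ⟨e, he⟩ := IsPGroup.iff_card.mp hMpg
    have hMcard1 : 1 < Nat.card M := (Subgroup.one_lt_card_iff_ne_bot _).mpr hMne
    have he0 : e ≠ 0 := by
      rintro rfl; rw [pow_zero] at he; omega
    have hsdvd : s ∣ Nat.card H := by
      have h1 : Nat.card M ∣ Nat.card H := Subgroup.card_subgroup_dvd_card M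
      rw [he] at h1
      exact (dvd_pow_self s he0).trans h1
    have hsp : s ≠ p := by
      rintro rfl
      rw [hHcard] at hsdvd
      exact hpdvd hsdvd
    obtain ⟨t, ht_mem, hts⟩ := Finset.exists_mem_ne (s := (Nat.card (G ⧸ N)).primeFactors)
      (by omega) s
    have htp : t.Prime := Nat.prime_of_mem_primeFactors ht_mem
    haveI : Fact t.Prime := ⟨htp⟩
    have htdvd : t ∣ Nat.card H := by
      rw [hHcard]; exact Nat.dvd_of_mem_primeFactors ht_mem
    obtain ⟨x, hx⟩ := exists_prime_orderOf_dvd_card' (G := H) t htdvd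
    have hx1 : x ≠ 1 := by
      rintro rfl
      rw [orderOf_one] at hx
      exact htp.one_lt.ne' hx.symm
    have hncH := nc_of_eppo (eppo_subgroup h H)
    have hncG := nc_of_eppo h
    have hcopHN : (Nat.card H).Coprime (Nat.card N) := by
      rw [hHcard, hj]
      apply Nat.Coprime.pow_right
      exact ((Nat.Prime.coprime_iff_not_dvd hp).mpr hpdvd).symm
    letI : CommGroup N :=
      { (inferInstance : Group N) with
        mul_comm := fun a b => Subtype.ext (hNcomm a a.2 b b.2) }
    let act : H →* MulAut N := (MulAut.conjNormal (H := N)).comp H.subtype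
    have hNtriv : ∀ a : N, a = 1 := by
      apply fpf_action_trivial act ?_ M hMne x hx1 ?_ ?_ ?_
      · intro k hk a hka
        have h1 : (k : G) * (a : G) * (k : G)⁻¹ = (a : G) := by
          have := congrArg Subtype.val hka
          simpa [act] using this
        have h2 : (k : G) * (a : G) = (a : G) * (k : G) := by
          calc (k : G) * (a : G) = ((k : G) * (a : G) * (k : G)⁻¹) * (k : G) := by group
            _ = (a : G) * (k : G) := by rw [h1]
        have h3 : (orderOf (k : G)).Coprime (orderOf (a : G)) := by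
          apply Nat.Coprime.coprime_dvd_left _ (Nat.Coprime.coprime_dvd_right _ hcopHN)
          · rw [Subgroup.orderOf_coe]; exact orderOf_dvd_natCard k
          · rw [Subgroup.orderOf_coe]; exact orderOf_dvd_natCard a
        rcases hncG (k : G) (a : G) h2 h3 with h4 | h4
        · exact absurd (Subtype.ext h4) hk
        · exact Subtype.ext h4
      · intro m hm
        exact hMn.conj_mem m hm x
      · intro i hi m hm hcomm
        have h3 : (orderOf m).Coprime (orderOf (x ^ i)) := by
          have h1 : orderOf m ∣ s := orderOf_dvd_of_pow_eq_one (hMs m hm)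
          have h2 : orderOf (x ^ i) ∣ t := by rw [← hx]; exact orderOf_pow_dvd i
          exact Nat.Coprime.coprime_dvd_left h1 (Nat.Coprime.coprime_dvd_right h2
            ((Nat.coprime_primes hs htp).mpr hts.symm))
        rcases hncH m (x ^ i) hcomm h3 with h4 | h4
        · exact h4
        · exact absurd h4 hi
      · rw [he, hj]
        exact Nat.Coprime.pow _ _ ((Nat.coprime_primes hs hp).mpr hsp)
    apply hNne
    rw [Subgroup.eq_bot_iff_forall]
    intro a ha
    exact congrArg Subtype.val (hNtriv ⟨a, ha⟩)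

/-- Let G be a finite solvable group such that the order of every element is a prime power (1 included). Then at most two distinct primes divide the order of G. -/
theorem result {G : Type*} [Group G] [Finite G] [Group.IsSolvable G] (h : ∀ g : G, IsPrimePow (orderOf g) ∨ g = 1) :
    (Nat.card G).primeFactors.card ≤ 2 := by
  exact main (Nat.card G) G rfl h

end Cfsg.Agent.S1475
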