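import Cfsg.Statements.S1474
import Cfsg.Agent.H31.CN
import Cfsg.Agent.H31.CN2
import Cfsg.Agent.H31.SZ
import Cfsg.Agent.H31.FitHall
import Cfsg.Agent.S0069

set_option autoImplicit false
open Cfsg

namespace Cfsg.Agent.S1474

universe u

open H31 in
/-- An element commuting with all prime-power-order elements of a subgroup centralizes it. -/
theorem comm_of_forall_isEl {G : Type*} [Group G] [Finite G] (H : Subgroup G) (y : G)
    (h : ∀ q : ℕ, q.Prime → ∀ x ∈ H, IsEl q x → x * y = y * x) : ∀ x ∈ H, x * y = y * x := by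
  have key := eq_top_of_forall_isEl ((Subgroup.centralizer ({y} : Set G)).subgroupOf H) ?_
  · intro x hx
    have h1 : (⟨x, hx⟩ : H) ∈ (Subgroup.centralizer ({y} : Set G)).subgroupOf H :=
      key ▸ Subgroup.mem_top _
    rw [Subgroup.mem_subgroupOf, Subgroup.mem_centralizer_iff] at h1
    exact (h1 y rfl).symm
  · intro q hq x hx
    rw [Subgroup.mem_subgroupOf, Subgroup.mem_centralizer_iff]
    intro y' hy'
    rw [Set.mem_singleton_iff] at hy'
    subst hy'
    exact (h q hq x x.2 hx.coe).symm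

open H31 in
theorem comm_in_nilpotent {G : Type*} [Group G] [Finite G] (C : Subgroup G)
    (hC : Group.IsNilpotent C) {s t : ℕ} (hs : s.Prime) (ht : t.Prime) (hst : s ≠ t) (a b : G)
    (ha : a ∈ C) (hb : b ∈ C) (hae : IsEl s a) (hbe : IsEl t b) : a * b = b * a := by
  have := comm_of_nilpotent hs ht hst (⟨a, ha⟩ : C) ⟨b, hb⟩ (hae.subtype_mk ha) (hbe.subtype_mk hb)
  exact congrArg Subtype.val this

open H31 in
theorem eq_one_of_isEl_of_not_dvd {G : Type*} [Group G] [Finite G] (H : Subgroup G) {s : ℕ}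
    (hs : s.Prime) (hsH : ¬ s ∣ Nat.card H) (x : G) (hx : x ∈ H) (hxe : IsEl s x) : x = 1 := by
  obtain ⟨k, hk⟩ := hxe
  have h1 : orderOf x ∣ s ^ k := orderOf_dvd_of_pow_eq_one hk
  have h2 : orderOf x ∣ Nat.card H := Subgroup.orderOf_dvd_natCard H hx
  obtain ⟨j, _, hj⟩ := (Nat.dvd_prime_pow hs).mp h1
  rcases Nat.eq_zero_or_pos j with h0 | h0
  · rw [h0, pow_zero] at hj
    exact orderOf_eq_one_iff.mp hj
  · exact absurd ((dvd_pow_self s h0.ne').trans (hj ▸ h2)) hsH

open H31 in
theorem nilpotent_of_le {G : Type*} [Group G] {H C : Subgroup G} (h : H ≤ C)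
    (hC : Group.IsNilpotent C) : Group.IsNilpotent H := by
  have : Group.IsNilpotent (H.subgroupOf C) := Subgroup.isNilpotent _
  exact Group.nilpotent_of_mulEquiv (Subgroup.subgroupOfEquivOfLe h)

open H31 in
theorem fpf_core {G : Type*} [Group G] [Finite G] (hCN : Cfsg.IsCNGroup G) (p : ℕ) [Fact p.Prime]
    (P : Sylow p G) (hPn : (P : Subgroup G).Normal) (z : G) (hzP : z ∈ (P : Subgroup G)) (hz1 : z ≠ 1)
    (H : Subgroup G) [H.Normal] (hHC : H ≤ Subgroup.centralizer ({z} : Set G))
    (hPH : (P : Subgroup G) ≤ H)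
    (hHmax : ∀ S : Subgroup G, S.Normal → Group.IsNilpotent S → (Nat.card S).Coprime S.index → S ≤ H)
    (s : ℕ) (hs : s.Prime) (hsH : ¬ s ∣ Nat.card H) (e : G) (he1 : e ≠ 1) (hes : IsEl s e)
    (h : G) (hh : h ∈ H) (hh1 : h ≠ 1) (hcomm : h * e = e * h) : False := by
  classical
  have hpp : p.Prime := Fact.out
  haveI : Fact s.Prime := ⟨hs⟩
  have hzp : IsEl p z := isEl_of_isPGroup P.2 hzP
  have hsp : s ≠ p := by
    rintro rfl
    exact hz1 (eq_one_of_isEl_of_not_dvd H hs hsH z (hPH hzP) hzp)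
  have hCz : Group.IsNilpotent (Subgroup.centralizer ({z} : Set G)) := hCN z hz1
  -- e centralizes z
  have hez : e * z = z * e := by
    have hCh : Group.IsNilpotent (Subgroup.centralizer ({h} : Set G)) := hCN h hh1
    refine comm_in_nilpotent _ hCh hs hpp hsp e z ?_ ?_ hes hzp
    · rw [Subgroup.mem_centralizer_iff]
      intro y hy
      rw [Set.mem_singleton_iff] at hy
      subst hy
      exact hcomm
    · have := hHC hh
      rw [Subgroup.mem_centralizer_iff] at this
      rw [Subgroup.mem_centralizer_iff]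
      intro y hy
      rw [Set.mem_singleton_iff] at hy
      subst hy
      exact (this z rfl).symm
  have heC : e ∈ Subgroup.centralizer ({z} : Set G) := by
    rw [Subgroup.mem_centralizer_iff]
    intro y hy
    rw [Set.mem_singleton_iff] at hy
    subst hy
    exact hez.symm
  -- e centralizes H
  have heH : ∀ x ∈ H, x * e = e * x := by
    apply comm_of_forall_isEl
    intro q hq x hx hxe
    by_cases hqs : q = s
    · subst hqs
      rw [eq_one_of_isEl_of_not_dvd H hq hsH x hx hxe, one_mul, mul_one]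
    · exact comm_in_nilpotent _ hCz hq hs hqs x e (hHC hx) heC hxe hes
  -- D = C_G(H)
  set D : Subgroup G := Subgroup.centralizer (H : Set G) with hD
  have hDn : D.Normal := inferInstance
  have hDC : D ≤ Subgroup.centralizer ({z} : Set G) :=
    Subgroup.centralizer_le (Set.singleton_subset_iff.mpr (hPH hzP))
  have hDnil : Group.IsNilpotent D := nilpotent_of_le hDC hCz
  have heD : e ∈ D := by
    rw [hD, Subgroup.mem_centralizer_iff]
    intro x hx
    exact heH x hx
  obtain ⟨S, hS⟩ := (isPGroup_zpowers_of_isEl hes).exists_le_sylow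
  have heS : e ∈ (S : Subgroup G) := hS (Subgroup.mem_zpowers e)
  have hT1 : (S : Subgroup G) ⊓ D ≠ ⊥ := by
    intro hbot
    have : e ∈ (S : Subgroup G) ⊓ D := Subgroup.mem_inf.mpr ⟨heS, heD⟩
    rw [hbot, Subgroup.mem_bot] at this
    exact he1 this
  obtain ⟨w, hwT, hw1, hwc⟩ := exists_fixed_in_pgroup hs (S : Subgroup G) ((S : Subgroup G) ⊓ D) S.2
    (S.2.to_le inf_le_left) hT1 (by
      intro a ha b hb
      obtain ⟨hb1, hb2⟩ := Subgroup.mem_inf.mp hb
      exact Subgroup.mem_inf.mpr ⟨mul_mem (mul_mem ha hb1) (inv_mem ha), hDn.conj_mem b hb2 a⟩)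
  obtain ⟨hwS, hwD⟩ := Subgroup.mem_inf.mp hwT
  have hCw : Group.IsNilpotent (Subgroup.centralizer ({w} : Set G)) := hCN w hw1
  have hHw : H ≤ Subgroup.centralizer ({w} : Set G) := by
    intro x hx
    rw [Subgroup.mem_centralizer_iff]
    intro y hy
    rw [Set.mem_singleton_iff] at hy
    subst hy
    rw [hD, Subgroup.mem_centralizer_iff] at hwD
    exact (hwD x hx).symm
  have hSw : (S : Subgroup G) ≤ Subgroup.centralizer ({w} : Set G) := by
    intro a ha
    rw [Subgroup.mem_centralizer_iff]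
    intro y hy
    rw [Set.mem_singleton_iff] at hy
    subst hy
    exact (hwc a ha).symm
  have hSD : (S : Subgroup G) ≤ D := by
    intro a ha
    rw [hD, Subgroup.mem_centralizer_iff]
    apply comm_of_forall_isEl
    intro q hq x hx hxe
    by_cases hqs : q = s
    · subst hqs
      rw [eq_one_of_isEl_of_not_dvd H hq hsH x hx hxe, one_mul, mul_one]
    · exact comm_in_nilpotent _ hCw hq hs hqs x a (hHw hx) (hSw ha) hxe (isEl_of_isPGroup S.2 ha)
  have hSn : (S : Subgroup G).Normal := by
    constructor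
    intro x hx g
    have hxe : IsEl s x := isEl_of_isPGroup S.2 hx
    have hgD : g * x * g⁻¹ ∈ D := hDn.conj_mem x (hSD hx) g
    haveI := hDnil
    have h1 : (⟨g * x * g⁻¹, hgD⟩ : D) ∈ ((S.subtype hSD : Sylow s D) : Subgroup D) :=
      mem_sylow_of_isEl (S.subtype hSD) ⟨g * x * g⁻¹, hgD⟩ ((hxe.conj g).subtype_mk hgD)
    rw [Sylow.coe_subtype, Subgroup.mem_subgroupOf] at h1
    exact h1
  have hSH : (S : Subgroup G) ≤ H := hHmax S hSn S.2.isNilpotent S.card_coprime_index
  exact he1 (eq_one_of_isEl_of_not_dvd H hs hsH e (hSH heS) hes)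

/-- Let G be a finite group in which every non-identity element has nilpotent centralizer, not itself nilpotent, and having a nontrivial normal Sylow p-subgroup for some prime p. Let H be the largest normal nilpotent Hall subgroup of G. Then H is a nontrivial proper normal subgroup with a complement E that is a Frobenius complement in G (no non-identity element of E centralizes a non-identity element of H), and G/H is nilpotent. -/
theorem result {G : Type*} [Group G] [Finite G] (hCN : Cfsg.IsCNGroup G) (hnn : ¬ Group.IsNilpotent G) (p : ℕ) [Fact p.Prime] (P : Sylow p G)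
    (hP1 : (P : Subgroup G) ≠ ⊥) (hPn : (P : Subgroup G).Normal) :
    Cfsg.fittingHall G ≠ ⊥ ∧ Cfsg.fittingHall G ≠ ⊤ ∧
      (∃ E : Subgroup G, Subgroup.IsComplement' (Cfsg.fittingHall G) E ∧ Cfsg.IsFrobeniusComplement E ∧
        ∀ e ∈ E, e ≠ 1 → Cfsg.fittingHall G ⊓ Subgroup.centralizer ({e} : Set G) = ⊥) ∧
      Group.IsNilpotent (G ⧸ Cfsg.fittingHall G) := by
  classical
  haveI hPn' : (P : Subgroup G).Normal := hPn
  have hpp : p.Prime := Fact.out
  obtain ⟨z, hzP, hz1, hzc⟩ := H31.exists_fixed_in_pgroup hpp (P : Subgroup G) (P : Subgroup G) P.2 P.2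
    hP1 (fun a ha b hb => mul_mem (mul_mem ha hb) (inv_mem ha))
  have hCnil : Group.IsNilpotent (Subgroup.centralizer ({z} : Set G)) := hCN z hz1
  have hN : Subgroup.normalizer ((P : Subgroup G) : Set G) = ⊤ :=
    Subgroup.normalizer_eq_top (P : Subgroup G)
  have hPel : ∀ x : G, H31.IsEl p x → x ∈ (P : Subgroup G) := fun x hx =>
    H31.mem_of_isEl_of_normalizer hpp (P : Subgroup G) x hx (by rw [hN]; exact Subgroup.mem_top _)
      P.not_dvd_index
  obtain ⟨nP, hnP⟩ := IsPGroup.iff_card.mp P.2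
  -- every normal nilpotent subgroup centralizes z
  have hNC : ∀ N : Subgroup G, N.Normal → Group.IsNilpotent N →
      N ≤ Subgroup.centralizer ({z} : Set G) := by
    intro N hNn hNnil x hx
    rw [Subgroup.mem_centralizer_iff]
    intro y hy
    rw [Set.mem_singleton_iff] at hy
    subst hy
    refine (comm_of_forall_isEl N y ?_ x hx).symm
    intro q hq x hx hxe
    by_cases hqp : q = p
    · subst hqp; exact hzc x (hPel x hxe)
    · haveI : Fact q.Prime := ⟨hq⟩
      haveI := hNnil
      let Q : Sylow q N := default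
      have hQn' : (Q : Subgroup N).Normal := inferInstance
      have hQc : (Q : Subgroup N).Characteristic := Sylow.characteristic_of_normal Q hQn'
      have hQn : ((Q : Subgroup N).map N.subtype).Normal :=
        ConjAct.normal_of_characteristic_of_normal
      have hxQ : x ∈ (Q : Subgroup N).map N.subtype :=
        ⟨⟨x, hx⟩, H31.mem_sylow_of_isEl Q ⟨x, hx⟩ (hxe.subtype_mk hx), rfl⟩
      have hc1 : x * y * x⁻¹ * y⁻¹ ∈ (Q : Subgroup N).map N.subtype := by
        have h1 := hQn.conj_mem x⁻¹ (inv_mem hxQ) y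
        have h2 := mul_mem hxQ h1
        simpa [mul_assoc] using h2
      have hc2 : x * y * x⁻¹ * y⁻¹ ∈ (P : Subgroup G) :=
        mul_mem (hPn.conj_mem y hzP x) (inv_mem hzP)
      have hcop : (Nat.card ((Q : Subgroup N).map N.subtype)).Coprime (Nat.card (P : Subgroup G)) := by
        obtain ⟨nQ, hnQ⟩ := IsPGroup.iff_card.mp Q.2
        rw [Subgroup.card_map_of_injective (Subgroup.subtype_injective _), hnQ, hnP]
        exact Nat.Coprime.pow _ _ ((Nat.coprime_primes hq hpp).mpr hqp)
      have h3 := H31.eq_one_of_mem_of_coprime _ _ hcop _ hc1 hc2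
      calc x * y = (x * y * x⁻¹ * y⁻¹) * (y * x) := by group
        _ = y * x := by rw [h3, one_mul]
  have hHC : Cfsg.fittingHall G ≤ Subgroup.centralizer ({z} : Set G) :=
    sSup_le (fun N hN => hNC N hN.1 hN.2.1)
  have hHnil : Group.IsNilpotent (Cfsg.fittingHall G) := nilpotent_of_le hHC hCnil
  have hPH : (P : Subgroup G) ≤ Cfsg.fittingHall G :=
    le_sSup ⟨hPn, P.2.isNilpotent, P.card_coprime_index⟩
  have hHmax : ∀ S : Subgroup G, S.Normal → Group.IsNilpotent S → (Nat.card S).Coprime S.index →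
      S ≤ Cfsg.fittingHall G := fun S h1 h2 h3 => le_sSup ⟨h1, h2, h3⟩
  have hH1 : Cfsg.fittingHall G ≠ ⊥ := by
    intro h
    rw [h] at hPH
    exact hP1 (le_bot_iff.mp hPH)
  have hHtop : Cfsg.fittingHall G ≠ ⊤ := by
    intro h
    apply hnn
    rw [h] at hHnil
    exact Group.nilpotent_of_mulEquiv (Subgroup.topEquiv : (⊤ : Subgroup G) ≃* G)
  have hHall : (Nat.card (Cfsg.fittingHall G)).Coprime (Cfsg.fittingHall G).index :=
    H31.fittingHall_card_coprime_index' G
  obtain ⟨E, hE⟩ := Subgroup.exists_right_complement'_of_coprime hHall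
  have hEcard : Nat.card E = (Cfsg.fittingHall G).index := by
    have h1 := hE.card_mul_card
    have h2 := (Cfsg.fittingHall G).card_mul_index
    have hpos : 0 < Nat.card (Cfsg.fittingHall G) := Nat.card_pos
    exact Nat.eq_of_mul_eq_mul_left hpos (h1.trans h2.symm)
  have hHE : (Nat.card (Cfsg.fittingHall G)).Coprime (Nat.card E) := by rw [hEcard]; exact hHall
  have hHEbot : ∀ c, c ∈ Cfsg.fittingHall G → c ∈ E → c = 1 := fun c h1 h2 =>
    H31.eq_one_of_mem_of_coprime _ _ hHE c h1 h2
  -- fixed-point-free action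
  have hfpf : ∀ e ∈ E, e ≠ 1 → Cfsg.fittingHall G ⊓ Subgroup.centralizer ({e} : Set G) = ⊥ := by
    intro e he he1
    rw [eq_bot_iff]
    intro h hh
    obtain ⟨hhH, hhc⟩ := Subgroup.mem_inf.mp hh
    rw [Subgroup.mem_bot]
    by_contra hh1
    obtain ⟨s, m, hs, hem1, hems, hsdvd⟩ := H31.exists_prime_order_pow e he1
    have he'E : e ^ m ∈ E := E.pow_mem he m
    have hcomm : h * e ^ m = e ^ m * h := by
      rw [Subgroup.mem_centralizer_iff] at hhc
      have h1 : Commute e h := hhc e rfl
      exact (h1.pow_left m).eq.symm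
    have hsH : ¬ s ∣ Nat.card (Cfsg.fittingHall G) := by
      intro hdvd
      have h1 : s ∣ Nat.card E := hsdvd.trans (Subgroup.orderOf_dvd_natCard E he)
      have := Nat.dvd_gcd hdvd h1
      rw [Nat.Coprime.gcd_eq_one hHE] at this
      exact hs.one_lt.ne' (Nat.dvd_one.mp this)
    exact fpf_core hCN p P hPn z hzP hz1 (Cfsg.fittingHall G) hHC hPH hHmax s hs hsH (e ^ m) hem1 hems
      h hhH hh1 hcomm
  have hsup : Cfsg.fittingHall G ⊔ E = ⊤ := hE.sup_eq_top
  have hE1 : E ≠ ⊥ := by
    intro h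
    rw [h, sup_bot_eq] at hsup
    exact hHtop hsup
  have hEtop : E ≠ ⊤ := by
    intro h
    apply hH1
    rw [eq_bot_iff]
    intro c hc
    rw [Subgroup.mem_bot]
    exact hHEbot c hc (by rw [h]; exact Subgroup.mem_top c)
  refine ⟨hH1, hHtop, ⟨E, hE, ⟨hE1, hEtop, ?_⟩, hfpf⟩, ?_⟩
  · intro g hg
    rw [eq_bot_iff]
    intro x hx
    obtain ⟨hx1, hx2⟩ := Subgroup.mem_inf.mp hx
    rw [Subgroup.mem_bot]
    by_contra hxne
    rw [Subgroup.mem_pointwise_smul_iff_inv_smul_mem, MulAut.smul_def, MulAut.conj_inv_apply] at hx2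
    have hgtop : g ∈ Cfsg.fittingHall G ⊔ E := by rw [hsup]; exact Subgroup.mem_top g
    obtain ⟨h, hh, e₀, he₀, rfl⟩ := Subgroup.mem_sup_of_normal_left.mp hgtop
    have hh1 : h ≠ 1 := by
      rintro rfl
      rw [one_mul] at hg
      exact hg he₀
    have h1 : h⁻¹ * x * h ∈ E := by
      have := mul_mem (mul_mem he₀ hx2) (inv_mem he₀)
      have h2 : e₀ * ((h * e₀)⁻¹ * x * (h * e₀)) * e₀⁻¹ = h⁻¹ * x * h := by group
      rwa [h2] at this
    have h2 : x⁻¹ * (h⁻¹ * x * h) ∈ Cfsg.fittingHall G := by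
      have h3 := (inferInstance : (Cfsg.fittingHall G).Normal).conj_mem h⁻¹ (inv_mem hh) x⁻¹
      have h4 := mul_mem h3 hh
      have h5 : x⁻¹ * h⁻¹ * x⁻¹⁻¹ * h = x⁻¹ * (h⁻¹ * x * h) := by group
      rwa [h5] at h4
    have h3 := hHEbot _ h2 (mul_mem (inv_mem hx1) h1)
    have h4 : h ∈ Cfsg.fittingHall G ⊓ Subgroup.centralizer ({x} : Set G) := by
      refine Subgroup.mem_inf.mpr ⟨hh, ?_⟩
      rw [Subgroup.mem_centralizer_iff]
      intro y hy
      rw [Set.mem_singleton_iff] at hy
      subst hy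
      have h5 : h⁻¹ * y * h = y := by
        have := congrArg (fun t => y * t) h3
        simpa using this
      calc y * h = h * (h⁻¹ * y * h) := by group
        _ = h * y := by rw [h5]
    rw [hfpf x hx1 hxne, Subgroup.mem_bot] at h4
    exact hh1 h4
  · have hcen := Cfsg.Agent.S0069.result (Cfsg.fittingHall G) E hE hH1 hE1 hfpf
    obtain ⟨c, hc1⟩ := (Subgroup.ne_bot_iff_exists_ne_one).mp hcen
    have hcG1 : ((c : E) : G) ≠ 1 := by
      intro h
      apply hc1
      ext
      exact h
    have hCc : Group.IsNilpotent (Subgroup.centralizer ({((c : E) : G)} : Set G)) := hCN _ hcG1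
    have hEC : E ≤ Subgroup.centralizer ({((c : E) : G)} : Set G) := by
      intro x hx
      rw [Subgroup.mem_centralizer_iff]
      intro y hy
      rw [Set.mem_singleton_iff] at hy
      subst hy
      have := Subgroup.mem_center_iff.mp c.2 ⟨x, hx⟩
      exact (congrArg Subtype.val this).symm
    haveI := hCc
    refine Group.nilpotent_of_surjective ((QuotientGroup.mk' (Cfsg.fittingHall G)).comp
      (Subgroup.centralizer ({((c : E) : G)} : Set G)).subtype) ?_
    intro q
    obtain ⟨g, rfl⟩ := QuotientGroup.mk'_surjective _ q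
    have hgtop : g ∈ Cfsg.fittingHall G ⊔ E := by rw [hsup]; exact Subgroup.mem_top g
    obtain ⟨h, hh, e₀, he₀, rfl⟩ := Subgroup.mem_sup_of_normal_left.mp hgtop
    refine ⟨⟨e₀, hEC he₀⟩, ?_⟩
    simp only [MonoidHom.comp_apply, Subgroup.coe_subtype, QuotientGroup.mk'_apply]
    rw [QuotientGroup.eq]
    have := (inferInstance : (Cfsg.fittingHall G).Normal).conj_mem h hh e₀⁻¹
    simpa [mul_assoc] using this

end Cfsg.Agent.S1474
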