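import Cfsg.Statements.S1476
import Cfsg.Agent.H31.CNSolv

set_option autoImplicit false
open Cfsg

namespace Cfsg.Agent.S1476

universe u

open H31 in
open Cfsg.Agent.S1474 (comm_of_forall_isEl comm_in_nilpotent eq_one_of_isEl_of_not_dvd nilpotent_of_le) in
theorem three_step_core {G : Type u} [Group G] [Finite G] [hsol : Group.IsSolvable G]
    (hCN : IsCNGroup G) (hnn : ¬ Group.IsNilpotent G) (p : ℕ) [Fact p.Prime]
    (P : Subgroup G) [hPn : P.Normal] (hPp : IsPGroup p P) (hP1 : P ≠ ⊥)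
    (hPmax : ∀ N : Subgroup G, N.Normal → IsPGroup p N → N ≤ P)
    (hCP : Subgroup.centralizer (P : Set G) ≤ P) (hPidx : p ∣ P.index) :
    P ≠ ⊥ ∧ ∃ A : Subgroup G, A ≠ ⊥ ∧ IsCyclic A ∧ Odd (Nat.card A) ∧ (Nat.card A).Coprime p ∧
      (P ⊔ A).Normal ∧ P ⊔ A ≠ ⊤ ∧ (∃ n : ℕ, (P ⊔ A).index = p ^ n) ∧
      (∀ a ∈ A, a ≠ 1 → P ⊓ Subgroup.centralizer ({a} : Set G) = ⊥) ∧
      ∀ x : G, x ∉ P ⊔ A → ∀ a ∈ A, a ≠ 1 → x * a * x⁻¹ * a⁻¹ ∉ P := by
  classical
  have hp : p.Prime := Fact.out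
  -- the subgroup H = O_{p,p'}(G)
  have hπs : Function.Surjective (QuotientGroup.mk' P) := QuotientGroup.mk'_surjective P
  have hker : (QuotientGroup.mk' P).ker = P := QuotientGroup.ker_mk' P
  obtain ⟨H, hHdef⟩ : ∃ H : Subgroup G, H = (pPrimeCore p (G ⧸ P)).comap (QuotientGroup.mk' P) :=
    ⟨_, rfl⟩
  have hmemH : ∀ g : G, g ∈ H ↔ QuotientGroup.mk' P g ∈ pPrimeCore p (G ⧸ P) := by
    intro g; rw [hHdef]; exact Subgroup.mem_comap
  haveI hHn : H.Normal := by
    rw [hHdef]; exact Subgroup.Normal.comap inferInstance _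
  have hPH : P ≤ H := by
    intro x hx
    rw [hmemH]
    have : QuotientGroup.mk' P x = 1 := by rw [← MonoidHom.mem_ker, hker]; exact hx
    rw [this]; exact one_mem _
  have hrel : P.relIndex H = Nat.card (pPrimeCore p (G ⧸ P)) := by
    conv_lhs => rw [← hker]
    rw [Subgroup.relIndex_ker, hHdef, Subgroup.map_comap_eq_self_of_surjective hπs]
  obtain ⟨nP, hnP⟩ := IsPGroup.iff_card.mp hPp
  have hcopH : (Nat.card P).Coprime (P.relIndex H) := by
    rw [hrel, hnP]; exact Nat.Coprime.pow_left _ (card_pPrimeCore_coprime p).symm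
  obtain ⟨A, hAH, hPA, hPAH, hAcard⟩ := exists_rel_complement P H hPH hcopH
  have hAp : (Nat.card A).Coprime p := by rw [hAcard, hrel]; exact card_pPrimeCore_coprime p
  have hPAc : (Nat.card P).Coprime (Nat.card A) := by
    rw [hnP]; exact Nat.Coprime.pow_left _ hAp.symm
  have hPA1 : ∀ c, c ∈ P → c ∈ A → c = 1 := fun c h1 h2 =>
    eq_one_of_mem_of_coprime P A hPAc c h1 h2
  have hpA : ¬ p ∣ Nat.card A := (Nat.Prime.coprime_iff_not_dvd hp).mp hAp.symm
  -- A is nontrivial
  have hA1 : A ≠ ⊥ := by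
    intro hA
    rw [hA, sup_bot_eq] at hPAH
    have hHb : pPrimeCore p (G ⧸ P) = ⊥ := by
      rw [eq_bot_iff]
      intro y hy
      obtain ⟨g, rfl⟩ := hπs y
      have h1 : g ∈ H := (hmemH g).mpr hy
      rw [← hPAH] at h1
      rw [Subgroup.mem_bot]
      exact (QuotientGroup.eq_one_iff g).mpr h1
    by_cases hnt : Nontrivial (G ⧸ P)
    · haveI := hnt
      haveI : Group.IsSolvable (G ⧸ P) := solvable_of_surjective hπs
      obtain ⟨q, Nb, hq, hNbn, hNb1, -, hNbe⟩ :=
        Cfsg.Agent.S1475.exists_normal_elementary (G := G ⧸ P)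
      by_cases hqp : q = p
      · subst hqp
        have hcp : IsPGroup q (Nb.comap (QuotientGroup.mk' P)) := by
          intro x
          have h1 : ((x : G)) ^ q ∈ P := by
            rw [← QuotientGroup.eq_one_iff, QuotientGroup.mk_pow]
            exact hNbe _ x.2
          obtain ⟨j, hj⟩ := hPp ⟨_, h1⟩
          refine ⟨1 + j, Subtype.ext ?_⟩
          have h3 := congrArg Subtype.val hj
          simp only [Subgroup.coe_pow, Subgroup.coe_one] at h3 ⊢
          rw [pow_add, pow_mul, pow_one]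
          exact h3
        have hle := hPmax _ (hNbn.comap (QuotientGroup.mk' P)) hcp
        apply hNb1
        rw [eq_bot_iff]
        intro y hy
        obtain ⟨g, rfl⟩ := hπs y
        rw [Subgroup.mem_bot]
        exact (QuotientGroup.eq_one_iff g).mpr (hle hy)
      · have hNbc : (Nat.card Nb).Coprime p := by
          have hNbq : IsPGroup q Nb := fun x =>
            ⟨1, by rw [pow_one]; exact Subtype.ext (by rw [Subgroup.coe_pow]; exact hNbe x x.2)⟩
          haveI : Fact q.Prime := ⟨hq⟩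
          obtain ⟨k, hk⟩ := IsPGroup.iff_card.mp hNbq
          rw [hk]
          exact Nat.Coprime.pow_left _ ((Nat.coprime_primes hq hp).mpr hqp)
        have h1 := le_pPrimeCore hNbn hNbc
        rw [hHb] at h1
        exact hNb1 (le_bot_iff.mp h1)
    · rw [not_nontrivial_iff_subsingleton] at hnt
      apply hnn
      have htop : ∀ g : G, g ∈ P := by
        intro g
        rw [← hker, MonoidHom.mem_ker]
        exact Subsingleton.elim _ _
      have hG : IsPGroup p G := by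
        intro g
        obtain ⟨k, hk⟩ := hPp ⟨g, htop g⟩
        exact ⟨k, by simpa using congrArg Subtype.val hk⟩
      exact hG.isNilpotent
  -- fixed-point-freeness
  obtain ⟨z, hzP, hz1, hzc⟩ := exists_fixed_in_pgroup hp P P hPp hPp hP1
    (fun a ha b hb => mul_mem (mul_mem ha hb) (inv_mem ha))
  have hfpf : ∀ a ∈ A, a ≠ 1 → P ⊓ Subgroup.centralizer ({a} : Set G) = ⊥ := by
    intro a ha ha1
    rw [eq_bot_iff]
    intro x hx
    obtain ⟨hxP, hxc⟩ := Subgroup.mem_inf.mp hx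
    rw [Subgroup.mem_bot]
    by_contra hx1
    obtain ⟨q, m, hq, ham1, hamq, hqdvd⟩ := exists_prime_order_pow a ha1
    have hqp : q ≠ p := by
      rintro rfl
      exact hpA (hqdvd.trans (Subgroup.orderOf_dvd_natCard A ha))
    have hamA : a ^ m ∈ A := A.pow_mem ha m
    have hxa : x * a ^ m = a ^ m * x := by
      rw [Subgroup.mem_centralizer_iff] at hxc
      have h1 : Commute a x := hxc a rfl
      exact (h1.pow_left m).eq.symm
    have haz : a ^ m * z = z * a ^ m :=
      comm_in_nilpotent _ (hCN x hx1) hq hp hqp (a ^ m) z (mem_cent_single hxa)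
        (mem_cent_single (hzc x hxP)) hamq (isEl_of_isPGroup hPp hzP)
    have haP : a ^ m ∈ Subgroup.centralizer (P : Set G) := by
      rw [Subgroup.mem_centralizer_iff]
      intro y hy
      exact (comm_in_nilpotent _ (hCN z hz1) hq hp hqp (a ^ m) y (mem_cent_single haz.symm)
        (mem_cent_single (hzc y hy).symm) hamq (isEl_of_isPGroup hPp hy)).symm
    exact ham1 (hPA1 _ (hCP haP) hamA)
  -- A is nilpotent
  have hcen := Lib.Helper96.fpf_center_ne_bot (s41 G) P A hP1 hA1 hfpf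
  obtain ⟨c, hc1⟩ := (Subgroup.ne_bot_iff_exists_ne_one).mp hcen
  have hcG1 : ((c : A) : G) ≠ 1 := by
    intro h
    apply hc1
    ext
    exact h
  have hAC : A ≤ Subgroup.centralizer ({((c : A) : G)} : Set G) := by
    intro x hx
    apply mem_cent_single
    have := Subgroup.mem_center_iff.mp c.2 ⟨x, hx⟩
    exact (congrArg Subtype.val this).symm
  have hAnil : Group.IsNilpotent A := nilpotent_of_le hAC (hCN _ hcG1)
  -- p-elements commuting with non-identity elements of A are trivial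
  have hfpf' : ∀ a ∈ A, a ≠ 1 → ∀ y : G, IsEl p y → y * a = a * y → y = 1 := by
    intro a ha ha1 y hy hya
    by_contra hy1
    obtain ⟨x, hxP, hx1, hxc⟩ := exists_fixed_in_pgroup hp (Subgroup.zpowers y) P
      (isPGroup_zpowers_of_isEl hy) hPp hP1 (fun a _ b hb => hPn.conj_mem b hb a)
    have hyx : y * x = x * y := hxc y (Subgroup.mem_zpowers y)
    obtain ⟨q, m, hq, ham1, hamq, hqdvd⟩ := exists_prime_order_pow a ha1
    have hqp : q ≠ p := by
      rintro rfl
      exact hpA (hqdvd.trans (Subgroup.orderOf_dvd_natCard A ha))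
    have hya' : y * a ^ m = a ^ m * y := ((show Commute y a from hya).pow_right m).eq
    have hax : a ^ m * x = x * a ^ m :=
      comm_in_nilpotent _ (hCN y hy1) hq hp hqp (a ^ m) x (mem_cent_single hya')
        (mem_cent_single hyx) hamq (isEl_of_isPGroup hPp hxP)
    have h1 : x ∈ P ⊓ Subgroup.centralizer ({a ^ m} : Set G) :=
      Subgroup.mem_inf.mpr ⟨hxP, mem_cent_single hax⟩
    rw [hfpf (a ^ m) (A.pow_mem ha m) ham1, Subgroup.mem_bot] at h1
    exact hx1 h1
  -- Frattini argument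
  have hPAn : (P ⊔ A).Normal := by rw [hPAH]; exact hHn
  have hPsol : Group.IsSolvable P := inferInstance
  have hfrat : ∀ g : G, ∃ u ∈ P, u⁻¹ * g ∈ Subgroup.normalizer (A : Set G) :=
    frattini_sz P A hPsol hPAn hPAc
  -- a nontrivial p-element normalizing A
  have hex : ∃ y : G, IsEl p y ∧ y ≠ 1 ∧ y ∈ Subgroup.normalizer (A : Set G) := by
    obtain ⟨S, hPS⟩ := hPp.exists_le_sylow
    by_cases hSP : (S : Subgroup G) ≤ P
    · exfalso
      have hSeq : (S : Subgroup G) = P := le_antisymm hSP hPS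
      have := S.not_dvd_index
      rw [hSeq] at this
      exact this hPidx
    · obtain ⟨s, hsS, hsP⟩ := SetLike.not_le_iff_exists.mp hSP
      obtain ⟨u, hu, hun⟩ := hfrat s
      refine ⟨u⁻¹ * s, isEl_of_isPGroup S.2 (mul_mem (inv_mem (hPS hu)) hsS), ?_, hun⟩
      intro h
      apply hsP
      have h1 : u = s := inv_mul_eq_one.mp h
      rw [← h1]; exact hu
  obtain ⟨y₀, hy₀p, hy₀1, hy₀N⟩ := hex
  -- A has odd order
  have hAodd : Odd (Nat.card A) := by
    rw [← Nat.not_even_iff_odd, even_iff_two_dvd]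
    intro h2
    obtain ⟨t, ht⟩ := exists_prime_orderOf_dvd_card' (G := A) 2 h2
    have htG : orderOf (t : G) = 2 := by rw [Subgroup.orderOf_coe]; exact ht
    have ht1 : (t : G) ≠ 1 := by
      intro h
      rw [h, orderOf_one] at htG
      exact absurd htG (by norm_num)
    have ht2 : (t : G) * (t : G) = 1 := by
      rw [← sq, ← htG]; exact pow_orderOf_eq_one _
    have hyt : y₀ * (t : G) * y₀⁻¹ ∈ A := (Subgroup.mem_normalizer_iff.mp hy₀N _).mp t.2
    have h1 : y₀ * (t : G) * y₀⁻¹ ≠ 1 := by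
      intro h
      apply ht1
      have := congrArg (fun w => y₀⁻¹ * w * y₀) h
      simpa [mul_assoc] using this
    have h2' : (y₀ * (t : G) * y₀⁻¹) * (y₀ * (t : G) * y₀⁻¹) = 1 := by
      calc (y₀ * (t : G) * y₀⁻¹) * (y₀ * (t : G) * y₀⁻¹) = y₀ * ((t : G) * (t : G)) * y₀⁻¹ := by
            group
        _ = 1 := by rw [ht2]; group
    have h3 := Lib.Helper96.fpf_involution_unique P A hP1 hfpf t.2 hyt ht1 h1 ht2 h2'
    have hcomm : y₀ * (t : G) = (t : G) * y₀ := by
      calc y₀ * (t : G) = (y₀ * (t : G) * y₀⁻¹) * y₀ := by group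
        _ = (t : G) * y₀ := by rw [← h3]
    exact hy₀1 (hfpf' t t.2 ht1 y₀ hy₀p hcomm)
  -- A is cyclic
  have hAcyc : IsCyclic A := by
    rcases frob_compl_struct P A hP1 hfpf hAnil with h | ⟨C, Q, hCQ, -, -, -, n, ⟨e⟩⟩
    · exact h
    · exfalso
      haveI : NeZero (2 ^ n) := ⟨by positivity⟩
      have h1 : Nat.card Q = 4 * 2 ^ n := by
        rw [Nat.card_congr e.toEquiv, Nat.card_eq_fintype_card, QuaternionGroup.card]
      have hQA : Q ≤ A := hCQ ▸ le_sup_right
      have h2 : 2 ∣ Nat.card A :=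
        (Dvd.intro (2 * 2 ^ n) (by rw [h1]; ring)).trans (Subgroup.card_dvd_of_le hQA)
      exact (Nat.not_even_iff_odd.mpr hAodd) (even_iff_two_dvd.mpr h2)
  obtain ⟨a₀, ha₀A, ha₀1⟩ : ∃ a ∈ A, a ≠ 1 := by
    by_contra hcon
    push Not at hcon
    exact hA1 (eq_bot_iff.mpr (fun x hx => Subgroup.mem_bot.mpr (hcon x hx)))
  -- C_G(A) ≤ H
  have hDH : Subgroup.centralizer (A : Set G) ≤ H := by
    have hDc : (Nat.card (Subgroup.centralizer (A : Set G))).Coprime p := by
      rw [Nat.coprime_comm, Nat.Prime.coprime_iff_not_dvd hp]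
      intro hdvd
      obtain ⟨y, hy⟩ := exists_prime_orderOf_dvd_card' (G := Subgroup.centralizer (A : Set G)) p hdvd
      have hyG : orderOf (y : G) = p := by rw [Subgroup.orderOf_coe]; exact hy
      have hyel : IsEl p (y : G) := ⟨1, by rw [pow_one, ← hyG]; exact pow_orderOf_eq_one _⟩
      have hya : (y : G) * a₀ = a₀ * (y : G) := by
        have h1 := y.2
        rw [Subgroup.mem_centralizer_iff] at h1
        exact (h1 a₀ ha₀A).symm
      have h2 := hfpf' a₀ ha₀A ha₀1 y hyel hya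
      rw [h2, orderOf_one] at hyG
      exact hp.one_lt.ne hyG
    have hDbn : ((Subgroup.centralizer (A : Set G)).map (QuotientGroup.mk' P)).Normal := by
      constructor
      rintro _ ⟨d, hd, rfl⟩ gb
      obtain ⟨g, rfl⟩ := hπs gb
      obtain ⟨u, hu, hun⟩ := hfrat g
      have hπg : QuotientGroup.mk' P g = QuotientGroup.mk' P (u⁻¹ * g) := by
        rw [map_mul, map_inv]
        have h1 : QuotientGroup.mk' P u = 1 := by rw [← MonoidHom.mem_ker, hker]; exact hu
        rw [h1, inv_one, one_mul]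
      rw [hπg, ← map_inv, ← map_mul, ← map_mul]
      refine Subgroup.mem_map_of_mem _ ?_
      rw [Subgroup.mem_centralizer_iff]
      intro a haA
      have ha' : (u⁻¹ * g)⁻¹ * a * (u⁻¹ * g) ∈ A := by
        have := (Subgroup.mem_normalizer_iff.mp (inv_mem hun) a).mp haA
        simpa using this
      have hd' : d ∈ Subgroup.centralizer (A : Set G) := hd
      rw [Subgroup.mem_centralizer_iff] at hd'
      have h1 := hd' _ ha'
      calc a * ((u⁻¹ * g) * d * (u⁻¹ * g)⁻¹)
          = (u⁻¹ * g) * (((u⁻¹ * g)⁻¹ * a * (u⁻¹ * g)) * d) * (u⁻¹ * g)⁻¹ := by group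
        _ = (u⁻¹ * g) * (d * ((u⁻¹ * g)⁻¹ * a * (u⁻¹ * g))) * (u⁻¹ * g)⁻¹ := by rw [h1]
        _ = (u⁻¹ * g) * d * (u⁻¹ * g)⁻¹ * a := by group
    have hDbc : (Nat.card ((Subgroup.centralizer (A : Set G)).map (QuotientGroup.mk' P))).Coprime p :=
      Nat.Coprime.coprime_dvd_left (Subgroup.card_map_dvd _ _) hDc
    have h1 := le_pPrimeCore hDbn hDbc
    intro d hd
    rw [hmemH]
    exact h1 (Subgroup.mem_map_of_mem _ hd)
  -- G / H is abelian
  have habel : ∀ g₁ g₂ : G, (g₂ * g₁)⁻¹ * (g₁ * g₂) ∈ H := by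
    intro g₁ g₂
    obtain ⟨u₁, hu₁, hn₁⟩ := hfrat g₁
    obtain ⟨u₂, hu₂, hn₂⟩ := hfrat g₂
    have hkey : ((u₂⁻¹ * g₂) * (u₁⁻¹ * g₁))⁻¹ * ((u₁⁻¹ * g₁) * (u₂⁻¹ * g₂)) ∈
        Subgroup.centralizer (A : Set G) := by
      haveI := hAcyc
      obtain ⟨m₁, hm₁⟩ := conj_pow_of_cyclic A _ hn₁
      obtain ⟨m₂, hm₂⟩ := conj_pow_of_cyclic A _ hn₂
      generalize u₁⁻¹ * g₁ = n₁ at hm₁ ⊢
      generalize u₂⁻¹ * g₂ = n₂ at hm₂ ⊢
      rw [Subgroup.mem_centralizer_iff]
      intro a ha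
      have h12 : (n₁ * n₂) * a * (n₁ * n₂)⁻¹ = a ^ (m₂ * m₁) := by
        calc (n₁ * n₂) * a * (n₁ * n₂)⁻¹ = n₁ * (n₂ * a * n₂⁻¹) * n₁⁻¹ := by group
          _ = n₁ * (a ^ m₂) * n₁⁻¹ := by rw [hm₂ a ha]
          _ = (a ^ m₂) ^ m₁ := hm₁ _ (A.zpow_mem ha m₂)
          _ = a ^ (m₂ * m₁) := (zpow_mul a m₂ m₁).symm
      have h21 : (n₂ * n₁) * a * (n₂ * n₁)⁻¹ = a ^ (m₂ * m₁) := by
        calc (n₂ * n₁) * a * (n₂ * n₁)⁻¹ = n₂ * (n₁ * a * n₁⁻¹) * n₂⁻¹ := by group
          _ = n₂ * (a ^ m₁) * n₂⁻¹ := by rw [hm₁ a ha]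
          _ = (a ^ m₁) ^ m₂ := hm₂ _ (A.zpow_mem ha m₁)
          _ = a ^ (m₂ * m₁) := by rw [← zpow_mul, mul_comm]
      have h3 : (n₁ * n₂) * a * (n₁ * n₂)⁻¹ = (n₂ * n₁) * a * (n₂ * n₁)⁻¹ := h12.trans h21.symm
      calc a * ((n₂ * n₁)⁻¹ * (n₁ * n₂))
          = (n₂ * n₁)⁻¹ * ((n₂ * n₁) * a * (n₂ * n₁)⁻¹) * (n₁ * n₂) := by group
        _ = (n₂ * n₁)⁻¹ * ((n₁ * n₂) * a * (n₁ * n₂)⁻¹) * (n₁ * n₂) := by rw [h3]
        _ = (n₂ * n₁)⁻¹ * (n₁ * n₂) * a := by group
    have h1 := hDH hkey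
    rw [← QuotientGroup.eq_one_iff] at h1 ⊢
    have hu1 : ((u₁ : G) : G ⧸ H) = 1 := (QuotientGroup.eq_one_iff u₁).mpr (hPH hu₁)
    have hu2 : ((u₂ : G) : G ⧸ H) = 1 := (QuotientGroup.eq_one_iff u₂).mpr (hPH hu₂)
    simp only [QuotientGroup.mk_mul, QuotientGroup.mk_inv, hu1, hu2, one_mul, inv_one] at h1 ⊢
    exact h1
  -- the index of H is a power of p
  have hindex : ∃ n : ℕ, H.index = p ^ n := by
    refine ⟨_, Nat.eq_prime_pow_of_unique_prime_dvd Subgroup.index_ne_zero_of_finite ?_⟩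
    intro r hr hrdvd
    by_contra hrp
    haveI : Fact r.Prime := ⟨hr⟩
    have hcard : r ∣ Nat.card (G ⧸ H) := by rwa [← Subgroup.index_eq_card]
    obtain ⟨qb, hqb⟩ := exists_prime_orderOf_dvd_card' (G := G ⧸ H) r hcard
    have hZn : (Subgroup.zpowers qb).Normal := by
      constructor
      intro x hx gb
      obtain ⟨g, rfl⟩ := QuotientGroup.mk'_surjective H gb
      obtain ⟨x', rfl⟩ := QuotientGroup.mk'_surjective H x
      have h1 : (QuotientGroup.mk' H g) * (QuotientGroup.mk' H x') * (QuotientGroup.mk' H g)⁻¹ =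
          QuotientGroup.mk' H x' := by
        have h := habel g x'
        have h2 : QuotientGroup.mk' H (x' * g) = QuotientGroup.mk' H (g * x') := by
          rw [QuotientGroup.mk'_apply, QuotientGroup.mk'_apply, QuotientGroup.eq]; exact h
        rw [← map_mul, ← h2, map_mul]; group
      rw [h1]; exact hx
    have hZcard : Nat.card (Subgroup.zpowers qb) = r := by rw [Nat.card_zpowers, hqb]
    have hrZ : ¬ p ∣ Nat.card (Subgroup.zpowers qb) := by
      rw [hZcard]
      exact fun h => hrp ((Nat.prime_dvd_prime_iff_eq hp hr).mp h).symm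
    have hMn : ((Subgroup.zpowers qb).comap (QuotientGroup.mk' H)).Normal := hZn.comap _
    have hMbn : (((Subgroup.zpowers qb).comap (QuotientGroup.mk' H)).map (QuotientGroup.mk' P)).Normal :=
      Subgroup.Normal.map hMn _ hπs
    have hMbc : (Nat.card (((Subgroup.zpowers qb).comap (QuotientGroup.mk' H)).map
        (QuotientGroup.mk' P))).Coprime p := by
      rw [Nat.coprime_comm, Nat.Prime.coprime_iff_not_dvd hp]
      intro hdvd
      obtain ⟨yb, hyb⟩ := exists_prime_orderOf_dvd_card'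
        (G := ((Subgroup.zpowers qb).comap (QuotientGroup.mk' H)).map (QuotientGroup.mk' P)) p hdvd
      obtain ⟨m, hmM, hme⟩ := Subgroup.mem_map.mp yb.2
      have hybG : orderOf (yb : G ⧸ P) = p := by rw [Subgroup.orderOf_coe]; exact hyb
      have hmp : m ^ p ∈ P := by
        rw [← QuotientGroup.eq_one_iff, QuotientGroup.mk_pow]
        have h0 : ((m : G) : G ⧸ P) = (yb : G ⧸ P) := hme
        rw [h0, ← hybG]; exact pow_orderOf_eq_one _
      have h1 : QuotientGroup.mk' H m ∈ Subgroup.zpowers qb := hmM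
      have h2 : IsEl p (QuotientGroup.mk' H m) :=
        ⟨1, by rw [pow_one, ← map_pow]; exact (QuotientGroup.eq_one_iff _).mpr (hPH hmp)⟩
      have h3 := eq_one_of_isEl_of_not_dvd (Subgroup.zpowers qb) hp hrZ _ h1 h2
      have hmH : m ∈ H := (QuotientGroup.eq_one_iff m).mp h3
      have h4 : QuotientGroup.mk' P m ∈ pPrimeCore p (G ⧸ P) := (hmemH m).mp hmH
      have h5 : IsEl p (QuotientGroup.mk' P m) :=
        ⟨1, by rw [pow_one, hme, ← hybG]; exact pow_orderOf_eq_one _⟩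
      have h6 := eq_one_of_isEl_of_not_dvd (pPrimeCore p (G ⧸ P)) hp
        ((Nat.Prime.coprime_iff_not_dvd hp).mp (card_pPrimeCore_coprime p).symm) _ h4 h5
      rw [hme] at h6
      rw [h6, orderOf_one] at hybG
      exact hp.one_lt.ne hybG
    have hMH : (Subgroup.zpowers qb).comap (QuotientGroup.mk' H) ≤ H := fun m hm =>
      (hmemH m).mpr (le_pPrimeCore hMbn hMbc (Subgroup.mem_map_of_mem _ hm))
    obtain ⟨g, rfl⟩ := QuotientGroup.mk'_surjective H qb
    have hgM : g ∈ (Subgroup.zpowers (QuotientGroup.mk' H g)).comap (QuotientGroup.mk' H) :=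
      Subgroup.mem_zpowers _
    have h1 : QuotientGroup.mk' H g = 1 := (QuotientGroup.eq_one_iff g).mpr (hMH hgM)
    rw [h1, orderOf_one] at hqb
    exact hr.one_lt.ne hqb
  have hHtop : H ≠ ⊤ := by
    intro htop
    have hidx : P.index = Nat.card A := by
      have h1 : P.relIndex H = P.index := by rw [htop, Subgroup.relIndex_top_right]
      rw [← h1, hAcard]
    rw [hidx] at hPidx
    exact hpA hPidx
  have hlast : ∀ x : G, x ∉ H → ∀ a ∈ A, a ≠ 1 → x * a * x⁻¹ * a⁻¹ ∉ P := by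
    intro x hxH a ha ha1 hc
    obtain ⟨u, hu, hun⟩ := hfrat x
    have h1 : (u⁻¹ * x) * a * (u⁻¹ * x)⁻¹ * a⁻¹ ∈ P := by
      have e : (u⁻¹ * x) * a * (u⁻¹ * x)⁻¹ * a⁻¹ = u⁻¹ * (x * a * x⁻¹ * a⁻¹) * (a * u * a⁻¹) := by
        group
      rw [e]
      exact mul_mem (mul_mem (inv_mem hu) hc) (hPn.conj_mem u hu a)
    have h2 : (u⁻¹ * x) * a * (u⁻¹ * x)⁻¹ * a⁻¹ ∈ A :=
      mul_mem ((Subgroup.mem_normalizer_iff.mp hun a).mp ha) (inv_mem ha)
    have h3 := hPA1 _ h1 h2
    have hna : (u⁻¹ * x) * a = a * (u⁻¹ * x) := by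
      calc (u⁻¹ * x) * a = ((u⁻¹ * x) * a * (u⁻¹ * x)⁻¹ * a⁻¹) * (a * (u⁻¹ * x)) := by group
        _ = a * (u⁻¹ * x) := by rw [h3, one_mul]
    obtain ⟨j, m, hm, ho⟩ := Nat.exists_eq_pow_mul_and_not_dvd (orderOf_pos (u⁻¹ * x)).ne' p
      hp.ne_one
    have hnm : IsEl p ((u⁻¹ * x) ^ m) :=
      ⟨j, by rw [← pow_mul, mul_comm, ← ho]; exact pow_orderOf_eq_one _⟩
    have hnm1 : (u⁻¹ * x) ^ m = 1 :=
      hfpf' a ha ha1 _ hnm ((show Commute (u⁻¹ * x) a from hna).pow_left m).eq
    obtain ⟨k, hk⟩ := hindex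
    have hnH : u⁻¹ * x ∈ H := by
      rw [← QuotientGroup.eq_one_iff]
      have h4 : ((u⁻¹ * x : G) : G ⧸ H) ^ m = 1 := by
        rw [← QuotientGroup.mk_pow, hnm1]; rfl
      have h5 : ((u⁻¹ * x : G) : G ⧸ H) ^ (p ^ k) = 1 := by
        rw [← hk, Subgroup.index_eq_card]; exact pow_card_eq_one'
      have h6 : orderOf ((u⁻¹ * x : G) : G ⧸ H) ∣ Nat.gcd m (p ^ k) :=
        Nat.dvd_gcd (orderOf_dvd_of_pow_eq_one h4) (orderOf_dvd_of_pow_eq_one h5)
      have h7 : Nat.gcd m (p ^ k) = 1 :=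
        Nat.Coprime.pow_right k ((Nat.Prime.coprime_iff_not_dvd hp).mpr hm).symm
      rw [h7, Nat.dvd_one] at h6
      exact orderOf_eq_one_iff.mp h6
    apply hxH
    have e : x = u * (u⁻¹ * x) := by group
    rw [e]; exact mul_mem (hPH hu) hnH
  refine ⟨hP1, A, hA1, hAcyc, hAodd, hAp, ?_, ?_, ?_, hfpf, ?_⟩
  · rw [hPAH]; exact hHn
  · rw [hPAH]; exact hHtop
  · rw [hPAH]; exact hindex
  · rw [hPAH]; exact hlast

/-- Let G be a finite solvable group in which every non-identity element has nilpotent centralizer. Then either G is nilpotent; or G has a normal subgroup K with a Frobenius complement E (K E = G, K ∩ E = 1, E meets its conjugates by outside elements trivially) such that E is cyclic or E is generated by two elementwise-commuting subgroups, one cyclic of odd order and one isomorphic to a generalized quaternion group; or G is a three-step group with respect to some prime p. -/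
theorem result {G : Type*} [Group G] [Finite G] [Group.IsSolvable G] (hCN : Cfsg.IsCNGroup G) :
    Group.IsNilpotent G ∨
      (∃ K E : Subgroup G, K.Normal ∧ Subgroup.IsComplement' K E ∧ Cfsg.IsFrobeniusComplement E ∧
        (IsCyclic E ∨ ∃ C Q : Subgroup G, C ⊔ Q = E ∧ (∀ a ∈ C, ∀ b ∈ Q, a * b = b * a) ∧ IsCyclic C ∧ Odd (Nat.card C) ∧
          ∃ n : ℕ, Nonempty (↥Q ≃* QuaternionGroup (2 ^ n)))) ∨
      ∃ p : ℕ, p.Prime ∧ Cfsg.IsThreeStepGroup p G := by
  classical
  by_cases hnil : Group.IsNilpotent G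
  · left; exact hnil
  · right
    by_cases hS : ∃ (q : ℕ) (_ : Fact q.Prime) (S : Sylow q G),
        (S : Subgroup G).Normal ∧ (S : Subgroup G) ≠ ⊥
    · left
      obtain ⟨q, hq, S, hSn, hS1⟩ := hS
      obtain ⟨hH1, hHtop, ⟨E, hE, hFrob, hfpf⟩, hnilq⟩ :=
        Cfsg.Agent.S1474.result hCN hnil q S hS1 hSn
      refine ⟨Cfsg.fittingHall G, E, inferInstance, hE, hFrob, ?_⟩
      have hEn : Group.IsNilpotent E := by
        haveI := hnilq
        refine Subgroup.isNilpotent_of_ker_le_center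
          ((QuotientGroup.mk' (Cfsg.fittingHall G)).comp E.subtype) ?_
        intro x hx
        rw [MonoidHom.mem_ker, MonoidHom.comp_apply, QuotientGroup.mk'_apply,
          QuotientGroup.eq_one_iff] at hx
        have h1 : (x : G) ∈ Cfsg.fittingHall G ⊓ E := ⟨hx, x.2⟩
        rw [hE.disjoint.eq_bot, Subgroup.mem_bot] at h1
        have hx1 : x = 1 := Subtype.ext h1
        rw [hx1]; exact one_mem _
      exact H31.frob_compl_struct (Cfsg.fittingHall G) E hH1 hfpf hEn
    · right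
      have hnS : ∀ (q : ℕ) [Fact q.Prime] (S : Sylow q G), (S : Subgroup G).Normal →
          (S : Subgroup G) = ⊥ := by
        intro q hq S hSn
        by_contra h
        exact hS ⟨q, hq, S, hSn, h⟩
      haveI : Nontrivial G := by
        by_contra h
        rw [not_nontrivial_iff_subsingleton] at h
        exact hnil inferInstance
      obtain ⟨p, N₀, hp, hN₀n, hN₀1, -, hN₀e⟩ := Cfsg.Agent.S1475.exists_normal_elementary (G := G)
      haveI : Fact p.Prime := ⟨hp⟩
      have hN₀p : IsPGroup p N₀ := fun x =>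
        ⟨1, by rw [pow_one]; exact Subtype.ext (by rw [Subgroup.coe_pow]; exact hN₀e x x.2)⟩
      have hPp : IsPGroup p (pCore p G) := H31.isPGroup_pCore p
      haveI hPn : (pCore p G).Normal := inferInstance
      have hP1 : pCore p G ≠ ⊥ := by
        intro h
        have := H31.le_pCore hN₀n hN₀p
        rw [h] at this
        exact hN₀1 (le_bot_iff.mp this)
      obtain ⟨S₀, hPS₀⟩ := hPp.exists_le_sylow
      have hO : pPrimeCore p G = ⊥ := by
        by_contra hM
        have hcop := H31.card_pPrimeCore_coprime (G := G) p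
        have hSn := H31.sylow_normal_of_two_normal hCN (pCore p G) (pPrimeCore p G) hPp hP1 hM
          ((Nat.Prime.coprime_iff_not_dvd hp).mp hcop.symm) S₀
        have hS1 := hnS p S₀ hSn
        rw [hS1] at hPS₀
        exact hP1 (le_bot_iff.mp hPS₀)
      have hCP : Subgroup.centralizer (pCore p G : Set G) ≤ pCore p G :=
        H60.centralizer_pCore_le inferInstance hO
      have hPidx : p ∣ (pCore p G).index := by
        by_contra hnd
        have h1 := hnS p (hPp.toSylow hnd) (by rw [IsPGroup.toSylow_coe]; exact hPn)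
        rw [IsPGroup.toSylow_coe] at h1
        exact hP1 h1
      exact ⟨p, hp, three_step_core hCN hnil p (pCore p G) hPp hP1
        (fun N hN hNp => H31.le_pCore hN hNp) hCP hPidx⟩

end Cfsg.Agent.S1476
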