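import Cfsg.Statements.S1473
import Cfsg.Agent.H31.CN

set_option autoImplicit false
open Cfsg

namespace Cfsg.Agent.S1473

open Cfsg.Agent.H31

/-- CN-groups transfer along isomorphisms. -/
theorem cn_of_mulEquiv {G G' : Type*} [Group G] [Group G'] (e : G ≃* G') (h : IsCNGroup G) :
    IsCNGroup G' := by
  intro g' hg'
  have hg : e.symm g' ≠ 1 := by
    intro h1; apply hg'; simpa using congrArg e h1
  haveI := h _ hg
  let f : Subgroup.centralizer ({e.symm g'} : Set G) →* Subgroup.centralizer ({g'} : Set G') :=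
    { toFun := fun k => ⟨e k, by
        rw [Subgroup.mem_centralizer_iff]; intro x hx; rw [Set.mem_singleton_iff] at hx; subst hx
        have h1 := Subgroup.mem_centralizer_iff.mp k.2 (e.symm x) rfl
        have h2 := congrArg e h1
        simpa using h2⟩
      map_one' := Subtype.ext (by simp)
      map_mul' := fun a b => Subtype.ext (by simp) }
  apply Group.nilpotent_of_surjective f
  rintro ⟨k', hk'⟩
  refine ⟨⟨e.symm k', ?_⟩, Subtype.ext (by simp [f])⟩
  rw [Subgroup.mem_centralizer_iff]; intro x hx; rw [Set.mem_singleton_iff] at hx; subst hx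
  have h1 := Subgroup.mem_centralizer_iff.mp hk' g' rfl
  have h2 := congrArg e.symm h1
  simpa using h2

section

variable {G : Type*} [Group G] [Finite G] (hCN : IsCNGroup G) (P : Subgroup G) [P.Normal]

include hCN in
/-- Lemma E. -/
theorem lemE (w : G) (hw : w ≠ 1) (y z : G) (hy : y * w = w * y) (hz : z * w = w * z)
    {s t : ℕ} (hs : s.Prime) (ht : t.Prime) (hst : s ≠ t)
    (hys : IsEl s (y : G ⧸ P)) (hzt : IsEl t (z : G ⧸ P)) :
    (y : G ⧸ P) * (z : G ⧸ P) = (z : G ⧸ P) * (y : G ⧸ P) := by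
  haveI := hCN w hw
  let φ : Subgroup.centralizer ({w} : Set G) →* G ⧸ P :=
    (QuotientGroup.mk' P).comp (Subgroup.centralizer ({w} : Set G)).subtype
  haveI : Group.IsNilpotent φ.range := Group.nilpotent_of_surjective φ.rangeRestrict φ.rangeRestrict_surjective
  have hymem : y ∈ Subgroup.centralizer ({w} : Set G) := by
    rw [Subgroup.mem_centralizer_iff]; intro x hx; rw [Set.mem_singleton_iff] at hx; subst hx
    exact hy.symm
  have hzmem : z ∈ Subgroup.centralizer ({w} : Set G) := by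
    rw [Subgroup.mem_centralizer_iff]; intro x hx; rw [Set.mem_singleton_iff] at hx; subst hx
    exact hz.symm
  let y' : φ.range := ⟨(y : G ⧸ P), ⟨⟨y, hymem⟩, rfl⟩⟩
  let z' : φ.range := ⟨(z : G ⧸ P), ⟨⟨z, hzmem⟩, rfl⟩⟩
  have hy' : IsEl s y' := by
    obtain ⟨k, hk⟩ := hys
    exact ⟨k, Subtype.ext hk⟩
  have hz' : IsEl t z' := by
    obtain ⟨k, hk⟩ := hzt
    exact ⟨k, Subtype.ext hk⟩
  have := comm_of_nilpotent hs ht hst y' z' hy' hz'
  exact congrArg Subtype.val this

/-- Claim A: if `x` is an `r`-element, `r ≠ p`, and `ȳ` commutes with the image of `x` modulo the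
normal `p`-subgroup `P`, then `ȳ` has a lift commuting with `x`. -/
theorem claimA {p r : ℕ} (hp : p.Prime) (hr : r.Prime) (hrp : r ≠ p) (hP : IsPGroup p P)
    (x : G) (hx : IsEl r x) (yb : G ⧸ P) (hcomm : yb * (x : G ⧸ P) = (x : G ⧸ P) * yb) :
    ∃ y' : G, (y' : G ⧸ P) = yb ∧ y' * x = x * y' := by
  obtain ⟨y₀, rfl⟩ := QuotientGroup.mk_surjective yb
  have hmem : (y₀ * x * y₀⁻¹) * x⁻¹ ∈ P := by
    rw [← QuotientGroup.eq_one_iff]
    have : (((y₀ * x * y₀⁻¹) * x⁻¹ : G) : G ⧸ P) =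
        ((y₀ : G ⧸ P) * (x : G ⧸ P)) * (y₀ : G ⧸ P)⁻¹ * (x : G ⧸ P)⁻¹ := rfl
    rw [this, hcomm]; group
  obtain ⟨h, hhP, hh⟩ := conj_of_congr hp hr hrp P hP x (y₀ * x * y₀⁻¹) hx (hx.conj y₀) hmem
  refine ⟨h⁻¹ * y₀, ?_, ?_⟩
  · have : ((h⁻¹ * y₀ : G) : G ⧸ P) = (h : G ⧸ P)⁻¹ * (y₀ : G ⧸ P) := rfl
    rw [this, (QuotientGroup.eq_one_iff h).mpr hhP]; group
  · calc h⁻¹ * y₀ * x = h⁻¹ * (y₀ * x * y₀⁻¹) * y₀ := by group
      _ = h⁻¹ * (h * x * h⁻¹) * y₀ := by rw [hh]
      _ = x * (h⁻¹ * y₀) := by group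

include hCN in
/-- The key claim when `x̄` is an `r`-element with `r ≠ p`. -/
theorem key_rne {p r : ℕ} (hp : p.Prime) (hr : r.Prime) (hrp : r ≠ p) (hP : IsPGroup p P)
    (xb yb zb : G ⧸ P) (hx : xb ≠ 1) (hxr : IsEl r xb) (hyx : yb * xb = xb * yb)
    (hzx : zb * xb = xb * zb) {s t : ℕ} (hs : s.Prime) (ht : t.Prime) (hst : s ≠ t)
    (hys : IsEl s yb) (hzt : IsEl t zb) : yb * zb = zb * yb := by
  obtain ⟨x, rfl, hxr'⟩ :=
    lift_isEl (QuotientGroup.mk' P) (QuotientGroup.mk'_surjective P) hr xb hxr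
  have hx1 : x ≠ 1 := by rintro rfl; exact hx rfl
  obtain ⟨y', rfl, hy'⟩ := claimA P hp hr hrp hP x hxr' yb hyx
  obtain ⟨z', rfl, hz'⟩ := claimA P hp hr hrp hP x hxr' zb hzx
  exact lemE hCN P x hx1 y' z' hy' hz' hs ht hst hys hzt

include hCN in
/-- The key claim when `x̄` is a `p`-element. -/
theorem key_p {p : ℕ} (hp : p.Prime) (hP : IsPGroup p P) (hP1 : P ≠ ⊥)
    (xb yb zb : G ⧸ P) (hx : xb ≠ 1) (hxp : IsEl p xb) (hyx : yb * xb = xb * yb)
    (hzx : zb * xb = xb * zb) {s t : ℕ} (hs : s.Prime) (ht : t.Prime) (hst : s ≠ t)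
    (hys : IsEl s yb) (hzt : IsEl t zb) : yb * zb = zb * yb := by
  set Q : Subgroup G := (Subgroup.zpowers xb).comap (QuotientGroup.mk' P) with hQ
  have hQp : IsPGroup p Q := (isPGroup_zpowers_of_isEl hxp).comap_of_ker_isPGroup _
    (by rw [QuotientGroup.ker_mk']; exact hP)
  obtain ⟨w₀, hw₀P, hw₀1, hw₀Q⟩ := exists_fixed_in_pgroup hp Q P hQp hP hP1
    (fun a _ b hb => Subgroup.Normal.conj_mem inferInstance b hb a)
  -- Claim B
  have claimB : ∀ q : ℕ, q.Prime → q ≠ p → ∀ ub : G ⧸ P, IsEl q ub → ub * xb = xb * ub →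
      ∃ u' : G, (u' : G ⧸ P) = ub ∧ ∀ w ∈ P, (∀ a ∈ Q, a * w = w * a) → u' * w = w * u' := by
    intro q hq hqp ub hub hcomm
    obtain ⟨u, hu, huq⟩ :=
      lift_isEl (QuotientGroup.mk' P) (QuotientGroup.mk'_surjective P) hq ub hub
    have hu' : (u : G ⧸ P) = ub := hu
    obtain ⟨x₁, hx₁, hx₁u⟩ := claimA P hp hq hqp hP u huq xb (by rw [hu']; exact hcomm.symm)
    have hx₁1 : x₁ ≠ 1 := by rintro rfl; exact hx hx₁.symm
    have hx₁Q : x₁ ∈ Q := by
      rw [hQ, Subgroup.mem_comap]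
      show (x₁ : G ⧸ P) ∈ _
      rw [hx₁]; exact Subgroup.mem_zpowers xb
    haveI := hCN x₁ hx₁1
    refine ⟨u, hu', fun w hwP hwQ => ?_⟩
    have humem : u ∈ Subgroup.centralizer ({x₁} : Set G) := by
      rw [Subgroup.mem_centralizer_iff]; intro g hg; rw [Set.mem_singleton_iff] at hg; subst hg
      exact hx₁u
    have hwmem : w ∈ Subgroup.centralizer ({x₁} : Set G) := by
      rw [Subgroup.mem_centralizer_iff]; intro g hg; rw [Set.mem_singleton_iff] at hg; subst hg
      exact hwQ _ hx₁Q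
    have := comm_of_nilpotent hq hp hqp (⟨u, humem⟩ : Subgroup.centralizer ({x₁} : Set G))
      ⟨w, hwmem⟩ (by obtain ⟨k, hk⟩ := huq; exact ⟨k, Subtype.ext hk⟩)
      (by obtain ⟨k, hk⟩ := isEl_of_isPGroup hP hwP; exact ⟨k, Subtype.ext hk⟩)
    exact congrArg Subtype.val this
  -- the case where one of the primes is `p`
  have caseP : ∀ (yb zb : G ⧸ P) (t : ℕ), t.Prime → t ≠ p → yb * xb = xb * yb →
      zb * xb = xb * zb → IsEl p yb → IsEl t zb → yb * zb = zb * yb := by
    intro yb zb t ht htp hyx hzx hyp hzt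
    obtain ⟨z', rfl, hz'⟩ := claimB t ht htp zb hzt hzx
    set A : Subgroup G := (Subgroup.zpowers yb).comap (QuotientGroup.mk' P) with hA
    have hAp : IsPGroup p A := (isPGroup_zpowers_of_isEl hyp).comap_of_ker_isPGroup _
      (by rw [QuotientGroup.ker_mk']; exact hP)
    set W : Subgroup G := P ⊓ Subgroup.centralizer (Q : Set G) with hW
    have hWp : IsPGroup p W := hP.to_le inf_le_left
    have hw₀W : w₀ ∈ W :=
      ⟨hw₀P, Subgroup.mem_centralizer_iff.mpr (fun a ha => hw₀Q a ha)⟩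
    have hW1 : W ≠ ⊥ := fun h => hw₀1 (by rw [h] at hw₀W; exact Subgroup.mem_bot.mp hw₀W)
    obtain ⟨w, hwW, hw1, hwA⟩ := exists_fixed_in_pgroup hp A W hAp hWp hW1 (by
      intro a ha b hb
      refine ⟨Subgroup.Normal.conj_mem inferInstance b hb.1 a, ?_⟩
      refine Subgroup.mem_centralizer_iff.mpr ?_
      intro g hg
      have hg' : a⁻¹ * g * a ∈ Q := by
        have hg0 : g ∈ Q := hg
        rw [hQ, Subgroup.mem_comap] at hg0 ⊢
        obtain ⟨i, hi⟩ := Subgroup.mem_zpowers_iff.mp hg0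
        rw [hA, Subgroup.mem_comap] at ha
        obtain ⟨j, hj⟩ := Subgroup.mem_zpowers_iff.mp ha
        have hc : Commute (yb ^ j) (xb ^ i) := Commute.zpow_zpow hyx j i
        have : (QuotientGroup.mk' P) (a⁻¹ * g * a) = xb ^ i := by
          rw [map_mul, map_mul, map_inv, ← hi, ← hj, mul_assoc, ← hc.eq, ← mul_assoc,
            inv_mul_cancel, one_mul]
        rw [this]; exact Subgroup.zpow_mem_zpowers xb i
      have hb2 := Subgroup.mem_centralizer_iff.mp hb.2 _ hg'
      calc g * (a * b * a⁻¹) = a * (a⁻¹ * g * a * b) * a⁻¹ := by group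
        _ = a * (b * (a⁻¹ * g * a)) * a⁻¹ := by rw [hb2]
        _ = a * b * a⁻¹ * g := by group)
    obtain ⟨y, rfl⟩ := QuotientGroup.mk_surjective yb
    have hyA : y ∈ A := by rw [hA, Subgroup.mem_comap]; exact Subgroup.mem_zpowers _
    have hwQ : ∀ a ∈ Q, a * w = w * a := fun a ha => Subgroup.mem_centralizer_iff.mp hwW.2 a ha
    exact lemE hCN P w hw1 y z' (hwA y hyA) (hz' w hwW.1 hwQ) hp ht (Ne.symm htp) hyp hzt
  by_cases hsp : s = p
  · subst hsp
    exact caseP yb zb t ht (Ne.symm hst) hyx hzx hys hzt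
  · by_cases htp : t = p
    · subst htp
      exact (caseP zb yb s hs hsp hzx hyx hzt hys).symm
    · obtain ⟨y', rfl, hy'⟩ := claimB s hs hsp yb hys hyx
      obtain ⟨z', rfl, hz'⟩ := claimB t ht htp zb hzt hzx
      exact lemE hCN P w₀ hw₀1 y' z' (hy' w₀ hw₀P hw₀Q) (hz' w₀ hw₀P hw₀Q) hs ht hst hys hzt

include hCN in
/-- The key claim. -/
theorem key {p : ℕ} (hp : p.Prime) (hP : IsPGroup p P) (hP1 : P ≠ ⊥)
    (xb yb zb : G ⧸ P) (hx : xb ≠ 1) (hyx : yb * xb = xb * yb)
    (hzx : zb * xb = xb * zb) {s t : ℕ} (hs : s.Prime) (ht : t.Prime) (hst : s ≠ t)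
    (hys : IsEl s yb) (hzt : IsEl t zb) : yb * zb = zb * yb := by
  have ho : orderOf xb ≠ 1 := fun h => hx (orderOf_eq_one_iff.mp h)
  have hrp : ((orderOf xb).minFac).Prime := Nat.minFac_prime ho
  obtain ⟨m, hm⟩ : (orderOf xb).minFac ∣ orderOf xb := Nat.minFac_dvd _
  have hx'1 : xb ^ m ≠ 1 := by
    intro h
    have h1 : orderOf xb ∣ m := orderOf_dvd_of_pow_eq_one h
    have hpos : 0 < orderOf xb := orderOf_pos xb
    have hmpos : 0 < m := by
      rcases Nat.eq_zero_or_pos m with h0 | h0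
      · rw [h0, mul_zero] at hm; omega
      · exact h0
    have h2 : orderOf xb ≤ m := Nat.le_of_dvd hmpos h1
    have h3 := hrp.two_le
    rw [hm] at h2
    nlinarith
  have hx'r : IsEl (orderOf xb).minFac (xb ^ m) :=
    ⟨1, by rw [pow_one, ← pow_mul, mul_comm, ← hm, pow_orderOf_eq_one]⟩
  have hyx' : yb * xb ^ m = xb ^ m * yb := Commute.pow_right hyx m
  have hzx' : zb * xb ^ m = xb ^ m * zb := Commute.pow_right hzx m
  by_cases hrp' : (orderOf xb).minFac = p
  · rw [hrp'] at hx'r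
    exact key_p hCN P hp hP hP1 (xb ^ m) yb zb hx'1 hx'r hyx' hzx' hs ht hst hys hzt
  · exact key_rne hCN P hp hrp hrp' hP (xb ^ m) yb zb hx'1 hx'r hyx' hzx' hs ht hst hys hzt

include hCN in
/-- The quotient of a CN-group by a nontrivial normal `p`-subgroup is a CN-group. -/
theorem cn_quot_pgroup {p : ℕ} (hp : p.Prime) (hP : IsPGroup p P) (hP1 : P ≠ ⊥) :
    IsCNGroup (G ⧸ P) := by
  intro xb hxb
  apply nilpotent_of_comm
  intro s t hs ht hst a b ha hb
  have ha' : (a : G ⧸ P) * xb = xb * a := (Subgroup.mem_centralizer_iff.mp a.2 xb rfl).symm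
  have hb' : (b : G ⧸ P) * xb = xb * b := (Subgroup.mem_centralizer_iff.mp b.2 xb rfl).symm
  have := key hCN P hp hP hP1 xb a b hxb ha' hb' hs ht hst (ha.map (Subgroup.subtype _))
    (hb.map (Subgroup.subtype _))
  exact Subtype.ext this

end

/-- A nontrivial solvable normal subgroup of a finite group contains a nontrivial normal
`p`-subgroup of the whole group. -/
theorem exists_normal_pgroup_le {G : Type*} [Group G] [Finite G] (H : Subgroup G) [H.Normal]
    (hH : Group.IsSolvable H) (hH1 : H ≠ ⊥) :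
    ∃ (p : ℕ) (N : Subgroup G), p.Prime ∧ N.Normal ∧ N ≠ ⊥ ∧ N ≤ H ∧ IsPGroup p N := by
  classical
  have hex : ∃ n, derivedSeries H n = ⊥ := hH.solvable
  have hn0 : Nat.find hex ≠ 0 := by
    intro h0
    have h1 := Nat.find_spec hex
    rw [h0, derivedSeries_zero] at h1
    apply hH1
    rw [Subgroup.eq_bot_iff_forall]; intro x hx
    have h2 : (⟨x, hx⟩ : H) ∈ (⊤ : Subgroup H) := Subgroup.mem_top _
    rw [h1] at h2; exact congrArg Subtype.val (Subgroup.mem_bot.mp h2)
  obtain ⟨k, hk⟩ : ∃ k, Nat.find hex = k + 1 := Nat.exists_eq_succ_of_ne_zero hn0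
  set A := derivedSeries H k with hA
  have hAne : A ≠ ⊥ := fun h => Nat.find_min hex (m := k) (by omega) h
  have hAcomm : ∀ a ∈ A, ∀ b ∈ A, a * b = b * a := by
    have h1 : ⁅A, A⁆ = ⊥ := by
      have := Nat.find_spec hex
      rw [hk, derivedSeries_succ] at this
      exact this
    have h2 := Subgroup.commutator_eq_bot_iff_le_centralizer.mp h1
    intro a ha b hb
    exact (Subgroup.mem_centralizer_iff.mp (h2 ha) b hb).symm
  haveI : A.Characteristic := derivedSeries_characteristic H k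
  set B : Subgroup G := A.map H.subtype with hB
  have hBn : B.Normal := ConjAct.normal_of_characteristic_of_normal
  have hBne : B ≠ ⊥ := by
    rw [hB, Ne, Subgroup.map_eq_bot_iff_of_injective _ H.subtype_injective]; exact hAne
  have hBle : B ≤ H := Subgroup.map_subtype_le A
  have hBcomm : ∀ a ∈ B, ∀ b ∈ B, a * b = b * a := by
    rintro _ ⟨a, ha, rfl⟩ _ ⟨b, hb, rfl⟩
    exact congrArg Subtype.val (hAcomm a ha b hb)
  have hcard : Nat.card B ≠ 1 := by
    have := (Subgroup.one_lt_card_iff_ne_bot _).mpr hBne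
    omega
  set p := (Nat.card B).minFac with hp
  have hpp : p.Prime := Nat.minFac_prime hcard
  haveI : Fact p.Prime := ⟨hpp⟩
  obtain ⟨a, ha⟩ := exists_prime_orderOf_dvd_card' (G := B) p (Nat.minFac_dvd _)
  let N : Subgroup G :=
    { carrier := {g | g ∈ B ∧ g ^ p = 1}
      mul_mem' := fun {x y} hx hy => ⟨B.mul_mem hx.1 hy.1, by
        rw [(show Commute x y from hBcomm x hx.1 y hy.1).mul_pow, hx.2, hy.2, one_mul]⟩
      one_mem' := ⟨B.one_mem, one_pow p⟩
      inv_mem' := fun {x} hx => ⟨B.inv_mem hx.1, by rw [inv_pow, hx.2, inv_one]⟩ }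
  refine ⟨p, N, hpp, ?_, ?_, ?_, ?_⟩
  · constructor
    intro g hg x
    exact ⟨hBn.conj_mem g hg.1 x, by rw [conj_pow, hg.2]; group⟩
  · intro h
    have hmem : (a : G) ∈ N := ⟨a.2, by rw [← Subgroup.coe_pow, ← ha, pow_orderOf_eq_one]; rfl⟩
    rw [h, Subgroup.mem_bot] at hmem
    have ha1 : a = 1 := Subtype.ext hmem
    rw [ha1, orderOf_one] at ha
    exact hpp.one_lt.ne' ha.symm
  · intro x hx; exact hBle hx.1
  · intro g
    exact ⟨1, Subtype.ext (by rw [pow_one]; exact g.2.2)⟩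

universe u

theorem main (n : ℕ) : ∀ (G : Type u) [Group G] [Finite G], Nat.card G = n → IsCNGroup G →
    ∀ (H : Subgroup G) [H.Normal], Group.IsSolvable H → IsCNGroup (G ⧸ H) := by
  induction n using Nat.strong_induction_on with
  | _ n ih =>
    intro G _ _ hn hCN H _ hH
    by_cases hH1 : H = ⊥
    · subst hH1
      exact cn_of_mulEquiv (QuotientGroup.quotientBot (G := G)).symm hCN
    · obtain ⟨p, N, hp, hNn, hN1, hNH, hNp⟩ := exists_normal_pgroup_le H hH hH1
      haveI := hNn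
      have hCN' : IsCNGroup (G ⧸ N) := cn_quot_pgroup hCN N hp hNp hN1
      have hNcard1 : 1 < Nat.card N := (Subgroup.one_lt_card_iff_ne_bot _).mpr hN1
      have hmul : Nat.card G = Nat.card (G ⧸ N) * Nat.card N :=
        Subgroup.card_eq_card_quotient_mul_card_subgroup N
      have hqpos : 0 < Nat.card (G ⧸ N) := Nat.card_pos
      have hlt : Nat.card (G ⧸ N) < n := by
        rw [← hn, hmul]
        nlinarith
      haveI : (H.map (QuotientGroup.mk' N)).Normal :=
        Subgroup.Normal.map inferInstance _ (QuotientGroup.mk'_surjective N)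
      have hsol : Group.IsSolvable (H.map (QuotientGroup.mk' N)) :=
        solvable_of_surjective (f := (QuotientGroup.mk' N).subgroupMap H)
          ((QuotientGroup.mk' N).subgroupMap_surjective H)
      have := ih _ hlt (G ⧸ N) rfl hCN' (H.map (QuotientGroup.mk' N)) hsol
      exact cn_of_mulEquiv (QuotientGroup.quotientQuotientEquivQuotient N H hNH) this

/-- Let G be a finite group in which the centralizer of every non-identity element is nilpotent, and H a solvable normal subgroup of G. Then in G/H the centralizer of every non-identity element is nilpotent. -/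
theorem result {G : Type*} [Group G] [Finite G] (hCN : Cfsg.IsCNGroup G) (H : Subgroup G) [H.Normal] (hH : Group.IsSolvable H) :
    Cfsg.IsCNGroup (G ⧸ H) := by
  exact main (Nat.card G) G rfl hCN H hH

end Cfsg.Agent.S1473
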