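-- Statement S0433 (helper10).
import Cfsg.Statements.S0433
import Cfsg.Agent.H10.GolayBasic

set_option autoImplicit false
open Cfsg

namespace Cfsg.Agent.S0433

open Cfsg.Agent.H10

/-- The coordinate sum of a lattice-set vector over the support of a code word vanishes mod 4. -/
theorem sum_on_support (c : Finset Cfsg.GolayPt)
    (hc : c ∈ Cfsg.supports (Cfsg.golayCode : Set (Cfsg.GolayPt → ZMod 2)))
    (x : Cfsg.GolayPt → ℤ) (m : ℤ) (h1 : ∀ i, x i ≡ m [ZMOD 2])
    (h3 : ∀ k : ℤ, (Finset.univ.filter fun i => x i ≡ k [ZMOD 4]) ∈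
      Cfsg.supports (Cfsg.golayCode : Set (Cfsg.GolayPt → ZMod 2))) :
    (4 : ℤ) ∣ ∑ i ∈ c, x i := by
  have hy : ∀ i, x i = m + 2 * ((x i - m) / 2) := by
    intro i
    have := h1 i
    unfold Int.ModEq at this
    omega
  have hy2 : ∀ i, (x i - m) / 2 ≡ (if x i ≡ m + 2 [ZMOD 4] then 1 else 0) [ZMOD 2] := by
    intro i
    have := h1 i
    unfold Int.ModEq at this
    split_ifs with h <;> unfold Int.ModEq at * <;> omega
  have hsum : ∑ i ∈ c, x i = (c.card : ℤ) * m + 2 * ∑ i ∈ c, (x i - m) / 2 := by
    calc ∑ i ∈ c, x i = ∑ i ∈ c, (m + 2 * ((x i - m) / 2)) :=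
          Finset.sum_congr rfl (fun i _ => hy i)
      _ = (c.card : ℤ) * m + 2 * ∑ i ∈ c, (x i - m) / 2 := by
          rw [Finset.sum_add_distrib, Finset.sum_const, ← Finset.mul_sum, nsmul_eq_mul]
  have hcard : (4 : ℤ) ∣ (c.card : ℤ) := by
    exact_mod_cast supports_card_dvd hc
  have hev : (2 : ℤ) ∣ ∑ i ∈ c, (x i - m) / 2 := by
    have h4 : ∑ i ∈ c, (x i - m) / 2 ≡ ∑ i ∈ c, (if x i ≡ m + 2 [ZMOD 4] then (1 : ℤ) else 0) [ZMOD 2] :=
      Int.ModEq.sum (fun i _ => hy2 i)
    have h5 : ∑ i ∈ c, (if x i ≡ m + 2 [ZMOD 4] then (1 : ℤ) else 0) =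
        ((c ∩ (Finset.univ.filter fun i => x i ≡ m + 2 [ZMOD 4])).card : ℤ) := by
      rw [Finset.sum_boole]
      congr 2
      ext i
      simp
    rw [h5] at h4
    have h6 : (2 : ℤ) ∣ ((c ∩ (Finset.univ.filter fun i => x i ≡ m + 2 [ZMOD 4])).card : ℤ) := by
      exact_mod_cast supports_inter_even hc (h3 (m + 2))
    obtain ⟨a, ha⟩ := h4.dvd
    obtain ⟨b, hb⟩ := h6
    exact ⟨b - a, by omega⟩
  rw [hsum]
  obtain ⟨a, ha⟩ := hcard
  obtain ⟨b, hb⟩ := hev
  exact ⟨a * m + b, by rw [ha, hb]; ring⟩

theorem leechSet_sign (c : Finset Cfsg.GolayPt)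
    (hc : c ∈ Cfsg.supports (Cfsg.golayCode : Set (Cfsg.GolayPt → ZMod 2)))
    (x : Cfsg.GolayPt → ℤ) (hx : x ∈ Cfsg.leechSet) :
    (fun i => if i ∈ c then -x i else x i) ∈ Cfsg.leechSet := by
  obtain ⟨m, h1, h2, h3⟩ := hx
  refine ⟨m, fun i => ?_, ?_, fun k => ?_⟩
  · have := h1 i
    by_cases hi : i ∈ c
    · simp only [hi, if_true]
      unfold Int.ModEq at *
      omega
    · simp only [hi, if_false]
      exact this
  · have h4 := sum_on_support c hc x m h1 h3
    have h5 : ∑ i, (if i ∈ c then -x i else x i) = ∑ i, x i - 2 * ∑ i ∈ c, x i := by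
      have h6 : ∀ i, (if i ∈ c then -x i else x i) = x i - 2 * (if i ∈ c then x i else 0) := by
        intro i; split_ifs <;> ring
      rw [Finset.sum_congr rfl (fun i _ => h6 i), Finset.sum_sub_distrib, ← Finset.mul_sum,
        Finset.sum_ite_mem, Finset.univ_inter]
    show ∑ i, (if i ∈ c then -x i else x i) ≡ 4 * m [ZMOD 8]
    rw [h5]
    obtain ⟨a, ha⟩ := h4
    unfold Int.ModEq at *
    omega
  · by_cases hm : m % 2 = 0
    · have heq : (Finset.univ.filter fun i => (if i ∈ c then -x i else x i) ≡ k [ZMOD 4]) =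
          (Finset.univ.filter fun i => x i ≡ k [ZMOD 4]) := by
        ext i
        simp only [Finset.mem_filter, Finset.mem_univ, true_and]
        have := h1 i
        by_cases hi : i ∈ c
        · simp only [hi, if_true]
          unfold Int.ModEq at *
          constructor <;> intro h <;> omega
        · simp only [hi, if_false]
      rw [heq]; exact h3 k
    · by_cases hk : k % 2 = 0
      · have heq : (Finset.univ.filter fun i => (if i ∈ c then -x i else x i) ≡ k [ZMOD 4]) =
            (Finset.univ.filter fun i => x i ≡ k [ZMOD 4]) := by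
          ext i
          simp only [Finset.mem_filter, Finset.mem_univ, true_and]
          have := h1 i
          by_cases hi : i ∈ c
          · simp only [hi, if_true]
            unfold Int.ModEq at *
            constructor <;> intro h <;> omega
          · simp only [hi, if_false]
        rw [heq]; exact h3 k
      · have heq : (Finset.univ.filter fun i => (if i ∈ c then -x i else x i) ≡ k [ZMOD 4]) =
            symmDiff c (Finset.univ.filter fun i => x i ≡ k [ZMOD 4]) := by
          ext i
          simp only [Finset.mem_filter, Finset.mem_univ, true_and, Finset.mem_symmDiff]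
          have := h1 i
          by_cases hi : i ∈ c
          · simp only [hi, if_true, true_and, not_true, and_false, or_false]
            unfold Int.ModEq at *
            constructor <;> intro h <;> omega
          · simp only [hi, if_false, false_and, not_false_eq_true, and_true, false_or]
        rw [heq]; exact supports_symmDiff hc (h3 k)

/-- Sign changes on the support of a codeword preserve the lattice. -/
theorem result (c : Finset Cfsg.GolayPt) (hc : c ∈ Cfsg.supports (Cfsg.golayCode : Set (Cfsg.GolayPt → ZMod 2))) (x : Cfsg.GolayPt → ℤ) (hx : x ∈ Cfsg.leechLattice) : (fun i => if i ∈ c then -x i else x i) ∈ Cfsg.leechLattice := by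
  unfold Cfsg.leechLattice at hx ⊢
  induction hx using AddSubgroup.closure_induction with
  | mem y hy => exact AddSubgroup.subset_closure (leechSet_sign c hc y hy)
  | zero =>
    have : (fun i => if i ∈ c then -(0 : Cfsg.GolayPt → ℤ) i else (0 : Cfsg.GolayPt → ℤ) i) = 0 := by
      funext i; simp
    rw [this]; exact AddSubgroup.zero_mem _
  | add y z _ _ ihy ihz =>
    have : (fun i => if i ∈ c then -(y + z) i else (y + z) i) =
        (fun i => if i ∈ c then -y i else y i) + (fun i => if i ∈ c then -z i else z i) := by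
      funext i
      simp only [Pi.add_apply]
      split_ifs <;> ring
    rw [this]; exact AddSubgroup.add_mem _ ihy ihz
  | neg y _ ih =>
    have : (fun i => if i ∈ c then -(-y) i else (-y) i) =
        -(fun i => if i ∈ c then -y i else y i) := by
      funext i
      simp only [Pi.neg_apply]
      split_ifs <;> ring
    rw [this]; exact AddSubgroup.neg_mem _ ih

end Cfsg.Agent.S0433
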