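import Cfsg.Statements.S0397
import Cfsg.Agent.H93.Co0Card
import Cfsg.Agent.H33.LData64

set_option autoImplicit false
open Cfsg

namespace Cfsg.Agent.S0397

/-- The automorphism group of the lattice has order 8315553613086720000 = 2^22·3^9·5^4·7^2·11·13·23. -/
theorem result : Nat.card Cfsg.Co0 = 8315553613086720000 := by
  exact Cfsg.Agent.H93.co0_card_of_trans (fun w hw => by
    obtain ⟨g, hg, e⟩ := Cfsg.Agent.H33.co0_trans64 Cfsg.Agent.H93.E0 w (Cfsg.Agent.H93.sqNorm_bvec none) hw
    exact ⟨⟨g, hg⟩, congrArg Subtype.val e⟩)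

end Cfsg.Agent.S0397
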