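import Cfsg.Statements.S0379
import Cfsg.Agent.H9.M24b
import Cfsg.Agent.H10.PermSimple

set_option autoImplicit false
open Cfsg

namespace Cfsg.Agent.S0379

/-- A two-point stabiliser in the group of the length-24 code is simple. -/
theorem result (p q : Cfsg.GolayPt) (hpq : p ≠ q) : IsSimpleGroup ↥(MulAction.stabilizer Cfsg.M24 p ⊓ MulAction.stabilizer Cfsg.M24 q) := by
  classical
  have hfaith : ∀ g : Cfsg.M24, g ≠ 1 → ∃ a : Cfsg.GolayPt, g • a ≠ a := by
    intro g hg
    by_contra h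
    push Not at h
    apply hg
    apply Subtype.ext
    apply Equiv.ext
    intro x
    exact h x
  have heq : fixingSubgroup Cfsg.M24 ({p, q} : Set Cfsg.GolayPt) =
      MulAction.stabilizer Cfsg.M24 p ⊓ MulAction.stabilizer Cfsg.M24 q := by
    ext g
    rw [mem_fixingSubgroup_iff, Subgroup.mem_inf, MulAction.mem_stabilizer_iff,
      MulAction.mem_stabilizer_iff]
    constructor
    · intro h
      exact ⟨h p (by simp), h q (by simp)⟩
    · rintro ⟨h1, h2⟩ y hy
      rcases hy with rfl | rfl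
      · exact h1
      · exact h2
  have hncard : ({p, q} : Set Cfsg.GolayPt).ncard = 2 := Set.ncard_pair hpq
  haveI := Cfsg.Agent.H9.m24_five_transitive
  have h3 : MulAction.IsMultiplyPretransitive (fixingSubgroup Cfsg.M24 ({p, q} : Set Cfsg.GolayPt))
      (SubMulAction.ofFixingSubgroup Cfsg.M24 ({p, q} : Set Cfsg.GolayPt)) 3 :=
    SubMulAction.ofFixingSubgroup.isMultiplyPretransitive Cfsg.M24 ({p, q} : Set Cfsg.GolayPt)
      (n := 5) (by rw [hncard])
  have hΩ : Nat.card (SubMulAction.ofFixingSubgroup Cfsg.M24 ({p, q} : Set Cfsg.GolayPt)) = 22 := by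
    have h1 : Nat.card (SubMulAction.ofFixingSubgroup Cfsg.M24 ({p, q} : Set Cfsg.GolayPt)) =
        (({p, q} : Set Cfsg.GolayPt)ᶜ).ncard := by
      rw [← Nat.card_coe_set_eq]
      rfl
    rw [h1, Set.ncard_compl, hncard, Nat.card_eq_fintype_card, Cfsg.Agent.H9.card_golayPt]
  have hF : Nat.card (fixingSubgroup Cfsg.M24 ({p, q} : Set Cfsg.GolayPt)) = 443520 := by
    rw [heq]
    exact Cfsg.Agent.H9.card_stabilizer_two_points p q hpq
  have hfaith' : ∀ g : fixingSubgroup Cfsg.M24 ({p, q} : Set Cfsg.GolayPt), g ≠ 1 →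
      ∃ a : SubMulAction.ofFixingSubgroup Cfsg.M24 ({p, q} : Set Cfsg.GolayPt), g • a ≠ a := by
    intro g hg
    have hg' : (g : Cfsg.M24) ≠ 1 := fun h => hg (Subtype.ext h)
    obtain ⟨a, ha⟩ := hfaith _ hg'
    have has : a ∉ ({p, q} : Set Cfsg.GolayPt) := by
      intro has
      exact ha ((mem_fixingSubgroup_iff Cfsg.M24).1 g.2 a has)
    refine ⟨⟨a, (SubMulAction.mem_ofFixingSubgroup_iff Cfsg.M24).2 has⟩, ?_⟩
    intro h1
    exact ha (congrArg Subtype.val h1)
  have hs := Cfsg.Agent.H10.simple_deg22 hΩ h3 hfaith' hF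
  rw [heq] at hs
  exact hs

end Cfsg.Agent.S0379
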