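import Mathlib
import Cfsg.Statements.S0670
import Cfsg.Agent.H1.Index

set_option autoImplicit false
open Cfsg

namespace Cfsg.Agent.S0670

/-- A Sylow `p`-subgroup of a transitive group of degree `p ^ f` is transitive. -/
theorem sylow_transitive {G : Type*} [Group G] [Finite G] {p f : ℕ} [Fact p.Prime] {Ω : Type*}
    [Fintype Ω] [MulAction G Ω] [MulAction.IsPretransitive G Ω]
    (hcard : Fintype.card Ω = p ^ f) (P : Sylow p G) (ω x : Ω) :
    ∃ a ∈ (P : Subgroup G), a • ω = x := by
  have h1 : (MulAction.stabilizer G ω).index = p ^ f := by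
    rw [MulAction.index_stabilizer_of_transitive, Nat.card_eq_fintype_card, hcard]
  have h2 : ((P : Subgroup G).index).Coprime ((MulAction.stabilizer G ω).index) := by
    rw [h1]
    apply Nat.Coprime.pow_right
    exact ((Nat.Prime.coprime_iff_not_dvd Fact.out).mpr P.not_dvd_index).symm
  obtain ⟨g, hg⟩ := MulAction.exists_smul_eq G ω x
  obtain ⟨a, ha, b, hb, hab⟩ := (H1.coprime_index _ _ h2).2 g
  refine ⟨a, ha, ?_⟩
  rw [← hg, hab, mul_smul, MulAction.mem_stabilizer_iff.mp hb]

theorem exists_fixed_aux {G : Type*} [Group G] {K : Type*} [Field K] {p : ℕ}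
    [Fact p.Prime] {M : Type*} [AddCommGroup M] [Module K M] [Module (ZMod p) M]
    (hpM : ∀ x : M, p • x = 0)
    (ρ : Representation K G M) (P : Subgroup G) [Finite P] (hP : IsPGroup p P) (W : Submodule K M)
    (hWinv : ∀ g ∈ P, ∀ v ∈ W, ρ g v ∈ W) (hW : W ≠ ⊥) :
    ∃ u ∈ W, u ≠ 0 ∧ ∀ g ∈ P, ρ g u = u := by
  classical
  obtain ⟨w, hwW, hw0⟩ := Submodule.exists_mem_ne_zero_of_ne_bot hW
  obtain ⟨U, hUdef⟩ : ∃ U : Submodule (ZMod p) M,
    U = Submodule.span (ZMod p) (Set.range fun g : P => ρ (g : G) w) := ⟨_, rfl⟩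
  have hUfin : Finite ↥U := by
    have : Module.Finite (ZMod p) ↥U := by
      rw [hUdef]
      exact Module.Finite.span_of_finite (ZMod p) (Set.finite_range _)
    exact Module.finite_of_finite (ZMod p)
  have hUW : ∀ u ∈ U, u ∈ W := by
    intro u hu
    rw [hUdef] at hu
    induction hu using Submodule.span_induction with
    | mem x hx =>
      obtain ⟨g, rfl⟩ := hx
      exact hWinv g g.2 w hwW
    | zero => exact W.zero_mem
    | add x y _ _ ihx ihy => exact W.add_mem ihx ihy
    | smul a x _ ih => exact ZMod.smul_mem ih a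
  have hUinv : ∀ g : P, ∀ u ∈ U, ρ (g : G) u ∈ U := by
    intro g u hu
    rw [hUdef] at hu ⊢
    induction hu using Submodule.span_induction with
    | mem x hx =>
      obtain ⟨h, rfl⟩ := hx
      apply Submodule.subset_span
      refine ⟨g * h, ?_⟩
      simp only [Subgroup.coe_mul, map_mul, Module.End.mul_apply]
    | zero => rw [map_zero]; exact Submodule.zero_mem _
    | add x y _ _ ihx ihy => rw [map_add]; exact Submodule.add_mem _ ihx ihy
    | smul a x _ ih => rw [ZMod.map_smul (ρ (g : G)) a x]; exact Submodule.smul_mem _ a ih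
  letI act : MulAction P ↥U :=
    { smul := fun g u => ⟨ρ (g : G) u, hUinv g u.1 u.2⟩
      one_smul := fun u => Subtype.ext (by
        show ρ ((1 : P) : G) (u : M) = u
        rw [Subgroup.coe_one, map_one, Module.End.one_apply])
      mul_smul := fun g h u => Subtype.ext (by
        show ρ ((g * h : P) : G) (u : M) = ρ (g : G) (ρ (h : G) (u : M))
        rw [Subgroup.coe_mul, map_mul, Module.End.mul_apply]) }
  have hsmul : ∀ (g : P) (u : ↥U), ((g • u : ↥U) : M) = ρ (g : G) (u : M) := fun g u => rfl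
  have hwU : w ∈ U := by
    rw [hUdef]
    exact Submodule.subset_span ⟨1, by simp⟩
  have hpU : p ∣ Nat.card ↥U := by
    have h1 : addOrderOf (⟨w, hwU⟩ : ↥U) = p := by
      apply addOrderOf_eq_prime
      · apply Subtype.ext
        show p • w = 0
        exact hpM w
      · intro h
        exact hw0 (congrArg Subtype.val h)
    have h2 := addOrderOf_dvd_natCard (⟨w, hwU⟩ : ↥U)
    rw [h1] at h2
    exact h2
  have h0 : (0 : ↥U) ∈ MulAction.fixedPoints P ↥U := by
    intro g
    apply Subtype.ext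
    rw [hsmul]
    show ρ (g : G) (0 : M) = 0
    rw [map_zero]
  obtain ⟨b, hb, hb0⟩ := hP.exists_fixed_point_of_prime_dvd_card_of_fixed_point (α := ↥U) hpU h0
  refine ⟨b.1, hUW b.1 b.2, fun h => hb0 (Subtype.ext h.symm), fun g hg => ?_⟩
  have := hb ⟨g, hg⟩
  exact congrArg Subtype.val this

/-- A `p`-group acting linearly in characteristic `p` on a non-zero invariant subspace has a
non-zero fixed vector there. -/
theorem exists_fixed {G : Type*} [Group G] {K : Type*} [Field K] {p : ℕ}
    [Fact p.Prime] [CharP K p] {M : Type*} [AddCommGroup M] [Module K M]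
    (ρ : Representation K G M) (P : Subgroup G) [Finite P] (hP : IsPGroup p P) (W : Submodule K M)
    (hWinv : ∀ g ∈ P, ∀ v ∈ W, ρ g v ∈ W) (hW : W ≠ ⊥) :
    ∃ u ∈ W, u ≠ 0 ∧ ∀ g ∈ P, ρ g u = u := by
  have hpM : ∀ x : M, p • x = 0 := by
    intro x
    rw [← Nat.cast_smul_eq_nsmul K p x, CharP.cast_eq_zero, zero_smul]
  exact @exists_fixed_aux G _ K _ p _ M _ _ (AddCommGroup.zmodModule hpM) hpM ρ P _ hP W hWinv hW

/-- In characteristic `p`, the permutation module of a transitive action of degree `p ^ f` has the line of constant functions as its only irreducible submodule: every non-zero subrepresentation contains it. -/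
theorem result {G : Type*} [Group G] [Finite G] {K : Type*} [Field K] {p f : ℕ} [Fact p.Prime] [CharP K p] {Ω : Type*} [Fintype Ω] [MulAction G Ω] [MulAction.IsPretransitive G Ω] (hf : 1 ≤ f) (hcard : Fintype.card Ω = p ^ f) (W : Subrepresentation (Cfsg.permRep K G Ω)) (hW : W.toSubmodule ≠ ⊥) : (Cfsg.permConstants K G Ω).toSubmodule ≤ W.toSubmodule := by
  classical
  let P : Sylow p G := default
  have hPtrans := sylow_transitive hcard P
  obtain ⟨u, huW, hu0, hufix⟩ := exists_fixed (Cfsg.permRep K G Ω) (P : Subgroup G) P.isPGroup'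
    W.toSubmodule (fun g _ v hv => W.apply_mem_toSubmodule g hv) hW
  obtain ⟨ω⟩ : Nonempty Ω := by
    rw [← Fintype.card_pos_iff, hcard]
    exact pow_pos (Fact.out : p.Prime).pos f
  have hconst : ∀ x, u x = u ω := by
    intro x
    obtain ⟨a, ha, hax⟩ := hPtrans x ω
    have h1 : (Cfsg.permRep K G Ω a u) ω = u ω := congrFun (hufix a ha) ω
    have h2 : (Cfsg.permRep K G Ω a u) ω = u (a⁻¹ • ω) := rfl
    have h3 : a⁻¹ • ω = x := by rw [← hax, inv_smul_smul]
    rw [h2, h3] at h1
    exact h1
  have hne : u ω ≠ 0 := by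
    intro h0
    apply hu0
    funext x
    rw [hconst x, h0]
    rfl
  have hspan : (Cfsg.permConstants K G Ω).toSubmodule = Submodule.span K {fun _ => (1 : K)} := rfl
  rw [hspan, Submodule.span_singleton_le_iff_mem]
  have h1 : (fun _ : Ω => (1 : K)) = (u ω)⁻¹ • u := by
    funext x
    rw [Pi.smul_apply, hconst x, smul_eq_mul, inv_mul_cancel₀ hne]
  rw [h1]
  exact W.toSubmodule.smul_mem _ huW

end Cfsg.Agent.S0670
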