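import Mathlib
import Cfsg.Statements.S0671
import Cfsg.Agent.S0670

set_option autoImplicit false
open Cfsg

namespace Cfsg.Agent.S0671

section
variable {K : Type*} [Field K] {Ω : Type*} [Fintype Ω]

open Classical in
/-- adjacency operator of a relation, minus `k` times the identity -/
noncomputable def psi (K : Type*) [Field K] {Ω : Type*} [Fintype Ω] (Δ : Ω → Ω → Prop) (k : ℕ) :
    (Ω → K) →ₗ[K] (Ω → K) where
  toFun f x := (∑ y, if Δ x y then f y else 0) - (k : K) * f x
  map_add' f g := by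
    funext x
    simp only [Pi.add_apply]
    have : ∀ y, (if Δ x y then f y + g y else 0) =
        (if Δ x y then f y else 0) + (if Δ x y then g y else 0) := by
      intro y; split_ifs <;> simp
    simp only [this, Finset.sum_add_distrib]
    ring
  map_smul' c f := by
    funext x
    simp only [Pi.smul_apply, smul_eq_mul, RingHom.id_apply]
    have : ∀ y, (if Δ x y then c * f y else 0) = c * (if Δ x y then f y else 0) := by
      intro y; split_ifs <;> simp
    simp only [this, ← Finset.mul_sum]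
    ring

open Classical in
theorem psi_apply (Δ : Ω → Ω → Prop) (k : ℕ) (f : Ω → K) (x : Ω) :
    psi K Δ k f x = (∑ y, if Δ x y then f y else 0) - (k : K) * f x := rfl

theorem psi_comm {G : Type*} [Group G] [MulAction G Ω] (Δ : Ω → Ω → Prop) (k : ℕ)
    (hΔ : ∀ (g : G) x y, Δ (g • x) (g • y) ↔ Δ x y) (g : G) (f : Ω → K) :
    psi K Δ k (Cfsg.permRep K G Ω g f) = Cfsg.permRep K G Ω g (psi K Δ k f) := by
  classical
  funext x
  have h1 : Cfsg.permRep K G Ω g (psi K Δ k f) x = psi K Δ k f (g⁻¹ • x) := rfl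
  rw [h1, psi_apply, psi_apply]
  have h2 : ∀ y, Cfsg.permRep K G Ω g f y = f (g⁻¹ • y) := fun y => rfl
  simp only [h2]
  congr 1
  refine Fintype.sum_equiv (MulAction.toPerm g⁻¹) _ _ (fun y => ?_)
  rw [MulAction.toPerm_apply]
  simp only [hΔ]

open Classical in
theorem psi_one (Δ : Ω → Ω → Prop) (k : ℕ)
    (hout : ∀ x, (Finset.univ.filter (fun y => Δ x y)).card = k) :
    psi K Δ k (fun _ => 1) = 0 := by
  funext x
  rw [psi_apply]
  simp only [Finset.sum_boole, hout x, mul_one, sub_self]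
  rfl

theorem psi_adj (Δ : Ω → Ω → Prop) (k : ℕ) (f g : Ω → K) :
    ∑ x, psi K Δ k f x * g x = ∑ x, f x * psi K (fun x y => Δ y x) k g x := by
  classical
  simp only [psi_apply, sub_mul, mul_sub, Finset.sum_sub_distrib, Finset.sum_mul, Finset.mul_sum]
  congr 1
  · rw [Finset.sum_comm]
    apply Finset.sum_congr rfl
    intro y _
    apply Finset.sum_congr rfl
    intro x _
    split_ifs <;> ring
  · apply Finset.sum_congr rfl
    intro x _
    ring

open Classical in
theorem psi_sum (Δ : Ω → Ω → Prop) (k : ℕ)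
    (hin : ∀ y, (Finset.univ.filter (fun x => Δ x y)).card = k) (f : Ω → K) :
    ∑ x, psi K Δ k f x = 0 := by
  have h1 := psi_adj Δ k f (fun _ => (1 : K))
  rw [psi_one (K := K) (fun x y => Δ y x) k hin] at h1
  simpa using h1

open Classical in
theorem psi_single (Δ : Ω → Ω → Prop) (k : ℕ) (z x : Ω) :
    psi K Δ k (Pi.single z 1) x =
      (if Δ x z then (1 : K) else 0) - (k : K) * (if x = z then 1 else 0) := by
  rw [psi_apply]
  congr 1
  · rw [Finset.sum_eq_single z]
    · simp
    · intro y _ hy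
      simp [Pi.single_apply, hy]
    · intro h
      exact absurd (Finset.mem_univ z) h
  · rw [Pi.single_apply]

theorem psi_ne_zero (Δ : Ω → Ω → Prop) (k : ℕ) (hirr : ∀ x, ¬ Δ x x) {a b c d : Ω}
    (hab : a ≠ b) (hcd : c ≠ d) (h1 : Δ a b) (h2 : ¬ Δ c d) :
    ∃ s : Ω → K, ∑ x, s x = 0 ∧ psi K Δ k s ≠ 0 := by
  classical
  by_contra hcon
  push Not at hcon
  have key : ∀ y y', y ≠ y' → (if Δ y y' then (1 : K) else 0) = -(k : K) := by
    intro y y' hne
    have h0 := hcon (Pi.single y 1 - Pi.single y' 1) (by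
      simp [Finset.sum_sub_distrib])
    have h3 := congrFun h0 y
    rw [map_sub, Pi.sub_apply, psi_single, psi_single] at h3
    simp only [hirr y, if_false, if_true, hne, mul_one, mul_zero, sub_zero, zero_sub,
      Pi.zero_apply] at h3
    linear_combination -h3
  have e1 := key a b hab
  have e2 := key c d hcd
  rw [if_pos h1] at e1
  rw [if_neg h2] at e2
  exact one_ne_zero (e1.trans e2.symm)

open Classical in
theorem out_const {G : Type*} [Group G] [MulAction G Ω] [MulAction.IsPretransitive G Ω]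
    (Δ : Ω → Ω → Prop) (hΔ : ∀ (g : G) x y, Δ (g • x) (g • y) ↔ Δ x y) (x x' : Ω) :
    (Finset.univ.filter (fun y => Δ x y)).card = (Finset.univ.filter (fun y => Δ x' y)).card := by
  obtain ⟨g, rfl⟩ := MulAction.exists_smul_eq G x x'
  apply Finset.card_equiv (MulAction.toPerm g)
  intro y
  simp only [Finset.mem_filter, Finset.mem_univ, true_and, MulAction.toPerm_apply]
  exact (hΔ g x y).symm

open Classical in
theorem in_eq_out {G : Type*} [Group G] [MulAction G Ω] [MulAction.IsPretransitive G Ω]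
    (Δ : Ω → Ω → Prop) (hΔ : ∀ (g : G) x y, Δ (g • x) (g • y) ↔ Δ x y) (x₀ y₀ : Ω) :
    (Finset.univ.filter (fun x => Δ x y₀)).card = (Finset.univ.filter (fun y => Δ x₀ y)).card := by
  have h1 : ∑ x : Ω, (Finset.univ.filter (fun y => Δ x y)).card =
      ∑ y : Ω, (Finset.univ.filter (fun x => Δ x y)).card := by
    simp only [Finset.card_filter]
    exact Finset.sum_comm
  have h2 : ∀ x, (Finset.univ.filter (fun y => Δ x y)).card =
      (Finset.univ.filter (fun y => Δ x₀ y)).card := fun x => out_const Δ hΔ x x₀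
  have h3 : ∀ y, (Finset.univ.filter (fun x => Δ x y)).card =
      (Finset.univ.filter (fun x => Δ x y₀)).card :=
    fun y => out_const (fun x y => Δ y x) (fun g x y => hΔ g y x) y y₀
  simp only [h2, h3, Finset.sum_const, Finset.card_univ, smul_eq_mul] at h1
  have hpos : 0 < Fintype.card Ω := Fintype.card_pos_iff.mpr ⟨x₀⟩
  exact (Nat.eq_of_mul_eq_mul_left hpos h1).symm

end

theorem main_aux {G : Type*} [Group G] [Finite G] {K : Type*} [Field K] {p f : ℕ}
    [Fact p.Prime] [CharP K p] {Ω : Type*} [Fintype Ω] [MulAction G Ω]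
    [MulAction.IsPretransitive G Ω] (hf : 1 ≤ f) (hcard : Fintype.card Ω = p ^ f)
    (Δ : Ω → Ω → Prop) (hΔ : ∀ (g : G) x y, Δ (g • x) (g • y) ↔ Δ x y)
    (hirr : ∀ x, ¬ Δ x x) {a b c d : Ω} (hab : a ≠ b) (hcd : c ≠ d) (h1 : Δ a b) (h2 : ¬ Δ c d) :
    ∃ W W' : Subrepresentation (Cfsg.permRep K G Ω),
      (Cfsg.permConstants K G Ω).toSubmodule ≤ W.toSubmodule ∧
      W.toSubmodule < W'.toSubmodule ∧
      W'.toSubmodule ≤ (Cfsg.permSumZero K G Ω).toSubmodule ∧
      ∀ g : G, ∀ v ∈ W'.toSubmodule, Cfsg.permRep K G Ω g v - v ∈ W.toSubmodule := by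
  classical
  obtain ⟨k, hk⟩ : ∃ k : ℕ, (Finset.univ.filter (fun y => Δ a y)).card = k := ⟨_, rfl⟩
  have hout : ∀ x, (Finset.univ.filter (fun y => Δ x y)).card = k := fun x =>
    (out_const Δ hΔ x a).trans hk
  have hin : ∀ y, (Finset.univ.filter (fun x => Δ x y)).card = k := fun y =>
    (in_eq_out Δ hΔ a y).trans hk
  have hmemS : ∀ v : Ω → K, v ∈ (Cfsg.permSumZero K G Ω).toSubmodule ↔ ∑ x, v x = 0 :=
    fun v => Iff.rfl
  have hdiffS : ∀ (g : G) (m : Ω → K), Cfsg.permRep K G Ω g m - m ∈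
      (Cfsg.permSumZero K G Ω).toSubmodule := by
    intro g m
    rw [hmemS]
    simp only [Pi.sub_apply, Finset.sum_sub_distrib]
    have : ∑ x, Cfsg.permRep K G Ω g m x = ∑ x, m x :=
      Fintype.sum_equiv (MulAction.toPerm g⁻¹) _ _ (fun x => rfl)
    rw [this, sub_self]
  let W : Subrepresentation (Cfsg.permRep K G Ω) :=
    { toSubmodule := (Cfsg.permSumZero K G Ω).toSubmodule.map (psi K Δ k)
      apply_mem_toSubmodule := by
        rintro g _ ⟨s, hs, rfl⟩
        refine ⟨Cfsg.permRep K G Ω g s, (Cfsg.permSumZero K G Ω).apply_mem_toSubmodule g hs, ?_⟩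
        exact psi_comm Δ k hΔ g s }
  let W' : Subrepresentation (Cfsg.permRep K G Ω) :=
    { toSubmodule := LinearMap.range (psi K Δ k)
      apply_mem_toSubmodule := by
        rintro g _ ⟨s, rfl⟩
        exact ⟨Cfsg.permRep K G Ω g s, psi_comm Δ k hΔ g s⟩ }
  let W'' : Subrepresentation (Cfsg.permRep K G Ω) :=
    { toSubmodule := LinearMap.range (psi K (fun x y => Δ y x) k)
      apply_mem_toSubmodule := by
        rintro g _ ⟨s, rfl⟩
        exact ⟨Cfsg.permRep K G Ω g s, psi_comm _ k (fun g x y => hΔ g y x) g s⟩ }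
  refine ⟨W, W', ?_, ?_, ?_, ?_⟩
  · apply Cfsg.Agent.S0670.result hf hcard W
    obtain ⟨s, hs, hs0⟩ := psi_ne_zero (K := K) Δ k hirr hab hcd h1 h2
    intro hbot
    apply hs0
    have : psi K Δ k s ∈ W.toSubmodule := ⟨s, (hmemS s).mpr hs, rfl⟩
    rw [hbot] at this
    exact (Submodule.mem_bot K).mp this
  · refine lt_of_le_of_ne (LinearMap.map_le_range) ?_
    intro heq
    have hone : (fun _ : Ω => (1 : K)) ∈ W''.toSubmodule := by
      have hle := Cfsg.Agent.S0670.result hf hcard W'' (by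
        obtain ⟨s, hs, hs0⟩ := psi_ne_zero (K := K) (fun x y => Δ y x) k (fun x => hirr x)
          (Ne.symm hab) (Ne.symm hcd) h1 h2
        intro hbot
        apply hs0
        have : psi K (fun x y => Δ y x) k s ∈ W''.toSubmodule := ⟨s, rfl⟩
        rw [hbot] at this
        exact (Submodule.mem_bot K).mp this)
      exact hle (Submodule.subset_span rfl)
    obtain ⟨g₀, hg₀⟩ := hone
    have hm₀ : psi K Δ k (Pi.single a 1) ∈ W.toSubmodule := by
      rw [heq]
      exact ⟨_, rfl⟩
    obtain ⟨s, hs, hsψ⟩ := hm₀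
    replace hs : ∑ x, s x = 0 := hs
    have hker : psi K Δ k (Pi.single a 1 - s) = 0 := by
      rw [map_sub, hsψ, sub_self]
    have e1 : ∑ x, (Pi.single a (1 : K) - s : Ω → K) x * psi K (fun x y => Δ y x) k g₀ x = 0 := by
      rw [← psi_adj, hker]
      simp
    rw [hg₀] at e1
    simp only [mul_one, Pi.sub_apply, Finset.sum_sub_distrib, hs, sub_zero] at e1
    rw [Finset.sum_pi_single'] at e1
    simp at e1
  · rintro _ ⟨m, rfl⟩
    rw [hmemS]
    exact psi_sum Δ k hin m
  · rintro g _ ⟨m, rfl⟩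
    refine ⟨Cfsg.permRep K G Ω g m - m, hdiffS g m, ?_⟩
    rw [map_sub, psi_comm Δ k hΔ g m]

/-- If the heart of the permutation module in characteristic `p` of a transitive action of degree `p ^ f` has no trivial composition factor, the action is doubly transitive. The hypothesis is phrased without composition series: no invariant subspaces `W < W'` between the constants and the sum-zero functions with trivial action on the quotient. -/
theorem result {G : Type*} [Group G] [Finite G] {K : Type*} [Field K] {p f : ℕ} [Fact p.Prime] [CharP K p] {Ω : Type*} [Fintype Ω] [MulAction G Ω] [MulAction.IsPretransitive G Ω] (hf : 1 ≤ f) (hcard : Fintype.card Ω = p ^ f) (h : ∀ W W' : Subrepresentation (Cfsg.permRep K G Ω), (Cfsg.permConstants K G Ω).toSubmodule ≤ W.toSubmodule → W.toSubmodule < W'.toSubmodule → W'.toSubmodule ≤ (Cfsg.permSumZero K G Ω).toSubmodule → ∃ g : G, ∃ v ∈ W'.toSubmodule, Cfsg.permRep K G Ω g v - v ∉ W.toSubmodule) : MulAction.IsMultiplyPretransitive G Ω 2 := by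
  classical
  rw [MulAction.is_two_pretransitive_iff]
  intro a b c d hab hcd
  by_contra hcon
  have hΔ : ∀ (g : G) (x y : Ω), (∃ g' : G, g' • a = g • x ∧ g' • b = g • y) ↔
      ∃ g' : G, g' • a = x ∧ g' • b = y := by
    intro g x y
    constructor
    · rintro ⟨g', h1, h2⟩
      refine ⟨g⁻¹ * g', ?_, ?_⟩
      · rw [mul_smul, h1, inv_smul_smul]
      · rw [mul_smul, h2, inv_smul_smul]
    · rintro ⟨g', h1, h2⟩
      refine ⟨g * g', ?_, ?_⟩
      · rw [mul_smul, h1]
      · rw [mul_smul, h2]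
  obtain ⟨W, W', hCW, hWW', hW'S, htriv⟩ := main_aux (K := K) hf hcard
    (fun x y => ∃ g' : G, g' • a = x ∧ g' • b = y) hΔ
    (by
      rintro x ⟨g', h1, h2⟩
      exact hab (smul_left_cancel g' (h1.trans h2.symm)))
    hab hcd ⟨1, one_smul _ _, one_smul _ _⟩ hcon
  obtain ⟨g, v, hv, hgv⟩ := h W W' hCW hWW' hW'S
  exact hgv (htriv g v hv)

end Cfsg.Agent.S0671
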