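import Cfsg.Statements.S0675
import Cfsg.Agent.H75.BurnsidePrime
import Cfsg.Agent.S0671

set_option autoImplicit false
open Cfsg

namespace Cfsg.Agent.S0675

theorem small_affine2 : ∀ σ : Equiv.Perm (ZMod 2), ∃ a b : ZMod 2, ∀ j, σ j = a * j + b := by
  decide

theorem small_affine3 : ∀ σ : Equiv.Perm (ZMod 3), ∃ a b : ZMod 3, ∀ j, σ j = a * j + b := by
  decide

theorem p_ge_five {α : Type*} [Fintype α] [DecidableEq α] {p : ℕ} [Fact p.Prime]
    (hp : Fintype.card α = p) (G : Subgroup (Equiv.Perm α)) [MulAction.IsPretransitive G α]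
    (hG : ¬ Group.IsSolvable G) : 5 ≤ p := by
  have hα : p.Prime := Fact.out
  by_contra hlt
  apply hG
  obtain ⟨t, e, hte⟩ := H75.exists_equiv_zmod hp G
  let ρ : G →* Equiv.Perm (ZMod p) := (e.symm.permCongrHom.toMonoidHom).comp G.subtype
  have hρinj : Function.Injective ρ := fun a b hab =>
    Subtype.ext (e.symm.permCongrHom.injective hab)
  apply H75.isSolvable_of_affine ρ hρinj
  have h23 : p = 2 ∨ p = 3 := by
    have h2 := hα.two_le
    have h4 : p ≠ 4 := by rintro rfl; revert hα; decide
    omega
  clear hte t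
  rcases h23 with rfl | rfl
  · intro g; exact small_affine2 _
  · intro g; exact small_affine3 _

/-- Burnside's Theorem on permutation groups of prime degree: a transitive permutation group of prime degree that is not solvable is doubly transitive. -/
theorem result {α : Type*} [Fintype α] [DecidableEq α] (hα : (Fintype.card α).Prime) (G : Subgroup (Equiv.Perm α)) [MulAction.IsPretransitive G α] : Group.IsSolvable G ∨ MulAction.IsMultiplyPretransitive G α 2 := by
  classical
  by_cases hG : Group.IsSolvable G
  · exact Or.inl hG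
  right
  obtain ⟨p, hp⟩ : ∃ p, Fintype.card α = p := ⟨_, rfl⟩
  rw [hp] at hα
  haveI : Fact p.Prime := ⟨hα⟩
  have hp5 : 5 ≤ p := p_ge_five hp G hG
  apply Cfsg.Agent.S0671.result (K := ZMod p) (p := p) (f := 1) le_rfl (by rw [hp, pow_one])
  intro W W' h1 h2 h3
  have hW : W = Cfsg.permConstants (ZMod p) G α := by
    rcases H75.heart_irreducible hp G hG W h1 (h2.le.trans h3) with h | h
    · exact h
    · exfalso; rw [h] at h2; exact absurd h3 (not_le_of_gt h2)
  have hW' : W' = Cfsg.permSumZero (ZMod p) G α := by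
    rcases H75.heart_irreducible hp G hG W' (h1.trans h2.le) h3 with h | h
    · exfalso; rw [h] at h2; exact absurd h1 (not_le_of_gt h2)
    · exact h
  rw [hW, hW']
  -- two distinct points
  have hcard2 : 1 < Fintype.card α := by rw [hp]; omega
  obtain ⟨a, b, hab⟩ := Fintype.exists_pair_of_one_lt_card hcard2
  obtain ⟨g, hg⟩ := MulAction.exists_smul_eq G a b
  have hgb : g • b ≠ b := by
    intro h
    rw [← hg] at h
    exact hab ((MulAction.injective g h).symm.trans hg)
  obtain ⟨x, hx⟩ : ∃ x, x ∉ ({a, b, g • b} : Finset α) := by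
    by_contra hcon
    push Not at hcon
    have h4 : (Finset.univ : Finset α) ⊆ {a, b, g • b} := fun y _ => hcon y
    have h5 := Finset.card_le_card h4
    have h6 : ({a, b, g • b} : Finset α).card ≤ 3 := Finset.card_le_three
    rw [Finset.card_univ, hp] at h5
    omega
  simp only [Finset.mem_insert, Finset.mem_singleton, not_or] at hx
  obtain ⟨hxa, hxb, hxgb⟩ := hx
  let v : α → ZMod p := Pi.single a 1 - Pi.single b 1
  refine ⟨g, v, ?_, ?_⟩
  · change ∑ y, v y = 0
    simp only [v, Pi.sub_apply, Finset.sum_sub_distrib, Finset.sum_pi_single', Finset.mem_univ,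
      if_true, sub_self]
  · intro hmem
    change _ ∈ Submodule.span (ZMod p) {fun _ => 1} at hmem
    rw [Submodule.mem_span_singleton] at hmem
    obtain ⟨c, hc⟩ := hmem
    have hrep : ∀ y, (Cfsg.permRep (ZMod p) G α g v - v) y = v (g⁻¹ • y) - v y := fun y => rfl
    have hxval := congrFun hc x
    have hbval := congrFun hc b
    rw [hrep] at hxval hbval
    have hginvb : g⁻¹ • b = a := by rw [← hg, inv_smul_smul]
    have hginvx_a : g⁻¹ • x ≠ a := by
      intro h
      apply hxb
      rw [← hg, ← h, smul_inv_smul]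
    have hginvx_b : g⁻¹ • x ≠ b := by
      intro h
      apply hxgb
      rw [← h, smul_inv_smul]
    rw [hginvb] at hbval
    simp only [v, Pi.sub_apply, Pi.smul_apply, smul_eq_mul, mul_one, Pi.single_eq_same,
      Pi.single_eq_of_ne hab, Pi.single_eq_of_ne hginvx_a, Pi.single_eq_of_ne hginvx_b,
      Pi.single_eq_of_ne hxa, Pi.single_eq_of_ne hxb, Pi.single_eq_of_ne hab.symm, sub_zero,
      zero_sub, sub_neg_eq_add] at hxval hbval
    rw [hxval] at hbval
    have h2 : ((2 : ℕ) : ZMod p) = 0 := by
      push_cast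
      rw [hbval]; norm_num
    rw [ZMod.natCast_eq_zero_iff] at h2
    have := Nat.le_of_dvd (by norm_num) h2
    omega

end Cfsg.Agent.S0675
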