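import Mathlib
import Cfsg.Statements.S0672

set_option autoImplicit false
open Cfsg

namespace Cfsg.Agent.S0672

section
variable {K : Type*} [Field K] {Ω P : Type*} [Fintype Ω]

/-- the linear map with kernel `c` -/
noncomputable def phi (c : Ω → P → K) : (Ω → K) →ₗ[K] (P → K) where
  toFun f s := ∑ x, c x s * f x
  map_add' f g := by
    funext s
    simp only [Pi.add_apply, mul_add, Finset.sum_add_distrib]
  map_smul' a f := by
    funext s
    simp only [Pi.smul_apply, smul_eq_mul, RingHom.id_apply, Finset.mul_sum]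
    apply Finset.sum_congr rfl
    intro x _
    ring

theorem phi_apply (c : Ω → P → K) (f : Ω → K) (s : P) : phi c f s = ∑ x, c x s * f x := rfl

theorem phi_comm {G : Type*} [Group G] [MulAction G Ω] [MulAction G P] (c : Ω → P → K)
    (hc : ∀ (g : G) x s, c (g • x) (g • s) = c x s) (g : G) (f : Ω → K) :
    phi c (Cfsg.permRep K G Ω g f) = Cfsg.permRep K G P g (phi c f) := by
  funext s
  have h1 : Cfsg.permRep K G P g (phi c f) s = phi c f (g⁻¹ • s) := rfl
  rw [h1, phi_apply, phi_apply]
  have h2 : ∀ y, Cfsg.permRep K G Ω g f y = f (g⁻¹ • y) := fun y => rfl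
  simp only [h2]
  refine Fintype.sum_equiv (MulAction.toPerm g⁻¹) _ _ (fun y => ?_)
  rw [MulAction.toPerm_apply]
  rw [← hc g⁻¹ y s]

/-- the intertwining map with kernel `c` on the sum-zero functions -/
noncomputable def inter {G : Type*} [Group G] [MulAction G Ω] [MulAction G P] (c : Ω → P → K)
    (hc : ∀ (g : G) x s, c (g • x) (g • s) = c x s) :
    Representation.IntertwiningMap (Cfsg.permSumZero K G Ω).toRepresentation
      (Cfsg.permRep K G P) where
  toLinearMap := phi c ∘ₗ (Cfsg.permSumZero K G Ω).toSubmodule.subtype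
  isIntertwining' g := by
    refine LinearMap.ext fun v => ?_
    exact phi_comm c hc g v

theorem key {G : Type*} [Group G] [MulAction G Ω] [MulAction G P] [DecidableEq Ω]
    (h : ∀ f : Representation.IntertwiningMap (Cfsg.permSumZero K G Ω).toRepresentation
      (Cfsg.permRep K G P), (∀ v : (Cfsg.permSumZero K G Ω).toSubmodule,
        (v : Ω → K) ∈ (Cfsg.permConstants K G Ω).toSubmodule → f v = 0) → f = 0)
    (c : Ω → P → K) (hc : ∀ (g : G) x s, c (g • x) (g • s) = c x s)
    (hsum : ∀ s, ∑ x, c x s = 0) (x x' : Ω) (s : P) : c x s = c x' s := by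
  have h0 := h (inter c hc) (by
    intro v hv
    obtain ⟨a, ha⟩ := Submodule.mem_span_singleton.mp hv
    funext s
    change phi c (v : Ω → K) s = 0
    rw [← ha, phi_apply]
    simp only [Pi.smul_apply, smul_eq_mul, mul_one]
    rw [← Finset.sum_mul, hsum, zero_mul])
  have hv : (Pi.single x 1 - Pi.single x' 1 : Ω → K) ∈
      (Cfsg.permSumZero K G Ω).toSubmodule := by
    change ∑ y, (Pi.single x 1 - Pi.single x' 1 : Ω → K) y = 0
    simp [Finset.sum_sub_distrib]
  have h1 : inter c hc ⟨_, hv⟩ = 0 := by rw [h0]; rfl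
  have h2 := congrFun h1 s
  change phi c (Pi.single x 1 - Pi.single x' 1 : Ω → K) s = 0 at h2
  rw [phi_apply] at h2
  simp only [Pi.sub_apply, mul_sub, Finset.sum_sub_distrib] at h2
  have h3 : ∀ z, ∑ y, c y s * (Pi.single z (1:K) : Ω → K) y = c z s := by
    intro z
    rw [Finset.sum_eq_single z]
    · simp
    · intro y _ hy; simp [hy]
    · intro hz; exact absurd (Finset.mem_univ z) hz
  rw [h3, h3] at h2
  exact sub_eq_zero.mp h2

end

/-- Let a finite group act faithfully and doubly transitively with point stabilisers of even order, and let `K` have characteristic `p` dividing the degree. If the heart of the permutation module admits no non-zero equivariant map to the permutation module on unordered pairs (phrased: every intertwining map from the sum-zero functions vanishing on the constants is zero), the action is triply transitive. -/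
theorem result {G : Type*} [Group G] [Finite G] {K : Type*} [Field K] {p : ℕ} [Fact p.Prime] [CharP K p] {Ω : Type*} [Fintype Ω] [DecidableEq Ω] [MulAction G Ω] [FaithfulSMul G Ω] (h2 : MulAction.IsMultiplyPretransitive G Ω 2) (hp : p ∣ Fintype.card Ω) (heven : ∀ a : Ω, Even (Nat.card (MulAction.stabilizer G a))) (h : ∀ f : Representation.IntertwiningMap (Cfsg.permSumZero K G Ω).toRepresentation (Cfsg.permRep K G (Set.powersetCard Ω 2)), (∀ v : (Cfsg.permSumZero K G Ω).toSubmodule, (v : Ω → K) ∈ (Cfsg.permConstants K G Ω).toSubmodule → f v = 0) → f = 0) : MulAction.IsMultiplyPretransitive G Ω 3 := by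
  classical
  have h2' : ∀ {a b c d : Ω}, a ≠ b → c ≠ d → ∃ g : G, g • a = c ∧ g • b = d :=
    MulAction.is_two_pretransitive_iff.mp h2
  have hP : MulAction.IsPretransitive G (Set.powersetCard Ω 2) :=
    Set.powersetCard.isPretransitive_of_isMultiplyPretransitive G h2
  have hmem : ∀ (g : G) (x : Ω) (s : Set.powersetCard Ω 2), g • x ∈ g • s ↔ x ∈ s := by
    intro g x s
    rw [← Set.powersetCard.mem_coe_iff, Set.powersetCard.coe_smul,
      Finset.smul_mem_smul_finset_iff]
    rfl
  have hcard : ∀ s : Set.powersetCard Ω 2, ∑ x : Ω, (if x ∈ s then (1:K) else 0) = 2 := by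
    intro s
    rw [Finset.sum_boole]
    have : (Finset.univ.filter (fun x => x ∈ s)) = (s : Finset Ω) := by
      ext x; simp [Set.powersetCard.mem_coe_iff]
    rw [this, Set.powersetCard.card_eq]
    norm_num
  have hpair : ∀ a b : Ω, a ≠ b →
      ∃ s : Set.powersetCard Ω 2, (∀ z, z ∈ s ↔ z = a ∨ z = b) := by
    intro a b hab
    refine ⟨⟨{a, b}, by rw [Set.powersetCard.mem_iff]; exact Finset.card_pair hab⟩, ?_⟩
    intro z
    rw [← Set.powersetCard.mem_coe_iff]
    simp
  by_cases h2K : (2 : K) = 0
  · have hk := key h (fun x s => if x ∈ s then (1:K) else 0)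
      (by intro g x s; simp only [hmem]) (by intro s; rw [hcard s, h2K])
    rw [MulAction.isMultiplyPretransitive_iff]
    intro x y
    exfalso
    obtain ⟨s, hs⟩ := hpair (x 0) (x 1) (x.injective.ne (by decide))
    have e := hk (x 0) (x 2) s
    have m0 : x 0 ∈ s := (hs _).mpr (Or.inl rfl)
    have m2 : x 2 ∉ s := by
      rw [hs]
      push Not
      exact ⟨x.injective.ne (by decide), x.injective.ne (by decide)⟩
    rw [if_pos m0, if_neg m2] at e
    exact one_ne_zero e
  · have hC : ∀ (s : Set.powersetCard Ω 2) (x x' : Ω), x ∉ s → x' ∉ s →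
        ∃ g : G, g • x = x' ∧ g • s = s := by
      intro s x x' hx hx'
      set c₁ : Ω → Set.powersetCard Ω 2 → K :=
        fun y t => if ∃ g : G, g • x = y ∧ g • s = t then 1 else 0 with hc₁
      have hc₁inv : ∀ (g : G) y t, c₁ (g • y) (g • t) = c₁ y t := by
        intro g y t
        have : (∃ g' : G, g' • x = g • y ∧ g' • s = g • t) ↔
            ∃ g' : G, g' • x = y ∧ g' • s = t := by
          constructor
          · rintro ⟨g', h1, h2⟩
            refine ⟨g⁻¹ * g', ?_, ?_⟩
            · rw [mul_smul, h1, inv_smul_smul]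
            · rw [mul_smul, h2, inv_smul_smul]
          · rintro ⟨g', h1, h2⟩
            refine ⟨g * g', ?_, ?_⟩
            · rw [mul_smul, h1]
            · rw [mul_smul, h2]
        simp only [hc₁, this]
      have hm : ∀ t, ∑ y, c₁ y t = ∑ y, c₁ y s := by
        intro t
        obtain ⟨g, rfl⟩ := MulAction.exists_smul_eq G s t
        symm
        refine Fintype.sum_equiv (MulAction.toPerm g) _ _ (fun y => ?_)
        rw [MulAction.toPerm_apply, hc₁inv]
      have hk := key h (fun y t => c₁ y t - ((∑ y, c₁ y s) / 2) * (if y ∈ t then (1:K) else 0))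
        (by intro g y t; simp only [hc₁inv, hmem])
        (by
          intro t
          rw [Finset.sum_sub_distrib, ← Finset.mul_sum, hcard, hm t]
          field_simp
          ring)
      have e := hk x x' s
      simp only [if_neg hx, if_neg hx', mul_zero, sub_zero] at e
      have e1 : c₁ x s = 1 := if_pos ⟨1, one_smul _ _, one_smul _ _⟩
      rw [e1] at e
      by_contra hcon
      have e2 : c₁ x' s = 0 := if_neg hcon
      rw [e2] at e
      exact one_ne_zero e
    have hfix : ∀ (a b : Ω) (s : Set.powersetCard Ω 2), a ≠ b →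
        (∀ z, z ∈ s ↔ z = a ∨ z = b) → ∀ g : G, g • s = s →
        (g • a = a ∧ g • b = b) ∨ (g • a = b ∧ g • b = a) := by
      intro a b s hab hs g hg
      have ha : g • a ∈ s := by
        have : g • a ∈ g • s := (hmem g a s).mpr ((hs a).mpr (Or.inl rfl))
        rwa [hg] at this
      have hb : g • b ∈ s := by
        have : g • b ∈ g • s := (hmem g b s).mpr ((hs b).mpr (Or.inr rfl))
        rwa [hg] at this
      have hne : g • a ≠ g • b := fun h => hab (smul_left_cancel g h)
      rcases (hs _).mp ha with h1 | h1 <;> rcases (hs _).mp hb with h2 | h2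
      · exact absurd (h1.trans h2.symm) hne
      · exact Or.inl ⟨h1, h2⟩
      · exact Or.inr ⟨h1, h2⟩
      · exact absurd (h1.trans h2.symm) hne
    have hE : ∀ (d a b : Ω), a ≠ b → a ≠ d → b ≠ d →
        ∃ t : G, t • d = d ∧ t • a = b ∧ t • b = a := by
      intro d a b hab had hbd
      obtain ⟨t, ht⟩ := exists_prime_orderOf_dvd_card' (G := MulAction.stabilizer G d) 2
        (even_iff_two_dvd.mp (heven d))
      have htd : (t : G) • d = d := MulAction.mem_stabilizer_iff.mp t.2
      have ht2 : (t : G) * (t : G) = 1 := by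
        have := pow_orderOf_eq_one t
        rw [ht, pow_two] at this
        exact congrArg Subtype.val this
      have ht1 : (t : G) ≠ 1 := by
        intro h1
        have : t = 1 := Subtype.ext h1
        rw [this, orderOf_one] at ht
        norm_num at ht
      obtain ⟨y, hy⟩ : ∃ y : Ω, (t : G) • y ≠ y := by
        by_contra hcon
        push Not at hcon
        exact ht1 (FaithfulSMul.eq_of_smul_eq_smul (α := Ω) (fun y => by rw [hcon y, one_smul]))
      have hyd : y ≠ d := fun h => hy (by rw [h, htd])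
      have htyd : (t : G) • y ≠ d := by
        intro h1
        apply hyd
        apply smul_left_cancel (t : G)
        rw [h1, htd]
      obtain ⟨g₂, hg2a, hg2b⟩ := h2' (Ne.symm hy) hab
      have hd'a : g₂ • d ≠ a := by
        rw [← hg2a]
        exact fun h => hyd (smul_left_cancel g₂ h).symm
      have hd'b : g₂ • d ≠ b := by
        rw [← hg2b]
        exact fun h => htyd (smul_left_cancel g₂ h).symm
      obtain ⟨s, hs⟩ := hpair a b hab
      have hd's : g₂ • d ∉ s := by
        rw [hs]; push Not; exact ⟨hd'a, hd'b⟩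
      have hds : d ∉ s := by
        rw [hs]; push Not; exact ⟨Ne.symm had, Ne.symm hbd⟩
      obtain ⟨g₃, hg3, hg3s⟩ := hC s (g₂ • d) d hd's hds
      have hgd : (g₃ * g₂) • d = d := by rw [mul_smul, hg3]
      have hgd' : (g₃ * g₂)⁻¹ • d = d := by
        rw [inv_smul_eq_iff, hgd]
      have hconj : ∀ (g : G) (z : Ω), (g * (t : G) * g⁻¹) • (g • z) = g • (t : G) • z := by
        intro g z
        rw [mul_smul, mul_smul, inv_smul_smul]
      have ea : g₃ • a = (g₃ * g₂) • y := by rw [mul_smul, hg2a]
      have eb : g₃ • b = (g₃ * g₂) • ((t : G) • y) := by rw [mul_smul, hg2b]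
      have e1 : ((g₃ * g₂) * (t : G) * (g₃ * g₂)⁻¹) • (g₃ • a) = g₃ • b := by
        rw [ea, eb, hconj]
      have e2 : ((g₃ * g₂) * (t : G) * (g₃ * g₂)⁻¹) • (g₃ • b) = g₃ • a := by
        rw [ea, eb, hconj, ← mul_smul (t : G), ht2, one_smul]
      refine ⟨(g₃ * g₂) * (t : G) * (g₃ * g₂)⁻¹, ?_, ?_⟩
      · rw [mul_smul, mul_smul, hgd', htd, hgd]
      · rcases hfix a b s hab hs g₃ hg3s with ⟨h1, h2⟩ | ⟨h1, h2⟩
        · rw [h1, h2] at e1 e2
          exact ⟨e1, e2⟩
        · rw [h1, h2] at e1 e2
          exact ⟨e2, e1⟩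
    have hD : ∀ (a b c d : Ω), a ≠ b → c ≠ a → c ≠ b → d ≠ a → d ≠ b →
        ∃ g : G, g • a = a ∧ g • b = b ∧ g • c = d := by
      intro a b c d hab hca hcb hda hdb
      obtain ⟨s, hs⟩ := hpair a b hab
      have hcs : c ∉ s := by rw [hs]; push Not; exact ⟨hca, hcb⟩
      have hds : d ∉ s := by rw [hs]; push Not; exact ⟨hda, hdb⟩
      obtain ⟨g₁, hg1, hg1s⟩ := hC s c d hcs hds
      rcases hfix a b s hab hs g₁ hg1s with ⟨h1, h2⟩ | ⟨h1, h2⟩
      · exact ⟨g₁, h1, h2, hg1⟩
      · obtain ⟨t, htd, hta, htb⟩ := hE d a b hab (Ne.symm hda) (Ne.symm hdb)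
        refine ⟨t * g₁, ?_, ?_, ?_⟩
        · rw [mul_smul, h1, htb]
        · rw [mul_smul, h2, hta]
        · rw [mul_smul, hg1, htd]
    rw [MulAction.isMultiplyPretransitive_iff]
    intro x y
    have hx01 : x 0 ≠ x 1 := x.injective.ne (by decide)
    have hx20 : x 2 ≠ x 0 := x.injective.ne (by decide)
    have hx21 : x 2 ≠ x 1 := x.injective.ne (by decide)
    have hy01 : y 0 ≠ y 1 := y.injective.ne (by decide)
    have hy20 : y 2 ≠ y 0 := y.injective.ne (by decide)
    have hy21 : y 2 ≠ y 1 := y.injective.ne (by decide)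
    obtain ⟨g, hg0, hg1⟩ := h2' hx01 hy01
    have hc0 : g • x 2 ≠ y 0 := by
      rw [← hg0]; exact fun h => hx20 (smul_left_cancel g h)
    have hc1 : g • x 2 ≠ y 1 := by
      rw [← hg1]; exact fun h => hx21 (smul_left_cancel g h)
    obtain ⟨g', h0, h1, h2⟩ := hD (y 0) (y 1) (g • x 2) (y 2) hy01 hc0 hc1 hy20 hy21
    refine ⟨g' * g, ?_⟩
    ext i
    rw [Function.Embedding.smul_apply, mul_smul]
    fin_cases i
    · exact (congrArg (g' • ·) hg0).trans h0
    · exact (congrArg (g' • ·) hg1).trans h1
    · exact h2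

end Cfsg.Agent.S0672
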