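import Cfsg.Statements.S0676
import Cfsg.Agent.H75.PrimeIndex
import Cfsg.Agent.S0672
import Cfsg.Agent.S0675

set_option autoImplicit false
open Cfsg

namespace Cfsg.Agent.S0676

open Equiv
open scoped Pointwise

theorem sum_zmod_eq_zero {p : ℕ} [Fact p.Prime] (hp2 : p ≠ 2) : ∑ j : ZMod p, j = 0 := by
  have hp : p.Prime := Fact.out
  have h2ne : (2 : ZMod p) ≠ 0 := by
    intro h
    have h' : ((2 : ℕ) : ZMod p) = 0 := by exact_mod_cast h
    rw [ZMod.natCast_eq_zero_iff] at h'
    exact hp2 ((Nat.prime_dvd_prime_iff_eq hp Nat.prime_two).mp h')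
  have h1 : ∑ j : ZMod p, (-j) = ∑ j : ZMod p, j := Equiv.sum_comp (Equiv.neg (ZMod p)) (fun j => j)
  rw [Finset.sum_neg_distrib] at h1
  have h3 : (2 : ZMod p) * ∑ j : ZMod p, j = 0 := by
    linear_combination -h1
  rcases mul_eq_zero.mp h3 with h | h
  · exact absurd h h2ne
  · exact h

theorem hom_pairs_zero {α : Type*} [Fintype α] [DecidableEq α] {p : ℕ} [Fact p.Prime]
    (hα : Fintype.card α = p) (hp2 : p ≠ 2) (G : Subgroup (Equiv.Perm α))
    [MulAction.IsPretransitive G α] (hG : ¬ Group.IsSolvable G) (τ t : G)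
    (e : ZMod p ≃ α) (he1 : ∀ j, τ • e j = e (j + 1)) (he2 : ∀ j, t • e j = e (-j))
    (f : Representation.IntertwiningMap (Cfsg.permSumZero (ZMod p) G α).toRepresentation
      (Cfsg.permRep (ZMod p) G (Set.powersetCard α 2)))
    (hf : ∀ v : (Cfsg.permSumZero (ZMod p) G α).toSubmodule,
      (v : α → ZMod p) ∈ (Cfsg.permConstants (ZMod p) G α).toSubmodule → f v = 0) : f = 0 := by
  classical
  have hp : p.Prime := Fact.out
  have h2ne : (2 : ZMod p) ≠ 0 := by
    intro h
    have h' : ((2 : ℕ) : ZMod p) = 0 := by exact_mod_cast h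
    rw [ZMod.natCast_eq_zero_iff] at h'
    exact hp2 ((Nat.prime_dvd_prime_iff_eq hp Nat.prime_two).mp h')
  -- constants lie in the sum-zero functions
  have hconst_le : (Cfsg.permConstants (ZMod p) G α).toSubmodule ≤
      (Cfsg.permSumZero (ZMod p) G α).toSubmodule := by
    intro v hv
    change v ∈ Submodule.span (ZMod p) {fun _ => 1} at hv
    rw [Submodule.mem_span_singleton] at hv
    obtain ⟨c, rfl⟩ := hv
    change ∑ x, (c • (fun _ => 1 : α → ZMod p)) x = 0
    simp only [Pi.smul_apply, smul_eq_mul, mul_one, Finset.sum_const, Finset.card_univ, hα,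
      nsmul_eq_mul]
    rw [ZMod.natCast_self, zero_mul]
  -- inverse actions in coordinates
  have hτinv : ∀ j, τ⁻¹ • e j = e (j - 1) := by
    intro j
    rw [inv_smul_eq_iff, he1, sub_add_cancel]
  have htinv : ∀ j, t⁻¹ • e j = e (-j) := by
    intro j
    rw [inv_smul_eq_iff, he2, neg_neg]
  have hτpowinv : ∀ (n : ℕ) j, (τ ^ n)⁻¹ • e j = e (j - n) := by
    intro n j
    rw [inv_smul_eq_iff, H75.pow_smul_coords τ e he1, sub_add_cancel]
  -- the linear function
  let ℓ : α → ZMod p := fun x => e.symm x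
  have hℓsum : ∑ x, ℓ x = 0 := by
    have h1 : ∑ x, ℓ x = ∑ j : ZMod p, ℓ (e j) := (Equiv.sum_comp e ℓ).symm
    rw [h1]
    simp only [ℓ, Equiv.symm_apply_apply]
    exact sum_zmod_eq_zero hp2
  have hℓmem : ℓ ∈ (Cfsg.permSumZero (ZMod p) G α).toSubmodule := hℓsum
  let ℓ' : (Cfsg.permSumZero (ZMod p) G α).toSubmodule := ⟨ℓ, hℓmem⟩
  set F : Set.powersetCard α 2 → ZMod p := f ℓ' with hF
  -- translation invariance of `F`
  have hFτ : ∀ s : Set.powersetCard α 2, F (τ⁻¹ • s) = F s := by
    have h1 : f ((Cfsg.permSumZero (ZMod p) G α).toRepresentation τ ℓ' - ℓ') = 0 := by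
      apply hf
      change _ ∈ Submodule.span (ZMod p) {fun _ => 1}
      rw [Submodule.mem_span_singleton]
      refine ⟨-1, ?_⟩
      funext x
      obtain ⟨j, rfl⟩ := e.surjective x
      change (-1 : ZMod p) • (1 : ZMod p) = ℓ (τ⁻¹ • e j) - ℓ (e j)
      rw [hτinv]
      simp only [ℓ, Equiv.symm_apply_apply, smul_eq_mul]
      ring
    rw [map_sub, sub_eq_zero, Representation.IntertwiningMap.isIntertwining _ _ f] at h1
    intro s
    have h2 := congrFun h1 s
    exact h2
  have hFτpow : ∀ (n : ℕ) (s : Set.powersetCard α 2), F ((τ ^ n)⁻¹ • s) = F s := by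
    intro n
    induction n with
    | zero => intro s; simp
    | succ n ih =>
      intro s
      rw [pow_succ', mul_inv_rev, mul_smul, ih, hFτ]
  have hFt : ∀ s : Set.powersetCard α 2, F (t⁻¹ • s) = - F s := by
    have h1 : (Cfsg.permSumZero (ZMod p) G α).toRepresentation t ℓ' = -ℓ' := by
      apply Subtype.ext
      funext x
      obtain ⟨j, rfl⟩ := e.surjective x
      change ℓ (t⁻¹ • e j) = - ℓ (e j)
      rw [htinv]
      simp only [ℓ, Equiv.symm_apply_apply]
    have h2 := Representation.IntertwiningMap.isIntertwining _ _ f t ℓ'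
    rw [h1, map_neg] at h2
    intro s
    have h3 := congrFun h2 s
    exact h3.symm
  have hFzero : F = 0 := by
    funext s
    obtain ⟨x, y, hxy, hs⟩ := Finset.card_eq_two.mp s.2
    obtain ⟨c, rfl⟩ := e.surjective x
    obtain ⟨d, rfl⟩ := e.surjective y
    have hkey : t⁻¹ • s = (τ ^ (c + d).val)⁻¹ • s := by
      apply Subtype.ext
      have hsm : ∀ g : G, ((g • s : Set.powersetCard α 2) : Finset α) = {g • e c, g • e d} := by
        intro g
        rw [Subgroup.smul_def, Set.powersetCard.coe_smul, hs, Finset.smul_finset_insert,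
          Finset.smul_finset_singleton]
        rfl
      rw [hsm, hsm, htinv, htinv, hτpowinv, hτpowinv, ZMod.natCast_zmod_val]
      have e1 : c - (c + d) = -d := by ring
      have e2 : d - (c + d) = -c := by ring
      rw [e1, e2, Finset.pair_comm]
    have h1 := hFt s
    rw [hkey, hFτpow] at h1
    have h2 : (2 : ZMod p) * F s = 0 := by linear_combination h1
    rcases mul_eq_zero.mp h2 with h | h
    · exact absurd h h2ne
    · exact h
  -- the kernel of `f` as a subrepresentation
  let W : Subrepresentation (Cfsg.permRep (ZMod p) G α) :=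
    { toSubmodule := (LinearMap.ker f.toLinearMap).map
        (Cfsg.permSumZero (ZMod p) G α).toSubmodule.subtype
      apply_mem_toSubmodule := by
        rintro g _ ⟨w, hw, rfl⟩
        refine ⟨(Cfsg.permSumZero (ZMod p) G α).toRepresentation g w, ?_, rfl⟩
        have hw' : f w = 0 := hw
        change f ((Cfsg.permSumZero (ZMod p) G α).toRepresentation g w) = 0
        rw [Representation.IntertwiningMap.isIntertwining _ _ f, hw', map_zero] }
  have hWmem : ∀ v : α → ZMod p, v ∈ W.toSubmodule ↔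
      ∃ hv : v ∈ (Cfsg.permSumZero (ZMod p) G α).toSubmodule, f ⟨v, hv⟩ = 0 := by
    intro v
    constructor
    · rintro ⟨w, hw, rfl⟩
      exact ⟨w.2, hw⟩
    · rintro ⟨hv, hfv⟩
      exact ⟨⟨v, hv⟩, hfv, rfl⟩
  have h₁ : (Cfsg.permConstants (ZMod p) G α).toSubmodule ≤ W.toSubmodule := by
    intro v hv
    rw [hWmem]
    exact ⟨hconst_le hv, hf ⟨v, hconst_le hv⟩ hv⟩
  have h₂ : W.toSubmodule ≤ (Cfsg.permSumZero (ZMod p) G α).toSubmodule := by
    intro v hv
    obtain ⟨hv', -⟩ := (hWmem v).mp hv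
    exact hv'
  have hℓW : ℓ ∈ W.toSubmodule := (hWmem ℓ).mpr ⟨hℓmem, hFzero⟩
  have hℓconst : ℓ ∉ (Cfsg.permConstants (ZMod p) G α).toSubmodule := by
    intro h
    change ℓ ∈ Submodule.span (ZMod p) {fun _ => 1} at h
    rw [Submodule.mem_span_singleton] at h
    obtain ⟨c, hc⟩ := h
    have h0 := congrFun hc (e 0)
    have h1 := congrFun hc (e 1)
    simp only [ℓ, Equiv.symm_apply_apply, Pi.smul_apply, smul_eq_mul, mul_one] at h0 h1
    rw [h0] at h1
    exact zero_ne_one h1
  have hWtop : W = Cfsg.permSumZero (ZMod p) G α := by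
    rcases H75.heart_irreducible hα G hG W h₁ h₂ with h | h
    · exfalso
      rw [h] at hℓW
      exact hℓconst hℓW
    · exact h
  apply Representation.IntertwiningMap.ext
  apply LinearMap.ext
  intro v
  have hv : (v : α → ZMod p) ∈ W.toSubmodule := by rw [hWtop]; exact v.2
  obtain ⟨hv', hfv⟩ := (hWmem _).mp hv
  exact hfv

/-- A non-solvable transitive permutation group of prime degree `p` whose Sylow `p`-normaliser has even order is triply transitive. -/
theorem result {α : Type*} [Fintype α] [DecidableEq α] {p : ℕ} [Fact p.Prime] (hα : Fintype.card α = p) (G : Subgroup (Equiv.Perm α)) [MulAction.IsPretransitive G α] (hG : ¬ Group.IsSolvable G) (P : Sylow p G) (heven : Even (Nat.card (Subgroup.normalizer ((P : Subgroup G) : Set G)))) : MulAction.IsMultiplyPretransitive G α 3 := by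
  classical
  have hp : p.Prime := Fact.out
  have hp5 := Cfsg.Agent.S0675.p_ge_five hα G hG
  have hp2 : p ≠ 2 := by omega
  have h2t : MulAction.IsMultiplyPretransitive G α 2 := by
    rcases Cfsg.Agent.S0675.result (by rw [hα]; exact hp) G with h | h
    · exact absurd h hG
    · exact h
  obtain ⟨τ, t, hτ, hPz, ht, hconj⟩ := H75.exists_dihedral_pair hα hp2 G P heven
  have hτp : τ ^ p = 1 := by rw [← hτ]; exact pow_orderOf_eq_one τ
  have ht2 : t ^ 2 = 1 := by rw [← ht]; exact pow_orderOf_eq_one t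
  have hfreeα : ∀ x : α, τ • x ≠ x := fun x =>
    H75.no_fixed_of_orderOf_eq hα (τ : Perm α) (by rw [Subgroup.orderOf_coe]; exact hτ) x
  obtain ⟨e, he1, he2⟩ := H75.exists_dihedral_coords hα hp2 τ t hτp ht2 hconj hfreeα
  have hstab : ∀ a : α, Even (Nat.card (MulAction.stabilizer G a)) := by
    intro a
    have hidx : ∀ b : α, (MulAction.stabilizer G b).index = p := fun b => by
      rw [MulAction.index_stabilizer_of_transitive, Nat.card_eq_fintype_card, hα]
    have h1 := Subgroup.card_mul_index (MulAction.stabilizer G a)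
    have h2 := Subgroup.card_mul_index (MulAction.stabilizer G (e 0))
    rw [hidx] at h1 h2
    have h3 : Nat.card (MulAction.stabilizer G a) = Nat.card (MulAction.stabilizer G (e 0)) :=
      Nat.eq_of_mul_eq_mul_right hp.pos (h1.trans h2.symm)
    rw [h3, even_iff_two_dvd, ← ht]
    apply Subgroup.orderOf_dvd_natCard
    rw [MulAction.mem_stabilizer_iff, he2, neg_zero]
  exact Cfsg.Agent.S0672.result (K := ZMod p) (p := p) h2t (by rw [hα]) hstab
    (fun f hf => hom_pairs_zero hα hp2 G hG τ t e he1 he2 f hf)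

end Cfsg.Agent.S0676
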