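-- Statement S1013: transitive group of prime degree with non-normal Sylow p of prime index in its normalizer is simple.
import Cfsg.Statements.S1013
import Cfsg.Agent.H61.SpecAn

set_option autoImplicit false
open Cfsg
open scoped Pointwise

namespace Cfsg.Agent.S1013

theorem dvd_card_of_pretransitive {α : Type*} {H : Type*} [Group H] [Finite H] [MulAction H α]
    [Nonempty α] [MulAction.IsPretransitive H α] : Nat.card α ∣ Nat.card H := by
  obtain ⟨a⟩ := ‹Nonempty α›
  rw [← MulAction.index_stabilizer_of_transitive (G := H) (x := a)]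
  exact Subgroup.index_dvd_card _

/-- Let G be a transitive permutation group of prime degree p having more than one Sylow p-subgroup, and suppose a Sylow p-subgroup P has prime index in its normalizer. Then G is simple. -/
theorem result {α : Type*} [Fintype α] [DecidableEq α] {p : ℕ} [Fact p.Prime] (hα : Fintype.card α = p) (G : Subgroup (Equiv.Perm α)) [MulAction.IsPretransitive ↥G α] (P : Sylow p ↥G) (hn : 1 < Nat.card (Sylow p ↥G)) (ht : (((P : Subgroup ↥G).subgroupOf (Subgroup.normalizer ((P : Subgroup ↥G) : Set ↥G))).index).Prime) : IsSimpleGroup ↥G := by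
  classical
  have hp : p.Prime := Fact.out
  have hcard : Nat.card α = p := by rw [Nat.card_eq_fintype_card, hα]
  have hne : Nonempty α := by
    rw [← Fintype.card_pos_iff, hα]; exact hp.pos
  -- the order of `P` is `p`
  have hGdvd : Nat.card G ∣ p.factorial := by
    have := Subgroup.card_subgroup_dvd_card G
    rwa [Nat.card_perm, hcard] at this
  have hpG : p ∣ Nat.card G := hcard ▸ dvd_card_of_pretransitive (α := α) (H := G)
  have hfac : (Nat.card G).factorization p = 1 := by
    have hG0 : Nat.card G ≠ 0 := Nat.card_pos.ne'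
    have h1 : (Nat.card G).factorization p ≤ (p.factorial).factorization p :=
      (Nat.factorization_le_iff_dvd hG0 (Nat.factorial_ne_zero p)).mpr hGdvd p
    rw [Cfsg.Agent.H61.factorization_factorial_eq_one p p hp le_rfl (by have := hp.two_le; omega)] at h1
    have h2 : 1 ≤ (Nat.card G).factorization p :=
      (hp.dvd_iff_one_le_factorization hG0).mp hpG
    omega
  have hSylcard : ∀ Q : Sylow p G, Nat.card (Q : Subgroup G) = p := by
    intro Q
    rw [Q.card_eq_multiplicity, hfac, pow_one]
  have hPcard := hSylcard P
  have hprim : MulAction.IsPreprimitive G α :=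
    MulAction.IsPreprimitive.of_prime_card (by rw [hcard]; exact hp)
  have hnontriv : Nontrivial G := by
    by_contra h
    rw [not_nontrivial_iff_subsingleton] at h
    have hs : Subsingleton (Sylow p G) := ⟨fun a b => Sylow.ext (Subsingleton.elim _ _)⟩
    have := Finite.card_le_one_iff_subsingleton.mpr hs
    omega
  refine { exists_pair_ne := hnontriv.exists_pair_ne, eq_bot_or_eq_top_of_normal := ?_ }
  intro N hN
  by_cases hbot : N = ⊥
  · left; exact hbot
  right
  have hNfix : MulAction.fixedPoints N α ≠ Set.univ := by
    intro hfix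
    apply hbot
    rw [Subgroup.eq_bot_iff_forall]
    intro x hx
    apply Subtype.ext
    apply Equiv.ext
    intro a
    have ha : a ∈ MulAction.fixedPoints N α := by rw [hfix]; trivial
    exact ha ⟨x, hx⟩
  have hNtrans : MulAction.IsPretransitive N α :=
    MulAction.IsQuasiPreprimitive.isPretransitive_of_normal hNfix
  have hpN : p ∣ Nat.card N := hcard ▸ dvd_card_of_pretransitive (α := α) (H := N)
  -- `P ≤ N`
  have hPN : (P : Subgroup G) ≤ N := by
    obtain ⟨x, hx⟩ := exists_prime_orderOf_dvd_card' p hpN
    have hxG : orderOf (x : G) = p := by rw [Subgroup.orderOf_coe]; exact hx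
    have hpg : IsPGroup p (Subgroup.zpowers (x : G)) := by
      apply IsPGroup.of_card (n := 1)
      rw [Nat.card_zpowers, hxG, pow_one]
    obtain ⟨Q, hQ⟩ := hpg.exists_le_sylow
    obtain ⟨g, hg⟩ := MulAction.exists_smul_eq G Q P
    have hQeq : Subgroup.zpowers (x : G) = (Q : Subgroup G) := by
      apply Subgroup.eq_of_le_of_card_ge hQ
      rw [hSylcard Q, Nat.card_zpowers, hxG]
    have hQN : (Q : Subgroup G) ≤ N := by
      rw [← hQeq, Subgroup.zpowers_le]; exact x.2
    rw [← hg]
    intro y hy
    have hy2 : y ∈ MulAut.conj g • (Q : Subgroup G) := by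
      have h0 : y ∈ ((g • Q : Sylow p G) : Subgroup G) := hy
      rwa [Sylow.smul_def, Sylow.pointwise_smul_def] at h0
    rw [Subgroup.mem_pointwise_smul_iff_inv_smul_mem] at hy2
    have h1 := hQN hy2
    rw [MulAut.smul_def, ← map_inv, MulAut.conj_apply] at h1
    have h2 := hN.conj_mem _ h1 g
    simpa [mul_assoc] using h2
  set NP := Subgroup.normalizer ((P : Subgroup G) : Set G) with hNPdef
  have hP_le_NP : (P : Subgroup G) ≤ NP := Subgroup.le_normalizer
  by_cases hcase : N ⊓ NP = (P : Subgroup G)
  · exfalso
    let P' : Sylow p N := P.subtype hPN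
    have hcyc : IsCyclic (P : Subgroup G) := isCyclic_of_prime_card hPcard
    have hP'norm : Subgroup.normalizer ((P' : Subgroup N) : Set N) ≤ Subgroup.centralizer (P' : Set N) := by
      intro x hx
      have hx' : (x : G) ∈ (P : Subgroup G) := by
        have h1 : x ∈ (Subgroup.normalizer ((P : Subgroup G) : Set G)).subgroupOf N := by
          rw [Subgroup.subgroupOf_normalizer_eq hPN]; exact hx
        rw [Subgroup.mem_subgroupOf] at h1
        have h2 : (x : G) ∈ N ⊓ NP := ⟨x.2, h1⟩
        rw [hcase] at h2; exact h2
      rw [Subgroup.mem_centralizer_iff]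
      intro y hy
      have hy' : (y : G) ∈ (P : Subgroup G) := hy
      have hcomm := (hcyc.commGroup).mul_comm (⟨(y : G), hy'⟩ : (P : Subgroup G)) ⟨(x : G), hx'⟩
      apply Subtype.ext
      have := congrArg Subtype.val hcomm
      simpa using this
    have hcompl := MonoidHom.ker_transferSylow_isComplement' P' hP'norm
    have hnd := MonoidHom.not_dvd_card_ker_transferSylow P' hP'norm
    have hNprim : MulAction.IsPreprimitive N α :=
      MulAction.IsPreprimitive.of_prime_card (by rw [hcard]; exact hp)
    have hKbot : (MonoidHom.transferSylow P' hP'norm).ker = ⊥ := by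
      by_contra hKne
      have hKfix : MulAction.fixedPoints (MonoidHom.transferSylow P' hP'norm).ker α ≠ Set.univ := by
        intro hfix
        apply hKne
        rw [Subgroup.eq_bot_iff_forall]
        intro x hx
        apply Subtype.ext; apply Subtype.ext; apply Equiv.ext; intro a
        have ha : a ∈ MulAction.fixedPoints (MonoidHom.transferSylow P' hP'norm).ker α := by
          rw [hfix]; trivial
        exact ha ⟨x, hx⟩
      have hKtrans : MulAction.IsPretransitive (MonoidHom.transferSylow P' hP'norm).ker α :=
        MulAction.IsQuasiPreprimitive.isPretransitive_of_normal hKfix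
      exact hnd (hcard ▸ dvd_card_of_pretransitive (α := α)
        (H := (MonoidHom.transferSylow P' hP'norm).ker))
    rw [hKbot] at hcompl
    have hP'top : (P' : Subgroup N) = ⊤ := Subgroup.isComplement'_bot_left.mp hcompl
    have hNP : N ≤ (P : Subgroup G) := by
      intro x hx
      have h1 : (⟨x, hx⟩ : N) ∈ (P' : Subgroup N) := by rw [hP'top]; trivial
      exact h1
    have hPeq : (P : Subgroup G) = N := le_antisymm hPN hNP
    have hPnormal : (P : Subgroup G).Normal := hPeq ▸ hN
    have hu := Sylow.unique_of_normal P hPnormal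
    have : Nat.card (Sylow p G) = 1 := Nat.card_unique
    omega
  · have hlt : (P : Subgroup G) < N ⊓ NP :=
      lt_of_le_of_ne (le_inf hPN hP_le_NP) (Ne.symm hcase)
    have hNP_le : NP ≤ N := by
      have h2 := Subgroup.relIndex_mul_relIndex (P : Subgroup G) (N ⊓ NP) NP
        (le_inf hPN hP_le_NP) inf_le_right
      have ht' : ((P : Subgroup G).relIndex NP).Prime := ht
      rw [← h2] at ht'
      have h3 : (P : Subgroup G).relIndex (N ⊓ NP) ≠ 1 := by
        rw [Ne, Subgroup.relIndex_eq_one]; exact not_le_of_gt hlt
      have h4 : (N ⊓ NP).relIndex NP = 1 := by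
        rcases (Nat.prime_mul_iff.mp ht') with ⟨_, h⟩ | ⟨_, h⟩
        · exact h
        · exact absurd h h3
      rw [Subgroup.relIndex_eq_one] at h4
      exact h4.trans inf_le_left
    have hfr := Sylow.normalizer_sup_eq_top' P hPN
    rw [← hfr]
    exact (sup_eq_right.mpr hNP_le).symm

end Cfsg.Agent.S1013
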