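import Cfsg.Statements.S0494
import Cfsg.Agent.H11.SmallSimple

set_option autoImplicit false
open Cfsg Cfsg.Agent.H11

namespace Cfsg.Agent.S0494

/-- A simple group of order 60 is isomorphic to the alternating group of degree 5. -/
theorem result {G : Type*} [Group G] [Finite G] [IsSimpleGroup G]
    (h : Nat.card G = 60) : Nonempty (G ≃* alternatingGroup (Fin 5)) := by
  have hnc : ¬ IsCyclic G := by
    intro hc
    let _ : CommGroup G := IsCyclic.commGroup
    have := IsSimpleGroup.prime_card (α := G)
    rw [h] at this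
    exact absurd this (by norm_num)
  have hp2 : Fact (Nat.Prime 2) := ⟨Nat.prime_two⟩
  have h2dvd : 2 ∣ Nat.card G := by rw [h]; norm_num
  obtain ⟨h1, h2, h3, h4⟩ := sylow_card_facts hnc 2 h2dvd
  obtain ⟨P⟩ : Nonempty (Sylow 2 G) := inferInstance
  rw [h] at h1 h4
  have key : ∀ d ≤ 60, (d ∣ 60 ∧ d % 2 = 1 ∧ d ≠ 1 ∧ 60 ∣ d.factorial) → d = 5 ∨ d = 15 := by
    decide +kernel
  have hPcard : Nat.card (P : Subgroup G) = 2 ^ 2 :=
    sylow_card_of_eq 2 2 15 (by rw [h]; norm_num) (by norm_num) P
  have hN := card_normalizer_mul_card_sylow 2 P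
  rcases key _ (Nat.le_of_dvd (by norm_num) h1) ⟨h1, h2, h3, h4⟩ with hd | hd
  · -- five Sylow 2-subgroups: the normalizer has index 5
    have hidx : (Subgroup.normalizer ((P : Subgroup G) : Set G)).index = 5 := by
      rw [← hd]; exact (P.card_eq_index_normalizer).symm
    refine mulEquiv_alternatingGroup_of_index _ 5 hidx (by rw [h]; rfl) ?_
    intro htop
    rw [htop, Subgroup.index_top] at hidx
    omega
  · -- fifteen Sylow 2-subgroups: self-normalizing abelian Sylow, impossible
    exfalso
    rw [hd, h] at hN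
    have hN4 : Nat.card (Subgroup.normalizer ((P : Subgroup G) : Set G)) = 4 := by omega
    refine not_selfNormalizing_of_comm hnc 2 h2dvd P ?_ (by rw [hN4, hPcard]; norm_num)
    intro a ha b hb
    have hc : IsMulCommutative (P : Subgroup G) := IsPGroup.isMulCommutative_of_card_eq_prime_sq hPcard
    have := hc.is_comm.comm (⟨a, ha⟩ : (P : Subgroup G)) ⟨b, hb⟩
    exact congrArg Subtype.val this


end Cfsg.Agent.S0494
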