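import Cfsg.Statements.S1780
import Cfsg.Agent.H36.Basic

set_option autoImplicit false
open Cfsg

namespace Cfsg.Agent.S1780

theorem iterate_eq_pow {A : Type*} [Group A] (t : MulAut A) (m : ℕ) (a : A) :
    (⇑t)^[m] a = (t ^ m) a := by
  induction m with
  | zero => simp
  | succ m ih => rw [Function.iterate_succ_apply', ih, pow_succ', MulAut.mul_apply]

/-- Let A be a finite abelian 2-group and t an automorphism of A whose order is a power of 2. If every element of A fixed by t² is fixed by t, then t fixes every element of A. -/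
theorem result {A : Type*} [CommGroup A] [Finite A]
    (hA : IsPGroup 2 A) (t : MulAut A) (ht : ∃ k : ℕ, orderOf t = 2 ^ k) (hC : ∀ a : A, t (t a) = a → t a = a) :
    ∀ a : A, t a = a := by
  by_contra hcon
  push Not at hcon
  obtain ⟨a₀, ha₀⟩ := hcon
  obtain ⟨k, hk⟩ := ht
  have htk : t ^ 2 ^ k = 1 := by rw [← hk]; exact pow_orderOf_eq_one t
  -- the homomorphism a ↦ t a * a⁻¹
  let φ : A →* A :=
    { toFun := fun a => t a * a⁻¹
      map_one' := by simp
      map_mul' := by
        intro a b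
        simp only [map_mul, mul_inv_rev]
        rw [mul_comm b⁻¹ a⁻¹, mul_mul_mul_comm] }
  have hφ : ∀ a, φ a = t a * a⁻¹ := fun a => rfl
  have hYne : φ.range ≠ ⊥ := by
    intro h
    have h1 : φ a₀ ∈ φ.range := ⟨a₀, rfl⟩
    rw [h, Subgroup.mem_bot, hφ, mul_inv_eq_one] at h1
    exact ha₀ h1
  have : Fact (Nat.Prime 2) := ⟨Nat.prime_two⟩
  obtain ⟨y, hyY, hy1, hty⟩ := Cfsg.Agent.H36.exists_fixed_ne_one 2 φ.range
    (hA.to_subgroup φ.range) hYne (⇑t) (map_one t)
    (by
      rintro _ ⟨a, rfl⟩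
      exact ⟨t a, by simp [hφ]⟩) k
    (by
      intro y _
      rw [iterate_eq_pow, htk]; rfl)
  obtain ⟨a, rfl⟩ := hyY
  -- reduce to an element of order two
  obtain ⟨r, hr⟩ := (IsPGroup.iff_orderOf.mp hA) (φ a)
  have hr0 : r ≠ 0 := by
    intro h
    rw [h, pow_zero, orderOf_eq_one_iff] at hr
    exact hy1 hr
  obtain ⟨s, rfl⟩ := Nat.exists_eq_succ_of_ne_zero hr0
  set a' := a ^ 2 ^ s with ha'
  have hφa' : φ a' = φ a ^ 2 ^ s := by rw [ha', map_pow]
  have hy'1 : φ a' ≠ 1 := by
    rw [hφa']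
    intro h
    have hdvd := orderOf_dvd_of_pow_eq_one h
    rw [hr] at hdvd
    have hle := Nat.le_of_dvd (by positivity) hdvd
    have : 2 ^ s < 2 ^ (s + 1) := Nat.pow_lt_pow_right (by norm_num) (Nat.lt_succ_self s)
    omega
  have hy'2 : φ a' * φ a' = 1 := by
    rw [hφa', ← pow_add, ← two_mul, ← pow_succ', ← hr]
    exact pow_orderOf_eq_one _
  have hty' : t (φ a') = φ a' := by
    rw [hφa', map_pow, hty]
  have hta' : t a' = φ a' * a' := by
    rw [hφ]; simp
  have htt : t (t a') = a' := by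
    rw [hta', map_mul, hty', hta', ← mul_assoc, hy'2, one_mul]
  have := hC a' htt
  apply hy'1
  rw [hφ, this, mul_inv_cancel]

end Cfsg.Agent.S1780
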