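import Mathlib
import Cfsg.Statements.S4018
import Cfsg.Agent.H70.Friend
import Cfsg.Agent.H5.KleinSylow
import Cfsg.Agent.H21.Transfer

set_option autoImplicit false
open Cfsg

namespace Cfsg.Agent.S4018

/-- In a subgroup `K` with a subgroup `H` of half its order, the product of two elements of `K`
outside `H` lies in `H`. -/
theorem mul_mem_of_index_two {G : Type*} [Group G] [Finite G] (H K : Subgroup G) (hHK : H ≤ K)
    (hcard : Nat.card K = 2 * Nat.card H) {a b : G} (ha : a ∈ K) (hb : b ∈ K)
    (ha' : a ∉ H) (hb' : b ∉ H) : a * b ∈ H := by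
  have h1 := Subgroup.card_mul_index (H.subgroupOf K)
  have h2 : Nat.card (H.subgroupOf K) = Nat.card H :=
    Nat.card_congr (Subgroup.subgroupOfEquivOfLe hHK).toEquiv
  have hpos : 0 < Nat.card H := Nat.card_pos
  have hidx : (H.subgroupOf K).index = 2 := by
    rw [h2, hcard] at h1
    have h3 : Nat.card H * (H.subgroupOf K).index = Nat.card H * 2 := by rw [h1]; ring
    exact Nat.eq_of_mul_eq_mul_left hpos h3
  have key := Subgroup.mul_mem_iff_of_index_two hidx (a := (⟨a, ha⟩ : K)) (b := ⟨b, hb⟩)
  simp only [Subgroup.mem_subgroupOf] at key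
  exact key.mpr ⟨fun h => absurd h ha', fun h => absurd h hb'⟩

/-- An element of order dividing `2` and dividing a power of `3` is trivial. -/
theorem eq_one_of_sq_of_pow_three {G : Type*} [Group G] {x : G} {b : ℕ} (h2 : x * x = 1)
    (h3 : x ^ (3 ^ b) = 1) : x = 1 := by
  have h2' : x ^ 2 = 1 := by rw [pow_two]; exact h2
  have d2 : orderOf x ∣ 2 := orderOf_dvd_of_pow_eq_one h2'
  have d3 : orderOf x ∣ 3 ^ b := orderOf_dvd_of_pow_eq_one h3
  have hcop : Nat.Coprime 2 (3 ^ b) := Nat.Coprime.pow_right b (by norm_num)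
  have : orderOf x ∣ 1 := by
    have := Nat.dvd_gcd d2 d3
    rwa [hcop.gcd_eq_one] at this
  exact orderOf_eq_one_iff.mp (Nat.dvd_one.mp this)

theorem conj_comm {G : Type*} [Group G] {a b : G} (g : G) (h : a * b = b * a) :
    (g * a * g⁻¹) * (g * b * g⁻¹) = (g * b * g⁻¹) * (g * a * g⁻¹) := by
  calc (g * a * g⁻¹) * (g * b * g⁻¹) = g * (a * b) * g⁻¹ := by group
    _ = g * (b * a) * g⁻¹ := by rw [h]
    _ = (g * b * g⁻¹) * (g * a * g⁻¹) := by group

theorem conj_sq {G : Type*} [Group G] {a : G} (g : G) (h : a * a = 1) :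
    (g * a * g⁻¹) * (g * a * g⁻¹) = 1 := by
  calc (g * a * g⁻¹) * (g * a * g⁻¹) = g * (a * a) * g⁻¹ := by group
    _ = 1 := by rw [h, mul_one, mul_inv_cancel]

theorem conj_conj_inv {G : Type*} [Group G] (g a : G) : g⁻¹ * (g * a * g⁻¹) * g⁻¹⁻¹ = a := by
  group

theorem conj_inv_conj {G : Type*} [Group G] (g a : G) : g * (g⁻¹ * a * g⁻¹⁻¹) * g⁻¹ = a := by
  group

theorem conj_eq_iff {G : Type*} [Group G] {a b : G} (g : G) :
    g * a * g⁻¹ = g * b * g⁻¹ ↔ a = b := by
  constructor
  · intro h
    have h2 : g⁻¹ * (g * a * g⁻¹) * g⁻¹⁻¹ = g⁻¹ * (g * b * g⁻¹) * g⁻¹⁻¹ := by rw [h]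
    rwa [conj_conj_inv, conj_conj_inv] at h2
  · rintro rfl; rfl

theorem conj_ne_one {G : Type*} [Group G] {a : G} (g : G) (h : a ≠ 1) : g * a * g⁻¹ ≠ 1 := by
  intro h1
  apply h
  have e : a = g⁻¹ * (g * a * g⁻¹) * g⁻¹⁻¹ := (conj_conj_inv g a).symm
  rw [e, h1]; group

/-- A set with exactly one element has cardinality one, for any `Fintype` instance. -/
theorem card_eq_one_of_unique {α : Type*} (s : Set α) (inst : Fintype ↥s) (a : α) (ha : a ∈ s)
    (h : ∀ y ∈ s, y = a) : @Fintype.card ↥s inst = 1 :=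
  (@Fintype.card_eq_one_iff _ inst).mpr ⟨⟨a, ha⟩, fun y => Subtype.ext (h y.1 y.2)⟩

/-- Let G be a finite group with an abelian Sylow 3-subgroup P such that the normalizer of P has order 4·#P, the centralizer C of P has order 2·#P, C meets each of its conjugates by elements outside its normalizer trivially, and every proper subgroup of G of even order has order dividing 4·#P. Then G is not simple. -/
theorem result {G : Type*} [Group G] [Finite G]
    (P : Sylow 3 G) (hab : IsMulCommutative P)
    (hN : Nat.card (Subgroup.normalizer ((P : Subgroup G) : Set G)) = 4 * Nat.card P)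
    (hC : Nat.card (Subgroup.centralizer (P : Set G)) = 2 * Nat.card P)
    (hTI : Cfsg.IsTISubset (Subgroup.centralizer (P : Set G) : Set G))
    (heven : ∀ H : Subgroup G, H ≠ ⊤ → 2 ∣ Nat.card H → Nat.card H ∣ 4 * Nat.card P) :
    ¬ IsSimpleGroup G := by
  intro hsimple
  classical
  have : Fact (Nat.Prime 3) := ⟨Nat.prime_three⟩
  have : Fact (Nat.Prime 2) := ⟨Nat.prime_two⟩
  obtain ⟨b, hb⟩ := IsPGroup.iff_card.mp P.2
  have hnpos : 0 < Nat.card P := Nat.card_pos
  -- membership in the centralizer and the normalizer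
  have memC : ∀ g : G, g ∈ Subgroup.centralizer (P : Set G) ↔ ∀ h ∈ P, h * g = g * h := by
    intro g
    rw [Subgroup.mem_centralizer_iff]
    rfl
  have memN : ∀ g : G, g ∈ Subgroup.normalizer ((P : Subgroup G) : Set G) ↔
      ∀ h, h ∈ P ↔ g * h * g⁻¹ ∈ P := by
    intro g
    rw [Subgroup.mem_normalizer_iff]
    rfl
  -- `G` is not commutative
  have hnc : ¬ IsMulCommutative G := by
    intro hcomm
    have hCtop : Subgroup.centralizer (P : Set G) = ⊤ := by
      rw [eq_top_iff]
      intro g _
      rw [memC]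
      intro h _
      exact hcomm.is_comm.comm h g
    have hNtop : Subgroup.normalizer ((P : Subgroup G) : Set G) = ⊤ := by
      rw [eq_top_iff]
      intro g _
      rw [memN]
      intro h
      rw [hcomm.is_comm.comm g h, mul_inv_cancel_right]
    rw [hCtop] at hC
    rw [hNtop] at hN
    omega
  -- `P` is nontrivial
  have hb1 : b ≠ 0 := by
    intro hb0
    rw [hb0, pow_zero] at hb
    have hP1 : ∀ x ∈ P, x = 1 := by
      intro x hx
      have := (Subgroup.card_eq_one (H := (P : Subgroup G))).mp hb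
      have hx' : x ∈ (P : Subgroup G) := hx
      rw [this] at hx'
      exact Subgroup.mem_bot.mp hx'
    have hCtop : Subgroup.centralizer (P : Set G) = ⊤ := by
      rw [eq_top_iff]
      intro g _
      rw [memC]
      intro h hh
      rw [hP1 h hh, one_mul, mul_one]
    have hNtop : Subgroup.normalizer ((P : Subgroup G) : Set G) = ⊤ := by
      rw [eq_top_iff]
      intro g _
      rw [memN]
      intro h
      constructor
      · intro hh
        rw [hP1 h hh, mul_one, mul_inv_cancel]
        exact Subgroup.one_mem _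
      · intro hh
        have := hP1 _ hh
        have h1 : h = 1 := by
          have e : h = g⁻¹ * (g * h * g⁻¹) * g := by group
          rw [e, this]; group
        rw [h1]; exact Subgroup.one_mem _
    rw [hCtop] at hC
    rw [hNtop] at hN
    omega
  have h3n : 3 ∣ Nat.card P := by
    rw [hb]; exact dvd_pow_self 3 hb1
  -- elements of `P` have order a power of 3
  have hPpow : ∀ x ∈ P, x ^ (3 ^ b) = 1 := by
    intro x hx
    have h1 : (⟨x, hx⟩ : (P : Subgroup G)) ^ Nat.card (P : Subgroup G) = 1 := pow_card_eq_one'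
    have h2 : (((⟨x, hx⟩ : (P : Subgroup G)) ^ Nat.card (P : Subgroup G) :
        (P : Subgroup G)) : G) = 1 := by rw [h1]; rfl
    rw [Subgroup.coe_pow] at h2
    rw [← hb]
    exact h2
  -- `P ≤ C ≤ N`
  have hPC : ∀ x ∈ P, x ∈ Subgroup.centralizer (P : Set G) := by
    intro x hx
    rw [memC]
    intro h hh
    exact congrArg Subtype.val (hab.is_comm.comm ⟨h, hh⟩ ⟨x, hx⟩)
  have hCN : Subgroup.centralizer (P : Set G) ≤ Subgroup.normalizer ((P : Subgroup G) : Set G) :=
    Subgroup.centralizer_le_normalizer _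
  -- 3-elements of `N` lie in `P`
  have h3el : ∀ x ∈ Subgroup.normalizer ((P : Subgroup G) : Set G), x ^ (3 ^ b) = 1 → x ∈ P := by
    intro x hx hx3
    have hpg : IsPGroup 3 (Subgroup.zpowers x) := by
      obtain ⟨k, _, hk⟩ := (Nat.dvd_prime_pow Nat.prime_three).mp (orderOf_dvd_of_pow_eq_one hx3)
      apply IsPGroup.of_card (n := k)
      rw [Nat.card_zpowers, hk]
    have key := hpg.inf_normalizer_sylow P
    have hmem : x ∈ Subgroup.zpowers x ⊓ Subgroup.normalizer ((P : Subgroup G) : Set G) :=
      ⟨Subgroup.mem_zpowers x, hx⟩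
    have hmem' : x ∈ Subgroup.zpowers x ⊓ (P : Subgroup G) := by
      rw [← key]; exact hmem
    exact hmem'.2
  -- the involution `z` of `C`
  obtain ⟨z0, hz0⟩ := exists_prime_orderOf_dvd_card' (G := Subgroup.centralizer (P : Set G)) 2
    (by rw [hC]; exact dvd_mul_right 2 _)
  obtain ⟨z, hzC, hz0'⟩ : ∃ z : G, z ∈ Subgroup.centralizer (P : Set G) ∧ orderOf z = 2 :=
    ⟨(z0 : G), z0.2, by rw [Subgroup.orderOf_coe]; exact hz0⟩
  have hzz : z * z = 1 := by
    have := pow_orderOf_eq_one z
    rw [hz0', pow_two] at this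
    exact this
  have hz1 : z ≠ 1 := by
    intro h
    rw [h, orderOf_one] at hz0'
    omega
  have hzinv : z⁻¹ = z := inv_eq_of_mul_eq_one_left hzz
  have hzP : z ∉ P := by
    intro h
    exact hz1 (eq_one_of_sq_of_pow_three hzz (hPpow z h))
  have hzcomm : ∀ h ∈ P, h * z = z * h := (memC z).mp hzC
  -- the only involution of `C` is `z`
  have hCinv : ∀ c ∈ Subgroup.centralizer (P : Set G), c * c = 1 → c = 1 ∨ c = z := by
    intro c hc hcc
    by_cases hcP : c ∈ P
    · left
      exact eq_one_of_sq_of_pow_three hcc (hPpow c hcP)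
    · right
      have hzc : z * c ∈ (P : Subgroup G) :=
        mul_mem_of_index_two (P : Subgroup G) (Subgroup.centralizer (P : Set G))
          (fun x hx => hPC x hx) hC hzC hc hzP hcP
      have hp2 : (z * c) * (z * c) = 1 := by
        have e1 : c = z * (z * c) := by rw [← mul_assoc, hzz, one_mul]
        have e2 : (z * c) * z = z * (z * c) := hzcomm _ hzc
        calc (z * c) * (z * c) = (z * c) * z * c := by group
          _ = z * (z * c) * c := by rw [e2]
          _ = (z * z) * (c * c) := by group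
          _ = 1 := by rw [hzz, hcc, one_mul]
      have hp1 : z * c = 1 := eq_one_of_sq_of_pow_three hp2 (hPpow _ hzc)
      have : c = z⁻¹ := eq_inv_of_mul_eq_one_right hp1
      rw [this, hzinv]
  -- the normalizer of `C` lies in `N`
  have hNC : Subgroup.normalizer ((Subgroup.centralizer (P : Set G) : Subgroup G) : Set G) ≤
      Subgroup.normalizer ((P : Subgroup G) : Set G) := by
    have half : ∀ g ∈ Subgroup.normalizer ((Subgroup.centralizer (P : Set G) : Subgroup G) : Set G),
        ∀ h ∈ P, g * h * g⁻¹ ∈ P := by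
      intro g hg h hh
      have h1 : g * h * g⁻¹ ∈ Subgroup.centralizer (P : Set G) :=
        ((Subgroup.mem_normalizer_iff.mp hg) h).mp (hPC h hh)
      apply h3el _ (hCN h1)
      rw [conj_pow, hPpow h hh, mul_one, mul_inv_cancel]
    intro g hg
    rw [memN]
    intro h
    constructor
    · exact half g hg h
    · intro hh
      have := half g⁻¹ (Subgroup.inv_mem _ hg) _ hh
      have e : g⁻¹ * (g * h * g⁻¹) * g⁻¹⁻¹ = h := by group
      rwa [e] at this
  -- the TI property in a convenient form
  have hTI' : ∀ x ∈ Subgroup.centralizer (P : Set G), x ≠ 1 → ∀ g : G,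
      g * x * g⁻¹ ∈ Subgroup.centralizer (P : Set G) →
      g ∈ Subgroup.normalizer ((P : Subgroup G) : Set G) := by
    intro x hx hx1 g hg
    by_contra hgN
    exact hx1 (hTI g (fun h => hgN (hNC h)) x hx hg)
  -- `C_G(z) = N`
  have hNz : ∀ g ∈ Subgroup.normalizer ((P : Subgroup G) : Set G), g * z = z * g := by
    intro g hg
    have hgz : g * z * g⁻¹ ∈ Subgroup.centralizer (P : Set G) := by
      rw [memC]
      intro h hh
      have hh' : g⁻¹ * h * g⁻¹⁻¹ ∈ P :=
        ((memN g⁻¹).mp (Subgroup.inv_mem _ hg) h).mp hh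
      have e1 := hzcomm _ hh'
      calc h * (g * z * g⁻¹) = g * ((g⁻¹ * h * g⁻¹⁻¹) * z) * g⁻¹ := by group
        _ = g * (z * (g⁻¹ * h * g⁻¹⁻¹)) * g⁻¹ := by rw [e1]
        _ = g * z * g⁻¹ * h := by group
    have hsq : (g * z * g⁻¹) * (g * z * g⁻¹) = 1 := by
      calc (g * z * g⁻¹) * (g * z * g⁻¹) = g * (z * z) * g⁻¹ := by group
        _ = 1 := by rw [hzz, mul_one, mul_inv_cancel]
    rcases hCinv _ hgz hsq with h | h
    · exfalso
      apply hz1
      have e : z = g⁻¹ * (g * z * g⁻¹) * g := by group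
      rw [e, h]; group
    · calc g * z = (g * z * g⁻¹) * g := by group
        _ = z * g := by rw [h]
  have hzN : ∀ g : G, g * z = z * g → g ∈ Subgroup.normalizer ((P : Subgroup G) : Set G) := by
    intro g hg
    apply hTI' z hzC hz1 g
    rw [hg, mul_inv_cancel_right]
    exact hzC
  -- Sylow 2-subgroups have order 4 and are not cyclic
  have := hsimple
  have h4G : 4 * Nat.card P ∣ Nat.card G := by
    rw [← hN]; exact Subgroup.card_subgroup_dvd_card _
  have h2G : 2 ∣ Nat.card G := dvd_trans ⟨2 * Nat.card P, by ring⟩ h4G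
  have hminFac : (Nat.card G).minFac = 2 := (Nat.minFac_eq_two_iff _).mpr h2G
  have hS4 : ∀ S : Sylow 2 G, Nat.card S = 4 := by
    intro S
    have h4 : 2 ^ 2 ∣ Nat.card S :=
      S.pow_dvd_card_of_pow_dvd_card (dvd_trans ⟨Nat.card P, by ring⟩ h4G)
    obtain ⟨k, hk⟩ := IsPGroup.iff_card.mp S.2
    have hne : (S : Subgroup G) ≠ ⊤ := by
      intro htop
      have h1 : Nat.card G = 2 ^ k := by
        rw [← hk]
        have : Nat.card (S : Subgroup G) = Nat.card G := by rw [htop, Subgroup.card_top]
        exact this.symm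
      have h2 : 3 ∣ 2 ^ k := by
        rw [← h1]
        exact dvd_trans (dvd_trans h3n ⟨4, by ring⟩) h4G
      have h3 : 3 ∣ 2 := Nat.Prime.dvd_of_dvd_pow Nat.prime_three h2
      omega
    have hdvd := heven (S : Subgroup G) hne (dvd_trans ⟨2, by norm_num⟩ h4)
    rw [hb] at hdvd
    have hcop : Nat.Coprime (Nat.card (S : Subgroup G)) (3 ^ b) := by
      have : Nat.card (S : Subgroup G) = 2 ^ k := hk
      rw [this]
      exact Nat.Coprime.pow _ _ (by norm_num)
    have h4' : Nat.card (S : Subgroup G) ∣ 4 := hcop.dvd_of_dvd_mul_right hdvd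
    exact Nat.dvd_antisymm h4' (by simpa using h4)
  have hSne : ∀ S : Sylow 2 G, (S : Subgroup G) ≠ ⊥ := by
    intro S h
    have h1 := hS4 S
    have h2 : Nat.card (S : Subgroup G) = 1 := by rw [h, Subgroup.card_bot]
    have h3 : Nat.card (S : Subgroup G) = 4 := h1
    omega
  have hSnc : ∀ S : Sylow 2 G, ¬ IsCyclic S := fun S =>
    Cfsg.Agent.H21.simple_sylow_minFac_not_cyclic hnc hminFac S (hSne S)
  obtain ⟨S⟩ : Nonempty (Sylow 2 G) := inferInstance
  have hK : IsKleinFour (S : Subgroup G) :=
    ⟨hS4 S, (not_isCyclic_iff_exponent_eq_prime Nat.prime_two (by rw [hS4 S]; norm_num)).mp (hSnc S)⟩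
  have hF : Cfsg.Agent.H5.Fused S := by
    by_contra hF
    apply Cfsg.Agent.H21.simple_not_normalizer_le_centralizer hnc S (hSne S)
    intro g hg
    rw [Subgroup.mem_centralizer_iff]
    intro h hh
    by_contra hne
    apply hF
    have hh' : h ∈ (S : Subgroup G) := hh
    refine ⟨h, g * h * g⁻¹, hh', ((Subgroup.mem_normalizer_iff.mp hg) h).mp hh', ?_, ?_, ?_,
      isConj_iff.mpr ⟨g, rfl⟩⟩
    · intro h1
      apply hne
      rw [h1, one_mul, mul_one]
    · intro h1
      apply hne
      have e : h = g⁻¹ * (g * h * g⁻¹) * g := by group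
      rw [e, h1]; group
    · intro h1
      apply hne
      calc h * g = (g * h * g⁻¹) * g := by rw [← h1]
        _ = g * h := by group
  -- every involution is conjugate to `z`
  have hconjz : ∀ t : G, orderOf t = 2 → ∃ g : G, t = g * z * g⁻¹ := by
    intro t ht
    obtain ⟨x, hxS, hx1, hxt⟩ := Cfsg.Agent.H5.exists_conj_mem_sylow S ht
    obtain ⟨x0, hx0S, hx01, hx0z⟩ := Cfsg.Agent.H5.exists_conj_mem_sylow S hz0'
    have h1 : IsConj x0 x := Cfsg.Agent.H5.all_conj_of_fused S hK hF x0 x hx0S hxS hx01 hx1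
    have h2 : IsConj z t := hx0z.trans (h1.trans hxt.symm)
    obtain ⟨g, hg⟩ := isConj_iff.mp h2
    exact ⟨g, hg.symm⟩
  -- there is no element of order 4
  have hno4 : ∀ y : G, orderOf y ≠ 4 := by
    intro y hy
    have hpg : IsPGroup 2 (Subgroup.zpowers y) := by
      apply IsPGroup.of_card (n := 2)
      rw [Nat.card_zpowers, hy]; norm_num
    obtain ⟨Q, hQ⟩ := hpg.exists_le_sylow
    have hyQ : y ∈ (Q : Subgroup G) := hQ (Subgroup.mem_zpowers y)
    have hcyc : IsCyclic (Q : Subgroup G) := by
      apply isCyclic_of_orderOf_eq_card (⟨y, hyQ⟩ : (Q : Subgroup G))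
      rw [Subgroup.orderOf_mk, hy]
      exact (hS4 Q).symm
    exact hSnc Q hcyc
  have hN2 : Nat.card (Subgroup.normalizer ((P : Subgroup G) : Set G)) =
      2 * Nat.card (Subgroup.centralizer (P : Set G)) := by rw [hN, hC]; ring
  have ord2 : ∀ t : G, t * t = 1 → t ≠ 1 → orderOf t = 2 := fun t h h1 =>
    orderOf_eq_prime (by rw [pow_two]; exact h) h1
  have inv_sq : ∀ t : G, orderOf t = 2 → t * t = 1 := by
    intro t ht
    have := pow_orderOf_eq_one t
    rwa [ht, pow_two] at this
  have inv_ne : ∀ t : G, orderOf t = 2 → t ≠ 1 := by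
    intro t ht h
    rw [h, orderOf_one] at ht
    omega
  -- an involution commuting with a nonidentity element of `P` is `z`
  have hA7 : ∀ x : G, x * x = 1 → x ≠ 1 → ∀ y ∈ P, y ≠ 1 → x * y = y * x → x = z := by
    intro x hxx hx1 y hy hy1 hxy
    obtain ⟨h, rfl⟩ := hconjz x (ord2 x hxx hx1)
    have hy2z : (h⁻¹ * y * h⁻¹⁻¹) * z = z * (h⁻¹ * y * h⁻¹⁻¹) := by
      have := conj_comm h⁻¹ hxy
      rw [conj_conj_inv] at this
      exact this.symm
    have hy2N := hzN _ hy2z
    have hy2P : h⁻¹ * y * h⁻¹⁻¹ ∈ P :=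
      h3el _ hy2N (by rw [conj_pow, hPpow y hy, mul_one, mul_inv_cancel])
    have hy21 : h⁻¹ * y * h⁻¹⁻¹ ≠ 1 := conj_ne_one h⁻¹ hy1
    have hhN : h ∈ Subgroup.normalizer ((P : Subgroup G) : Set G) := by
      apply hTI' _ (hPC _ hy2P) hy21 h
      rw [conj_inv_conj]
      exact hPC y hy
    have := hNz h hhN
    rw [this, mul_inv_cancel_right]
  -- the friendship property relative to `z`
  have core_z : ∀ t : G, t * t = 1 → t ≠ 1 → t ≠ z →
      ∃ x : G, x * x = 1 ∧ x ≠ 1 ∧ x ≠ z ∧ x ≠ t ∧ x * z = z * x ∧ x * t = t * x ∧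
        ∀ x' : G, x' * x' = 1 → x' ≠ 1 → x' ≠ z → x' ≠ t → x' * z = z * x' →
          x' * t = t * x' → x' = x := by
    intro t htt ht1 htz
    have htinv : t⁻¹ = t := inv_eq_of_mul_eq_one_left htt
    by_cases hcomm : t * z = z * t
    · -- commuting case
      have htN := hzN t hcomm
      have htC : t ∉ Subgroup.centralizer (P : Set G) := by
        intro h
        rcases hCinv t h htt with h1 | h1
        · exact ht1 h1
        · exact htz h1
      refine ⟨z * t, ?_, ?_, ?_, ?_, ?_, ?_, ?_⟩
      · calc (z * t) * (z * t) = z * (t * z) * t := by group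
          _ = z * (z * t) * t := by rw [hcomm]
          _ = (z * z) * (t * t) := by group
          _ = 1 := by rw [hzz, htt, one_mul]
      · intro h
        apply htz
        have : t = z⁻¹ := eq_inv_of_mul_eq_one_right h
        rw [this, hzinv]
      · intro h
        apply ht1
        exact mul_left_cancel (a := z) (by rw [h, mul_one])
      · intro h
        apply hz1
        exact mul_right_cancel (b := t) (by rw [h, one_mul])
      · calc (z * t) * z = z * (t * z) := by group
          _ = z * (z * t) := by rw [hcomm]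
      · calc (z * t) * t = (t * z) * t := by rw [hcomm]
          _ = t * (z * t) := by group
      · intro x' hxx hx1 hxz hxt hxzc hxtc
        have hxN := hzN x' hxzc
        have hxC : x' ∉ Subgroup.centralizer (P : Set G) := by
          intro h
          rcases hCinv x' h hxx with h1 | h1
          · exact hx1 h1
          · exact hxz h1
        have hprod : x' * t ∈ Subgroup.centralizer (P : Set G) :=
          mul_mem_of_index_two _ _ hCN hN2 hxN htN hxC htC
        have hsq : (x' * t) * (x' * t) = 1 := by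
          calc (x' * t) * (x' * t) = x' * (t * x') * t := by group
            _ = x' * (x' * t) * t := by rw [hxtc]
            _ = (x' * x') * (t * t) := by group
            _ = 1 := by rw [hxx, htt, one_mul]
        rcases hCinv _ hprod hsq with h1 | h1
        · exfalso
          apply hxt
          have : x' = t⁻¹ := eq_inv_of_mul_eq_one_left h1
          rw [this, htinv]
        · calc x' = (x' * t) * t⁻¹ := by group
            _ = z * t := by rw [h1, htinv]
    · -- non-commuting case
      have hy1 : z * t ≠ 1 := by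
        intro h
        apply htz
        have : t = z⁻¹ := eq_inv_of_mul_eq_one_right h
        rw [this, hzinv]
      have hzy : z * (z * t) * z⁻¹ = (z * t)⁻¹ := by
        rw [hzinv, mul_inv_rev, hzinv, htinv]
        calc z * (z * t) * z = (z * z) * t * z := by group
          _ = t * z := by rw [hzz, one_mul]
      have hty : t * (z * t) * t⁻¹ = (z * t)⁻¹ := by
        rw [htinv, mul_inv_rev, hzinv, htinv]
        calc t * (z * t) * t = t * z * (t * t) := by group
          _ = t * z := by rw [htt, mul_one]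
      have hzH : z ∈ Subgroup.normalizer ((Subgroup.zpowers (z * t) : Subgroup G) : Set G) := by
        have half : ∀ h ∈ Subgroup.zpowers (z * t), z * h * z⁻¹ ∈ Subgroup.zpowers (z * t) := by
          intro h hh
          obtain ⟨k, rfl⟩ := Subgroup.mem_zpowers_iff.mp hh
          have : z * (z * t) ^ k * z⁻¹ = ((z * t)⁻¹) ^ k := by
            rw [← hzy, conj_zpow]
          rw [this]
          exact Subgroup.zpow_mem _ (Subgroup.inv_mem _ (Subgroup.mem_zpowers (z * t))) k
        rw [Subgroup.mem_normalizer_iff]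
        intro h
        constructor
        · exact half h
        · intro hh
          have := half _ hh
          have e : z * (z * h * z⁻¹) * z⁻¹ = h := by
            rw [hzinv]
            calc z * (z * h * z) * z = (z * z) * h * (z * z) := by group
              _ = h := by rw [hzz, one_mul, mul_one]
          rwa [e] at this
      have hHne : Subgroup.normalizer ((Subgroup.zpowers (z * t) : Subgroup G) : Set G) ≠ ⊤ := by
        intro htop
        have hnorm : (Subgroup.zpowers (z * t)).Normal := Subgroup.normalizer_eq_top_iff.mp htop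
        rcases hsimple.eq_bot_or_eq_top_of_normal _ hnorm with h | h
        · apply hy1
          have := Subgroup.mem_zpowers (z * t)
          rw [h] at this
          exact Subgroup.mem_bot.mp this
        · apply hnc
          refine ⟨⟨fun a c => ?_⟩⟩
          have ha : a ∈ Subgroup.zpowers (z * t) := h ▸ Subgroup.mem_top a
          have hc : c ∈ Subgroup.zpowers (z * t) := h ▸ Subgroup.mem_top c
          obtain ⟨i, rfl⟩ := Subgroup.mem_zpowers_iff.mp ha
          obtain ⟨j, rfl⟩ := Subgroup.mem_zpowers_iff.mp hc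
          exact zpow_mul_comm (z * t) i j
      have h2H : 2 ∣ Nat.card
          (Subgroup.normalizer ((Subgroup.zpowers (z * t) : Subgroup G) : Set G)) := by
        rw [← hz0']
        exact Subgroup.orderOf_dvd_natCard _ hzH
      have hdvd := heven _ hHne h2H
      have hyord : orderOf (z * t) ∣ 4 * 3 ^ b := by
        rw [← hb]
        exact dvd_trans (Subgroup.orderOf_dvd_natCard _
          (Subgroup.le_normalizer (Subgroup.mem_zpowers (z * t)))) hdvd
      have hy3 : 3 ∣ orderOf (z * t) := by
        by_contra h3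
        have hcop : Nat.Coprime (orderOf (z * t)) (3 ^ b) :=
          Nat.Coprime.pow_right b ((Nat.Prime.coprime_iff_not_dvd Nat.prime_three).mpr h3).symm
        have h4 : orderOf (z * t) ∣ 2 ^ 2 := hcop.dvd_of_dvd_mul_right hyord
        obtain ⟨k, hk, hk'⟩ := (Nat.dvd_prime_pow Nat.prime_two).mp h4
        have hne1 : orderOf (z * t) ≠ 1 := fun h => hy1 (orderOf_eq_one_iff.mp h)
        have hne2 : orderOf (z * t) ≠ 2 := by
          intro h
          apply hcomm
          have hyy : (z * t) * (z * t) = 1 := by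
            have := pow_orderOf_eq_one (z * t)
            rwa [h, pow_two] at this
          calc t * z = z * ((z * t) * (z * t)) * t := by
                rw [show z * ((z * t) * (z * t)) * t = (z * z) * (t * z) * (t * t) by group,
                  hzz, htt, one_mul, mul_one]
            _ = z * t := by rw [hyy, mul_one]
        have hne4 := hno4 (z * t)
        interval_cases k
        · exact hne1 (by simpa using hk')
        · exact hne2 (by simpa using hk')
        · exact hne4 (by simpa using hk')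
      obtain ⟨m, hm⟩ : ∃ m : ℕ, m = orderOf (z * t) / 3 := ⟨_, rfl⟩
      have hy'ord : orderOf ((z * t) ^ m) = 3 := by
        rw [hm]
        exact orderOf_pow_orderOf_div (orderOf_pos (z * t)).ne' hy3
      have hy'1 : (z * t) ^ m ≠ 1 := by
        intro h
        rw [h, orderOf_one] at hy'ord
        omega
      have hpg : IsPGroup 3 (Subgroup.zpowers ((z * t) ^ m)) := by
        apply IsPGroup.of_card (n := 1)
        rw [Nat.card_zpowers, hy'ord, pow_one]
      obtain ⟨Q, hQ⟩ := hpg.exists_le_sylow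
      obtain ⟨g0, rfl⟩ := MulAction.exists_smul_eq G P Q
      have hmem := hQ (Subgroup.mem_zpowers ((z * t) ^ m))
      rw [Sylow.coe_subgroup_smul, Subgroup.mem_pointwise_smul_iff_inv_smul_mem] at hmem
      rw [← map_inv, MulAut.smul_def, MulAut.conj_apply] at hmem
      have hy1P0 : g0⁻¹ * (z * t) ^ m * g0⁻¹⁻¹ ∈ P := hmem
      obtain ⟨g, hy1P⟩ : ∃ g : G, g * (z * t) ^ m * g⁻¹ ∈ P := ⟨g0⁻¹, hy1P0⟩
      have hy11 : g * (z * t) ^ m * g⁻¹ ≠ 1 := conj_ne_one g hy'1
      have hzym : z * (z * t) ^ m * z⁻¹ = ((z * t) ^ m)⁻¹ := by rw [← conj_pow, hzy, inv_pow]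
      have htym : t * (z * t) ^ m * t⁻¹ = ((z * t) ^ m)⁻¹ := by rw [← conj_pow, hty, inv_pow]
      have hinvN : ∀ a : G, a * (z * t) ^ m * a⁻¹ = ((z * t) ^ m)⁻¹ →
          (g * a * g⁻¹) ∈ Subgroup.normalizer ((P : Subgroup G) : Set G) := by
        intro a ha
        apply hTI' _ (hPC _ hy1P) hy11
        have e : (g * a * g⁻¹) * (g * (z * t) ^ m * g⁻¹) * (g * a * g⁻¹)⁻¹ =
            g * (a * (z * t) ^ m * a⁻¹) * g⁻¹ := by group
        rw [e, ha]
        have e2 : g * ((z * t) ^ m)⁻¹ * g⁻¹ = (g * (z * t) ^ m * g⁻¹)⁻¹ := by group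
        rw [e2]
        exact Subgroup.inv_mem _ (hPC _ hy1P)
      have hz1z := hNz _ (hinvN z hzym)
      have ht1z := hNz _ (hinvN t htym)
      have hxz : (g⁻¹ * z * g) * z = z * (g⁻¹ * z * g) := by
        calc (g⁻¹ * z * g) * z = g⁻¹ * (z * (g * z * g⁻¹)) * g := by group
          _ = g⁻¹ * ((g * z * g⁻¹) * z) * g := by rw [hz1z]
          _ = z * (g⁻¹ * z * g) := by group
      have hxt : (g⁻¹ * z * g) * t = t * (g⁻¹ * z * g) := by
        calc (g⁻¹ * z * g) * t = g⁻¹ * (z * (g * t * g⁻¹)) * g := by group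
          _ = g⁻¹ * ((g * t * g⁻¹) * z) * g := by rw [ht1z]
          _ = t * (g⁻¹ * z * g) := by group
      refine ⟨g⁻¹ * z * g, ?_, ?_, ?_, ?_, hxz, hxt, ?_⟩
      · calc (g⁻¹ * z * g) * (g⁻¹ * z * g) = g⁻¹ * (z * z) * g := by group
          _ = 1 := by rw [hzz, mul_one, inv_mul_cancel]
      · intro h
        apply hz1
        have e : z = g * (g⁻¹ * z * g) * g⁻¹ := by group
        rw [e, h]; group
      · intro h
        apply hcomm
        rw [h] at hxt
        exact hxt.symm
      · intro h
        apply hcomm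
        rw [h] at hxz
        exact hxz
      · intro x' hxx hx1 _ _ hxzc hxtc
        have hxy : x' * (z * t) = (z * t) * x' := by
          calc x' * (z * t) = (x' * z) * t := by group
            _ = (z * x') * t := by rw [hxzc]
            _ = z * (x' * t) := by group
            _ = z * (t * x') := by rw [hxtc]
            _ = (z * t) * x' := by group
        have hxym : x' * (z * t) ^ m = (z * t) ^ m * x' :=
          (Commute.pow_right (show Commute x' (z * t) from hxy) m).eq
        have h1 := conj_comm g hxym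
        have h2 := hA7 (g * x' * g⁻¹) (conj_sq g hxx) (conj_ne_one g hx1) _ hy1P hy11 h1
        calc x' = g⁻¹ * (g * x' * g⁻¹) * g := by group
          _ = g⁻¹ * z * g := by rw [h2]
  -- the friendship property for any two distinct involutions
  have core : ∀ s t : G, s * s = 1 → s ≠ 1 → t * t = 1 → t ≠ 1 → s ≠ t →
      ∃ x : G, x * x = 1 ∧ x ≠ 1 ∧ x ≠ s ∧ x ≠ t ∧ x * s = s * x ∧ x * t = t * x ∧
        ∀ x' : G, x' * x' = 1 → x' ≠ 1 → x' ≠ s → x' ≠ t → x' * s = s * x' →
          x' * t = t * x' → x' = x := by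
    intro s t hss hs1 htt ht1 hst
    obtain ⟨g, rfl⟩ := hconjz s (ord2 s hss hs1)
    have ht1' : g⁻¹ * t * g⁻¹⁻¹ ≠ z := by
      intro h
      apply hst
      have e : t = g * (g⁻¹ * t * g⁻¹⁻¹) * g⁻¹ := (conj_inv_conj g t).symm
      rw [e, h]
    obtain ⟨x, hxx, hx1, hxz, hxt, hxzc, hxtc, huniq⟩ :=
      core_z (g⁻¹ * t * g⁻¹⁻¹) (conj_sq g⁻¹ htt) (conj_ne_one g⁻¹ ht1) ht1'
    refine ⟨g * x * g⁻¹, conj_sq g hxx, conj_ne_one g hx1, ?_, ?_, ?_, ?_, ?_⟩
    · intro h
      exact hxz ((conj_eq_iff g).mp h)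
    · intro h
      apply hxt
      rw [← h]; group
    · exact conj_comm g hxzc
    · have := conj_comm g hxtc
      rwa [conj_inv_conj] at this
    · intro x' hxx' hx1' hxs' hxt' hxsc hxtc'
      have h := huniq (g⁻¹ * x' * g⁻¹⁻¹) (conj_sq g⁻¹ hxx') (conj_ne_one g⁻¹ hx1') ?_ ?_ ?_ ?_
      · rw [← h]; group
      · intro h
        apply hxs'
        have e : x' = g * (g⁻¹ * x' * g⁻¹⁻¹) * g⁻¹ := (conj_inv_conj g x').symm
        rw [e, h]
      · intro h
        exact hxt' ((conj_eq_iff g⁻¹).mp h)
      · have := conj_comm g⁻¹ hxsc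
        rwa [conj_conj_inv] at this
      · exact conj_comm g⁻¹ hxtc'
  -- the commuting graph on the involutions is a friendship graph
  have hfinV : Fintype {t : G // orderOf t = 2} := Fintype.ofFinite _
  have hadj : ∀ s t : {t : G // orderOf t = 2},
      (SimpleGraph.fromRel (fun s t : {t : G // orderOf t = 2} => (s : G) * t = t * s)).Adj s t ↔
        s ≠ t ∧ (s : G) * t = t * s := by
    intro s t
    rw [SimpleGraph.fromRel_adj]
    constructor
    · rintro ⟨h1, h2 | h2⟩
      · exact ⟨h1, h2⟩
      · exact ⟨h1, h2.symm⟩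
    · rintro ⟨h1, h2⟩
      exact ⟨h1, Or.inl h2⟩
  have hFr : Cfsg.Agent.H70.Friend.Friendship
      (SimpleGraph.fromRel (fun s t : {t : G // orderOf t = 2} => (s : G) * t = t * s)) := by
    intro v w hvw
    obtain ⟨x, hxx, hx1, hxs, hxt, hxsc, hxtc, huniq⟩ :=
      core v.1 w.1 (inv_sq _ v.2) (inv_ne _ v.2) (inv_sq _ w.2) (inv_ne _ w.2)
        (fun h => hvw (Subtype.ext h))
    have hxmem : (⟨x, ord2 x hxx hx1⟩ : {t : G // orderOf t = 2}) ∈
        (SimpleGraph.fromRel (fun s t : {t : G // orderOf t = 2} =>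
          (s : G) * t = t * s)).commonNeighbors v w := by
      rw [SimpleGraph.mem_commonNeighbors, hadj, hadj]
      exact ⟨⟨fun h => hxs (congrArg Subtype.val h).symm, hxsc.symm⟩,
        ⟨fun h => hxt (congrArg Subtype.val h).symm, hxtc.symm⟩⟩
    apply card_eq_one_of_unique _ _ _ hxmem
    rintro ⟨x', hx'⟩ hmem
    rw [SimpleGraph.mem_commonNeighbors, hadj, hadj] at hmem
    obtain ⟨⟨h1, h2⟩, ⟨h3, h4⟩⟩ := hmem
    have hx'x := huniq x' (inv_sq _ hx') (inv_ne _ hx')
      (fun h => h1 (Subtype.ext h.symm)) (fun h => h3 (Subtype.ext h.symm)) h2.symm h4.symm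
    apply Subtype.ext
    exact hx'x
  have hneV : Nonempty {t : G // orderOf t = 2} := ⟨⟨z, hz0'⟩⟩
  obtain ⟨v, hv⟩ := Cfsg.Agent.H70.Friend.friendship_theorem hFr
  -- the politician commutes with every involution
  have hvall : ∀ t : G, orderOf t = 2 → (v : G) * t = t * v := by
    intro t ht
    by_cases h : v = ⟨t, ht⟩
    · rw [h]
    · exact ((hadj v ⟨t, ht⟩).mp (hv ⟨t, ht⟩ h)).2
  obtain ⟨g, hg⟩ := hconjz v.1 v.2
  -- hence `z` commutes with every involution
  have hzall : ∀ t : G, orderOf t = 2 → t * z = z * t := by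
    intro t ht
    have h1 := hvall (g * t * g⁻¹) (ord2 _ (conj_sq g (inv_sq t ht)) (conj_ne_one g (inv_ne t ht)))
    rw [hg] at h1
    have h2 := conj_comm g⁻¹ h1
    rw [conj_conj_inv, conj_conj_inv] at h2
    exact h2.symm
  -- so the normal closure of `z` lies in `N`, and `z` is central
  have hncl : Subgroup.normalClosure ({z} : Set G) ≤
      Subgroup.normalizer ((P : Subgroup G) : Set G) := by
    rw [Subgroup.normalClosure, Subgroup.closure_le]
    intro c hc
    rw [Group.mem_conjugatesOfSet_iff] at hc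
    obtain ⟨a, ha, hac⟩ := hc
    rw [Set.mem_singleton_iff] at ha
    subst ha
    obtain ⟨k, rfl⟩ := isConj_iff.mp hac
    exact hzN _ (hzall _ (ord2 _ (conj_sq k hzz) (conj_ne_one k hz1)))
  have htop : Subgroup.normalClosure ({z} : Set G) = ⊤ := by
    rcases hsimple.eq_bot_or_eq_top_of_normal _ Subgroup.normalClosure_normal with h | h
    · exfalso
      apply hz1
      have hzmem : z ∈ Subgroup.normalClosure ({z} : Set G) :=
        Subgroup.subset_normalClosure (Set.mem_singleton z)
      rw [h] at hzmem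
      exact Subgroup.mem_bot.mp hzmem
    · exact h
  have hzcenter : z ∈ Subgroup.center G := by
    rw [Subgroup.mem_center_iff]
    intro k
    exact hNz k (hncl (htop ▸ Subgroup.mem_top k))
  rcases hsimple.eq_bot_or_eq_top_of_normal (Subgroup.center G) inferInstance with h | h
  · apply hz1
    rw [h] at hzcenter
    exact Subgroup.mem_bot.mp hzcenter
  · apply hnc
    refine ⟨⟨fun a c => ?_⟩⟩
    have hc : c ∈ Subgroup.center G := h ▸ Subgroup.mem_top c
    exact Subgroup.mem_center_iff.mp hc a

end Cfsg.Agent.S4018
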