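import Cfsg.Statements.S2948
import Cfsg.Agent.H24.TsW4
import Cfsg.Agent.H28.TsK1B
import Cfsg.Agent.H40.TsD
import Cfsg.Agent.H5.SnRed
import Cfsg.Agent.H53.TsSyl
import Cfsg.Agent.H53.TsTrA
import Cfsg.Agent.H60.TsOV
import Cfsg.Agent.H63.SnIfSyl
import Cfsg.Agent.H63.SnIfV
import Cfsg.Agent.H63.SnIfZ
import Cfsg.Agent.H66.TsWne
import Cfsg.Agent.H71.SnIfS
import Cfsg.Agent.H71.SpCM
import Cfsg.Agent.H74.TsAsm
import Cfsg.Agent.H80.TsK1A
import Cfsg.Agent.H80.TsK2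
import Cfsg.Agent.H86.TsJS
import Cfsg.Agent.H86.TsMJ
import Cfsg.Agent.H91.TsTrC
import Cfsg.Agent.H91.TsTrN
import Cfsg.Agent.H92.TsEQ
import Cfsg.Agent.H92.TsNJ
import Cfsg.Agent.Lib.Helper30.TsOdd

set_option autoImplicit false
open Cfsg

namespace Cfsg.Agent.S2948

/-- Let G be a finite group of characteristic 2 type in which every 2-local subgroup is solvable and the centralizer of Ω₁(Z(S)) lies in N_G(S) for every Sylow 2-subgroup S; suppose O₂(G) = 1, fix a Sylow 2-subgroup S and a 2-local subgroup M containing N_G(J(S)) (J the Thompson subgroup generated by the elementary abelian 2-subgroups of largest order). Let T be maximal (as in the family 𝒯*(M): lexicographically for the order of a largest elementary abelian subgroup, the order of J(T), the order of T) among the nontrivial 2-subgroups of M lying in a 2-local subgroup not inside M, and let L be a 2-local subgroup not contained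 in M with a Sylow 2-subgroup T₀ containing J(T). Then J(T) = J(T₀), T₀ again lies in a 2-local subgroup not inside M (and is a nontrivial 2-subgroup of M), and L belongs to the family ℒ(T₀): T₀ is Sylow in L, J(T₀) is not inside O₂(L) and C_G(O₂(L)) ≤ O₂(L). In particular if T ≤ L then T itself is a Sylow 2-subgroup of L, L ∈ ℒ(T), and L contains a J(T)-component. -/
theorem result {G : Type*} [Group G] [Finite G] (hL : Cfsg.IsCharacteristicTwoType G) (hN : ∀ N : Subgroup G, Cfsg.IsTwoLocal N → Group.IsSolvable ↥N)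
    (hZ : ∀ S : Sylow 2 G, Subgroup.centralizer (Cfsg.omegaCenterOf (S : Subgroup G) : Set G) ≤ Subgroup.normalizer ((S : Subgroup G) : Set G)) (hO : Cfsg.pCore 2 G = ⊥) (S : Sylow 2 G) (M : Subgroup G) (hM : Cfsg.IsTwoLocal M)
    (hMJ : Subgroup.normalizer (Cfsg.thompsonSubgroupOf 2 (S : Subgroup G) : Set G) ≤ M) (T : Subgroup G) (hT : T ∈ Cfsg.maxStraddlingTwoSubgroups M)
    (L : Subgroup G) (hL2 : Cfsg.IsTwoLocal L) (hLM : ¬ L ≤ M) (T₀ : Subgroup G) (hT₀ : Cfsg.IsSylowTwoIn T₀ L)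
    (hJT₀ : Cfsg.thompsonSubgroupOf 2 T ≤ T₀) :
    Cfsg.thompsonSubgroupOf 2 T = Cfsg.thompsonSubgroupOf 2 T₀ ∧ T₀ ∈ Cfsg.straddlingTwoSubgroups M ∧ L ∈ Cfsg.jOvergroups T₀ ∧
      (T ≤ L → L ∈ Cfsg.jOvergroups T ∧ ∃ K : Subgroup G, Cfsg.IsJComponent T K ∧ K ≤ L) := by
  exact Cfsg.Agent.H74.Ts.main4 Cfsg.Agent.H92.Ts.nj Cfsg.Agent.H92.Ts.eq Cfsg.Agent.H60.Ts.ov (Cfsg.Agent.H53.Ts.syl Cfsg.Agent.H92.Ts.eq)
    (Cfsg.Agent.H74.Ts.ex Cfsg.Agent.H5.Sn.red Cfsg.Agent.H63.Sn.ifSyl Cfsg.Agent.H63.Sn.ifV Cfsg.Agent.H63.Sn.ifZ Cfsg.Agent.H71.Sn.ifS Cfsg.Agent.H71.Sn.cm Cfsg.Agent.H40.Ts.d Cfsg.Agent.Lib.Helper30.Ts.odd Cfsg.Agent.H86.Ts.mj Cfsg.Agent.H80.Ts.k1a Cfsg.Agent.H28.Ts.k1b Cfsg.Agent.H80.Ts.k2 Cfsg.Agent.H53.Ts.trA Cfsg.Agent.H91.Ts.trC Cfsg.Agent.H91.Ts.trN Cfsg.Agent.H86.Ts.js Cfsg.Agent.H66.Ts.wne Cfsg.Agent.H24.Ts.w4)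
    hL hN hZ hO S M hM hMJ T hT L hL2 hLM T₀ hT₀ hJT₀

end Cfsg.Agent.S2948
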