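import Cfsg.Statements.S2950
import Cfsg.Agent.H58.UqAsm
import Cfsg.Agent.S2948
import Cfsg.Agent.H14.UqS
import Cfsg.Agent.H3.UqKeyA
import Cfsg.Agent.H25.UqKeyB
import Cfsg.Agent.H25.UqNSet
import Cfsg.Agent.H79.UqKeyC
import Cfsg.Agent.H12.UqK0Conj
import Cfsg.Agent.H54.UqO2SN
import Cfsg.Agent.H91.UqFrat
import Cfsg.Agent.H53.UqOrb
import Cfsg.Agent.H90.UqEnd
import Cfsg.Agent.Helper55.UqMaxL

set_option autoImplicit false
open Cfsg

namespace Cfsg.Agent.S2950

/-- Uniqueness of the maximal 2-local overgroup. Let G be a finite group of characteristic 2 type in which every 2-local subgroup is solvable and the centralizer of Ω₁(Z(S)) lies in N_G(S) for every Sylow 2-subgroup S; suppose O₂(G) = 1, fix a Sylow 2-subgroup S and a 2-local subgroup M containing N_G(J(S)) (J the Thompson subgroup generated by the elementary abelian 2-subgroups of largest order). Let T be maximal (for the order of a largest elementary abelian subgroup,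 then the order of J(T), then the order of T) among the nontrivial 2-subgroups of M lying in a 2-local subgroup not inside M, and let K be a J(T)-component not contained in M with J(T) the Thompson subgroup of every Sylow 2-subgroup of N_G(W_K) containing J(T), and O₂(⟨K, T⟩) ≠ 1. Then there is exactly one maximal 2-local subgroup L of G containing ⟨K, J(T)⟩; moreover K is subnormal in L and T is a Sylow 2-subgroup of L. -/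
theorem result {G : Type*} [Group G] [Finite G] (hL : Cfsg.IsCharacteristicTwoType G) (hN : ∀ N : Subgroup G, Cfsg.IsTwoLocal N → Group.IsSolvable ↥N)
    (hZ : ∀ S : Sylow 2 G, Subgroup.centralizer (Cfsg.omegaCenterOf (S : Subgroup G) : Set G) ≤ Subgroup.normalizer ((S : Subgroup G) : Set G)) (hO : Cfsg.pCore 2 G = ⊥) (S : Sylow 2 G) (M : Subgroup G) (hM : Cfsg.IsTwoLocal M)
    (hMJ : Subgroup.normalizer (Cfsg.thompsonSubgroupOf 2 (S : Subgroup G) : Set G) ≤ M) (T : Subgroup G) (hT : T ∈ Cfsg.maxStraddlingTwoSubgroups M)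
    (K : Subgroup G) (hK : K ∈ Cfsg.jComponentsOutside M T) :
    ∃ L : Subgroup G, Cfsg.IsMaximalTwoLocal L ∧ K ⊔ Cfsg.thompsonSubgroupOf 2 T ≤ L ∧
      (∀ L' : Subgroup G, Cfsg.IsMaximalTwoLocal L' → K ⊔ Cfsg.thompsonSubgroupOf 2 T ≤ L' → L' = L) ∧
      (K.subgroupOf L).IsSubnormal ∧ Cfsg.IsSylowTwoIn T L := by
  have hS : Cfsg.Agent.H58.Uq.StS := Cfsg.Agent.H14.Uq.s
  have hK0 : Cfsg.Agent.H58.Uq.StK0Conj := Cfsg.Agent.H12.Uq.k0conj
  have hO2 : Cfsg.Agent.H58.Uq.StO2SN := Cfsg.Agent.H54.Uq.o2sn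
  have hKey : Cfsg.Agent.H58.Uq.StKey :=
    Cfsg.Agent.H58.Uq.key (Cfsg.Agent.H3.Uq.keyA hS hK0)
      (Cfsg.Agent.H25.Uq.keyB hS Cfsg.Agent.H25.Uq.nset) (Cfsg.Agent.H79.Uq.keyC hO2) hK0
  have hEnd : Cfsg.Agent.H58.Uq.StEnd :=
    Cfsg.Agent.H90.Uq.endp (Cfsg.Agent.H53.Uq.orb hKey hK0) hS Cfsg.Agent.H91.Uq.frat hO2
  have h48 : Cfsg.Agent.H58.Uq.St48 :=
    fun hL hN hZ hO S M hM hMJ T hT L hL2 hLM T₀ hT₀ hJT₀ =>
      Cfsg.Agent.S2948.result hL hN hZ hO S M hM hMJ T hT L hL2 hLM T₀ hT₀ hJT₀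
  exact Cfsg.Agent.H58.Uq.main h48 hEnd Cfsg.Agent.Helper55.Uq.maxL Cfsg.Agent.Helper55.Uq.sylEx
    hL hN hZ hO S M hM hMJ T hT K hK

end Cfsg.Agent.S2950
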