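import Mathlib
import Cfsg.Statements.S0732
import Cfsg.Agent.H19.ZP6
import Cfsg.Agent.H19.ZP2
import Cfsg.Agent.H19.ZP1
import Cfsg.Agent.H19.ZId6
import Cfsg.Agent.H19.ZId7

set_option autoImplicit false
open Cfsg

namespace Cfsg.Agent.S0732

/-- A transitive permutation group on `p + 1` points (`p` prime) of order `(p+1) p d` with `d < p` is isomorphic to `PGL(2,p)` with `d = p - 1`, or to `PSL(2,p)` with `2d = p - 1`, or else `p + 1 = 2^q` for a prime `q`, `d = 1` or `d = q`, and the group is permutation-isomorphic to a group of semi-affine maps `x ↦ a φ(x) + b` of the field with `2^q` elements. -/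
theorem result {α : Type*} [Fintype α] [DecidableEq α] {p d : ℕ} (hp : p.Prime) (hα : Fintype.card α = p + 1) (G : Subgroup (Equiv.Perm α)) [MulAction.IsPretransitive G α] (hG : Nat.card G = (p + 1) * p * d) (hd : d < p) : (d = p - 1 ∧ Nonempty (G ≃* Matrix.ProjGenLinGroup (Fin 2) (ZMod p))) ∨ (2 * d = p - 1 ∧ Nonempty (G ≃* Matrix.ProjectiveSpecialLinearGroup (Fin 2) (ZMod p))) ∨ (∃ q : ℕ, q.Prime ∧ p + 1 = 2 ^ q ∧ (d = 1 ∨ d = q) ∧ ∃ e : α ≃ GaloisField 2 q, ∀ g : G, (e.symm.trans (((g : Equiv.Perm α)).trans e)) ∈ Cfsg.semiaffineGroup (GaloisField 2 q)) := by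
  classical
  haveI : Fact p.Prime := ⟨hp⟩
  haveI hfaith : FaithfulSMul G α := ⟨fun h => Subtype.ext (Equiv.ext h)⟩
  have hp2 := hp.two_le
  obtain ⟨a, b, hab⟩ : ∃ a b : α, a ≠ b := Fintype.exists_pair_of_one_lt_card (by omega)
  obtain ⟨u, hu, hua, hreg, hsemi, hnorm, hGa⟩ :=
    Cfsg.Agent.H19.deg_succ_prime_struct (G := G) hα hG hd a
  have hupow : ∀ n : ℕ, u ^ n • a = a := by
    intro n
    induction n with
    | zero => rw [pow_zero, one_smul]
    | succ n ih => rw [pow_succ, mul_smul, hua, ih]
  have h2' : ∀ x y x' y' : α, x ≠ y → x' ≠ y' → ∃ g : G, g • x = x' ∧ g • y = y' :=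
    Cfsg.Agent.H19.two_trans_of_reg a (fun b c hb hc => by
      obtain ⟨k, hk⟩ := hreg b c hb hc
      exact ⟨u ^ k, hupow k, hk⟩)
  have h2 : MulAction.IsMultiplyPretransitive G α 2 :=
    MulAction.is_two_pretransitive_iff.mpr (fun hxy hxy' => h2' _ _ _ _ hxy hxy')
  have h3 := Cfsg.Agent.H19.three_pt_of_struct a u hu hua hreg hsemi hnorm
  have hdcard : ∀ x y : α, x ≠ y →
      Nat.card (MulAction.stabilizer G x ⊓ MulAction.stabilizer G y : Subgroup G) = d := by
    intro x y hxy
    have h := Cfsg.Agent.H19.card_eq_of_two_pretransitive h2 hxy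
    rw [hG, Nat.card_eq_fintype_card, hα] at h
    have h1 : (p + 1) * (p + 1) - (p + 1) = (p + 1) * p := by
      have : (p + 1) * (p + 1) = (p + 1) * p + (p + 1) := by ring
      omega
    rw [h1] at h
    exact (Nat.eq_of_mul_eq_mul_left (by positivity) h).symm
  have hdpos : 0 < d := by
    rcases Nat.eq_zero_or_pos d with h | h
    · rw [h, mul_zero] at hG
      exact absurd hG Nat.card_pos.ne'
    · exact h
  have hub_a : u • b ≠ a := by
    intro h
    have h1 : u • b = u • a := by rw [h, hua]
    exact hab (smul_left_cancel u h1).symm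
  have hub_b : u • b ≠ b := by
    intro h
    have h1 := hsemi b hab.symm 1 (by rw [Cfsg.Agent.H19.zpw_one hu]; exact h)
    exact one_ne_zero h1
  by_cases hdp : d = p - 1
  · left
    refine ⟨hdp, ?_⟩
    obtain ⟨t, hta, htb⟩ := h2' a b b a hab hab.symm
    refine Cfsg.Agent.H19.pgl_prime_id h3 hab u hu hua (fun c hc => hreg b c hab.symm hc) hnorm
      ?_ t hta htb
    intro c hca hcb
    exact Cfsg.Agent.H19.two_stab_transitive h3 hab
      (by rw [hdcard a b hab, hα, hdp]; omega) (u • b) c hub_a hub_b hca hcb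
  · right
    have hp3 : p ≠ 2 := by
      intro h
      apply hdp
      omega
    by_cases hN : ∃ N : Subgroup G, N.Normal ∧ MulAction.IsPretransitive N α ∧
        ∀ x : α, MulAction.stabilizer N x = ⊥
    · right
      obtain ⟨N, hNn, hNt, hNr⟩ := hN
      have hNt' : ∀ x y : α, ∃ n ∈ N, n • x = y := by
        intro x y
        obtain ⟨n, hn⟩ := MulAction.exists_smul_eq N x y
        exact ⟨n, n.2, hn⟩
      have hNr' : ∀ n ∈ N, ∀ x : α, n • x = x → n = 1 := by
        intro n hn x hx
        have h1 : (⟨n, hn⟩ : N) ∈ MulAction.stabilizer N x := hx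
        rw [hNr x, Subgroup.mem_bot] at h1
        exact congrArg Subtype.val h1
      obtain ⟨K, iK, iKf, pt, hpt, hpt0, hGK⟩ :=
        Cfsg.Agent.H19.semiaffine_coords hα N hNn hNt' hNr' a u hu hua hsemi hnorm
      obtain ⟨q, hq, hpq, pt', hpt', hGL⟩ :=
        Cfsg.Agent.H19.semiaffine_to_galois (G := G) hp hp3 hα K pt hpt hGK
      have hdq : d ∣ q := by
        have h1 := Cfsg.Agent.H19.semiaffine_stab_dvd (G := G) hq.ne_zero pt' hpt' hGL
        rwa [hdcard _ _ (fun h => zero_ne_one (hpt'.1 h))] at h1
      refine ⟨q, hq, hpq, (Nat.dvd_prime hq).mp hdq, (Equiv.ofBijective pt' hpt').symm, ?_⟩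
      intro g
      obtain ⟨c, β, ψ, hc, hg⟩ := hGL g
      refine ⟨Units.mk0 c hc, β, ψ, fun x => ?_⟩
      show (Equiv.ofBijective pt' hpt').symm ((g : Equiv.Perm α) (pt' x)) = c * ψ x + β
      rw [Equiv.symm_apply_eq]
      exact hg x
    · left
      have hnoreg : ∀ N : Subgroup G, N.Normal → MulAction.IsPretransitive N α →
          ∃ x : α, MulAction.stabilizer N x ≠ ⊥ := by
        intro N hNn hNt
        by_contra hcon
        push Not at hcon
        exact hN ⟨N, hNn, hNt, hcon⟩
      have hd2 : 2 ≤ d := by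
        by_contra hd1
        have hd1' : d = 1 := by omega
        subst hd1'
        have hcardstab : ∀ c : α, Nat.card (MulAction.stabilizer G c) = p := by
          intro c
          obtain ⟨-, -, -, -, -, -, h⟩ :=
            Cfsg.Agent.H19.deg_succ_prime_struct (G := G) hα hG hd c
          rw [h, mul_one]
        have hcomm : ∀ c : α, ∀ m n : G, m • c = c → n • c = c → m * n = n * m := by
          intro c m n hm hn
          haveI : IsCyclic (MulAction.stabilizer G c) := isCyclic_of_prime_card (hcardstab c)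
          obtain ⟨g, hg⟩ := IsCyclic.exists_generator (α := MulAction.stabilizer G c)
          obtain ⟨i, hi⟩ := Subgroup.mem_zpowers_iff.mp (hg ⟨m, hm⟩)
          obtain ⟨j, hj⟩ := Subgroup.mem_zpowers_iff.mp (hg ⟨n, hn⟩)
          have h1 : (⟨m, hm⟩ : MulAction.stabilizer G c) * ⟨n, hn⟩ = ⟨n, hn⟩ * ⟨m, hm⟩ := by
            rw [← hi, ← hj]
            exact zpow_mul_comm g i j
          exact congrArg Subtype.val h1
        have hfix1 : ∀ m : G, m ≠ 1 → ∀ c c' : α, m • c = c → m • c' = c' → c = c' := by
          intro m hm c c' hc hc'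
          by_contra hcc
          have h1 := hdcard c c' hcc
          have h2 : (MulAction.stabilizer G c ⊓ MulAction.stabilizer G c' : Subgroup G) = ⊥ :=
            Subgroup.card_eq_one.mp h1
          have h3 : m ∈ (MulAction.stabilizer G c ⊓ MulAction.stabilizer G c' : Subgroup G) :=
            Subgroup.mem_inf.mpr ⟨hc, hc'⟩
          rw [h2, Subgroup.mem_bot] at h3
          exact hm h3
        haveI : Nontrivial G := ⟨⟨u, 1, fun h => by
          rw [h, orderOf_one] at hu
          omega⟩⟩
        obtain ⟨M, hMn, hM1, hMs⟩ := Cfsg.Agent.H19.exists_simple_normal_of_two_trans h2 (by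
          intro N hNn hN1
          haveI : MulAction.IsPretransitive N α := ⟨fun x y => by
            obtain ⟨n, hn, hxy⟩ :=
              Cfsg.Agent.H19.normal_transitive_of_two_trans h2' N hNn hN1 x y
            exact ⟨⟨n, hn⟩, hxy⟩⟩
          obtain ⟨x, hx⟩ := hnoreg N hNn inferInstance
          obtain ⟨n, hn, hn1⟩ : ∃ n ∈ MulAction.stabilizer N x, n ≠ 1 := by
            by_contra hcon
            push Not at hcon
            exact hx ((Subgroup.eq_bot_iff_forall _).mpr hcon)
          exact ⟨x, n, n.2, fun h => hn1 (Subtype.ext h), hn⟩)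
        haveI := hMs
        have hMtr : ∀ y z : α, ∃ m : M, m • y = z := by
          intro y z
          obtain ⟨n, hn, hxy⟩ :=
            Cfsg.Agent.H19.normal_transitive_of_two_trans h2' M hMn hM1 y z
          exact ⟨⟨n, hn⟩, hxy⟩
        have hpM : p ∣ Nat.card M := by
          haveI : MulAction.IsPretransitive M α := ⟨hMtr⟩
          obtain ⟨x, hx⟩ := hnoreg M hMn inferInstance
          obtain ⟨n, hn, hn1⟩ : ∃ n ∈ MulAction.stabilizer M x, n ≠ 1 := by
            by_contra hcon
            push Not at hcon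
            exact hx ((Subgroup.eq_bot_iff_forall _).mpr hcon)
          have h1 : orderOf (n : G) ∣ p := by
            rw [← hcardstab x]
            exact Subgroup.orderOf_dvd_natCard _ hn
          have h2 : orderOf (n : G) ≠ 1 := by
            rw [Ne, orderOf_eq_one_iff]
            exact fun h => hn1 (Subtype.ext h)
          have h3 : orderOf (n : G) = p := ((Nat.dvd_prime hp).mp h1).resolve_left h2
          rw [← h3, Subgroup.orderOf_coe]
          exact orderOf_dvd_natCard n
        exact Cfsg.Agent.H19.simple_no_unique_fix (M := M) hMtr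
          (fun m hm c c' hc hc' => hfix1 m (fun h => hm (Subtype.ext h)) c c' hc hc')
          (fun c m n hm hn => Subtype.ext (hcomm c m n hm hn))
          p hp hpM (by
            rw [Nat.card_eq_fintype_card, hα]
            exact fun h => hp.one_lt.ne' (Nat.dvd_one.mp ((Nat.dvd_add_right (dvd_refl p)).mp h)))
          a b hab
      have hZ : Cfsg.IsZassenhausGroup G α := by
        refine ⟨hfaith, h2, h3, ?_, hnoreg⟩
        by_contra hcon
        push Not at hcon
        have hbot : (MulAction.stabilizer G a ⊓ MulAction.stabilizer G b : Subgroup G) = ⊥ := by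
          rw [Subgroup.eq_bot_iff_forall]
          intro g hg
          obtain ⟨hga, hgb⟩ := Subgroup.mem_inf.mp hg
          by_contra hg1
          exact hcon g hg1 a b hab hga hgb
        have := hdcard a b hab
        rw [hbot, Subgroup.card_bot] at this
        omega
      have hFle : Subgroup.zpowers u ≤ MulAction.stabilizer G a := by
        rw [Subgroup.zpowers_le]
        exact hua
      have hFcard : Nat.card (Subgroup.zpowers u) + 1 = Fintype.card α := by
        rw [Nat.card_zpowers, hu, hα]
      have hFfix : ∀ w ∈ Subgroup.zpowers u, w ≠ 1 → ∀ c : α, w • c = c → c = a := by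
        intro w hw hw1 c hc
        by_contra hca
        have hfin : IsOfFinOrder u := isOfFinOrder_of_finite u
        obtain ⟨j, hj⟩ := hfin.mem_powers_iff_mem_zpowers.mpr hw
        have hj' : u ^ j = w := hj
        have h1 := hsemi c hca (j : ZMod p)
          (by rw [Cfsg.Agent.H19.zpw_natCast hu, hj']; exact hc)
        apply hw1
        rw [← hj', ← Cfsg.Agent.H19.zpw_natCast hu, h1, Cfsg.Agent.H19.zpw_zero]
      have hFab : ∀ w ∈ Subgroup.zpowers u, ∀ w' ∈ Subgroup.zpowers u, w * w' = w' * w := by
        intro w hw w' hw'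
        obtain ⟨i, rfl⟩ := Subgroup.mem_zpowers_iff.mp hw
        obtain ⟨j, rfl⟩ := Subgroup.mem_zpowers_iff.mp hw'
        exact zpow_mul_comm u i j
      have hfinal : ∀ (p' f : ℕ) (K : Type) (_ : Field K) (_ : Fintype K),
          Fintype.card K = p' ^ f → Fintype.card α = p' ^ f + 1 →
          Nonempty (G ≃* Matrix.ProjectiveSpecialLinearGroup (Fin 2) K) →
          Nonempty (G ≃* Matrix.ProjectiveSpecialLinearGroup (Fin 2) (ZMod p)) := by
        intro p' f K _ _ hK hαK ⟨e⟩
        have hKp : Fintype.card K = p := by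
          rw [hK]
          omega
        obtain ⟨e'⟩ := Cfsg.Agent.H19.psl_mulEquiv_of_ringEquiv (n := Fin 2)
          (ZMod.ringEquivOfPrime K hp hKp)
        exact ⟨e.trans e'.symm⟩
      have hN2 : Fintype.card α - 2 = p - 1 := by omega
      rcases Nat.even_or_odd (Nat.card (MulAction.stabilizer G a ⊓ MulAction.stabilizer G b :
        Subgroup G)) with heven | hodd
      · have h1 := Cfsg.Agent.S0741.result hZ hab heven
        rcases Cfsg.Agent.H19.zass_half_or_full hZ hab h1 with h | h
        · exfalso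
          rw [hdcard a b hab, hN2] at h
          exact hdp h
        · obtain ⟨p', f, K, iF, iFt, -, -, hK, hαK, -, hiso⟩ :=
            Cfsg.Agent.H19.zass_psl_even hZ hab heven h (Subgroup.zpowers u) hFle hFcard hFfix
          rw [hdcard a b hab, hN2] at h
          exact ⟨h, hfinal p' f K iF iFt hK hαK hiso⟩
      · rcases Cfsg.Agent.H19.zass_odd_dichotomy hZ hab hodd (Subgroup.zpowers u) hFle hFcard
          hFfix hFab with h | ⟨h, hs⟩
        · exfalso
          rw [hdcard a b hab, hN2] at h
          exact hdp h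
        · haveI := hs
          obtain ⟨p', f, K, iF, iFt, -, -, hK, hαK, -, hiso⟩ :=
            Cfsg.Agent.H19.zass_psl_odd hZ hab hodd h (Subgroup.zpowers u) hFle hFcard hFfix
          rw [hdcard a b hab, hN2] at h
          exact ⟨h, hfinal p' f K iF iFt hK hαK hiso⟩

end Cfsg.Agent.S0732
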