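import Cfsg.Statements.S2475
import Cfsg.Agent.H46.PSL2Spec
import Cfsg.Agent.H7.SL2Order
import Cfsg.Agent.H7.PSL2

set_option autoImplicit false
open Cfsg

namespace Cfsg.Agent.S2475

open Cfsg.Agent.H46

section

variable {F : Type*} [Field F] [Fintype F]

theorem orderOf_mk_eq (g : Matrix.SpecialLinearGroup (Fin 2) F) (m : ℕ)
    (h : ∀ k : ℕ, g ^ k ∈ Subgroup.center (Matrix.SpecialLinearGroup (Fin 2) F) ↔ m ∣ k) :
    orderOf (QuotientGroup.mk g : Matrix.ProjectiveSpecialLinearGroup (Fin 2) F) = m := by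
  apply Nat.dvd_antisymm
  · apply orderOf_dvd_of_pow_eq_one
    rw [← QuotientGroup.mk_pow, QuotientGroup.eq_one_iff, h]
  · rw [← h, ← QuotientGroup.eq_one_iff, QuotientGroup.mk_pow]
    exact pow_orderOf_eq_one _

theorem mem_center_of_mul_self (h2 : (2 : F) ≠ 0) (A : Matrix.SpecialLinearGroup (Fin 2) F)
    (hA : A * A = 1) : A ∈ Subgroup.center (Matrix.SpecialLinearGroup (Fin 2) F) := by
  apply Cfsg.Agent.H7.sl2_mem_center_of_sq A (by rw [hA]; exact Subgroup.one_mem _)
  intro ht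
  have h0 := sl2_sq_of_trace_zero A (by rw [Matrix.trace_fin_two]; exact ht)
  have h1 : (1 : Matrix (Fin 2) (Fin 2) F) = -1 := by
    rw [← h0, ← Matrix.SpecialLinearGroup.coe_mul, hA]
    rfl
  have h3 := congrFun (congrFun h1 0) 0
  simp only [Matrix.one_apply_eq, Matrix.neg_apply] at h3
  apply h2
  linear_combination h3

theorem eq_one_of_mem_center (h2 : (2 : F) = 0) (z : Matrix.SpecialLinearGroup (Fin 2) F)
    (hz : z ∈ Subgroup.center (Matrix.SpecialLinearGroup (Fin 2) F)) : z = 1 := by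
  rw [Cfsg.Agent.H7.sl2_mem_center_iff] at hz
  obtain ⟨h01, h10, h00⟩ := hz
  have hdet := Cfsg.Agent.H7.sl2_det z
  rw [h01, ← h00] at hdet
  have h1 : (z.1 0 0 - 1) ^ 2 = 0 := by linear_combination hdet - z.1 0 0 * h2 + h2
  have h3 : z.1 0 0 = 1 := sub_eq_zero.mp (pow_eq_zero_iff (two_ne_zero) |>.mp h1)
  apply Matrix.SpecialLinearGroup.ext
  intro i j
  fin_cases i <;> fin_cases j
  · simpa using h3
  · simpa using h01
  · simpa using h10
  · simpa using (h00.symm.trans h3)

theorem gcd_facts (p : ℕ) [Fact p.Prime] [CharP F p] :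
    (Nat.gcd 2 (Fintype.card F - 1) = 1 ∧ (2 : F) = 0 ∧ Odd (Fintype.card F - 1) ∧ Odd (Fintype.card F + 1)) ∨
    (Nat.gcd 2 (Fintype.card F - 1) = 2 ∧ (2 : F) ≠ 0 ∧ 2 ∣ Fintype.card F - 1 ∧ 2 ∣ Fintype.card F + 1) := by
  have hq1 : 1 < Fintype.card F := Fintype.one_lt_card
  by_cases hp2 : p = 2
  · left
    subst hp2
    have h2 : (2 : F) = 0 := by
      have := CharP.cast_eq_zero F 2
      exact_mod_cast this
    have heven := FiniteField.even_card_of_char_two (ringChar.eq F 2)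
    have ho1 : Odd (Fintype.card F - 1) := by
      rw [Nat.odd_iff]; omega
    have ho2 : Odd (Fintype.card F + 1) := by
      rw [Nat.odd_iff]; omega
    refine ⟨?_, h2, ho1, ho2⟩
    exact Nat.coprime_two_left.mpr ho1
  · right
    have hodd := FiniteField.odd_card_of_char_ne_two (F := F) (by rw [ringChar.eq F p]; exact hp2)
    have h2 : (2 : F) ≠ 0 := Cfsg.Agent.H7.two_ne_zero_of_odd_card (Nat.odd_iff.mpr hodd)
    have hd1 : 2 ∣ Fintype.card F - 1 := by omega
    have hd2 : 2 ∣ Fintype.card F + 1 := by omega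
    exact ⟨Nat.gcd_eq_left hd1, h2, hd1, hd2⟩

theorem key1 (g : Matrix.SpecialLinearGroup (Fin 2) F) (n d : ℕ)
    (hd : d = 1 ∨ (d = 2 ∧ (2 : F) ≠ 0 ∧ 2 ∣ n)) (hn : g ^ n = 1) :
    orderOf (QuotientGroup.mk g : Matrix.ProjectiveSpecialLinearGroup (Fin 2) F) ∣ n / d := by
  apply orderOf_dvd_of_pow_eq_one
  rw [← QuotientGroup.mk_pow, QuotientGroup.eq_one_iff]
  rcases hd with rfl | ⟨rfl, h2, hdvd⟩
  · rw [Nat.div_one, hn]
    exact Subgroup.one_mem _
  · apply mem_center_of_mul_self h2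
    rw [← pow_add, ← two_mul, Nat.mul_div_cancel' hdvd, hn]

theorem key2 (m n d : ℕ) (hn : n = Fintype.card F - 1 ∨ n = Fintype.card F + 1) (hn0 : 0 < n)
    (hd : (d = 1 ∧ (2 : F) = 0 ∧ Odd n) ∨ (d = 2 ∧ (2 : F) ≠ 0 ∧ 2 ∣ n)) (hm : m ∣ n / d) :
    ∃ x : Matrix.ProjectiveSpecialLinearGroup (Fin 2) F, orderOf x = m := by
  by_cases hm1 : m = 1
  · exact ⟨1, by rw [hm1, orderOf_one]⟩
  rcases hd with ⟨rfl, h2, hodd⟩ | ⟨rfl, h2, hdvd⟩
  · rw [Nat.div_one] at hm
    have hm0 : m ≠ 0 := by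
      rintro rfl
      rw [zero_dvd_iff] at hm
      omega
    have hmodd : Odd m := by
      obtain ⟨c, hc⟩ := hm
      rw [hc] at hodd
      exact (Nat.odd_mul.mp hodd).1
    have hm3 : 3 ≤ m := by
      obtain ⟨j, hj⟩ := hmodd
      omega
    obtain ⟨τ, -, hτ⟩ := Cfsg.Agent.H7.exists_slComp_orderOf (F := F) m hm3
      (by rcases hn with rfl | rfl
          · exact Or.inl hm
          · exact Or.inr hm)
    refine ⟨QuotientGroup.mk (Cfsg.Agent.H7.slComp τ), orderOf_mk_eq _ m ?_⟩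
    intro k
    rw [← hτ, orderOf_dvd_iff_pow_eq_one]
    constructor
    · exact eq_one_of_mem_center h2 _
    · intro h
      rw [h]
      exact Subgroup.one_mem _
  · have hm0 : m ≠ 0 := by
      rintro rfl
      rw [zero_dvd_iff] at hm
      obtain ⟨c, hc⟩ := hdvd
      omega
    have h2m : 2 * m ∣ n := by
      obtain ⟨c, hc⟩ := hm
      refine ⟨c, ?_⟩
      have := Nat.mul_div_cancel' hdvd
      rw [hc] at this
      rw [← this]
      ring
    obtain ⟨τ, -, hτ⟩ := Cfsg.Agent.H7.exists_slComp_orderOf (F := F) (2 * m) (by omega)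
      (by rcases hn with rfl | rfl
          · exact Or.inl h2m
          · exact Or.inr h2m)
    refine ⟨QuotientGroup.mk (Cfsg.Agent.H7.slComp τ), orderOf_mk_eq _ m ?_⟩
    intro k
    constructor
    · intro hz
      have h1 := sl2_center_mul_self hz
      rw [← pow_add, ← two_mul] at h1
      have h3 := orderOf_dvd_of_pow_eq_one h1
      rw [hτ] at h3
      exact Nat.dvd_of_mul_dvd_mul_left (by norm_num) h3
    · rintro ⟨j, rfl⟩
      rw [pow_mul]
      apply Subgroup.pow_mem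
      apply mem_center_of_mul_self h2
      rw [← pow_add, ← two_mul, ← hτ]
      exact pow_orderOf_eq_one _

theorem slUpper_pow (k : ℕ) : (Cfsg.Agent.H7.slUpper (1 : F)) ^ k = Cfsg.Agent.H7.slUpper (k : F) := by
  induction k with
  | zero =>
    apply Subtype.ext
    rw [pow_zero]
    show (1 : Matrix (Fin 2) (Fin 2) F) = !![1, ((0 : ℕ) : F); 0, 1]
    rw [Matrix.one_fin_two, Nat.cast_zero]
  | succ k ih =>
    rw [pow_succ, ih]
    apply Subtype.ext
    rw [Matrix.SpecialLinearGroup.coe_mul]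
    show !![1, (k : F); 0, 1] * !![1, (1 : F); 0, 1] = !![1, ((k + 1 : ℕ) : F); 0, 1]
    rw [Matrix.mul_fin_two]
    simp [add_comm]

end

/-- The set of element orders of PSL(2,q): let F be a finite field of characteristic p with q ≥ 4 elements and d = gcd(2, q − 1). The orders of elements of PSL(2,F) are exactly the divisors of p, of (q − 1)/d and of (q + 1)/d. -/
theorem result {F : Type*} [Field F] [Fintype F] (p : ℕ) [Fact p.Prime] [CharP F p] (h4 : 4 ≤ Fintype.card F) :
    Set.range (orderOf : Matrix.ProjectiveSpecialLinearGroup (Fin 2) F → ℕ) =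
      {m : ℕ | m ∣ p ∨ m ∣ (Fintype.card F - 1) / Nat.gcd 2 (Fintype.card F - 1) ∨ m ∣ (Fintype.card F + 1) / Nat.gcd 2 (Fintype.card F - 1)} := by
  have hfacts := gcd_facts (F := F) p
  ext m
  simp only [Set.mem_range, Set.mem_ofPred_eq]
  constructor
  · rintro ⟨x, rfl⟩
    obtain ⟨g, rfl⟩ := QuotientGroup.mk_surjective x
    by_cases ht : (g : Matrix (Fin 2) (Fin 2) F).trace ^ 2 = 4
    · left
      have h1 : ((g : Matrix (Fin 2) (Fin 2) F).trace - 2) * ((g : Matrix (Fin 2) (Fin 2) F).trace + 2) = 0 := by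
        linear_combination ht
      apply orderOf_dvd_of_pow_eq_one
      rw [← QuotientGroup.mk_pow, QuotientGroup.eq_one_iff]
      rcases mul_eq_zero.mp h1 with h | h
      · have h5 := sl2_pow_char_of_trace p g 1 (by ring) (by linear_combination h)
        exact sl2_mem_center_of_scalar (1 ^ p) (by simp)
          (by rw [Matrix.SpecialLinearGroup.coe_pow]; exact h5)
      · have h5 := sl2_pow_char_of_trace p g (-1) (by ring) (by linear_combination h)
        exact sl2_mem_center_of_scalar ((-1) ^ p) (by rw [← pow_mul, mul_comm, pow_mul]; simp)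
          (by rw [Matrix.SpecialLinearGroup.coe_pow]; exact h5)
    · right
      rcases sl2_pow_card_pm g ht with h | h
      · left
        apply key1 g _ _ _ h
        rcases hfacts with ⟨hd, -, -, -⟩ | ⟨hd, h2, hd1, -⟩
        · exact Or.inl hd
        · exact Or.inr ⟨hd, h2, hd1⟩
      · right
        apply key1 g _ _ _ h
        rcases hfacts with ⟨hd, -, -, -⟩ | ⟨hd, h2, -, hd2⟩
        · exact Or.inl hd
        · exact Or.inr ⟨hd, h2, hd2⟩
  · rintro (hm | hm | hm)
    · rcases (Nat.dvd_prime (Fact.out : p.Prime)).mp hm with rfl | rfl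
      · exact ⟨1, orderOf_one⟩
      · refine ⟨QuotientGroup.mk (Cfsg.Agent.H7.slUpper (1 : F)), orderOf_mk_eq _ m ?_⟩
        intro k
        rw [slUpper_pow, Cfsg.Agent.H7.sl2_mem_center_iff]
        simp only [Cfsg.Agent.H7.slUpper, Matrix.of_apply, Matrix.cons_val', Matrix.cons_val_zero,
          Matrix.cons_val_one, Matrix.cons_val_fin_one, and_true, true_and]
        exact CharP.cast_eq_zero_iff F m k
    · apply key2 m (Fintype.card F - 1) _ (Or.inl rfl) (by omega) _ hm
      rcases hfacts with ⟨hd, h2, ho1, -⟩ | ⟨hd, h2, hd1, -⟩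
      · exact Or.inl ⟨hd, h2, ho1⟩
      · exact Or.inr ⟨hd, h2, hd1⟩
    · apply key2 m (Fintype.card F + 1) _ (Or.inr rfl) (by omega) _ hm
      rcases hfacts with ⟨hd, h2, -, ho2⟩ | ⟨hd, h2, -, hd2⟩
      · exact Or.inl ⟨hd, h2, ho2⟩
      · exact Or.inr ⟨hd, h2, hd2⟩

end Cfsg.Agent.S2475
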