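import Cfsg.Statements.S2476
import Cfsg.Agent.H62.PSL2Spec
import Cfsg.Agent.H62.PSL3a
import Cfsg.Agent.H62.PSL3b

set_option autoImplicit false
open Cfsg

namespace Cfsg.Agent.S2476

/-- The set of element orders of PSL(3,q): let F be a finite field of characteristic p with q elements and d = gcd(3, q − 1). The orders of elements of PSL(3,F) are exactly the divisors of (q² + q + 1)/d, of (q² − 1)/d, of q − 1, of p(q − 1)/d, and, when p = 2, of 4. -/
theorem result {F : Type*} [Field F] [Fintype F] (p : ℕ) [Fact p.Prime] [CharP F p] :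
    Set.range (orderOf : Matrix.ProjectiveSpecialLinearGroup (Fin 3) F → ℕ) =
      {m : ℕ | m ∣ (Fintype.card F ^ 2 + Fintype.card F + 1) / Nat.gcd 3 (Fintype.card F - 1) ∨
        m ∣ (Fintype.card F ^ 2 - 1) / Nat.gcd 3 (Fintype.card F - 1) ∨ m ∣ Fintype.card F - 1 ∨
        m ∣ p * (Fintype.card F - 1) / Nat.gcd 3 (Fintype.card F - 1) ∨ (p = 2 ∧ m ∣ 4)} := by
  have hfin : Finite (Matrix.SpecialLinearGroup (Fin 3) F) := inferInstance
  apply Set.Subset.antisymm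
  · rintro _ ⟨x, rfl⟩
    obtain ⟨g, rfl⟩ := QuotientGroup.mk_surjective x
    obtain ⟨N, c, hN, hc⟩ := Cfsg.Agent.H62.sl3_pow_scalar p (g.1 : Matrix (Fin 3) (Fin 3) F) g.2
    have hdvd : orderOf (QuotientGroup.mk g : Matrix.ProjectiveSpecialLinearGroup (Fin 3) F) ∣ N :=
      orderOf_dvd_of_pow_eq_one (Cfsg.Agent.H62.psl3_pow_eq_one_of_scalar g N c hc)
    rcases hN with rfl | rfl | rfl | rfl | ⟨hp, rfl⟩
    · exact Or.inl hdvd
    · exact Or.inr (Or.inl hdvd)
    · exact Or.inr (Or.inr (Or.inl hdvd))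
    · exact Or.inr (Or.inr (Or.inr (Or.inl hdvd)))
    · exact Or.inr (Or.inr (Or.inr (Or.inr ⟨hp, hdvd⟩)))
  · intro s hs
    rcases hs with hs | hs | hs | hs | ⟨hp, hs⟩
    · obtain ⟨x, hx⟩ := Cfsg.Agent.H62.psl3_exists_4 (F := F) p
      exact Cfsg.Agent.H62.exists_orderOf_of_dvd x s (dvd_trans hs hx) (orderOf_pos x)
    · obtain ⟨x, hx⟩ := Cfsg.Agent.H62.psl3_exists_3 (F := F) p
      exact Cfsg.Agent.H62.exists_orderOf_of_dvd x s (dvd_trans hs hx) (orderOf_pos x)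
    · obtain ⟨x, hx⟩ := Cfsg.Agent.H62.psl3_exists_1 (F := F)
      exact Cfsg.Agent.H62.exists_orderOf_of_dvd x s (dvd_trans hs hx) (orderOf_pos x)
    · obtain ⟨x, hx⟩ := Cfsg.Agent.H62.psl3_exists_2 (F := F) p
      exact Cfsg.Agent.H62.exists_orderOf_of_dvd x s (dvd_trans hs hx) (orderOf_pos x)
    · obtain ⟨x, hx⟩ := Cfsg.Agent.H62.psl3_exists_5 (F := F) p hp
      exact Cfsg.Agent.H62.exists_orderOf_of_dvd x s (by rw [hx]; exact hs) (orderOf_pos x)

end Cfsg.Agent.S2476
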