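import Cfsg.Statements.S0809
import Cfsg.Agent.H44.SL2Card
import Cfsg.Agent.H46.SL2Basic
import Cfsg.Agent.H7.PSL2

set_option autoImplicit false
open Cfsg

namespace Cfsg.Agent.S0809

open Matrix

theorem pow_four_eq {M : Type*} [Monoid M] (x : M) : x ^ 4 = x * x * (x * x) := by
  simp only [pow_succ, pow_zero, one_mul, mul_assoc]

section basic
variable {F : Type*} [Field F]

/-- an element of `SL₂` squaring to one is `±1` -/
theorem eq_one_or_neg_of_sq (h2 : (2 : F) ≠ 0) (g : Matrix.SpecialLinearGroup (Fin 2) F)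
    (hg : g * g = 1) : g = 1 ∨ (g : Matrix (Fin 2) (Fin 2) F) = -1 := by
  have hdet := Cfsg.Agent.H7.sl2_det g
  have e00 := congrArg (fun x : Matrix.SpecialLinearGroup (Fin 2) F => x.1 0 0) hg
  have e01 := congrArg (fun x : Matrix.SpecialLinearGroup (Fin 2) F => x.1 0 1) hg
  have e10 := congrArg (fun x : Matrix.SpecialLinearGroup (Fin 2) F => x.1 1 0) hg
  have e11 := congrArg (fun x : Matrix.SpecialLinearGroup (Fin 2) F => x.1 1 1) hg
  simp only [Cfsg.Agent.H7.sl2_mul_apply] at e00 e01 e10 e11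
  have o00 : (1 : Matrix.SpecialLinearGroup (Fin 2) F).1 0 0 = 1 := by simp
  have o01 : (1 : Matrix.SpecialLinearGroup (Fin 2) F).1 0 1 = 0 := by simp
  have o10 : (1 : Matrix.SpecialLinearGroup (Fin 2) F).1 1 0 = 0 := by simp
  have o11 : (1 : Matrix.SpecialLinearGroup (Fin 2) F).1 1 1 = 1 := by simp
  rw [o00] at e00
  rw [o01] at e01
  rw [o10] at e10
  rw [o11] at e11
  by_cases ht : g.1 0 0 + g.1 1 1 = 0
  · exfalso
    apply h2
    linear_combination g.1 0 0 * ht - e00 - hdet
  · have hq : g.1 0 1 = 0 := by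
      have : g.1 0 1 * (g.1 0 0 + g.1 1 1) = 0 := by linear_combination e01
      exact (mul_eq_zero.mp this).resolve_right ht
    have hr : g.1 1 0 = 0 := by
      have : g.1 1 0 * (g.1 0 0 + g.1 1 1) = 0 := by linear_combination e10
      exact (mul_eq_zero.mp this).resolve_right ht
    rw [hq, hr] at hdet e00 e11
    have hp : (g.1 0 0 - 1) * (g.1 0 0 + 1) = 0 := by linear_combination e00
    have hs : g.1 1 1 = g.1 0 0 := by
      have : g.1 0 0 * (g.1 1 1 - g.1 0 0) = 0 := by linear_combination hdet - e00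
      rcases mul_eq_zero.mp this with h | h
      · rw [h] at e00; simp at e00
      · linear_combination h
    rcases mul_eq_zero.mp hp with h | h
    · left
      apply Subtype.ext
      ext i j
      fin_cases i <;> fin_cases j <;> simp [hq, hr, hs] <;> linear_combination h
    · right
      ext i j
      fin_cases i <;> fin_cases j <;> simp [hq, hr, hs] <;> linear_combination h

theorem trace_eq (g : Matrix.SpecialLinearGroup (Fin 2) F) :
    (g : Matrix (Fin 2) (Fin 2) F).trace = g.1 0 0 + g.1 1 1 := by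
  rw [Matrix.trace_fin_two]

/-- `g² = -1` forces trace zero -/
theorem trace_zero_of_sq (g : Matrix.SpecialLinearGroup (Fin 2) F)
    (hg : (g : Matrix (Fin 2) (Fin 2) F) * (g : Matrix (Fin 2) (Fin 2) F) = -1) :
    (g : Matrix (Fin 2) (Fin 2) F).trace = 0 := by
  have h1 := Cfsg.Agent.H46.sl2_sq g
  rw [hg] at h1
  have h2 : (g : Matrix (Fin 2) (Fin 2) F).trace • (g : Matrix (Fin 2) (Fin 2) F) = 0 := by
    rw [eq_sub_iff_add_eq] at h1
    rw [← h1]; simp
  by_contra ht
  have h3 : (g : Matrix (Fin 2) (Fin 2) F) = 0 := by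
    rcases smul_eq_zero.mp h2 with h | h
    · exact absurd h ht
    · exact h
  have hdet := g.det_coe
  rw [h3, Matrix.det_zero] at hdet
  exact zero_ne_one hdet

theorem sq_of_trace_zero (h2 : (2 : F) ≠ 0) (g : Matrix.SpecialLinearGroup (Fin 2) F)
    (ht : (g : Matrix (Fin 2) (Fin 2) F).trace = 0) : g * g ≠ 1 ∧ g * g * (g * g) = 1 := by
  have h1 := Cfsg.Agent.H46.sl2_sq_of_trace_zero g ht
  constructor
  · intro h
    have h3 := congrArg (fun x : Matrix.SpecialLinearGroup (Fin 2) F => x.1 0 0) h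
    simp only [Matrix.SpecialLinearGroup.coe_mul] at h3
    rw [h1] at h3
    simp at h3
    apply h2
    linear_combination -h3
  · apply Subtype.ext
    simp only [Matrix.SpecialLinearGroup.coe_mul, Matrix.SpecialLinearGroup.coe_one]
    rw [h1]
    simp

theorem orderOf_of_trace_zero (h2 : (2 : F) ≠ 0) (g : Matrix.SpecialLinearGroup (Fin 2) F)
    (ht : (g : Matrix (Fin 2) (Fin 2) F).trace = 0) : orderOf g = 4 := by
  obtain ⟨h1, h4⟩ := sq_of_trace_zero h2 g ht
  have hd : orderOf g ∣ 2 ^ 2 := by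
    apply orderOf_dvd_of_pow_eq_one
    have e : g ^ (2 ^ 2) = g * g * (g * g) := pow_four_eq g
    rw [e, h4]
  have hnd : ¬ orderOf g ∣ 2 ^ 1 := by
    intro h
    apply h1
    have := (orderOf_dvd_iff_pow_eq_one.mp h)
    have e : g ^ (2 ^ 1) = g * g := by rw [pow_one, pow_two]
    rw [← e, this]
  exact Nat.eq_prime_pow_of_dvd_least_prime_pow Nat.prime_two hnd hd

end basic

section finite
variable {F : Type*} [Field F] [Fintype F]

/-- trace-zero elements of `SL₂(q)`, `q` odd, are conjugate -/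
theorem isConj_of_trace_zero (hodd : Odd (Fintype.card F))
    (g h : Matrix.SpecialLinearGroup (Fin 2) F)
    (hg : (g : Matrix (Fin 2) (Fin 2) F).trace = 0)
    (hh : (h : Matrix (Fin 2) (Fin 2) F).trace = 0) : IsConj g h := by
  have h2 : (2 : F) ≠ 0 := Cfsg.Agent.H7.two_ne_zero_of_odd_card hodd
  have h4 : (0 : F) ^ 2 ≠ 4 := by
    intro h
    have : (4 : F) = 2 * 2 := by norm_num
    rw [this] at h
    simp at h
    exact h2 h
  have hodd' : Fintype.card F % 2 = 1 := Nat.odd_iff.mp hodd
  obtain ⟨x, y, hxy⟩ := Cfsg.Agent.H44.exists_qf_eq_one hodd' (g : Matrix (Fin 2) (Fin 2) F)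
    g.det_coe (by rw [hg]; exact h4)
  obtain ⟨x', y', hxy'⟩ := Cfsg.Agent.H44.exists_qf_eq_one hodd' (h : Matrix (Fin 2) (Fin 2) F)
    h.det_coe (by rw [hh]; exact h4)
  exact Cfsg.Agent.H44.SL2_isConj_of_qf g h x y x' y' (by rw [hxy]; exact one_ne_zero)
    (hxy.trans hxy'.symm) (hg.trans hh.symm)

/-- a subgroup of order four is generated by a trace-zero element -/
theorem exists_gen (hodd : Odd (Fintype.card F))
    (A : Subgroup (Matrix.SpecialLinearGroup (Fin 2) F)) (hA : Nat.card A = 4) :
    ∃ a : Matrix.SpecialLinearGroup (Fin 2) F, (a : Matrix (Fin 2) (Fin 2) F).trace = 0 ∧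
      A = Subgroup.zpowers a := by
  classical
  have h2 : (2 : F) ≠ 0 := Cfsg.Agent.H7.two_ne_zero_of_odd_card hodd
  have hex : ∃ a ∈ A, a * a ≠ 1 := by
    by_contra hcon
    push Not at hcon
    have hinj : Function.Injective (fun x : A => decide ((x : Matrix.SpecialLinearGroup (Fin 2) F) = 1)) := by
      intro x y hxy
      simp only [decide_eq_decide] at hxy
      apply Subtype.ext
      rcases eq_one_or_neg_of_sq h2 x.1 (hcon x.1 x.2) with hx | hx
      · rw [hx, (hxy.mp hx)]
      · rcases eq_one_or_neg_of_sq h2 y.1 (hcon y.1 y.2) with hy | hy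
        · rw [hy, (hxy.mpr hy)]
        · apply Subtype.ext
          rw [hx, hy]
    have := Nat.card_le_card_of_injective _ hinj
    rw [hA] at this
    simp at this
  obtain ⟨a, haA, ha⟩ := hex
  have ha4 : a ^ 4 = 1 := by
    have h := pow_card_eq_one' (G := A) (x := ⟨a, haA⟩)
    rw [hA] at h
    exact congrArg Subtype.val h
  have haa : (a * a) * (a * a) = 1 := by
    rw [← ha4, pow_four_eq]
  have hneg : ((a * a : Matrix.SpecialLinearGroup (Fin 2) F) : Matrix (Fin 2) (Fin 2) F) = -1 := by
    rcases eq_one_or_neg_of_sq h2 (a * a) haa with h | h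
    · exact absurd h ha
    · exact h
  have htr : (a : Matrix (Fin 2) (Fin 2) F).trace = 0 := trace_zero_of_sq a (by
    rw [← Matrix.SpecialLinearGroup.coe_mul]; exact hneg)
  refine ⟨a, htr, ?_⟩
  symm
  apply Subgroup.eq_of_le_of_card_ge
  · rw [Subgroup.zpowers_le]; exact haA
  · rw [hA, Nat.card_zpowers, orderOf_of_trace_zero h2 a htr]

theorem part1 (hodd : Odd (Fintype.card F))
    (A B : Subgroup (Matrix.SpecialLinearGroup (Fin 2) F)) (hA : Nat.card A = 4)
    (hB : Nat.card B = 4) :
    ∃ g : Matrix.SpecialLinearGroup (Fin 2) F, B = A.map (MulAut.conj g).toMonoidHom := by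
  obtain ⟨a, hta, rfl⟩ := exists_gen hodd A hA
  obtain ⟨b, htb, rfl⟩ := exists_gen hodd B hB
  obtain ⟨c, hc⟩ := isConj_iff.mp (isConj_of_trace_zero hodd a b hta htb)
  refine ⟨c, ?_⟩
  rw [MonoidHom.map_zpowers]
  congr 1
  rw [← hc]
  rfl

theorem part4 (hodd : Odd (Fintype.card F))
    (x y : Matrix.ProjectiveSpecialLinearGroup (Fin 2) F) (hx : orderOf x = 2)
    (hy : orderOf y = 2) : IsConj x y := by
  have key : ∀ x : Matrix.ProjectiveSpecialLinearGroup (Fin 2) F, orderOf x = 2 →
      ∃ g : Matrix.SpecialLinearGroup (Fin 2) F, (g : Matrix (Fin 2) (Fin 2) F).trace = 0 ∧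
        x = QuotientGroup.mk g := by
    intro x hx
    obtain ⟨g, rfl⟩ := QuotientGroup.mk_surjective x
    refine ⟨g, ?_, rfl⟩
    have h1 : (QuotientGroup.mk g : Matrix.ProjectiveSpecialLinearGroup (Fin 2) F) ^ 2 = 1 := by
      have := pow_orderOf_eq_one (QuotientGroup.mk g : Matrix.ProjectiveSpecialLinearGroup (Fin 2) F)
      rwa [hx] at this
    have hne : (QuotientGroup.mk g : Matrix.ProjectiveSpecialLinearGroup (Fin 2) F) ≠ 1 := by
      intro h
      rw [h, orderOf_one] at hx
      omega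
    rw [← QuotientGroup.mk_pow, QuotientGroup.eq_one_iff] at h1
    rw [Ne, QuotientGroup.eq_one_iff] at hne
    by_contra ht
    apply hne
    apply Cfsg.Agent.H7.sl2_mem_center_of_sq g (by rwa [pow_two] at h1)
    rw [trace_eq] at ht
    exact ht
  obtain ⟨g, hg, rfl⟩ := key x hx
  obtain ⟨h, hh, rfl⟩ := key y hy
  exact MonoidHom.map_isConj (QuotientGroup.mk' _) (isConj_of_trace_zero hodd g h hg hh)

/-- the number of solutions of `α² + βγ = -1` -/
theorem card_sol [DecidableEq F] :
    Fintype.card {v : F × F × F // v.1 ^ 2 + v.2.1 * v.2.2 = -1} =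
      Fintype.card F * (Finset.univ.filter (fun α : F => α ^ 2 = -1)).card +
        Fintype.card F * (Fintype.card F - 1) := by
  have inner : ∀ α β : F, (∑ γ : F, if α ^ 2 + β * γ = -1 then 1 else 0) =
      if β = 0 then (if α ^ 2 = -1 then Fintype.card F else 0) else 1 := by
    intro α β
    by_cases hβ : β = 0
    · subst hβ
      simp only [zero_mul, add_zero, if_true]
      by_cases h : α ^ 2 = -1
      · simp [h]
      · simp [h]
    · rw [if_neg hβ]
      have hiff : ∀ γ : F, (α ^ 2 + β * γ = -1) ↔ γ = (-1 - α ^ 2) / β := by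
        intro γ
        constructor
        · intro h
          field_simp
          linear_combination h
        · intro h
          rw [h]
          field_simp
          ring
      simp only [hiff]
      rw [Finset.sum_ite_eq']
      simp
  have mid : ∀ α : F, (∑ β : F, ∑ γ : F, if α ^ 2 + β * γ = -1 then 1 else 0) =
      (if α ^ 2 = -1 then Fintype.card F else 0) + (Fintype.card F - 1) := by
    intro α
    simp only [inner]
    rw [← Finset.add_sum_erase Finset.univ _ (Finset.mem_univ (0 : F))]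
    rw [if_pos rfl]
    congr 1
    rw [Finset.sum_congr rfl (fun β hβ => if_neg (Finset.ne_of_mem_erase hβ))]
    simp [Finset.card_erase_of_mem]
  rw [Fintype.card_subtype, Finset.card_filter, Fintype.sum_prod_type]
  simp only [Fintype.sum_prod_type, mid]
  rw [Finset.sum_add_distrib, Finset.sum_const, Finset.card_univ, smul_eq_mul, ← Finset.sum_filter,
    Finset.sum_const, smul_eq_mul, mul_comm (Finset.card _)]

/-- trace-zero elements of `SL₂` correspond to solutions of `α² + βγ = -1` -/
def traceZeroEquiv : {g : Matrix.SpecialLinearGroup (Fin 2) F //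
      (g : Matrix (Fin 2) (Fin 2) F).trace = 0} ≃
    {v : F × F × F // v.1 ^ 2 + v.2.1 * v.2.2 = -1} where
  toFun g := ⟨(g.1.1 0 0, g.1.1 0 1, g.1.1 1 0), by
    have hdet := Cfsg.Agent.H7.sl2_det g.1
    have ht := g.2
    rw [trace_eq] at ht
    show g.1.1 0 0 ^ 2 + g.1.1 0 1 * g.1.1 1 0 = -1
    linear_combination g.1.1 0 0 * ht - hdet⟩
  invFun v := ⟨⟨!![v.1.1, v.1.2.1; v.1.2.2, -v.1.1], by
    have := v.2
    rw [Matrix.det_fin_two_of]
    linear_combination -this⟩, by
    show (!![v.1.1, v.1.2.1; v.1.2.2, -v.1.1] : Matrix (Fin 2) (Fin 2) F).trace = 0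
    rw [Matrix.trace_fin_two_of]
    ring⟩
  left_inv g := by
    have ht := g.2
    rw [trace_eq] at ht
    apply Subtype.ext
    apply Subtype.ext
    ext i j
    fin_cases i <;> fin_cases j <;> simp
    linear_combination -ht
  right_inv v := by
    apply Subtype.ext
    simp

theorem card_trace_zero [DecidableEq F] :
    Nat.card {g : Matrix.SpecialLinearGroup (Fin 2) F //
      (g : Matrix (Fin 2) (Fin 2) F).trace = 0} =
      Fintype.card F * (Finset.univ.filter (fun α : F => α ^ 2 = -1)).card +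
        Fintype.card F * (Fintype.card F - 1) := by
  rw [Nat.card_congr traceZeroEquiv, Nat.card_eq_fintype_card, card_sol]

theorem card_sqrt_neg_one [DecidableEq F] (hodd : Odd (Fintype.card F)) :
    (Fintype.card F % 4 = 1 → (Finset.univ.filter (fun α : F => α ^ 2 = -1)).card = 2) ∧
    (Fintype.card F % 4 = 3 → (Finset.univ.filter (fun α : F => α ^ 2 = -1)).card = 0) := by
  have h2 : (2 : F) ≠ 0 := Cfsg.Agent.H7.two_ne_zero_of_odd_card hodd
  constructor
  · intro h
    have hsq : IsSquare (-1 : F) := FiniteField.isSquare_neg_one_iff.mpr (by omega)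
    obtain ⟨i, hi⟩ := hsq
    have hi0 : i ≠ 0 := by
      rintro rfl
      simp at hi
    have hset : Finset.univ.filter (fun α : F => α ^ 2 = -1) = {i, -i} := by
      ext α
      simp only [Finset.mem_filter, Finset.mem_univ, true_and, Finset.mem_insert,
        Finset.mem_singleton]
      constructor
      · intro hα
        have : (α - i) * (α + i) = 0 := by linear_combination hα + hi
        rcases mul_eq_zero.mp this with h | h
        · left; linear_combination h
        · right; linear_combination h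
      · rintro (rfl | rfl)
        · rw [hi]; ring
        · rw [hi]; ring
    rw [hset, Finset.card_insert_of_notMem, Finset.card_singleton]
    rw [Finset.mem_singleton]
    intro hii
    have : (2 : F) * i = 0 := by linear_combination hii
    rcases mul_eq_zero.mp this with h | h
    · exact h2 h
    · exact hi0 h
  · intro h
    have hsq : ¬ IsSquare (-1 : F) := by
      rw [FiniteField.isSquare_neg_one_iff]
      omega
    rw [Finset.card_eq_zero, Finset.filter_eq_empty_iff]
    intro α _ hα
    exact hsq ⟨α, by rw [← hα]; ring⟩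

end finite

section norm

theorem mem_normalizer_zpowers {G : Type*} [Group G] (a n : G)
    (h : n * a * n⁻¹ = a ∨ n * a * n⁻¹ = a⁻¹) :
    n ∈ Subgroup.normalizer ((Subgroup.zpowers a : Subgroup G) : Set G) := by
  have hmap : (Subgroup.zpowers a).map (MulAut.conj n).toMonoidHom = Subgroup.zpowers a := by
    rw [MonoidHom.map_zpowers]
    show Subgroup.zpowers (n * a * n⁻¹) = Subgroup.zpowers a
    rcases h with h | h
    · rw [h]
    · rw [h, Subgroup.zpowers_inv]
  rw [Subgroup.mem_normalizer_iff]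
  intro x
  constructor
  · intro hx
    have : n * x * n⁻¹ ∈ (Subgroup.zpowers a).map (MulAut.conj n).toMonoidHom := ⟨x, hx, rfl⟩
    rw [hmap] at this
    exact this
  · intro hx
    have hx' : n * x * n⁻¹ ∈ (Subgroup.zpowers a).map (MulAut.conj n).toMonoidHom := by
      rw [hmap]; exact hx
    obtain ⟨y, hy, hyx⟩ := hx'
    have hyx' : n * y * n⁻¹ = n * x * n⁻¹ := hyx
    have : y = x := by
      have h1 := mul_right_cancel hyx'
      exact mul_left_cancel h1
    rw [← this]
    exact hy

theorem mem_cent_iff {G : Type*} [Group G] (a c : G) :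
    c ∈ Subgroup.centralizer ({a} : Set G) ↔ c * a * c⁻¹ = a := by
  rw [Subgroup.mem_centralizer_iff]
  constructor
  · intro h
    have := h a rfl
    rw [← this, mul_inv_cancel_right]
  · intro h x hx
    rw [Set.mem_singleton_iff] at hx
    subst hx
    rw [mul_inv_eq_iff_eq_mul] at h
    exact h.symm

variable {F : Type*} [Field F] [Fintype F]

theorem conj_cases (hodd : Odd (Fintype.card F)) (a : Matrix.SpecialLinearGroup (Fin 2) F)
    (hta : (a : Matrix (Fin 2) (Fin 2) F).trace = 0) (n : Matrix.SpecialLinearGroup (Fin 2) F)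
    (hn : n ∈ Subgroup.normalizer ((Subgroup.zpowers a : Subgroup _) : Set _)) :
    n * a * n⁻¹ = a ∨ n * a * n⁻¹ = a⁻¹ := by
  have h2 : (2 : F) ≠ 0 := Cfsg.Agent.H7.two_ne_zero_of_odd_card hodd
  have ho := orderOf_of_trace_zero h2 a hta
  have hb : n * a * n⁻¹ ∈ Subgroup.zpowers a :=
    (Subgroup.mem_normalizer_iff.mp hn a).mp (Subgroup.mem_zpowers a)
  have htb : ((n * a * n⁻¹ : Matrix.SpecialLinearGroup (Fin 2) F) :
      Matrix (Fin 2) (Fin 2) F).trace = 0 := by
    rw [← Cfsg.Agent.H44.SL2_trace_of_isConj (isConj_iff.mpr ⟨n, rfl⟩)]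
    exact hta
  obtain ⟨k, hk⟩ := Subgroup.mem_zpowers_iff.mp hb
  have h4 : a ^ (k % 4) = a ^ k := by
    have := zpow_mod_orderOf a k
    rw [ho] at this
    exact this
  rw [← hk, ← h4]
  rw [← hk, ← h4] at htb
  have hr0 : 0 ≤ k % 4 := Int.emod_nonneg k (by norm_num)
  have hr4 : k % 4 < 4 := Int.emod_lt_of_pos k (by norm_num)
  generalize k % 4 = r at *
  obtain ⟨hsq1, hsq4⟩ := sq_of_trace_zero h2 a hta
  interval_cases r
  · exfalso
    rw [zpow_zero] at htb
    simp only [Matrix.SpecialLinearGroup.coe_one, Matrix.trace_one, Fintype.card_fin] at htb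
    apply h2
    exact_mod_cast htb
  · left
    exact zpow_one a
  · exfalso
    have e : a ^ (2 : ℤ) = a * a := zpow_two a
    rw [e, Matrix.SpecialLinearGroup.coe_mul, Cfsg.Agent.H46.sl2_sq_of_trace_zero a hta] at htb
    simp only [Matrix.trace_neg, Matrix.trace_one, Fintype.card_fin] at htb
    apply h2
    have : ((2 : ℕ) : F) = 0 := by linear_combination -htb
    exact_mod_cast this
  · right
    have e : a ^ (3 : ℤ) = a * a * a := by
      have : (3 : ℤ) = ((3 : ℕ) : ℤ) := rfl
      rw [this, zpow_natCast]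
      simp only [pow_succ, pow_zero, one_mul]
    rw [e]
    symm
    apply inv_eq_of_mul_eq_one_left
    rw [← hsq4]
    simp only [mul_assoc]

theorem card_normalizer (hodd : Odd (Fintype.card F)) (a : Matrix.SpecialLinearGroup (Fin 2) F)
    (hta : (a : Matrix (Fin 2) (Fin 2) F).trace = 0) :
    Nat.card ↥(Subgroup.normalizer ((Subgroup.zpowers a : Subgroup
      (Matrix.SpecialLinearGroup (Fin 2) F)) : Set (Matrix.SpecialLinearGroup (Fin 2) F))) *
      Nat.card {g : Matrix.SpecialLinearGroup (Fin 2) F //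
        (g : Matrix (Fin 2) (Fin 2) F).trace = 0} =
      2 * Nat.card (Matrix.SpecialLinearGroup (Fin 2) F) := by
  have h2 : (2 : F) ≠ 0 := Cfsg.Agent.H7.two_ne_zero_of_odd_card hodd
  obtain ⟨hsq1, hsq4⟩ := sq_of_trace_zero h2 a hta
  have hne : a⁻¹ ≠ a := by
    intro h
    apply hsq1
    have e : a * a = a⁻¹ * a := by rw [h]
    rw [e, inv_mul_cancel]
  -- class equation
  have hcc := Cfsg.Agent.H44.card_carrier_mul_card_centralizer a
  have hcar : Nat.card (ConjClasses.mk a).carrier =
      Nat.card {g : Matrix.SpecialLinearGroup (Fin 2) F //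
        (g : Matrix (Fin 2) (Fin 2) F).trace = 0} := by
    apply Nat.card_congr
    apply Equiv.subtypeEquivRight
    intro g
    rw [ConjClasses.mem_carrier_iff_mk_eq, ConjClasses.mk_eq_mk_iff_isConj]
    constructor
    · intro h
      rw [Cfsg.Agent.H44.SL2_trace_of_isConj h]
      exact hta
    · intro h
      exact isConj_of_trace_zero hodd g a h hta
  rw [hcar] at hcc
  -- the normalizer
  set N := Subgroup.normalizer ((Subgroup.zpowers a : Subgroup
    (Matrix.SpecialLinearGroup (Fin 2) F)) : Set (Matrix.SpecialLinearGroup (Fin 2) F)) with hN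
  set C := Subgroup.centralizer ({a} : Set (Matrix.SpecialLinearGroup (Fin 2) F)) with hC
  have hCN : C ≤ N := by
    intro c hc
    exact mem_normalizer_zpowers a c (Or.inl ((mem_cent_iff a c).mp hc))
  have htinv : ((a⁻¹ : Matrix.SpecialLinearGroup (Fin 2) F) :
      Matrix (Fin 2) (Fin 2) F).trace = 0 := by
    rw [trace_eq, Cfsg.Agent.H7.sl2_inv_00, Cfsg.Agent.H7.sl2_inv_11, add_comm, ← trace_eq]
    exact hta
  obtain ⟨w, hw⟩ := isConj_iff.mp (isConj_of_trace_zero hodd a a⁻¹ hta htinv)
  have hwN : w ∈ N := mem_normalizer_zpowers a w (Or.inr hw)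
  have hidx : (C.subgroupOf N).index = 2 := by
    rw [Subgroup.index_eq_two_iff]
    refine ⟨⟨w, hwN⟩, fun b => ?_⟩
    rw [Subgroup.mem_subgroupOf, Subgroup.mem_subgroupOf, mem_cent_iff, mem_cent_iff]
    have hbw : ((b * ⟨w, hwN⟩ : N) : Matrix.SpecialLinearGroup (Fin 2) F) = b.1 * w := rfl
    rw [hbw]
    have e : b.1 * w * a * (b.1 * w)⁻¹ = b.1 * (w * a * w⁻¹) * b.1⁻¹ := by group
    rw [e, hw]
    have e2 : b.1 * a⁻¹ * b.1⁻¹ = (b.1 * a * b.1⁻¹)⁻¹ := by group
    rw [e2]
    rcases conj_cases hodd a hta b.1 b.2 with h | h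
    · right
      rw [h]
      exact ⟨rfl, hne⟩
    · left
      rw [h, inv_inv]
      exact ⟨rfl, hne⟩
  have hcardN : Nat.card N = Nat.card C * 2 := by
    rw [← Subgroup.card_mul_index (C.subgroupOf N), hidx,
      Nat.card_congr (Subgroup.subgroupOfEquivOfLe hCN).toEquiv]
  rw [hcardN, ← hcc]
  ring

end norm

/-- In SL_2(q), q odd: any two subgroups of order 4 are conjugate, and the normaliser of a subgroup of order 4 has order 2(q − 1) if q ≡ 1 (mod 4) and 2(q + 1) if q ≡ 3 (mod 4); consequently all involutions of PSL_2(q) are conjugate. -/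
theorem result {F : Type*} [Field F] [Fintype F] {q : ℕ} (hF : Fintype.card F = q) (hodd : Odd q) (A : Subgroup (Matrix.SpecialLinearGroup (Fin 2) F)) (hA : Nat.card A = 4) : (∀ B : Subgroup (Matrix.SpecialLinearGroup (Fin 2) F), Nat.card B = 4 → ∃ g : Matrix.SpecialLinearGroup (Fin 2) F, B = A.map (MulAut.conj g).toMonoidHom) ∧ (q % 4 = 1 → Nat.card ↥(Subgroup.normalizer (A : Set (Matrix.SpecialLinearGroup (Fin 2) F))) = 2 * (q - 1)) ∧ (q % 4 = 3 → Nat.card ↥(Subgroup.normalizer (A : Set (Matrix.SpecialLinearGroup (Fin 2) F))) = 2 * (q + 1)) ∧ (∀ x y : Matrix.ProjectiveSpecialLinearGroup (Fin 2) F, orderOf x = 2 → orderOf y = 2 → IsConj x y) := by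
  classical
  subst hF
  refine ⟨fun B hB => part1 hodd A B hA hB, ?_, ?_, fun x y hx hy => part4 hodd x y hx hy⟩
  · intro h4
    obtain ⟨a, hta, rfl⟩ := exists_gen hodd A hA
    have hN := card_normalizer hodd a hta
    rw [card_trace_zero, (card_sqrt_neg_one hodd).1 h4, Cfsg.Agent.H44.card_SL2] at hN
    obtain ⟨k, hk⟩ : ∃ k, Fintype.card F = k + 1 := ⟨Fintype.card F - 1, by omega⟩
    rw [hk] at hN ⊢
    have e1 : (k + 1) ^ 2 - 1 = k * (k + 2) := by
      apply Nat.sub_eq_of_eq_add
      ring
    have e2 : k + 1 - 1 = k := by omega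
    rw [e1, e2] at hN
    rw [e2]
    apply Nat.eq_of_mul_eq_mul_right (show 0 < (k + 1) * (k + 2) by positivity)
    linarith [hN]
  · intro h4
    obtain ⟨a, hta, rfl⟩ := exists_gen hodd A hA
    have hN := card_normalizer hodd a hta
    rw [card_trace_zero, (card_sqrt_neg_one hodd).2 h4, Cfsg.Agent.H44.card_SL2] at hN
    obtain ⟨k, hk⟩ : ∃ k, Fintype.card F = k + 2 := ⟨Fintype.card F - 2, by omega⟩
    rw [hk] at hN ⊢
    have e1 : (k + 2) ^ 2 - 1 = (k + 1) * (k + 3) := by
      apply Nat.sub_eq_of_eq_add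
      ring
    have e2 : k + 2 - 1 = k + 1 := by omega
    rw [e1, e2] at hN
    apply Nat.eq_of_mul_eq_mul_right (show 0 < (k + 2) * (k + 1) by positivity)
    linarith [hN]

end Cfsg.Agent.S0809
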