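import Cfsg.Statements.S0807
import Cfsg.Agent.H18.KleinCount
import Cfsg.Agent.S0809

set_option autoImplicit false
open Cfsg

namespace Cfsg.Agent.S0807

open Matrix Cfsg.Agent.S0809 Cfsg.Agent.H18

section
variable {F : Type*} [Field F] [Fintype F]

/-- class equation for trace-zero elements -/
theorem card_T0_mul_centralizer (hodd : Odd (Fintype.card F))
    (a : Matrix.SpecialLinearGroup (Fin 2) F)
    (hta : (a : Matrix (Fin 2) (Fin 2) F).trace = 0) :
    Nat.card {g : Matrix.SpecialLinearGroup (Fin 2) F //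
        (g : Matrix (Fin 2) (Fin 2) F).trace = 0} *
      Nat.card (Subgroup.centralizer ({a} : Set (Matrix.SpecialLinearGroup (Fin 2) F))) =
      Nat.card (Matrix.SpecialLinearGroup (Fin 2) F) := by
  have hcc := Cfsg.Agent.H44.card_carrier_mul_card_centralizer a
  have hcar : Nat.card (ConjClasses.mk a).carrier =
      Nat.card {g : Matrix.SpecialLinearGroup (Fin 2) F //
        (g : Matrix (Fin 2) (Fin 2) F).trace = 0} := by
    apply Nat.card_congr
    apply Equiv.subtypeEquivRight
    intro g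
    rw [ConjClasses.mem_carrier_iff_mk_eq, ConjClasses.mk_eq_mk_iff_isConj]
    constructor
    · intro h
      rw [Cfsg.Agent.H44.SL2_trace_of_isConj h]
      exact hta
    · intro h
      exact isConj_of_trace_zero hodd g a h hta
  rw [hcar] at hcc
  exact hcc

theorem sq_mem_center (g : Matrix.SpecialLinearGroup (Fin 2) F)
    (hg : (g : Matrix (Fin 2) (Fin 2) F).trace = 0) :
    g * g ∈ Subgroup.center (Matrix.SpecialLinearGroup (Fin 2) F) := by
  apply Cfsg.Agent.H46.sl2_mem_center_of_scalar (-1) (by ring)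
  rw [Matrix.SpecialLinearGroup.coe_mul, Cfsg.Agent.H46.sl2_sq_of_trace_zero g hg]
  simp only [Matrix.scalar_apply]
  rw [← Matrix.diagonal_one, Matrix.diagonal_neg]

theorem not_mem_center (h2' : (2 : F) ≠ 0) (g : Matrix.SpecialLinearGroup (Fin 2) F)
    (hg : (g : Matrix (Fin 2) (Fin 2) F).trace = 0) :
    g ∉ Subgroup.center (Matrix.SpecialLinearGroup (Fin 2) F) := by
  intro h
  have hz := Cfsg.Agent.H46.sl2_center_mul_self h
  have h1 := Cfsg.Agent.H46.sl2_sq_of_trace_zero g hg
  have h2 := congrArg (fun x : Matrix.SpecialLinearGroup (Fin 2) F => x.1) hz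
  simp only [Matrix.SpecialLinearGroup.coe_mul, Matrix.SpecialLinearGroup.coe_one] at h2
  rw [h1] at h2
  have h3 := congrFun (congrFun h2 0) 0
  simp at h3
  apply h2'
  linear_combination -h3

theorem neg_one_mem_center (u : Matrix.SpecialLinearGroup (Fin 2) F)
    (hu : (u : Matrix (Fin 2) (Fin 2) F) = -1) :
    u ∈ Subgroup.center (Matrix.SpecialLinearGroup (Fin 2) F) := by
  apply Cfsg.Agent.H46.sl2_mem_center_of_scalar (-1) (by ring)
  rw [hu]
  simp only [Matrix.scalar_apply]
  rw [← Matrix.diagonal_one, Matrix.diagonal_neg]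

theorem orderOf_mk_iff (hodd : Odd (Fintype.card F)) (g : Matrix.SpecialLinearGroup (Fin 2) F) :
    orderOf (QuotientGroup.mk g : Matrix.ProjectiveSpecialLinearGroup (Fin 2) F) = 2 ↔
      (g : Matrix (Fin 2) (Fin 2) F).trace = 0 := by
  constructor
  · intro hx
    have h1 : (QuotientGroup.mk g : Matrix.ProjectiveSpecialLinearGroup (Fin 2) F) ^ 2 = 1 := by
      have := pow_orderOf_eq_one (QuotientGroup.mk g : Matrix.ProjectiveSpecialLinearGroup (Fin 2) F)
      rwa [hx] at this
    have hne : (QuotientGroup.mk g : Matrix.ProjectiveSpecialLinearGroup (Fin 2) F) ≠ 1 :=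
      ne_one_of_orderOf_two hx
    rw [← QuotientGroup.mk_pow, QuotientGroup.eq_one_iff] at h1
    rw [Ne, QuotientGroup.eq_one_iff] at hne
    by_contra ht
    apply hne
    apply Cfsg.Agent.H7.sl2_mem_center_of_sq g (by rwa [pow_two] at h1)
    rw [trace_eq] at ht
    exact ht
  · intro hg
    apply orderOf_two_of
    · rw [← QuotientGroup.mk_mul, QuotientGroup.eq_one_iff]
      exact sq_mem_center g hg
    · rw [Ne, QuotientGroup.eq_one_iff]
      exact not_mem_center (Cfsg.Agent.H7.two_ne_zero_of_odd_card hodd) g hg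


/-- trace-zero elements of `SL₂` double-cover the involutions of `PSL₂` -/
theorem card_T0 (hodd : Odd (Fintype.card F)) :
    Nat.card {g : Matrix.SpecialLinearGroup (Fin 2) F //
        (g : Matrix (Fin 2) (Fin 2) F).trace = 0} =
      2 * Nat.card {x : Matrix.ProjectiveSpecialLinearGroup (Fin 2) F // orderOf x = 2} := by
  have h := QuotientGroup.card_preimage_mk
    (Subgroup.center (Matrix.SpecialLinearGroup (Fin 2) F))
    {x : Matrix.ProjectiveSpecialLinearGroup (Fin 2) F | orderOf x = 2}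
  rw [Cfsg.Agent.H7.card_center_SL2 hodd] at h
  have e : Nat.card {g : Matrix.SpecialLinearGroup (Fin 2) F //
        (g : Matrix (Fin 2) (Fin 2) F).trace = 0} =
      Nat.card ((QuotientGroup.mk : Matrix.SpecialLinearGroup (Fin 2) F →
          Matrix.ProjectiveSpecialLinearGroup (Fin 2) F) ⁻¹'
        {x : Matrix.ProjectiveSpecialLinearGroup (Fin 2) F | orderOf x = 2}) := by
    apply Nat.card_congr
    apply Equiv.subtypeEquivRight
    intro g
    rw [Set.mem_preimage, Set.mem_ofPred_eq]
    exact (orderOf_mk_iff hodd g).symm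
  rw [e]
  exact h

theorem trace_inv (g : Matrix.SpecialLinearGroup (Fin 2) F) :
    ((g⁻¹ : Matrix.SpecialLinearGroup (Fin 2) F) : Matrix (Fin 2) (Fin 2) F).trace =
      (g : Matrix (Fin 2) (Fin 2) F).trace := by
  rw [trace_eq, trace_eq, Cfsg.Agent.H7.sl2_inv_00, Cfsg.Agent.H7.sl2_inv_11, add_comm]

theorem inv_eq_cube (h2 : (2 : F) ≠ 0) (g : Matrix.SpecialLinearGroup (Fin 2) F)
    (hg : (g : Matrix (Fin 2) (Fin 2) F).trace = 0) : g⁻¹ = g * g * g := by
  have h4 := (sq_of_trace_zero h2 g hg).2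
  apply inv_eq_of_mul_eq_one_left
  rw [← h4, mul_assoc]

theorem trace_zero_of_anti (h2 : (2 : F) ≠ 0) (g h : Matrix.SpecialLinearGroup (Fin 2) F)
    (hg : (g : Matrix (Fin 2) (Fin 2) F).trace = 0) (hh : h * g * h⁻¹ = g⁻¹) :
    (h : Matrix (Fin 2) (Fin 2) F).trace = 0 := by
  have hh' : h * g = g⁻¹ * h := by
    rw [← hh, inv_mul_cancel_right]
  have e00 := congrArg (fun x : Matrix.SpecialLinearGroup (Fin 2) F => x.1 0 0) hh'
  have e01 := congrArg (fun x : Matrix.SpecialLinearGroup (Fin 2) F => x.1 0 1) hh'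
  have e10 := congrArg (fun x : Matrix.SpecialLinearGroup (Fin 2) F => x.1 1 0) hh'
  have e11 := congrArg (fun x : Matrix.SpecialLinearGroup (Fin 2) F => x.1 1 1) hh'
  simp only [Cfsg.Agent.H7.sl2_mul_apply, Cfsg.Agent.H7.sl2_inv_00, Cfsg.Agent.H7.sl2_inv_01,
    Cfsg.Agent.H7.sl2_inv_10, Cfsg.Agent.H7.sl2_inv_11] at e00 e01 e10 e11
  rw [trace_eq] at hg ⊢
  have hdet := Cfsg.Agent.H7.sl2_det g
  have hd : g.1 1 1 = - g.1 0 0 := by linear_combination hg
  rw [hd] at e00 e01 e11 hdet
  by_contra ht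
  have hb : g.1 0 1 = 0 := by
    have : g.1 0 1 * (h.1 0 0 + h.1 1 1) = 0 := by linear_combination e01
    exact (mul_eq_zero.mp this).resolve_right ht
  have hc : g.1 1 0 = 0 := by
    have : g.1 1 0 * (h.1 0 0 + h.1 1 1) = 0 := by linear_combination e10
    exact (mul_eq_zero.mp this).resolve_right ht
  have ha : g.1 0 0 = 0 := by
    have : (2 * g.1 0 0) * (h.1 0 0 + h.1 1 1) = 0 := by linear_combination e00 - e11
    have h3 := (mul_eq_zero.mp this).resolve_right ht
    exact (mul_eq_zero.mp h3).resolve_left h2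
  rw [ha, hb] at hdet
  simp at hdet

theorem mk_inv_eq (hodd : Odd (Fintype.card F)) (g : Matrix.SpecialLinearGroup (Fin 2) F)
    (hg : (g : Matrix (Fin 2) (Fin 2) F).trace = 0) :
    ((QuotientGroup.mk g : Matrix.ProjectiveSpecialLinearGroup (Fin 2) F))⁻¹ =
      QuotientGroup.mk g := by
  have := mul_self_of_orderOf_two ((orderOf_mk_iff hodd g).mpr hg)
  exact inv_eq_of_mul_eq_one_left this

theorem anti_iff (hodd : Odd (Fintype.card F)) (g h : Matrix.SpecialLinearGroup (Fin 2) F)
    (hg : (g : Matrix (Fin 2) (Fin 2) F).trace = 0) :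
    h * g * h⁻¹ = g⁻¹ ↔
      InvPair (QuotientGroup.mk g : Matrix.ProjectiveSpecialLinearGroup (Fin 2) F)
        (QuotientGroup.mk h) := by
  have h2 : (2 : F) ≠ 0 := Cfsg.Agent.H7.two_ne_zero_of_odd_card hodd
  constructor
  · intro hh
    have hth := trace_zero_of_anti h2 g h hg hh
    refine ⟨(orderOf_mk_iff hodd g).mpr hg, (orderOf_mk_iff hodd h).mpr hth, ?_, ?_⟩
    · intro he
      rw [QuotientGroup.eq] at he
      -- g⁻¹ * h central
      have hc := Subgroup.mem_center_iff.mp he g
      -- g * (g⁻¹ * h) = g⁻¹ * h * g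
      have e1 : h = g⁻¹ * h * g := by
        rw [← hc, mul_inv_cancel_left]
      have e2 : g * h = h * g := by
        conv_lhs => rw [e1]
        rw [mul_assoc, mul_inv_cancel_left]
      have e3 : g = g⁻¹ := by
        rw [← hh, ← e2, mul_inv_cancel_right]
      have e4 : g * g = 1 := by
        calc g * g = g * g⁻¹ := by rw [← e3]
          _ = 1 := mul_inv_cancel g
      exact (sq_of_trace_zero h2 g hg).1 e4
    · have e := congrArg (QuotientGroup.mk :
        Matrix.SpecialLinearGroup (Fin 2) F → Matrix.ProjectiveSpecialLinearGroup (Fin 2) F) hh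
      rw [QuotientGroup.mk_mul, QuotientGroup.mk_mul, QuotientGroup.mk_inv, QuotientGroup.mk_inv,
        mk_inv_eq hodd g hg] at e
      rw [mul_inv_eq_iff_eq_mul] at e
      exact e.symm
  · rintro ⟨ho1, ho2, hne, hcomm⟩
    have hth : (h : Matrix (Fin 2) (Fin 2) F).trace = 0 := (orderOf_mk_iff hodd h).mp ho2
    have hu : h * g * h⁻¹ * g⁻¹ ∈ Subgroup.center (Matrix.SpecialLinearGroup (Fin 2) F) := by
      rw [← QuotientGroup.eq_one_iff]
      rw [QuotientGroup.mk_mul, QuotientGroup.mk_mul, QuotientGroup.mk_mul, QuotientGroup.mk_inv,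
        QuotientGroup.mk_inv, ← hcomm]
      group
    have huu := Cfsg.Agent.H46.sl2_center_mul_self hu
    have hgg := Cfsg.Agent.H46.sl2_sq_of_trace_zero g hg
    have hhh := Cfsg.Agent.H46.sl2_sq_of_trace_zero h hth
    rcases eq_one_or_neg_of_sq h2 _ huu with h1 | h1
    · exfalso
      have hc : h * g = g * h := by
        have := mul_inv_eq_one.mp h1
        rw [mul_inv_eq_iff_eq_mul] at this
        exact this
      have hsq : h * h = g * g := by
        apply Subtype.ext
        rw [Matrix.SpecialLinearGroup.coe_mul, Matrix.SpecialLinearGroup.coe_mul, hgg, hhh]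
      have hv : (g⁻¹ * h) * (g⁻¹ * h) = 1 := by
        have hc' : h * g⁻¹ = g⁻¹ * h := by
          rw [eq_inv_mul_iff_mul_eq, ← mul_assoc, ← hc, mul_inv_cancel_right]
        calc (g⁻¹ * h) * (g⁻¹ * h) = g⁻¹ * (h * g⁻¹) * h := by group
          _ = g⁻¹ * (g⁻¹ * h) * h := by rw [hc']
          _ = g⁻¹ * g⁻¹ * (h * h) := by group
          _ = g⁻¹ * g⁻¹ * (g * g) := by rw [hsq]
          _ = 1 := by group
      apply hne
      rw [QuotientGroup.eq]
      rcases eq_one_or_neg_of_sq h2 _ hv with h3 | h3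
      · rw [h3]; exact Subgroup.one_mem _
      · exact neg_one_mem_center _ h3
    · have hz : h * g * h⁻¹ * g⁻¹ = g * g := by
        apply Subtype.ext
        rw [h1, Matrix.SpecialLinearGroup.coe_mul, hgg]
      rw [inv_eq_cube h2 g hg]
      rw [mul_inv_eq_iff_eq_mul] at hz
      rw [hz]

theorem card_anti (hodd : Odd (Fintype.card F)) (g : Matrix.SpecialLinearGroup (Fin 2) F)
    (hg : (g : Matrix (Fin 2) (Fin 2) F).trace = 0) :
    Nat.card {h : Matrix.SpecialLinearGroup (Fin 2) F // h * g * h⁻¹ = g⁻¹} =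
      2 * Nat.card {y : Matrix.ProjectiveSpecialLinearGroup (Fin 2) F //
        InvPair (QuotientGroup.mk g) y} := by
  have h := QuotientGroup.card_preimage_mk
    (Subgroup.center (Matrix.SpecialLinearGroup (Fin 2) F))
    {y : Matrix.ProjectiveSpecialLinearGroup (Fin 2) F | InvPair (QuotientGroup.mk g) y}
  rw [Cfsg.Agent.H7.card_center_SL2 hodd] at h
  have e : Nat.card {h : Matrix.SpecialLinearGroup (Fin 2) F // h * g * h⁻¹ = g⁻¹} =
      Nat.card ((QuotientGroup.mk : Matrix.SpecialLinearGroup (Fin 2) F →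
          Matrix.ProjectiveSpecialLinearGroup (Fin 2) F) ⁻¹'
        {y : Matrix.ProjectiveSpecialLinearGroup (Fin 2) F | InvPair (QuotientGroup.mk g) y}) := by
    apply Nat.card_congr
    apply Equiv.subtypeEquivRight
    intro h
    rw [Set.mem_preimage, Set.mem_ofPred_eq]
    exact anti_iff hodd g h hg
  rw [e]
  exact h

theorem card_anti_eq_centralizer (hodd : Odd (Fintype.card F))
    (g : Matrix.SpecialLinearGroup (Fin 2) F)
    (hg : (g : Matrix (Fin 2) (Fin 2) F).trace = 0) :
    Nat.card {h : Matrix.SpecialLinearGroup (Fin 2) F // h * g * h⁻¹ = g⁻¹} =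
      Nat.card (Subgroup.centralizer ({g} : Set (Matrix.SpecialLinearGroup (Fin 2) F))) := by
  have hc := isConj_of_trace_zero hodd g g⁻¹ hg (by rw [trace_inv]; exact hg)
  obtain ⟨w, hw⟩ := isConj_iff.mp hc
  apply Nat.card_congr
  refine Equiv.subtypeEquiv (Equiv.mulLeft w⁻¹) ?_
  intro h
  rw [mem_cent_iff]
  simp only [Equiv.coe_mulLeft]
  rw [← hw]
  constructor
  · intro hh
    rw [_root_.mul_inv_rev, inv_inv]
    calc w⁻¹ * h * g * (h⁻¹ * w) = w⁻¹ * (h * g * h⁻¹) * w := by group
      _ = w⁻¹ * (w * g * w⁻¹) * w := by rw [hh]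
      _ = g := by group
  · intro hh
    rw [_root_.mul_inv_rev, inv_inv] at hh
    calc h * g * h⁻¹ = w * (w⁻¹ * h * g * (h⁻¹ * w)) * w⁻¹ := by group
      _ = w * g * w⁻¹ := by rw [hh]

/-- a trace-zero element -/
def wEl : Matrix.SpecialLinearGroup (Fin 2) F :=
  ⟨!![0, 1; -1, 0], by simp [Matrix.det_fin_two]⟩

theorem trace_wEl : ((wEl : Matrix.SpecialLinearGroup (Fin 2) F) :
    Matrix (Fin 2) (Fin 2) F).trace = 0 := by
  simp [wEl, Matrix.trace_fin_two]

theorem card_pairs (hodd : Odd (Fintype.card F)) :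
    4 * Nat.card {p : Matrix.ProjectiveSpecialLinearGroup (Fin 2) F ×
        Matrix.ProjectiveSpecialLinearGroup (Fin 2) F // InvPair p.1 p.2} =
      Nat.card (Matrix.SpecialLinearGroup (Fin 2) F) := by
  classical
  set T := Nat.card {g : Matrix.SpecialLinearGroup (Fin 2) F //
        (g : Matrix (Fin 2) (Fin 2) F).trace = 0} with hT
  set J := Nat.card {x : Matrix.ProjectiveSpecialLinearGroup (Fin 2) F // orderOf x = 2} with hJ
  have hTJ : T = 2 * J := card_T0 hodd
  have hTpos : 0 < T := by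
    rw [hT]
    haveI : Nonempty {g : Matrix.SpecialLinearGroup (Fin 2) F //
        (g : Matrix (Fin 2) (Fin 2) F).trace = 0} := ⟨⟨wEl, trace_wEl⟩⟩
    exact Nat.card_pos
  -- the sigma decomposition
  have hsig : Nat.card {p : Matrix.ProjectiveSpecialLinearGroup (Fin 2) F ×
        Matrix.ProjectiveSpecialLinearGroup (Fin 2) F // InvPair p.1 p.2} =
      ∑ x : Matrix.ProjectiveSpecialLinearGroup (Fin 2) F,
        Nat.card {y : Matrix.ProjectiveSpecialLinearGroup (Fin 2) F // InvPair x y} := by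
    rw [Nat.card_congr (Equiv.subtypeProdEquivSigmaSubtype
      (fun x y : Matrix.ProjectiveSpecialLinearGroup (Fin 2) F => InvPair x y))]
    rw [Nat.card_sigma]
  -- each fibre
  have hfib : ∀ x : Matrix.ProjectiveSpecialLinearGroup (Fin 2) F,
      T * (2 * Nat.card {y : Matrix.ProjectiveSpecialLinearGroup (Fin 2) F // InvPair x y}) =
        if orderOf x = 2 then Nat.card (Matrix.SpecialLinearGroup (Fin 2) F) else 0 := by
    intro x
    split_ifs with hx
    · obtain ⟨g, rfl⟩ := QuotientGroup.mk_surjective x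
      have hg := (orderOf_mk_iff hodd g).mp hx
      rw [← card_anti hodd g hg, card_anti_eq_centralizer hodd g hg]
      exact card_T0_mul_centralizer hodd g hg
    · have : IsEmpty {y : Matrix.ProjectiveSpecialLinearGroup (Fin 2) F // InvPair x y} :=
        ⟨fun y => hx y.2.1⟩
      rw [Nat.card_of_isEmpty, mul_zero, mul_zero]
  have hsum : T * (2 * Nat.card {p : Matrix.ProjectiveSpecialLinearGroup (Fin 2) F ×
        Matrix.ProjectiveSpecialLinearGroup (Fin 2) F // InvPair p.1 p.2}) =
      J * Nat.card (Matrix.SpecialLinearGroup (Fin 2) F) := by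
    rw [hsig, Finset.mul_sum, Finset.mul_sum, Finset.sum_congr rfl (fun x _ => hfib x)]
    rw [Finset.sum_ite, Finset.sum_const_zero, add_zero, Finset.sum_const, smul_eq_mul]
    congr 1
    rw [hJ, Nat.card_eq_fintype_card, Fintype.card_subtype]
  have hJpos : 0 < J := by omega
  apply Nat.eq_of_mul_eq_mul_left hJpos
  rw [← hsum, hTJ]
  ring

theorem card_PSL2 (hodd : Odd (Fintype.card F)) :
    Nat.card (Matrix.SpecialLinearGroup (Fin 2) F) =
      2 * Nat.card (Matrix.ProjectiveSpecialLinearGroup (Fin 2) F) := by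
  have h := Subgroup.card_eq_card_quotient_mul_card_subgroup
    (Subgroup.center (Matrix.SpecialLinearGroup (Fin 2) F))
  rw [Cfsg.Agent.H7.card_center_SL2 hodd] at h
  rw [h, mul_comm]

theorem main (hodd : Odd (Fintype.card F)) :
    12 * Nat.card {V : Subgroup (Matrix.ProjectiveSpecialLinearGroup (Fin 2) F) // IsKleinFour V} =
      Nat.card (Matrix.ProjectiveSpecialLinearGroup (Fin 2) F) := by
  have h1 := card_kleinFour_mul_six (G := Matrix.ProjectiveSpecialLinearGroup (Fin 2) F)
  have h2 := card_pairs hodd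
  have h3 := card_PSL2 hodd
  omega

end

theorem result {F : Type*} [Field F] [Fintype F] {q : ℕ} (hF : Fintype.card F = q) (hodd : Odd q) : 12 * Nat.card {V : Subgroup (Matrix.ProjectiveSpecialLinearGroup (Fin 2) F) // IsKleinFour V} = Nat.card (Matrix.ProjectiveSpecialLinearGroup (Fin 2) F) := by
  subst hF
  exact main hodd

end Cfsg.Agent.S0807
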