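import Mathlib
import Cfsg.Statements.S0802
import Cfsg.Agent.H7.VonDyck
import Cfsg.Agent.H7.Omega4
import Cfsg.Agent.S3335

set_option autoImplicit false
open Cfsg

namespace Cfsg.Agent.S0802

open Matrix
open scoped MatrixGroups

set_option maxRecDepth 100000 in
theorem decA4_a : ∀ h g : alternatingGroup (Fin 4), h ≠ 1 → g * g = 1 → g ≠ 1 →
    ∃ a : alternatingGroup (Fin 4), g = a * h * a⁻¹ ∨ g = a * h * a⁻¹ * h⁻¹ := by
  decide

set_option maxRecDepth 100000 in
theorem decA4_b : ∃ a t : alternatingGroup (Fin 4), a * a = 1 ∧ a ≠ 1 ∧ t * t * t = 1 ∧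
    t * a * t⁻¹ * a = a * (t * a * t⁻¹) ∧ t * a * t⁻¹ ≠ a := by
  decide

theorem presA4 : Nonempty (PresentedGroup
      ({g : FreeGroup (Fin 2) | ∃ i : Fin 2, i.val = 0 ∧ g = FreeGroup.of i ^ 3} ∪
       {g | ∃ i : Fin 2, 1 ≤ i.val ∧ g = FreeGroup.of i ^ 2} ∪
       {g | ∃ i j : Fin 2, j.val = i.val + 1 ∧ g = (FreeGroup.of i * FreeGroup.of j) ^ 3} ∪
       {g | ∃ i j : Fin 2, i.val + 1 < j.val ∧ g = (FreeGroup.of i * FreeGroup.of j) ^ 2})
      ≃* alternatingGroup (Fin 4)) :=
  Cfsg.Agent.S3335.result 4 (by norm_num)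

theorem exists_A4 {F : Type*} [Field F] (α β : F)
    (h : α * α + α + β * β + (-1) * β + 1 = 0) :
    ∃ H : Subgroup (Matrix.ProjectiveSpecialLinearGroup (Fin 2) F),
      Nonempty (H ≃* alternatingGroup (Fin 4)) := by
  obtain ⟨X, Y, hX, hXc, hY, hYX⟩ := H7.exists_xy (-1) α β h
  obtain ⟨e⟩ := presA4
  obtain ⟨mk, hmk⟩ : ∃ mk : SL(2, F) →* Matrix.ProjectiveSpecialLinearGroup (Fin 2) F,
      ∀ g, mk g = 1 ↔ g ∈ Subgroup.center SL(2, F) :=
    ⟨QuotientGroup.mk' (Subgroup.center SL(2, F)), fun g => QuotientGroup.eq_one_iff g⟩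
  have h3 : (mk Y) ^ 3 = 1 := by
    rw [← map_pow, H7.sl2_pow_three_of_trace Y hY, map_one]
  have h2 : (mk X) ^ 2 = 1 := by
    rw [← map_pow, hmk]
    exact H7.sl2_sq_mem_center_of_trace X hX
  have h33 : (mk Y * mk X) ^ 3 = 1 := by
    rw [← map_mul, ← map_pow, H7.sl2_pow_three_of_trace (Y * X) hYX, map_one]
  have hne : mk X ≠ 1 := by
    rw [Ne, hmk]
    exact hXc
  have hrel : ∀ r ∈ ({g : FreeGroup (Fin 2) | ∃ i : Fin 2, i.val = 0 ∧ g = FreeGroup.of i ^ 3} ∪
       {g | ∃ i : Fin 2, 1 ≤ i.val ∧ g = FreeGroup.of i ^ 2} ∪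
       {g | ∃ i j : Fin 2, j.val = i.val + 1 ∧ g = (FreeGroup.of i * FreeGroup.of j) ^ 3} ∪
       {g | ∃ i j : Fin 2, i.val + 1 < j.val ∧ g = (FreeGroup.of i * FreeGroup.of j) ^ 2}),
      FreeGroup.lift ![mk Y, mk X] r = 1 := by
    intro r hr
    simp only [Set.mem_union, Set.mem_ofPred_eq] at hr
    rcases hr with ((⟨i, hi, rfl⟩ | ⟨i, hi, rfl⟩) | ⟨i, j, hij, rfl⟩) | ⟨i, j, hij, rfl⟩
    · have : i = 0 := Fin.ext hi
      subst this
      simpa using h3
    · have : i = 1 := Fin.ext (by have := i.isLt; simp only [Fin.val_one]; omega)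
      subst this
      simpa using h2
    · have hi : i = 0 := Fin.ext (by have := i.isLt; have := j.isLt; simp only [Fin.val_zero]; omega)
      have hj : j = 1 := Fin.ext (by have := i.isLt; have := j.isLt; simp only [Fin.val_one]; omega)
      subst hi hj
      simpa using h33
    · exfalso
      have := j.isLt
      omega
  let φ := PresentedGroup.toGroup hrel
  let ψ : alternatingGroup (Fin 4) →* Matrix.ProjectiveSpecialLinearGroup (Fin 2) F :=
    φ.comp e.symm.toMonoidHom
  have hψ : ψ (e (PresentedGroup.of 1)) = mk X := by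
    simp [ψ, φ]
  have hsq : e (PresentedGroup.of 1) * e (PresentedGroup.of 1) = 1 := by
    rw [← map_mul, ← pow_two]
    have : (PresentedGroup.of (1 : Fin 2) ^ 2 : PresentedGroup
      ({g : FreeGroup (Fin 2) | ∃ i : Fin 2, i.val = 0 ∧ g = FreeGroup.of i ^ 3} ∪
       {g | ∃ i : Fin 2, 1 ≤ i.val ∧ g = FreeGroup.of i ^ 2} ∪
       {g | ∃ i j : Fin 2, j.val = i.val + 1 ∧ g = (FreeGroup.of i * FreeGroup.of j) ^ 3} ∪
       {g | ∃ i j : Fin 2, i.val + 1 < j.val ∧ g = (FreeGroup.of i * FreeGroup.of j) ^ 2})) = 1 := by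
      apply (QuotientGroup.eq_one_iff _).mpr
      apply Subgroup.subset_normalClosure
      left; left; right
      exact ⟨1, by simp, rfl⟩
    rw [this, map_one]
  have hg1 : e (PresentedGroup.of 1) ≠ 1 := by
    intro h
    apply hne
    rw [← hψ, h, map_one]
  have hinj : Function.Injective ψ := by
    rw [← MonoidHom.ker_eq_bot_iff, Subgroup.eq_bot_iff_forall]
    intro x hx
    by_contra hx1
    have hconj : ∀ a : alternatingGroup (Fin 4), a * x * a⁻¹ ∈ ψ.ker :=
      fun a => (MonoidHom.normal_ker ψ).conj_mem x hx a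
    apply hne
    rw [← hψ, ← MonoidHom.mem_ker]
    obtain ⟨a, ha | ha⟩ := decA4_a x _ hx1 hsq hg1
    · rw [ha]; exact hconj a
    · rw [ha]; exact ψ.ker.mul_mem (hconj a) (ψ.ker.inv_mem hx)
  exact ⟨ψ.range, ⟨(MonoidHom.ofInjective hinj).symm⟩⟩

/-- If a conjugate of a nontrivial upper unitriangular element commutes with it, the conjugating
element is upper triangular. -/
theorem borel_of_commute {F : Type*} [Field F] (T A : SL(2, F)) (hA : A ∈ H7.slUnip F)
    (hA1 : A ≠ 1) (hc : T * A * T⁻¹ * A = A * (T * A * T⁻¹)) : T.1 1 0 = 0 := by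
  obtain ⟨a00, a10, a11⟩ := hA
  have hs : A.1 0 1 ≠ 0 := by
    intro hs
    apply hA1
    apply Subtype.ext
    ext i j
    fin_cases i <;> fin_cases j <;> simp [a00, a10, a11, hs]
  have h00 := congrArg (fun M : SL(2, F) => M.1 0 0) hc
  simp only [H7.sl2_mul_apply, H7.sl2_inv_00, H7.sl2_inv_01, H7.sl2_inv_10, H7.sl2_inv_11,
    a00, a10, a11] at h00
  have hz : (T.1 1 0 * A.1 0 1) * (T.1 1 0 * A.1 0 1) = 0 := by
    linear_combination h00
  have hz' := mul_self_eq_zero.mp hz
  rcases mul_eq_zero.mp hz' with h | h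
  · exact h
  · exact absurd h hs

theorem char_two_key {F : Type*} [Field F] [Fintype F] [CharP F 2] (A T : SL(2, F))
    (hAA : A * A = 1) (hA1 : A ≠ 1) (hT : T * T * T = 1)
    (hc : T * A * T⁻¹ * A = A * (T * A * T⁻¹)) (hne : T * A * T⁻¹ ≠ A) :
    3 ∣ Fintype.card F - 1 := by
  have h2 : (2 : F) = 0 := CharTwo.two_eq_zero
  haveI : Fact (Nat.Prime 2) := ⟨Nat.prime_two⟩
  have hord : orderOf A = 2 := orderOf_eq_prime (by rw [pow_two]; exact hAA) hA1
  have hp : IsPGroup 2 (Subgroup.zpowers A) :=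
    IsPGroup.of_card (n := 1) (by rw [Nat.card_zpowers, hord, pow_one])
  obtain ⟨P, hP⟩ := hp.exists_le_sylow
  have hAP : A ∈ P := hP (Subgroup.mem_zpowers A)
  obtain ⟨g, hg⟩ := H7.sl2_sylow_conj 2 P
  obtain ⟨c, hcdef⟩ : ∃ c : SL(2, F) ≃* SL(2, F), ∀ x, c x = g⁻¹ * x * g :=
    ⟨MulAut.conj g⁻¹, fun x => by rw [MulAut.conj_apply, inv_inv]⟩
  have hA' : c A ∈ H7.slUnip F := by rw [hcdef]; exact (hg A).mp hAP
  have hA1' : c A ≠ 1 := by
    intro h
    apply hA1
    apply c.injective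
    rw [h, map_one]
  have hT' : c T * c T * c T = 1 := by rw [← map_mul, ← map_mul, hT, map_one]
  have hc' : c T * c A * (c T)⁻¹ * c A = c A * (c T * c A * (c T)⁻¹) := by
    have := congrArg c hc
    simpa only [map_mul, map_inv] using this
  have hne' : c T * c A * (c T)⁻¹ ≠ c A := by
    intro h
    apply hne
    apply c.injective
    simpa only [map_mul, map_inv] using h
  have h10 := borel_of_commute (c T) (c A) hA' hA1' hc'
  have hdet := H7.sl2_det (c T)
  rw [h10, mul_zero, sub_zero] at hdet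
  have h000 := congrArg (fun M : SL(2, F) => M.1 0 0) hT'
  simp only [H7.sl2_mul_apply, h10, mul_zero, add_zero, Matrix.SpecialLinearGroup.coe_one,
    Matrix.one_apply_eq] at h000
  have ha1 : (c T).1 0 0 ≠ 1 := by
    intro ha
    rw [ha, one_mul] at hdet
    have hTT : c T * c T = 1 := by
      apply Subtype.ext
      ext i j
      fin_cases i <;> fin_cases j <;> simp [H7.sl2_mul_apply, h10, ha, hdet]
      linear_combination ((c T).1 0 1) * h2
    rw [hTT, one_mul] at hT'
    apply hne'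
    rw [hT']
    simp
  have ha0 : (c T).1 0 0 ≠ 0 := by
    intro h
    rw [h] at h000
    simp at h000
  have hu3 : (Units.mk0 _ ha0) ^ 3 = 1 := by
    apply Units.ext
    rw [Units.val_pow_eq_pow_val, Units.val_mk0, Units.val_one]
    linear_combination h000
  have hu1 : Units.mk0 _ ha0 ≠ 1 := by
    intro h
    apply ha1
    have := congrArg Units.val h
    simpa using this
  haveI : Fact (Nat.Prime 3) := ⟨Nat.prime_three⟩
  have ho : orderOf (Units.mk0 _ ha0) = 3 := orderOf_eq_prime hu3 hu1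
  have hcard : Nat.card Fˣ = Fintype.card F - 1 := by
    rw [Nat.card_units, Nat.card_eq_fintype_card]
  rw [← hcard, ← ho]
  exact orderOf_dvd_natCard _

theorem no_A4 {F : Type*} [Field F] [Fintype F] [CharP F 2]
    (H : Subgroup (Matrix.ProjectiveSpecialLinearGroup (Fin 2) F))
    (e : H ≃* alternatingGroup (Fin 4)) : 3 ∣ Fintype.card F - 1 := by
  have h2 : (2 : F) = 0 := CharTwo.two_eq_zero
  have hcen := H7.center_SL2_eq_bot_of_two h2
  obtain ⟨a, t, ha, ha1, ht, hc, hne⟩ := decA4_b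
  obtain ⟨mk, hmks, hmki⟩ : ∃ mk : SL(2, F) →* Matrix.ProjectiveSpecialLinearGroup (Fin 2) F,
      Function.Surjective mk ∧ Function.Injective mk := by
    refine ⟨QuotientGroup.mk' (Subgroup.center SL(2, F)), QuotientGroup.mk'_surjective _, ?_⟩
    rw [← MonoidHom.ker_eq_bot_iff, QuotientGroup.ker_mk', hcen]
  obtain ⟨A, hA⟩ := hmks ((e.symm a : H) : Matrix.ProjectiveSpecialLinearGroup (Fin 2) F)
  obtain ⟨T, hT⟩ := hmks ((e.symm t : H) : Matrix.ProjectiveSpecialLinearGroup (Fin 2) F)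
  have key : ∀ x y : alternatingGroup (Fin 4), ∀ X Y : SL(2, F),
      mk X = ((e.symm x : H) : Matrix.ProjectiveSpecialLinearGroup (Fin 2) F) →
      mk Y = ((e.symm y : H) : Matrix.ProjectiveSpecialLinearGroup (Fin 2) F) →
      (X = Y ↔ x = y) := by
    intro x y X Y hX hY
    constructor
    · intro h
      apply e.symm.injective
      apply Subtype.ext
      rw [← hX, ← hY, h]
    · intro h
      apply hmki
      rw [hX, hY, h]
  have hmul : ∀ x y : alternatingGroup (Fin 4), ∀ X Y : SL(2, F),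
      mk X = ((e.symm x : H) : Matrix.ProjectiveSpecialLinearGroup (Fin 2) F) →
      mk Y = ((e.symm y : H) : Matrix.ProjectiveSpecialLinearGroup (Fin 2) F) →
      mk (X * Y) = ((e.symm (x * y) : H) : Matrix.ProjectiveSpecialLinearGroup (Fin 2) F) := by
    intro x y X Y hX hY
    rw [map_mul, map_mul, Subgroup.coe_mul, hX, hY]
  have hinv : ∀ x : alternatingGroup (Fin 4), ∀ X : SL(2, F),
      mk X = ((e.symm x : H) : Matrix.ProjectiveSpecialLinearGroup (Fin 2) F) →
      mk X⁻¹ = ((e.symm x⁻¹ : H) : Matrix.ProjectiveSpecialLinearGroup (Fin 2) F) := by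
    intro x X hX
    rw [map_inv, map_inv, Subgroup.coe_inv, hX]
  have hone : mk 1 = ((e.symm 1 : H) : Matrix.ProjectiveSpecialLinearGroup (Fin 2) F) := by
    rw [map_one, map_one, Subgroup.coe_one]
  have hTAT := hmul _ _ _ _ (hmul _ _ _ _ hT hA) (hinv _ _ hT)
  apply char_two_key A T
  · exact (key _ _ _ _ (hmul _ _ _ _ hA hA) hone).mpr ha
  · exact fun h => ha1 ((key _ _ _ _ hA hone).mp h)
  · exact (key _ _ _ _ (hmul _ _ _ _ (hmul _ _ _ _ hT hT) hT) hone).mpr ht
  · exact (key _ _ _ _ (hmul _ _ _ _ hTAT hA) (hmul _ _ _ _ hA hTAT)).mpr hc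
  · exact fun h => hne ((key _ _ _ _ hTAT hA).mp h)

/-- PSL_2(p^n) has a subgroup isomorphic to A_4 if and only if it is not the case that p = 2 and n is odd. -/
theorem result {F : Type*} [Field F] [Fintype F] (p n : ℕ) [Fact p.Prime] [CharP F p] (hF : Fintype.card F = p ^ n) : (∃ H : Subgroup (Matrix.ProjectiveSpecialLinearGroup (Fin 2) F), Nonempty (H ≃* alternatingGroup (Fin 4))) ↔ ¬ (p = 2 ∧ Odd n) := by
  constructor
  · rintro ⟨H, ⟨e⟩⟩ ⟨rfl, hn⟩
    have h3 := no_A4 H e
    rw [hF] at h3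
    obtain ⟨k, rfl⟩ := hn
    have h4 : 2 ^ (2 * k + 1) = 2 * 4 ^ k := by
      rw [pow_succ, pow_mul]; norm_num; ring
    rw [h4] at h3
    have h5 : 4 ^ k % 3 = 1 := by
      rw [Nat.pow_mod]; norm_num
    have h6 : 0 < 4 ^ k := by positivity
    omega
  · intro hpn
    by_cases h2 : (2 : F) = 0
    · have hp : p = 2 := by
        haveI : CharP F 2 := CharTwo.of_one_ne_zero_of_two_eq_zero one_ne_zero h2
        exact CharP.eq F ‹CharP F p› this
      subst hp
      have hn : Even n := by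
        rw [← Nat.not_odd_iff_even]
        exact fun h => hpn ⟨rfl, h⟩
      obtain ⟨m, rfl⟩ := hn
      have h3 : 3 ∣ Nat.card Fˣ := by
        rw [Nat.card_units, Nat.card_eq_fintype_card, hF]
        have h4 : 2 ^ (m + m) = 4 ^ m := by
          rw [← two_mul, pow_mul]; norm_num
        rw [h4]
        simpa using Nat.sub_dvd_pow_sub_pow 4 1 m
      haveI : Fact (Nat.Prime 3) := ⟨Nat.prime_three⟩
      obtain ⟨ζ, hζ⟩ := exists_prime_orderOf_dvd_card' (G := Fˣ) 3 h3
      have hz3 : (ζ : F) ^ 3 = 1 := by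
        rw [← Units.val_pow_eq_pow_val, ← hζ, pow_orderOf_eq_one]
        rfl
      have hz1 : (ζ : F) ≠ 1 := by
        intro h
        have : ζ = 1 := Units.ext h
        rw [this, orderOf_one] at hζ
        omega
      have hz : (ζ : F) * (ζ : F) + ζ + 1 = 0 := by
        have : ((ζ : F) - 1) * ((ζ : F) * (ζ : F) + ζ + 1) = 0 := by linear_combination hz3
        rcases mul_eq_zero.mp this with h | h
        · exact absurd (sub_eq_zero.mp h) hz1
        · exact h
      exact exists_A4 (ζ : F) 0 (by linear_combination hz)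
    · have hodd : Fintype.card F % 2 = 1 := by
        apply FiniteField.odd_card_of_char_ne_two
        intro h
        apply h2
        haveI := ringChar.of_eq h
        exact CharTwo.two_eq_zero
      obtain ⟨α, β, hab⟩ := H7.exists_conic hodd (-1)
      exact exists_A4 α β hab

end Cfsg.Agent.S0802
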