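import Cfsg.Statements.S2969
import Cfsg.Agent.Helper55.Isolated

set_option autoImplicit false
open Cfsg

namespace Cfsg.Agent.S2969

open Cfsg.Agent.Helper55

/-- Let G be a finite group, p a prime and x ∈ G an element of p-power order which is isolated in G. If R is a p-subgroup of G containing x, then N_G(R) ≤ C_G(x); in particular x lies in the centre of R. Moreover, if x lies in a normal subgroup N of a subgroup H of G, then H = N·C_H(x). -/
theorem result {G : Type*} [Group G] [Finite G] {p : ℕ} [Fact p.Prime] (x : G) (hx : ∃ k : ℕ, orderOf x = p ^ k) (hiso : Cfsg.IsIsolated x) : (∀ R : Subgroup G, IsPGroup p ↥R → x ∈ R → Subgroup.normalizer (R : Set G) ≤ Subgroup.centralizer ({x} : Set G)) ∧ (∀ H N : Subgroup G, N ≤ H → H ≤ Subgroup.normalizer (N : Set G) → x ∈ N → N ⊔ (H ⊓ Subgroup.centralizer ({x} : Set G)) = H) := by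
  classical
  constructor
  · intro R hR hxR g hg
    have h1 : g * x * g⁻¹ ∈ R := (hg x).mp hxR
    have e := isIsolated_conj_eq_of_mem_pGroup hiso hR hxR h1
    rw [Subgroup.mem_centralizer_iff]
    intro h hh
    rw [Set.mem_singleton_iff.mp hh]
    calc x * g = (g * x * g⁻¹) * g := by rw [e]
      _ = g * x := by simp [mul_assoc]
  · intro H N hNH hHN hxN
    apply le_antisymm (sup_le hNH inf_le_left)
    intro h hh
    have h1 : h * x * h⁻¹ ∈ N := ((hHN hh) x).mp hxN
    obtain ⟨n, hn, hnx⟩ := isIsolated_exists_conj_of_mem hx hiso N hxN h1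
    have h2 : n⁻¹ * h ∈ H ⊓ Subgroup.centralizer ({x} : Set G) := by
      refine Subgroup.mem_inf.mpr ⟨H.mul_mem (H.inv_mem (hNH hn)) hh, ?_⟩
      rw [Subgroup.mem_centralizer_iff]
      intro y hy
      rw [Set.mem_singleton_iff.mp hy]
      -- x * (n⁻¹ h) = (n⁻¹ h) * x
      have e1 : n * x = h * x * h⁻¹ * n := by
        rw [← hnx]; simp [mul_assoc]
      calc x * (n⁻¹ * h) = n⁻¹ * (n * x) * n⁻¹ * h := by simp [mul_assoc]
        _ = n⁻¹ * (h * x * h⁻¹ * n) * n⁻¹ * h := by rw [e1]
        _ = n⁻¹ * h * x := by simp [mul_assoc]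
    have e : h = n * (n⁻¹ * h) := by simp
    rw [e]
    exact Subgroup.mul_mem _ (Subgroup.mem_sup_left hn) (Subgroup.mem_sup_right h2)

end Cfsg.Agent.S2969
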