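import Cfsg.Statements.S2971
import Cfsg.Agent.Helper55.PRankOne
import Cfsg.Agent.Helper55.IsolatedCyclic
import Cfsg.Agent.Helper55.PPrimeCore

set_option autoImplicit false
open Cfsg
open scoped Pointwise

namespace Cfsg.Agent.S2971

open Cfsg.Agent.Helper55

/-- Let G be a finite group and p an odd prime such that G has p-rank at most 1 (no elementary abelian subgroup of order p²). If x ∈ G is an isolated element of order p, then x is central modulo the largest normal subgroup of G of order prime to p. -/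
theorem result {G : Type*} [Group G] [Finite G] {p : ℕ} [Fact p.Prime] (hp : p ≠ 2) (hrk : Cfsg.PRankLE p 1 G) (x : G) (hx : orderOf x = p) (hiso : Cfsg.IsIsolated x) : Cfsg.InZStar p x := by
  classical
  have hpp : p.Prime := Fact.out
  have hxpow : ∃ k : ℕ, orderOf x = p ^ k := ⟨1, by rw [pow_one]; exact hx⟩
  obtain ⟨P, hP⟩ := (isPGroup_zpowers hxpow).exists_le_sylow
  have hxP : x ∈ (P : Subgroup G) := hP (Subgroup.mem_zpowers x)
  have hx1 : x ≠ 1 := by
    intro h; rw [h, orderOf_one] at hx; exact hpp.one_lt.ne hx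
  have hrkP : Cfsg.PRankLE p 1 ↥(P : Subgroup G) := by
    intro A hA hexp
    have h1 := hrk (A.map (P : Subgroup G).subtype) inferInstance (by
      rintro _ ⟨a, ha, rfl⟩
      have := hexp a ha
      have h2 := congrArg Subtype.val this
      simpa using h2)
    have h2 : Nat.card (A.map (P : Subgroup G).subtype) = Nat.card A :=
      Nat.card_congr (A.equivMapOfInjective _ (P : Subgroup G).subtype_injective).symm.toEquiv
    rw [h2] at h1; exact h1
  have hcyc : IsCyclic ↥(P : Subgroup G) := isCyclic_of_pRankLE_one hp P.isPGroup' hrkP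
  obtain ⟨N, hN, hc⟩ := exists_normal_complement_of_isolated_of_cyclic hiso hx1 P hxP hcyc
  have hcop : (Nat.card N).Coprime p := by
    have h1 : (P : Subgroup G).index = Nat.card N := hc.index_eq_card
    have h2 := P.card_coprime_index
    rw [h1] at h2
    obtain ⟨k, hk⟩ := P.isPGroup'.exists_card_eq
    have hk0 : k ≠ 0 := by
      intro h0
      rw [h0, pow_zero] at hk
      have : (P : Subgroup G) = ⊥ := (Subgroup.card_eq_one).mp hk
      rw [this, Subgroup.mem_bot] at hxP
      exact hx1 hxP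
    rw [hk] at h2
    exact ((Nat.coprime_pow_left_iff (Nat.pos_of_ne_zero hk0) _ _).mp h2).symm
  have hNle : N ≤ Cfsg.pPrimeCore p G := le_pPrimeCore hN hcop
  have hxcent : ∀ r ∈ (P : Subgroup G), r * x = x * r :=
    isIsolated_commute_of_mem_pGroup hiso P.isPGroup' hxP
  intro g
  apply hNle
  have hcoe : ((N ⊔ (P : Subgroup G) : Subgroup G) : Set G) = (N : Set G) * ((P : Subgroup G) : Set G) :=
    Subgroup.normal_mul N (P : Subgroup G)
  have hg : g ∈ (N : Set G) * ((P : Subgroup G) : Set G) := by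
    rw [← hcoe, hc.sup_eq_top]; trivial
  obtain ⟨n, hn, r, hr, rfl⟩ := Set.mem_mul.mp hg
  have e : n * r * x * (n * r)⁻¹ * x⁻¹ = n * (x * n⁻¹ * x⁻¹) := by
    have : r * x = x * r := hxcent r hr
    calc n * r * x * (n * r)⁻¹ * x⁻¹ = n * (r * x) * r⁻¹ * n⁻¹ * x⁻¹ := by simp [mul_assoc]
      _ = n * (x * r) * r⁻¹ * n⁻¹ * x⁻¹ := by rw [this]
      _ = n * (x * n⁻¹ * x⁻¹) := by simp [mul_assoc]
  rw [e]
  exact N.mul_mem hn (hN.conj_mem _ (N.inv_mem hn) x)

end Cfsg.Agent.S2971
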