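import Mathlib
import Cfsg.Statements.S3195
import Cfsg.Agent.H5.BaerSuzuki

set_option autoImplicit false
open Cfsg

namespace Cfsg.Agent.S3195

section Dihedral

variable {G : Type*} [Group G]

theorem inv_of_sq {x : G} (hx : x * x = 1) : x⁻¹ = x := (mul_eq_one_iff_eq_inv.mp hx).symm

theorem conj_rho {x y : G} (hx : x * x = 1) (hy : y * y = 1) :
    x * (x * y) * x⁻¹ = (x * y)⁻¹ := by
  rw [inv_of_sq hx, mul_inv_rev, inv_of_sq hx, inv_of_sq hy, ← mul_assoc, hx, one_mul]

theorem conj_rho_zpow {x y : G} (hx : x * x = 1) (hy : y * y = 1) (j : ℤ) :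
    x * (x * y) ^ j = (x * y) ^ (-j) * x := by
  have h1 : x * (x * y) ^ j * x⁻¹ = (x * y) ^ (-j) := by
    rw [← conj_zpow, conj_rho hx hy, inv_zpow, zpow_neg]
  rw [← h1, inv_mul_cancel_right]

theorem conj_rho_pow {x y : G} (hx : x * x = 1) (hy : y * y = 1) (n : ℕ) :
    x * (x * y) ^ n * x⁻¹ = ((x * y) ^ n)⁻¹ := by
  rw [← conj_pow, conj_rho hx hy, inv_pow]

/-- The subgroup generated by two involutions. -/
def dih (x y : G) (hx : x * x = 1) (hy : y * y = 1) : Subgroup G where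
  carrier := {g | ∃ i : ℤ, g = (x * y) ^ i ∨ g = (x * y) ^ i * x}
  mul_mem' := by
    rintro _ _ ⟨i, rfl | rfl⟩ ⟨j, rfl | rfl⟩
    · exact ⟨i + j, Or.inl (zpow_add _ _ _).symm⟩
    · exact ⟨i + j, Or.inr (by rw [zpow_add, mul_assoc])⟩
    · refine ⟨i - j, Or.inr ?_⟩
      rw [mul_assoc, conj_rho_zpow hx hy, ← mul_assoc, ← zpow_add, sub_eq_add_neg]
    · refine ⟨i - j, Or.inl ?_⟩
      rw [mul_assoc, ← mul_assoc x, conj_rho_zpow hx hy, mul_assoc, hx, mul_one, ← zpow_add,
        sub_eq_add_neg]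
  one_mem' := ⟨0, Or.inl (zpow_zero _).symm⟩
  inv_mem' := by
    rintro _ ⟨i, rfl | rfl⟩
    · exact ⟨-i, Or.inl (zpow_neg _ _).symm⟩
    · refine ⟨i, Or.inr ?_⟩
      rw [mul_inv_rev, inv_of_sq hx, ← zpow_neg, conj_rho_zpow hx hy, neg_neg]

theorem left_mem_dih {x y : G} (hx : x * x = 1) (hy : y * y = 1) : x ∈ dih x y hx hy :=
  ⟨0, Or.inr (by rw [zpow_zero, one_mul])⟩

theorem right_mem_dih {x y : G} (hx : x * x = 1) (hy : y * y = 1) : y ∈ dih x y hx hy := by
  refine ⟨-1, Or.inr ?_⟩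
  rw [zpow_neg_one, mul_inv_rev, inv_mul_cancel_right, inv_of_sq hy]

theorem dih_isPGroup {x y : G} (hx : x * x = 1) (hy : y * y = 1) (k : ℕ)
    (hk : (x * y) ^ (2 ^ k) = 1) : IsPGroup 2 ↥(dih x y hx hy) := by
  rintro ⟨g, i, rfl | rfl⟩
  · refine ⟨k, Subtype.ext ?_⟩
    rw [Subgroup.coe_pow]
    show ((x * y) ^ i) ^ (2 ^ k) = 1
    rw [← zpow_natCast, ← zpow_mul, mul_comm, zpow_mul, zpow_natCast, hk, one_zpow]
  · refine ⟨1, Subtype.ext ?_⟩
    rw [Subgroup.coe_pow]
    show ((x * y) ^ i * x) ^ (2 ^ 1) = 1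
    rw [pow_one, pow_two, mul_assoc, ← mul_assoc x, conj_rho_zpow hx hy, mul_assoc, hx, mul_one,
      ← zpow_add, add_neg_cancel, zpow_zero]

end Dihedral

section Main

variable {G : Type*} [Group G]

theorem conj_sq {x : G} (hx : x * x = 1) (g : G) : (g * x * g⁻¹) * (g * x * g⁻¹) = 1 := by
  calc g * x * g⁻¹ * (g * x * g⁻¹) = g * (x * x) * g⁻¹ := by group
    _ = 1 := by rw [hx, mul_one, mul_inv_cancel]

theorem exists_odd_conj [Finite G] {x : G} (hx : x * x = 1) (hx1 : x ≠ 1)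
    (hxO : x ∉ Cfsg.pCore 2 G) :
    ∃ d : G, (∃ g : G, d = g * x * g⁻¹) ∧ x * d ≠ d * x ∧ ∃ j : ℕ, (x * d) ^ (2 * j + 1) = 1 := by
  have hfact : Fact (Nat.Prime 2) := ⟨Nat.prime_two⟩
  by_contra hcon
  push Not at hcon
  apply hxO
  have hord : orderOf x = 2 := orderOf_eq_prime (by rw [pow_two]; exact hx) hx1
  have hX : IsPGroup 2 (Subgroup.zpowers x) :=
    IsPGroup.of_card (n := 1) (by rw [Nat.card_zpowers, hord, pow_one])
  have key : ∀ g : G, IsPGroup 2
      ↥(Subgroup.zpowers x ⊔ (Subgroup.zpowers x).map (MulAut.conj g).toMonoidHom) := by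
    intro g
    have hy : (g * x * g⁻¹) * (g * x * g⁻¹) = 1 := conj_sq hx g
    have hpow : ∃ k : ℕ, (x * (g * x * g⁻¹)) ^ (2 ^ k) = 1 := by
      obtain ⟨e, m, hm, hn⟩ :=
        Nat.exists_eq_two_pow_mul_odd (orderOf_pos (x * (g * x * g⁻¹))).ne'
      set y := g * x * g⁻¹ with hydef
      set τ := (x * y) ^ (2 ^ e) with hτ
      have hτm : τ ^ m = 1 := by
        rw [hτ, ← pow_mul, ← hn]; exact pow_orderOf_eq_one _
      have hconj : x * τ * x⁻¹ = τ⁻¹ := conj_rho_pow hx hy (2 ^ e)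
      have hxd : x * (τ * x * τ⁻¹) = (τ * τ)⁻¹ := by
        have h1 : x * τ * x = τ⁻¹ := by
          have h2 := hconj
          rw [inv_of_sq hx] at h2; exact h2
        calc x * (τ * x * τ⁻¹) = (x * τ * x) * τ⁻¹ := by simp only [mul_assoc]
          _ = τ⁻¹ * τ⁻¹ := by rw [h1]
          _ = (τ * τ)⁻¹ := by rw [mul_inv_rev]
      have hdd : (τ * x * τ⁻¹) * (τ * x * τ⁻¹) = 1 := conj_sq hx τ
      have hm1 : (x * (τ * x * τ⁻¹)) ^ m = 1 := by
        rw [hxd, inv_pow, (Commute.refl τ).mul_pow, hτm, one_mul, inv_one]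
      have hcomm : x * (τ * x * τ⁻¹) = (τ * x * τ⁻¹) * x := by
        by_contra hne
        obtain ⟨j, hj⟩ := hm
        exact hcon (τ * x * τ⁻¹) ⟨τ, rfl⟩ hne j (hj ▸ hm1)
      have hsq : (x * (τ * x * τ⁻¹)) ^ 2 = 1 := by
        rw [pow_two]
        calc x * (τ * x * τ⁻¹) * (x * (τ * x * τ⁻¹))
            = x * ((τ * x * τ⁻¹) * x) * (τ * x * τ⁻¹) := by simp only [mul_assoc]
          _ = x * (x * (τ * x * τ⁻¹)) * (τ * x * τ⁻¹) := by rw [← hcomm]
          _ = (x * x) * ((τ * x * τ⁻¹) * (τ * x * τ⁻¹)) := by simp only [mul_assoc]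
          _ = 1 := by rw [hx, hdd, one_mul]
      have h1 : x * (τ * x * τ⁻¹) = 1 := by
        have ha := orderOf_dvd_of_pow_eq_one hsq
        have hb := orderOf_dvd_of_pow_eq_one hm1
        have hg : orderOf (x * (τ * x * τ⁻¹)) ∣ Nat.gcd 2 m := Nat.dvd_gcd ha hb
        have hcop : Nat.gcd 2 m = 1 := Nat.coprime_two_left.mpr hm
        rw [hcop] at hg
        exact orderOf_eq_one_iff.mp (Nat.dvd_one.mp hg)
      refine ⟨e + 1, ?_⟩
      rw [hxd] at h1
      have h2 : τ * τ = 1 := inv_eq_one.mp h1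
      rw [pow_succ, pow_mul, ← hτ, pow_two]; exact h2
    obtain ⟨k, hk⟩ := hpow
    have hle : Subgroup.zpowers x ⊔ (Subgroup.zpowers x).map (MulAut.conj g).toMonoidHom
        ≤ dih x (g * x * g⁻¹) hx hy := by
      apply sup_le
      · rw [Subgroup.zpowers_le]; exact left_mem_dih hx hy
      · rw [MonoidHom.map_zpowers, Subgroup.zpowers_le]
        exact right_mem_dih hx hy
    exact (dih_isPGroup hx hy k hk).to_le hle
  obtain ⟨N, hN, hNp, hXN⟩ := H5.baer_suzuki (Subgroup.zpowers x) hX key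
  exact (le_sSup ⟨hN, hNp⟩ : N ≤ Cfsg.pCore 2 G) (hXN (Subgroup.mem_zpowers x))

/-- `x → y`: some involution `d` commuting with `y` has `x * d` of odd order, not commuting with `x`. -/
def Arrow (x y : G) : Prop :=
  ∃ d : G, d * d = 1 ∧ d * y = y * d ∧ x * d ≠ d * x ∧ ∃ j : ℕ, (x * d) ^ (2 * j + 1) = 1

theorem conj_by_half {a d : G} (ha : a * a = 1) (hd : d * d = 1) (j : ℕ)
    (hj : (a * d) ^ (2 * j + 1) = 1) : (a * d) ^ j * a * ((a * d) ^ j)⁻¹ = d := by
  have h1 : a * (a * d) ^ j * a = ((a * d) ^ j)⁻¹ := by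
    have h2 := conj_rho_pow ha hd j
    rw [inv_of_sq ha] at h2; exact h2
  have h3 : (a * d) ^ j * a = a * ((a * d) ^ j)⁻¹ := by
    rw [← h1]; simp only [← mul_assoc]; rw [ha, one_mul]
  have h4 : ((a * d) ^ j)⁻¹ * ((a * d) ^ j)⁻¹ = a * d := by
    have h5 : (a * d) ^ j * (a * d) ^ j * (a * d) = 1 := by
      rw [← pow_add, ← pow_succ, ← two_mul]; exact hj
    rw [← mul_inv_rev]
    exact (eq_inv_of_mul_eq_one_right h5).symm
  rw [h3, mul_assoc, h4, ← mul_assoc, ha, one_mul]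

theorem arrow_mul {x y : G} (hy : y * y = 1) (hxy : x * y = y * x)
    (h : Arrow x y) : Arrow (x * y) y := by
  obtain ⟨d, hdd, hdy, hne, j, hj⟩ := h
  have e1 : x * y * (d * y) = x * d := by
    calc x * y * (d * y) = x * (y * d) * y := by simp only [mul_assoc]
      _ = x * (d * y) * y := by rw [hdy]
      _ = x * d * (y * y) := by simp only [mul_assoc]
      _ = x * d := by rw [hy, mul_one]
  have e2 : d * y * (x * y) = d * x := by
    calc d * y * (x * y) = d * (y * x) * y := by simp only [mul_assoc]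
      _ = d * (x * y) * y := by rw [hxy]
      _ = d * x * (y * y) := by simp only [mul_assoc]
      _ = d * x := by rw [hy, mul_one]
  refine ⟨d * y, ?_, ?_, ?_, j, ?_⟩
  · calc d * y * (d * y) = d * (y * d) * y := by simp only [mul_assoc]
      _ = d * (d * y) * y := by rw [hdy]
      _ = (d * d) * (y * y) := by simp only [mul_assoc]
      _ = 1 := by rw [hdd, hy, one_mul]
  · calc d * y * y = (y * d) * y := by rw [hdy]
      _ = y * (d * y) := mul_assoc _ _ _
  · rw [e1, e2]; exact hne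
  · rw [e1]; exact hj

theorem two_cycle_false (A : Subgroup G)
    (hyp : ∀ a ∈ A, a ≠ 1 → ∀ g : G, ∃ y ∈ A, y ≠ 1 ∧ y * (g * a * g⁻¹) = (g * a * g⁻¹) * y)
    (hA2 : ∀ x ∈ A, x * x = 1) (hAc : ∀ x ∈ A, ∀ y ∈ A, x * y = y * x)
    (hA3 : ∀ a ∈ A, ∀ b ∈ A, a ≠ 1 → b ≠ 1 → a ≠ b → ∀ z ∈ A, z ≠ 1 →
      z = a ∨ z = b ∨ z = a * b)
    {a b : G} (ha : a ∈ A) (hb : b ∈ A) (ha1 : a ≠ 1) (hb1 : b ≠ 1) (hab : a ≠ b)
    (h1 : Arrow a b) (h2 : Arrow b a) : False := by
  obtain ⟨d, hdd, hdb, hadne, j, hj⟩ := h1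
  obtain ⟨e, hee, hea, hbene, l, hl⟩ := h2
  have haa := hA2 a ha
  have hbb := hA2 b hb
  have cab : Commute a b := hAc a ha b hb
  have cae : Commute a e := hea.symm
  have cdb : Commute d b := hdb
  have hhad : (a * d) ^ j * a * ((a * d) ^ j)⁻¹ = d := conj_by_half haa hdd j hj
  have hkbe : (b * e) ^ l * b * ((b * e) ^ l)⁻¹ = e := conj_by_half hbb hee l hl
  have cka : Commute ((b * e) ^ l) a := (cab.symm.mul_left cae.symm).pow_left l
  have chb : Commute ((a * d) ^ j) b := (cab.mul_left cdb).pow_left j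
  set h := (a * d) ^ j with hh
  set k := (b * e) ^ l with hk
  have hkak : k * a * k⁻¹ = a := by rw [cka.eq, mul_inv_cancel_right]
  have hhbh : h * b * h⁻¹ = b := by rw [chb.eq, mul_inv_cancel_right]
  obtain ⟨y, hyA, hy1, hyc⟩ := hyp a ha ha1 (k⁻¹ * h)
  have hconj : (k⁻¹ * h) * a * (k⁻¹ * h)⁻¹ = k⁻¹ * d * k := by
    rw [← hhad]; group
  rw [hconj] at hyc
  have hyd : (k * y * k⁻¹) * d = d * (k * y * k⁻¹) := by
    calc k * y * k⁻¹ * d = k * (y * (k⁻¹ * d * k)) * k⁻¹ := by group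
      _ = k * (k⁻¹ * d * k * y) * k⁻¹ := by rw [hyc]
      _ = d * (k * y * k⁻¹) := by group
  rcases hA3 a ha b hb ha1 hb1 hab y hyA hy1 with hya | hyb | hyab
  · -- y = a
    rw [hya, hkak] at hyd
    exact hadne hyd
  · -- y = b: e commutes with d
    rw [hyb, hkbe] at hyd
    have ced : Commute e d := hyd
    have che : Commute h e := (cae.mul_left ced.symm).pow_left j
    have ckd : Commute k d := (cdb.symm.mul_left ced).pow_left l
    have hga : (k * h) * a * (k * h)⁻¹ = d := by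
      calc (k * h) * a * (k * h)⁻¹ = k * (h * a * h⁻¹) * k⁻¹ := by group
        _ = k * d * k⁻¹ := by rw [hhad]
        _ = d := by rw [ckd.eq, mul_inv_cancel_right]
    have hgb : (k * h) * b * (k * h)⁻¹ = e := by
      calc (k * h) * b * (k * h)⁻¹ = k * (h * b * h⁻¹) * k⁻¹ := by group
        _ = k * b * k⁻¹ := by rw [hhbh]
        _ = e := hkbe
    have hgab : (k * h) * (a * b) * (k * h)⁻¹ = d * e := by
      calc (k * h) * (a * b) * (k * h)⁻¹
          = ((k * h) * a * (k * h)⁻¹) * ((k * h) * b * (k * h)⁻¹) := by group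
        _ = d * e := by rw [hga, hgb]
    have hab1 : a * b ≠ 1 := by
      intro h0
      have h3 : a = b⁻¹ := mul_eq_one_iff_eq_inv.mp h0
      rw [inv_of_sq hbb] at h3
      exact hab h3
    obtain ⟨y2, hy2A, hy21, hy2c⟩ := hyp (a * b) (mul_mem ha hb) hab1 (k * h)
    rw [hgab] at hy2c
    rcases hA3 a ha b hb ha1 hb1 hab y2 hy2A hy21 with h2a | h2b | h2ab
    · rw [h2a] at hy2c
      have h3 : a * d * e = d * a * e := by
        calc a * d * e = a * (d * e) := mul_assoc _ _ _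
          _ = d * e * a := hy2c
          _ = d * (e * a) := mul_assoc _ _ _
          _ = d * (a * e) := by rw [hea]
          _ = d * a * e := (mul_assoc _ _ _).symm
      exact hadne (mul_right_cancel h3)
    · rw [h2b] at hy2c
      have h3 : d * (b * e) = d * (e * b) := by
        calc d * (b * e) = (d * b) * e := (mul_assoc _ _ _).symm
          _ = (b * d) * e := by rw [hdb]
          _ = b * (d * e) := mul_assoc _ _ _
          _ = d * e * b := hy2c
          _ = d * (e * b) := mul_assoc _ _ _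
      exact hbene (mul_left_cancel h3)
    · rw [h2ab] at hy2c
      -- ρ σ = ρ⁻¹ σ⁻¹
      have hρi : (a * d)⁻¹ = d * a := by rw [mul_inv_rev, inv_of_sq hdd, inv_of_sq haa]
      have hσi : (b * e)⁻¹ = e * b := by rw [mul_inv_rev, inv_of_sq hee, inv_of_sq hbb]
      have hρσ : (a * d) * (b * e) = (a * d)⁻¹ * (b * e)⁻¹ := by
        rw [hρi, hσi]
        calc a * d * (b * e) = a * (d * b) * e := by simp only [mul_assoc]
          _ = a * (b * d) * e := by rw [hdb]
          _ = a * b * (d * e) := by simp only [mul_assoc]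
          _ = d * e * (a * b) := hy2c
          _ = d * (e * a) * b := by simp only [mul_assoc]
          _ = d * (a * e) * b := by rw [hea]
          _ = d * a * (e * b) := by simp only [mul_assoc]
      have h4 : (a * d) * (a * d) * ((b * e) * (b * e)) = 1 := by
        calc (a * d) * (a * d) * ((b * e) * (b * e))
            = (a * d) * ((a * d) * (b * e)) * (b * e) := by simp only [mul_assoc]
          _ = (a * d) * ((a * d)⁻¹ * (b * e)⁻¹) * (b * e) := by rw [hρσ]
          _ = 1 := by group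
      have h5 : (b * e) * (b * e) = ((a * d) * (a * d))⁻¹ := eq_inv_of_mul_eq_one_right h4
      have cbρ : Commute b (a * d) := cab.symm.mul_right cdb.symm
      have hbσ : b * (b * e) * b⁻¹ = (b * e)⁻¹ := conj_rho hbb hee
      have h6 : b * ((b * e) * (b * e)) * b⁻¹ = (b * e)⁻¹ * (b * e)⁻¹ := by
        calc b * ((b * e) * (b * e)) * b⁻¹ = (b * (b * e) * b⁻¹) * (b * (b * e) * b⁻¹) := by group
          _ = (b * e)⁻¹ * (b * e)⁻¹ := by rw [hbσ]
      have h7 : b * ((b * e) * (b * e)) * b⁻¹ = (b * e) * (b * e) := by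
        rw [h5]
        have c1 : Commute b ((a * d) * (a * d))⁻¹ := (cbρ.mul_right cbρ).inv_right
        rw [c1.eq, mul_inv_cancel_right]
      have h8 : (b * e) ^ 4 = 1 := by
        have h9 : (b * e) * (b * e) = (b * e)⁻¹ * (b * e)⁻¹ := h7.symm.trans h6
        have e4 : (b * e) ^ 4 = ((b * e) * (b * e)) * ((b * e) * (b * e)) := by
          rw [show (4 : ℕ) = 2 + 2 from rfl, pow_add, pow_two]
        rw [e4]
        nth_rewrite 1 [h9]
        group
      have h10 : b * e = 1 := by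
        have hx := orderOf_dvd_of_pow_eq_one h8
        have hy := orderOf_dvd_of_pow_eq_one hl
        have hg : orderOf (b * e) ∣ Nat.gcd 4 (2 * l + 1) := Nat.dvd_gcd hx hy
        have hcop : Nat.gcd 4 (2 * l + 1) = 1 := by
          have h2 : Nat.Coprime 2 (2 * l + 1) := Nat.coprime_two_left.mpr ⟨l, rfl⟩
          exact Nat.Coprime.pow_left 2 h2
        rw [hcop] at hg
        exact orderOf_eq_one_iff.mp (Nat.dvd_one.mp hg)
      have h11 : b = e := by
        have h12 : b = e⁻¹ := mul_eq_one_iff_eq_inv.mp h10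
        rw [inv_of_sq hee] at h12; exact h12
      apply hbene
      rw [← h11]
  · -- y = a * b : a * e commutes with d
    have hkab : k * (a * b) * k⁻¹ = a * e := by
      calc k * (a * b) * k⁻¹ = (k * a * k⁻¹) * (k * b * k⁻¹) := by group
        _ = a * e := by rw [hkak, hkbe]
    rw [hyab, hkab] at hyd
    have he : e * d * e = a * d * a := by
      calc e * d * e = (a * a) * e * d * e := by rw [haa, one_mul]
        _ = a * (a * e * d) * e := by simp only [mul_assoc]
        _ = a * (d * (a * e)) * e := by rw [hyd]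
        _ = a * d * a * (e * e) := by simp only [mul_assoc]
        _ = a * d * a := by rw [hee, mul_one]
    have cb_ada : Commute b (a * d * a) := (cab.symm.mul_right cdb.symm).mul_right cab.symm
    have hs1 : (b * e) * d = (a * d * a) * (b * e) := by
      calc b * e * d = b * (e * d * e) * e := by
            rw [show b * (e * d * e) * e = b * e * d * (e * e) by simp only [mul_assoc], hee,
              mul_one]
        _ = b * (a * d * a) * e := by rw [he]
        _ = (a * d * a) * b * e := by rw [cb_ada.eq]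
        _ = a * d * a * (b * e) := mul_assoc _ _ _
    have he2 : e * (a * d * a) = d * e := by
      calc e * (a * d * a) = (e * a) * d * a := by simp only [mul_assoc]
        _ = (a * e) * d * a := by rw [hea]
        _ = a * (e * d * e) * (e * a) := by
            rw [show a * (e * d * e) * (e * a) = a * e * d * (e * e) * a by simp only [mul_assoc],
              hee, mul_one]
        _ = a * (a * d * a) * (a * e) := by rw [he, hea]
        _ = (a * a) * d * (a * a) * e := by simp only [mul_assoc]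
        _ = d * e := by rw [haa, one_mul, mul_one]
    have hs2 : (b * e) * (a * d * a) = d * (b * e) := by
      calc b * e * (a * d * a) = b * (e * (a * d * a)) := mul_assoc _ _ _
        _ = b * (d * e) := by rw [he2]
        _ = (b * d) * e := (mul_assoc _ _ _).symm
        _ = (d * b) * e := by rw [hdb]
        _ = d * (b * e) := mul_assoc _ _ _
    have hσ2 : Commute ((b * e) ^ 2) d := by
      show (b * e) ^ 2 * d = d * (b * e) ^ 2
      rw [pow_two]
      calc (b * e) * (b * e) * d = (b * e) * ((b * e) * d) := mul_assoc _ _ _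
        _ = (b * e) * ((a * d * a) * (b * e)) := by rw [hs1]
        _ = ((b * e) * (a * d * a)) * (b * e) := (mul_assoc _ _ _).symm
        _ = d * (b * e) * (b * e) := by rw [hs2]
        _ = d * ((b * e) * (b * e)) := mul_assoc _ _ _
    have hσl : Commute ((b * e) ^ (2 * l)) d := by
      rw [pow_mul]; exact hσ2.pow_left l
    have hσ : b * e = ((b * e) ^ (2 * l))⁻¹ := by
      apply eq_inv_of_mul_eq_one_right
      rw [← pow_succ]; exact hl
    have cσd : Commute (b * e) d := by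
      rw [hσ]; exact hσl.inv_left
    have h3 : d * (b * e) = (a * d * a) * (b * e) := by rw [← cσd.eq]; exact hs1
    have h4 : d = a * d * a := mul_right_cancel h3
    apply hadne
    calc a * d = a * (a * d * a) := by rw [← h4]
      _ = (a * a) * d * a := by simp only [mul_assoc]
      _ = d * a := by rw [haa, one_mul]

/-- Let A be a Klein four-subgroup of a finite group G. If every G-conjugate of every involution of A commutes with some involution of A (its centralizer meets A nontrivially), then A meets the largest normal 2-subgroup O₂(G) nontrivially. -/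
theorem result {G : Type*} [Group G] [Finite G]
    (A : Subgroup G) (hA : IsKleinFour ↥A)
    (h : ∀ a ∈ A, a ≠ 1 → ∀ g : G, A ⊓ Subgroup.centralizer ({g * a * g⁻¹} : Set G) ≠ ⊥) :
    A ⊓ Cfsg.pCore 2 G ≠ ⊥ := by
  intro hbot
  have hA2 : ∀ x ∈ A, x * x = 1 := by
    intro x hx
    have h0 := IsKleinFour.mul_self (⟨x, hx⟩ : A)
    exact congrArg Subtype.val h0
  have hAc : ∀ x ∈ A, ∀ y ∈ A, x * y = y * x := by
    intro x hx y hy
    have hc := IsKleinFour.isMulCommutative (G := A)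
    exact setLike_mul_comm hx hy
  have hA3 : ∀ a ∈ A, ∀ b ∈ A, a ≠ 1 → b ≠ 1 → a ≠ b → ∀ z ∈ A, z ≠ 1 →
      z = a ∨ z = b ∨ z = a * b := by
    intro a ha b hb ha1 hb1 hab z hz hz1
    by_cases hza : z = a
    · exact Or.inl hza
    by_cases hzb : z = b
    · exact Or.inr (Or.inl hzb)
    right; right
    have h0 := IsKleinFour.eq_mul_of_ne_all (G := A) (x := ⟨a, ha⟩) (y := ⟨b, hb⟩)
      (z := ⟨z, hz⟩) (fun h => ha1 (congrArg Subtype.val h)) (fun h => hb1 (congrArg Subtype.val h))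
      (fun h => hab (congrArg Subtype.val h)) (fun h => hz1 (congrArg Subtype.val h))
      (fun h => hza (congrArg Subtype.val h)) (fun h => hzb (congrArg Subtype.val h))
    exact congrArg Subtype.val h0
  have hyp : ∀ a ∈ A, a ≠ 1 → ∀ g : G,
      ∃ y ∈ A, y ≠ 1 ∧ y * (g * a * g⁻¹) = (g * a * g⁻¹) * y := by
    intro a ha ha1 g
    obtain ⟨⟨y, hy⟩, hy1⟩ := (Subgroup.ne_bot_iff_exists_ne_one).mp (h a ha ha1 g)
    rw [Subgroup.mem_inf, Subgroup.mem_centralizer_iff] at hy
    refine ⟨y, hy.1, fun h0 => hy1 (Subtype.ext h0), ?_⟩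
    exact (hy.2 _ rfl).symm
  have hnotO : ∀ x ∈ A, x ≠ 1 → x ∉ Cfsg.pCore 2 G := by
    intro x hx hx1 hxO
    have h0 : x ∈ A ⊓ Cfsg.pCore 2 G := Subgroup.mem_inf.mpr ⟨hx, hxO⟩
    rw [hbot] at h0
    exact hx1 (Subgroup.mem_bot.mp h0)
  have harrow : ∀ x ∈ A, x ≠ 1 → ∃ y ∈ A, y ≠ 1 ∧ y ≠ x ∧ Arrow x y := by
    intro x hx hx1
    obtain ⟨d, ⟨g, rfl⟩, hne, j, hj⟩ := exists_odd_conj (hA2 x hx) hx1 (hnotO x hx hx1)
    obtain ⟨y, hyA, hy1, hyc⟩ := hyp x hx hx1 g
    refine ⟨y, hyA, hy1, ?_, g * x * g⁻¹, conj_sq (hA2 x hx) g, hyc.symm, hne, j, hj⟩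
    intro hyx
    rw [hyx] at hyc
    exact hne hyc
  obtain ⟨a, ha, ha1, b, hb, hb1, hab⟩ : ∃ a ∈ A, a ≠ 1 ∧ ∃ b ∈ A, b ≠ 1 ∧ a ≠ b := by
    have hcard : Nat.card A = 4 := hA.card_four
    have hfin : Fintype A := Fintype.ofFinite A
    have h3 : 2 < Fintype.card A := by rw [← Nat.card_eq_fintype_card, hcard]; norm_num
    obtain ⟨p, q, r, hpq, hpr, hqr⟩ := Fintype.two_lt_card_iff.mp h3
    by_cases hp1 : p = 1
    · refine ⟨q.1, q.2, ?_, r.1, r.2, ?_, ?_⟩
      · intro h0; exact hpq (hp1.trans (Subtype.ext h0).symm)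
      · intro h0; exact hpr (hp1.trans (Subtype.ext h0).symm)
      · intro h0; exact hqr (Subtype.ext h0)
    · by_cases hq1 : q = 1
      · refine ⟨p.1, p.2, fun h0 => hp1 (Subtype.ext h0), r.1, r.2, ?_,
          fun h0 => hpr (Subtype.ext h0)⟩
        intro h0; exact hqr (hq1.trans (Subtype.ext h0).symm)
      · exact ⟨p.1, p.2, fun h0 => hp1 (Subtype.ext h0), q.1, q.2,
          fun h0 => hq1 (Subtype.ext h0), fun h0 => hpq (Subtype.ext h0)⟩
  obtain ⟨y1, hy1A, hy11, hy1a, har1⟩ := harrow a ha ha1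
  have har2 : Arrow (a * y1) y1 := arrow_mul (hA2 y1 hy1A) (hAc a ha y1 hy1A) har1
  obtain ⟨y2, hy2A, hy21, hy2y1, har3⟩ := harrow y1 hy1A hy11
  rcases hA3 a ha y1 hy1A ha1 hy11 (Ne.symm hy1a) y2 hy2A hy21 with h2a | h2b | h2ab
  · rw [h2a] at har3
    exact two_cycle_false A hyp hA2 hAc hA3 ha hy1A ha1 hy11 (Ne.symm hy1a) har1 har3
  · exact hy2y1 h2b
  · rw [h2ab] at har3 hy21 hy2y1
    exact two_cycle_false A hyp hA2 hAc hA3 (mul_mem ha hy1A) hy1A hy21 hy11 hy2y1 har2 har3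

end Main

end Cfsg.Agent.S3195
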