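import Cfsg.Statements.S2834
import Cfsg.Agent.H53.LL3

set_option autoImplicit false
open Cfsg

namespace Cfsg.Agent.S2834

/-- The L-Lemma: let H be a finite group with Sylow p-subgroup T such that H is T-minimal (generated by the conjugates of T, T in exactly one maximal subgroup M), and let A ≤ T with A not contained in O_p(H). Then there is a subgroup L of H containing A·O_p(H) such that (a) A·O_p(L) lies in exactly one maximal subgroup L₀ of L, and L₀ = L ∩ gMg⁻¹ for some g ∈ H; (b) L = ⟨A, xAx⁻¹⟩·O_p(L) for every x ∈ L outside L₀. -/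
theorem result {H : Type*} [Group H] [Finite H] {p : ℕ} [Fact p.Prime] (T : Sylow p H) (hmin : Cfsg.IsMinimalOver (T : Subgroup H)) (M : Subgroup H) (hM : IsCoatom M ∧ (T : Subgroup H) ≤ M) (A : Subgroup H) (hAT : A ≤ (T : Subgroup H)) (hA : ¬ A ≤ Cfsg.pCore p H) : ∃ L : Subgroup H, A ⊔ Cfsg.pCore p H ≤ L ∧ ∃ L₀ : Subgroup H, A ⊔ (Cfsg.pCoreOf p L) ≤ L₀ ∧ L₀ < L ∧ (∀ X : Subgroup H, A ⊔ (Cfsg.pCoreOf p L) ≤ X → X < L → X ≤ L₀) ∧ (∃ g : H, L₀ = L ⊓ ((M : Subgroup H).map (MulAut.conj (g : H)).toMonoidHom)) ∧ ∀ x ∈ L, x ∉ L₀ → (A ⊔ ((A : Subgroup H).map (MulAut.conj (x : H)).toMonoidHom)) ⊔ (Cfsg.pCoreOf p L) = L := by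
  classical
  have hTp : IsPGroup p ↥(T : Subgroup H) := T.isPGroup'
  have hAp : IsPGroup p ↥A := hTp.to_le hAT
  -- the relative hypothesis for `⊤` and `M`
  have hHyp : H53.LHyp p (⊤ : Subgroup H) M := by
    refine ⟨le_top, ?_, (T : Subgroup H), hM.2, hTp, ?_, ?_⟩
    · by_contra hcon
      push Not at hcon
      have hMn : M.Normal := by
        rw [← Subgroup.normalizer_eq_top_iff]
        rw [eq_top_iff]
        intro h _
        exact H53.mem_normalizer_iff_cj.mpr (hcon h (Subgroup.mem_top h))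
      have h1 : Subgroup.normalClosure ((T : Subgroup H) : Set H) ≤ M :=
        Subgroup.normalClosure_le_normal hM.2
      rw [hmin.1] at h1
      exact hM.1.1 (top_le_iff.mp h1)
    · intro P _ hP
      obtain ⟨Q, hQ⟩ := hP.exists_le_sylow
      obtain ⟨h, hh⟩ := MulAction.exists_smul_eq H Q T
      refine ⟨h, Subgroup.mem_top h, ?_⟩
      rw [← hh, H53.sylow_smul_eq_cj]
      exact H53.cj_mono h hQ
    · intro X _ hXne hTX
      rcases eq_top_or_exists_le_coatom X with h | ⟨K, hK, hXK⟩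
      · exact absurd h hXne
      · obtain ⟨M₀, _, hM₀⟩ := hmin.2
        have e1 := hM₀ K ⟨hK, hTX.trans hXK⟩
        have e2 := hM₀ M hM
        rw [e2, ← e1]
        exact hXK
  have hA' : ¬ A ≤ pCoreOf p (⊤ : Subgroup H) := fun h => hA (h.trans (H53.pCoreOf_top_le p))
  obtain ⟨L, -, g, -, h1, h2, h3, h4, l, hlL, h5⟩ := H53.lLemma_rel' p hHyp le_top hAp hA'
  have hAL : A ≤ L := le_sup_left.trans h1
  have hL₀lt : L ⊓ M.map (MulAut.conj g).toMonoidHom < L :=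
    lt_of_le_of_ne inf_le_left (fun h => h3 (inf_eq_left.mp h))
  refine ⟨L, (sup_le_sup_left (H53.pCore_le_pCoreOf_top p) A).trans h1,
    L ⊓ M.map (MulAut.conj g).toMonoidHom, le_inf (sup_le hAL (H53.pCoreOf_le p L)) h2, hL₀lt,
    fun X hAX hXL => le_inf hXL.le (h4 X hXL.le hXL.ne hAX), ⟨g, rfl⟩, ?_⟩
  intro x hxL hxL₀
  by_contra hY
  have hcjA : A.map (MulAut.conj x).toMonoidHom ≤ L := H53.cj_le_of_mem hxL hAL
  have hYL : (A ⊔ A.map (MulAut.conj x).toMonoidHom) ⊔ pCoreOf p L ≤ L :=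
    sup_le (sup_le hAL hcjA) (H53.pCoreOf_le p L)
  have hYM := h4 _ hYL hY (sup_le_sup_right le_sup_left _)
  have hYL₀ : (A ⊔ A.map (MulAut.conj x).toMonoidHom) ⊔ pCoreOf p L ≤
      L ⊓ M.map (MulAut.conj g).toMonoidHom := le_inf hYL hYM
  -- `A ⊔ O_p(L)` lies in the conjugate of `L₀` by `x⁻¹`
  have hx' : x⁻¹ ∈ L := L.inv_mem hxL
  have hA1 : A ≤ (L ⊓ M.map (MulAut.conj g).toMonoidHom).map (MulAut.conj x⁻¹).toMonoidHom :=
    H53.cj_le_iff.mp ((le_sup_right.trans le_sup_left).trans hYL₀)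
  have hO1 : pCoreOf p L ≤ (L ⊓ M.map (MulAut.conj g).toMonoidHom).map (MulAut.conj x⁻¹).toMonoidHom := by
    have := H53.cj_mono x⁻¹ ((le_sup_right : pCoreOf p L ≤ _).trans hYL₀)
    rwa [H53.cj_of_mem_normalizer (H53.le_normalizer_pCoreOf p L hx')] at this
  have hX1 : (L ⊓ M.map (MulAut.conj g).toMonoidHom).map (MulAut.conj x⁻¹).toMonoidHom ≤ L :=
    H53.cj_le_of_mem hx' inf_le_left
  have hX2 : (L ⊓ M.map (MulAut.conj g).toMonoidHom).map (MulAut.conj x⁻¹).toMonoidHom ≠ L := by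
    intro h
    have e3 := H53.card_cj x⁻¹ (L ⊓ M.map (MulAut.conj g).toMonoidHom)
    rw [h] at e3
    have e4 := H53.card_lt_of_lt hL₀lt
    omega
  have hX3 := h4 _ hX1 hX2 (sup_le hA1 hO1)
  have hX4 := H53.cj_eq_self_of_le_of_card (le_inf hX1 hX3)
  have hxN : x⁻¹ ∈ Subgroup.normalizer ((L ⊓ M.map (MulAut.conj g).toMonoidHom : Subgroup H) : Set H) :=
    H53.mem_normalizer_iff_cj.mpr hX4
  -- the normalizer of `L₀` in `L` is `L₀`
  by_cases hN : Subgroup.normalizer ((L ⊓ M.map (MulAut.conj g).toMonoidHom : Subgroup H) : Set H) ⊓ L = L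
  · apply h5
    exact H53.mem_normalizer_iff_cj.mp ((inf_eq_right.mp hN) hlL)
  · have hN1 := h4 _ inf_le_right hN
      (le_inf ((le_inf (sup_le hAL (H53.pCoreOf_le p L)) h2).trans Subgroup.le_normalizer)
        (sup_le hAL (H53.pCoreOf_le p L)))
    have hx'' : x⁻¹ ∈ L ⊓ M.map (MulAut.conj g).toMonoidHom := ⟨hx', hN1 ⟨hxN, hx'⟩⟩
    have := (L ⊓ M.map (MulAut.conj g).toMonoidHom).inv_mem hx''
    rw [inv_inv] at this
    exact hxL₀ this

end Cfsg.Agent.S2834
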