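import Mathlib
import Cfsg.Statements.S1280
import Cfsg.Agent.S0030
import Cfsg.Agent.H58.Sig2

set_option autoImplicit false
open Cfsg

namespace Cfsg.Agent.S1280

open Cfsg.Agent.H58 in
/-- Let θ be a solvable A-signalizer functor (A a noncyclic elementary abelian p-subgroup of the finite group G), and X, Y members of its family with Y ≤ N_G(X). Then X ⊔ Y (= XY) is again in the family. -/
theorem result {G : Type*} [Group G] [Finite G] (p : ℕ) [Fact p.Prime] (A : Subgroup G) (hA : Cfsg.IsElementaryAbelian p A) (hA2 : p ^ 2 ≤ Nat.card ↥A) (θ : G → Subgroup G) (hθ : Cfsg.IsSolvableSignalizerFunctor p A θ) (X Y : Subgroup G) (hX : X ∈ Cfsg.signalizerFamily p A θ) (hY : Y ∈ Cfsg.signalizerFamily p A θ) (hn : Y ≤ Subgroup.normalizer (X : Set G)) : X ⊔ Y ∈ Cfsg.signalizerFamily p A θ := by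
  obtain ⟨hXs, hXp, hXA, hXθ⟩ := hX
  obtain ⟨hYs, hYp, hYA, hYθ⟩ := hY
  have hdec : ∀ u ∈ X ⊔ Y, ∃ x ∈ X, ∃ y ∈ Y, u = x * y :=
    fun u hu => mem_sup_of_le_normalizer hn hu
  have hinv : ∀ b ∈ A, ∀ u ∈ X ⊔ Y, b * u * b⁻¹ ∈ X ⊔ Y := by
    intro b hb u hu
    obtain ⟨x, hx, y, hy, rfl⟩ := hdec u hu
    have : b * (x * y) * b⁻¹ = (b * x * b⁻¹) * (b * y * b⁻¹) := by group
    rw [this]
    exact Subgroup.mul_mem _ (Subgroup.mem_sup_left (hXA b hb x hx))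
      (Subgroup.mem_sup_right (hYA b hb y hy))
  have hcard : ¬ p ∣ Nat.card ↥(X ⊔ Y) := by
    intro h
    have h2 := h.trans (card_sup_dvd hn)
    rcases (Nat.Prime.dvd_mul Fact.out).mp h2 with h3 | h3
    · exact hXp h3
    · exact hYp h3
  refine ⟨isSolvable_sup hn hXs hYs, hcard, hinv, ?_⟩
  intro a ha ha1 k hk
  have hap : a ^ p = 1 := hA.2 a ha
  have hzA : Subgroup.zpowers a ≤ A := Subgroup.zpowers_le.mpr ha
  obtain ⟨x, hx, y, hy, hkxy⟩ := Cfsg.Agent.S0030.result (Subgroup.zpowers a) (X ⊔ Y)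
    (hzA.trans (le_normalizer_of_conj hinv)) (coprime_zpowers ha1 hap _ hcard)
    (Or.inl (isSolvable_zpowers a)) X Y le_sup_left le_sup_right
    (hzA.trans (le_normalizer_of_conj hXA)) (hzA.trans (le_normalizer_of_conj hYA)) hdec k
    ⟨hk.1, mem_centralizer_zpowers_iff.mpr hk.2⟩
  rw [hkxy]
  exact Subgroup.mul_mem _ (hXθ a ha ha1 ⟨hx.1, mem_centralizer_zpowers_iff.mp hx.2⟩)
    (hYθ a ha ha1 ⟨hy.1, mem_centralizer_zpowers_iff.mp hy.2⟩)

end Cfsg.Agent.S1280
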