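import Mathlib
import Cfsg.Statements.S1282
import Cfsg.Agent.H58.Sig

set_option autoImplicit false
open Cfsg

namespace Cfsg.Agent.S1282

/-- Let A be an elementary abelian p-subgroup of rank at least 3 of the finite group G, q ≠ p a prime, and Q₁, Q₂ q-subgroups normalized by A with D = Q₁ ∩ Q₂ different from both. Then there is a non-identity a ∈ A such that, for i = 1 and i = 2, N_{Q_i}(D) ∩ C_G(a) is not contained in D. -/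
theorem result {G : Type*} [Group G] [Finite G] (p : ℕ) [Fact p.Prime] (A : Subgroup G) (hA : Cfsg.IsElementaryAbelian p A) (hA3 : p ^ 3 ≤ Nat.card ↥A) (q : ℕ) [Fact q.Prime] (hqp : q ≠ p) (Q₁ Q₂ : Subgroup G) (h₁ : IsPGroup q ↥Q₁) (h₂ : IsPGroup q ↥Q₂) (hA₁ : A ≤ Subgroup.normalizer (Q₁ : Set G)) (hA₂ : A ≤ Subgroup.normalizer (Q₂ : Set G)) (hD₁ : Q₁ ⊓ Q₂ ≠ Q₁) (hD₂ : Q₁ ⊓ Q₂ ≠ Q₂) : ∃ a ∈ A, a ≠ 1 ∧ ¬ (Subgroup.normalizer ((Q₁ ⊓ Q₂ : Subgroup G) : Set G) ⊓ Q₁ ⊓ Subgroup.centralizer {a} ≤ Q₁ ⊓ Q₂) ∧ ¬ (Subgroup.normalizer ((Q₁ ⊓ Q₂ : Subgroup G) : Set G) ⊓ Q₂ ⊓ Subgroup.centralizer {a} ≤ Q₁ ⊓ Q₂) := by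
  have hp : p.Prime := Fact.out
  have hp2 : 2 ≤ p := hp.two_le
  have hA2 : p ^ 2 ≤ Nat.card ↥A := by
    calc p ^ 2 ≤ p ^ 3 := Nat.pow_le_pow_right hp.pos (by norm_num)
      _ ≤ Nat.card ↥A := hA3
  have hAD : A ≤ Subgroup.normalizer ((Q₁ ⊓ Q₂ : Subgroup G) : Set G) := by
    apply Cfsg.Agent.H58.le_normalizer_of_conj
    intro a ha x hx
    exact Subgroup.mem_inf.mpr ⟨(Subgroup.mem_normalizer_iff.mp (hA₁ ha) x).mp hx.1,
      (Subgroup.mem_normalizer_iff.mp (hA₂ ha) x).mp hx.2⟩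
  obtain ⟨B₁, hB₁A, hB₁i, hB₁⟩ := Cfsg.Agent.H58.exists_hyperplane p A hA hA2 q hqp Q₁ (Q₁ ⊓ Q₂)
    h₁ hA₁ hAD inf_le_left hD₁
  obtain ⟨B₂, hB₂A, hB₂i, hB₂⟩ := Cfsg.Agent.H58.exists_hyperplane p A hA hA2 q hqp Q₂ (Q₁ ⊓ Q₂)
    h₂ hA₂ hAD inf_le_right hD₂
  have hne : B₁ ⊓ B₂ ≠ ⊥ := by
    intro hbot
    have h1 := Subgroup.relIndex_inf_le (H := B₁) (K := B₂) (L := A)
    rw [hbot, Subgroup.relIndex_bot_left] at h1
    have h2 : B₁.relIndex A * B₂.relIndex A ≤ p * p := Nat.mul_le_mul hB₁i hB₂i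
    have h3 : p ^ 3 = p * (p * p) := by ring
    have h4 : 0 < p * p := Nat.mul_pos hp.pos hp.pos
    nlinarith
  obtain ⟨⟨a, haB⟩, ha1⟩ := Subgroup.ne_bot_iff_exists_ne_one.mp hne
  have ha1' : a ≠ 1 := fun h => ha1 (Subtype.ext h)
  refine ⟨a, hB₁A haB.1, ha1', ?_, ?_⟩
  · intro h
    apply hB₁
    refine le_trans (inf_le_inf_left _ ?_) h
    exact Subgroup.centralizer_le (by
      intro x hx
      rw [Set.mem_singleton_iff] at hx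
      rw [hx]; exact haB.1)
  · intro h
    apply hB₂
    refine le_trans (inf_le_inf_left _ ?_) h
    exact Subgroup.centralizer_le (by
      intro x hx
      rw [Set.mem_singleton_iff] at hx
      rw [hx]; exact haB.2)

end Cfsg.Agent.S1282
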