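import Cfsg.Statements.S0044
import Mathlib.GroupTheory.Solvable
import Mathlib.GroupTheory.Nilpotent
import Mathlib.GroupTheory.Subgroup.Centralizer

set_option autoImplicit false
open Cfsg

namespace Cfsg.Agent.S0044

/-- In a finite solvable group, the centraliser of the Fitting subgroup is contained in the Fitting subgroup. -/
theorem result {G : Type*} [Group G] [Finite G] [Group.IsSolvable G] :
    Subgroup.centralizer (Cfsg.fittingSubgroup G : Set G) ≤ Cfsg.fittingSubgroup G := by
  classical
  have hFn : (Cfsg.fittingSubgroup G).Normal :=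
    Subgroup.sSup_normal _ (fun H hH => hH.1)
  have hCn : (Subgroup.centralizer (Cfsg.fittingSubgroup G : Set G)).Normal :=
    Subgroup.normal_centralizer
  by_contra hnot
  obtain ⟨n, hn⟩ := (Group.isSolvable_def G).mp inferInstance
  have hex : ∃ i, Subgroup.centralizer (Cfsg.fittingSubgroup G : Set G) ⊓ derivedSeries G i ≤
      Cfsg.fittingSubgroup G := ⟨n, by rw [hn, inf_bot_eq]; exact bot_le⟩
  have hspec := Nat.find_spec hex
  have hpos : Nat.find hex ≠ 0 := by
    intro h0
    rw [h0, derivedSeries_zero, inf_top_eq] at hspec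
    exact hnot hspec
  obtain ⟨j, hj⟩ := Nat.exists_eq_succ_of_ne_zero hpos
  rw [hj] at hspec
  have hjnot : ¬ (Subgroup.centralizer (Cfsg.fittingSubgroup G : Set G) ⊓ derivedSeries G j ≤
      Cfsg.fittingSubgroup G) := by
    intro h
    have := Nat.find_min' hex h
    omega
  have hDn : (derivedSeries G j).Normal := derivedSeries_normal G j
  have hMn : (Subgroup.centralizer (Cfsg.fittingSubgroup G : Set G) ⊓ derivedSeries G j).Normal :=
    Subgroup.normal_inf_normal _ _
  have hMM : ⁅Subgroup.centralizer (Cfsg.fittingSubgroup G : Set G) ⊓ derivedSeries G j,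
      Subgroup.centralizer (Cfsg.fittingSubgroup G : Set G) ⊓ derivedSeries G j⁆ ≤
      Cfsg.fittingSubgroup G := by
    refine le_trans ?_ hspec
    apply le_inf
    · exact (Subgroup.commutator_mono inf_le_left inf_le_left).trans
        (Subgroup.commutator_le_right _ _)
    · rw [Nat.succ_eq_add_one, derivedSeries_succ]
      exact Subgroup.commutator_mono inf_le_right inf_le_right
  have hnil : Group.IsNilpotent
      (Subgroup.centralizer (Cfsg.fittingSubgroup G : Set G) ⊓ derivedSeries G j : Subgroup G) := by
    apply Subgroup.isNilpotent_of_lowerCentralSeries_eq_bot (n := 2)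
    rw [Subgroup.lowerCentralSeries_succ, Subgroup.lowerCentralSeries_succ,
      Subgroup.lowerCentralSeries_zero, Subgroup.commutator_eq_bot_iff_le_centralizer]
    have h1 : Subgroup.centralizer (Cfsg.fittingSubgroup G : Set G) ⊓ derivedSeries G j ≤
        Subgroup.centralizer (Cfsg.fittingSubgroup G : Set G) := inf_le_left
    have h2 := Subgroup.le_centralizer_iff.mp h1
    exact hMM.trans h2
  exact hjnot (le_sSup ⟨hMn, hnil⟩)

end Cfsg.Agent.S0044
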