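import Cfsg.Statements.S2472
-- import your own Cfsg.Agent.* helpers here
import Cfsg.Agent.H45.SpPR

set_option autoImplicit false
open Cfsg

namespace Cfsg.Agent.S2472

/-- Adjacency of a prime and the characteristic in the prime graph of PSp(2n,q): let F be a finite field of characteristic p with q elements, n ≥ 2 with PSp(2n,F) simple, and let r ≠ p be an odd prime dividing the order of PSp(2n,F), with k the multiplicative order of q modulo r and η(k) = k for odd k, k/2 for even k. Then PSp(2n,F) has NO element of order r·p if and only if η(k) > n − 1. -/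
theorem result {F : Type*} [Field F] [Fintype F] (p : ℕ) [Fact p.Prime] [CharP F p] (n : ℕ) (hn : 2 ≤ n) (hsmall : n = 2 → 3 ≤ Fintype.card F)
    (r : ℕ) (hr : r.Prime) (hr2 : r ≠ 2) (hrp : r ≠ p) (hrG : r ∣ Nat.card (Cfsg.PSp n F))
    (k ηk : ℕ) (hk : k = orderOf ((Fintype.card F : ℕ) : ZMod r)) (hηk : (Odd k ∧ ηk = k) ∨ (Even k ∧ 2 * ηk = k)) :
    (r * p ∉ Set.range (orderOf : Cfsg.PSp n F → ℕ)) ↔ n - 1 < ηk := by
  classical
  have hp : p.Prime := Fact.out
  constructor
  · intro hno
    by_contra hcon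
    push Not at hcon
    apply hno
    obtain ⟨P₀, hr₀, hm₀, hd₀, hA₀⟩ := H45.real_block (F := F) p r hr hr2 hrp k ηk hk hηk
    have hkpos : 0 < ηk := by
      rcases Nat.eq_zero_or_pos ηk with h0 | h0
      · exfalso
        have hk0 : k = 0 := by
          rcases hηk with ⟨-, h⟩ | ⟨-, h⟩ <;> omega
        rw [hk0] at hk
        have hfin : IsOfFinOrder ((Fintype.card F : ℕ) : ZMod r) := by
          rw [isOfFinOrder_iff_pow_eq_one]
          have hr3 := hr.two_le
          have hrfact : Fact r.Prime := ⟨hr⟩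
          refine ⟨r - 1, by omega, ?_⟩
          apply ZMod.pow_card_sub_one_eq_one
          intro h0'
          rw [ZMod.natCast_eq_zero_iff] at h0'
          obtain ⟨e, -, he⟩ := FiniteField.card F p
          rw [he] at h0'
          exact hrp ((Nat.prime_dvd_prime_iff_eq hr hp).mp (hr.dvd_of_dvd_pow h0'))
        exact hfin.orderOf_pos.ne hk
      · exact h0
    obtain ⟨x, hx⟩ := H45.psp_exists_of_realizable p n ηk r (by omega) hr.pos P₀ hr₀ hm₀ hd₀ hA₀
    exact ⟨x, by rw [hx, mul_comm]⟩
  · intro hlt hmem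
    obtain ⟨x, hx⟩ := hmem
    exact H45.psp_no_elt p n (by omega) r hr hr2 hrp k ηk hk hηk (by omega) x hx

end Cfsg.Agent.S2472
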