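import Cfsg.Statements.S3889

set_option autoImplicit false
open Cfsg

namespace Cfsg.Agent.S3889

/-- Key step: in a partition of a commutative group, an element outside the part `B` is killed by the
order of any non-identity element of `B`. -/
theorem pow_orderOf_eq_one_of_not_mem {G : Type*} [CommGroup G] (𝓑 : Set (Subgroup G))
    (hcov : ∀ g : G, ∃ B ∈ 𝓑, g ∈ B) (hdisj : ∀ B ∈ 𝓑, ∀ C ∈ 𝓑, B ≠ C → B ⊓ C = ⊥)
    {B : Subgroup G} (hB : B ∈ 𝓑) {x y : G} (hx : x ∈ B) (hx1 : x ≠ 1) (hy : y ∉ B) :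
    y ^ orderOf x = 1 := by
  obtain ⟨C, hC, hxyC⟩ := hcov (x * y)
  obtain ⟨D, hD, hyD⟩ := hcov y
  have hDB : B ≠ D := by
    rintro rfl
    exact hy hyD
  have h1 : y ^ orderOf x ∈ C := by
    have : (x * y) ^ orderOf x = y ^ orderOf x := by
      rw [mul_pow, pow_orderOf_eq_one, one_mul]
    rw [← this]
    exact C.pow_mem hxyC _
  have h2 : y ^ orderOf x ∈ D := D.pow_mem hyD _
  by_cases hCD : C = D
  · subst hCD
    have hxC : x ∈ C := by
      have := C.mul_mem hxyC (C.inv_mem hyD)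
      simpa using this
    have : x ∈ B ⊓ C := ⟨hx, hxC⟩
    rw [hdisj B hB C hC hDB] at this
    exact absurd (Subgroup.mem_bot.mp this) hx1
  · have : y ^ orderOf x ∈ C ⊓ D := ⟨h1, h2⟩
    rw [hdisj C hC D hD hCD] at this
    exact Subgroup.mem_bot.mp this

/-- A finite abelian group that is the union of a family of proper subgroups any two of which intersect trivially is elementary abelian: its exponent is a prime. -/
theorem result {G : Type*} [CommGroup G] [Finite G] (𝓑 : Set (Subgroup G)) (hprop : ∀ B ∈ 𝓑, B ≠ ⊤)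
    (hcov : ∀ g : G, ∃ B ∈ 𝓑, g ∈ B) (hdisj : ∀ B ∈ 𝓑, ∀ C ∈ 𝓑, B ≠ C → B ⊓ C = ⊥) :
    (Monoid.exponent G).Prime := by
  -- orders of a nontrivial element of a part and of an element outside agree
  have key : ∀ B ∈ 𝓑, ∀ x ∈ B, x ≠ 1 → ∀ y : G, y ∉ B → orderOf x = orderOf y := by
    intro B hB x hx hx1 y hy
    have h1 : orderOf y ∣ orderOf x :=
      orderOf_dvd_of_pow_eq_one (pow_orderOf_eq_one_of_not_mem 𝓑 hcov hdisj hB hx hx1 hy)
    obtain ⟨D, hD, hyD⟩ := hcov y
    have hDB : B ≠ D := by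
      rintro rfl
      exact hy hyD
    have hy1 : y ≠ 1 := by
      rintro rfl
      exact hy B.one_mem
    have hxD : x ∉ D := by
      intro hxD
      have : x ∈ B ⊓ D := ⟨hx, hxD⟩
      rw [hdisj B hB D hD hDB] at this
      exact hx1 (Subgroup.mem_bot.mp this)
    have h2 : orderOf x ∣ orderOf y :=
      orderOf_dvd_of_pow_eq_one (pow_orderOf_eq_one_of_not_mem 𝓑 hcov hdisj hD hyD hy1 hxD)
    exact Nat.dvd_antisymm h2 h1
  -- pick a part `D` and a nontrivial element `y` of it, and `x` outside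
  obtain ⟨B₀, hB₀, -⟩ := hcov 1
  obtain ⟨y, hy⟩ : ∃ y : G, y ∉ B₀ := by
    by_contra h
    push Not at h
    exact hprop B₀ hB₀ (Subgroup.eq_top_iff' B₀ |>.mpr h)
  have hy1 : y ≠ 1 := by
    rintro rfl
    exact hy B₀.one_mem
  obtain ⟨D, hD, hyD⟩ := hcov y
  obtain ⟨x, hx⟩ : ∃ x : G, x ∉ D := by
    by_contra h
    push Not at h
    exact hprop D hD (Subgroup.eq_top_iff' D |>.mpr h)
  have hxy : orderOf y = orderOf x := key D hD y hyD hy1 x hx
  have hn0 : orderOf y ≠ 0 := (orderOf_pos y).ne'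
  have hn1 : orderOf y ≠ 1 := by
    intro h
    exact hy1 (orderOf_eq_one_iff.mp h)
  -- the order of `y` is prime
  have hprime : (orderOf y).Prime := by
    obtain ⟨p, hp, hpn⟩ := Nat.exists_prime_and_dvd hn1
    have hord : orderOf (y ^ (orderOf y / p)) = p := orderOf_pow_orderOf_div hn0 hpn
    have hz1 : y ^ (orderOf y / p) ≠ 1 := by
      intro h
      rw [h, orderOf_one] at hord
      exact hp.one_lt.ne hord
    have := key D hD (y ^ (orderOf y / p)) (D.pow_mem hyD _) hz1 x hx
    rw [hord, ← hxy] at this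
    rw [← this]
    exact hp
  -- every element is killed by the order of `y`
  have hall : ∀ g : G, g ^ orderOf y = 1 := by
    intro g
    by_cases hg : g ∈ D
    · by_cases hg1 : g = 1
      · rw [hg1, one_pow]
      · have := key D hD g hg hg1 x hx
        rw [hxy, ← this]
        exact pow_orderOf_eq_one g
    · exact pow_orderOf_eq_one_of_not_mem 𝓑 hcov hdisj hD hyD hy1 hg
  have hdvd : Monoid.exponent G ∣ orderOf y := Monoid.exponent_dvd_of_forall_pow_eq_one hall
  rcases (Nat.dvd_prime hprime).mp hdvd with h | h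
  · exfalso
    have hsub : Subsingleton G := Monoid.exp_eq_one_iff.mp h
    exact hy1 (Subsingleton.elim y 1)
  · rw [h]
    exact hprime

end Cfsg.Agent.S3889
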