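import Mathlib

/-! Helper lemmas on involutions (helper6). -/

set_option autoImplicit false

namespace Cfsg.Agent.H6

variable {G : Type*} [Group G]

lemma mem_cent_single {g x : G} : g ∈ Subgroup.centralizer ({x} : Set G) ↔ x * g = g * x := by
  simp [Subgroup.mem_centralizer_iff]

lemma orderOf_two_iff {x : G} : orderOf x = 2 ↔ x ^ 2 = 1 ∧ x ≠ 1 := by
  have : Fact (Nat.Prime 2) := ⟨Nat.prime_two⟩
  exact orderOf_eq_prime_iff

lemma sq_of_orderOf_two {x : G} (h : orderOf x = 2) : x * x = 1 := by
  have := (orderOf_two_iff.mp h).1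
  rwa [pow_two] at this

lemma ne_one_of_orderOf_two {x : G} (h : orderOf x = 2) : x ≠ 1 := (orderOf_two_iff.mp h).2

lemma inv_of_orderOf_two {x : G} (h : orderOf x = 2) : x⁻¹ = x :=
  inv_eq_of_mul_eq_one_left (sq_of_orderOf_two h)

lemma orderOf_two_of_mul_self {x : G} (h : x * x = 1) (h1 : x ≠ 1) : orderOf x = 2 :=
  orderOf_two_iff.mpr ⟨by rw [pow_two]; exact h, h1⟩

/-- The set of ordered pairs of involutions with product `x`. -/
abbrev InvPairs (x : G) : Type _ :=
  {p : G × G // orderOf p.1 = 2 ∧ orderOf p.2 = 2 ∧ p.1 * p.2 = x}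

/-- First component of a pair of involutions with product `x` inverts `x`. -/
lemma invPairs_fst_inverts {x : G} (p : InvPairs x) : p.1.1 * x * (p.1.1)⁻¹ = x⁻¹ := by
  obtain ⟨⟨u, v⟩, hu, hv, huv⟩ := p
  simp only at hu hv huv ⊢
  subst huv
  have hu' := sq_of_orderOf_two hu
  have hui := inv_of_orderOf_two hu
  have hvi := inv_of_orderOf_two hv
  rw [mul_inv_rev, hui, hvi]
  calc u * (u * v) * u = (u * u) * v * u := by group
    _ = v * u := by rw [hu']; group

/-- For `x² ≠ 1`, pairs of involutions with product `x` correspond to involutions inverting `x`. -/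
def invPairsEquivInverting (x : G) (hx : x ^ 2 ≠ 1) :
    InvPairs x ≃ {t : G // orderOf t = 2 ∧ t * x * t⁻¹ = x⁻¹} where
  toFun p := ⟨p.1.1, p.2.1, invPairs_fst_inverts p⟩
  invFun t := ⟨(t.1, t.1 * x), t.2.1, by
    obtain ⟨t, ht, htx⟩ := t
    have hti := inv_of_orderOf_two ht
    have ht' := sq_of_orderOf_two ht
    rw [hti] at htx
    refine ⟨?_, ?_⟩
    · apply orderOf_two_of_mul_self
      · calc t * x * (t * x) = (t * x * t) * x := by group
          _ = 1 := by rw [htx]; group
      · intro h
        apply hx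
        have : x = t := by
          have : x = t⁻¹ := eq_inv_of_mul_eq_one_right h
          rw [this, hti]
        rw [this, pow_two, ht']
    · simp only
      rw [← mul_assoc, ht', one_mul]⟩
  left_inv p := by
    obtain ⟨⟨u, v⟩, hu, hv, huv⟩ := p
    simp only at hu hv huv ⊢
    subst huv
    have hu' := sq_of_orderOf_two hu
    apply Subtype.ext
    simp only [Prod.mk.injEq, true_and]
    rw [← mul_assoc, hu', one_mul]
  right_inv t := by
    apply Subtype.ext
    rfl

/-- For an involution `x`, pairs of involutions with product `x` together with one extra point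
correspond to involutions commuting with `x`. -/
noncomputable def invPairsOptionEquivCommuting (x : G) (hx : orderOf x = 2) :
    Option (InvPairs x) ≃ {t : G // orderOf t = 2 ∧ Commute t x} := by
  classical
  exact
  { toFun := fun o => match o with
      | none => ⟨x, hx, Commute.refl x⟩
      | some p => ⟨p.1.1, p.2.1, by
          have h := invPairs_fst_inverts p
          rw [inv_of_orderOf_two hx] at h
          show p.1.1 * x = x * p.1.1
          calc p.1.1 * x = p.1.1 * x * (p.1.1)⁻¹ * p.1.1 := by group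
            _ = x * p.1.1 := by rw [h]⟩
    invFun := fun t => if h : t.1 = x then none else some ⟨(t.1, t.1 * x), t.2.1, by
      obtain ⟨t, ht, htx⟩ := t
      have ht' := sq_of_orderOf_two ht
      have hx' := sq_of_orderOf_two hx
      simp only at h ⊢
      refine ⟨?_, ?_⟩
      · apply orderOf_two_of_mul_self
        · have e : t * x = x * t := htx
          calc t * x * (t * x) = t * (x * t) * x := by group
            _ = t * (t * x) * x := by rw [e]
            _ = (t * t) * (x * x) := by group
            _ = 1 := by rw [ht', hx']; group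
        · intro h1
          apply h
          have : t = x⁻¹ := eq_inv_of_mul_eq_one_left h1
          rw [this, inv_of_orderOf_two hx]
      · rw [← mul_assoc, ht', one_mul]⟩
    left_inv := by
      intro o
      cases o with
      | none => simp
      | some p =>
        obtain ⟨⟨u, v⟩, hu, hv, huv⟩ := p
        simp only at hu hv huv ⊢
        subst huv
        have hu' := sq_of_orderOf_two hu
        have hne : ¬ u = u * v := by
          intro h
          have : v = 1 := by
            have := mul_left_cancel (a := u) (b := 1) (c := v) (by rw [mul_one]; exact h)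
            exact this.symm
          exact ne_one_of_orderOf_two hv this
        simp only [hne, dite_false, Option.some.injEq]
        apply Subtype.ext
        simp only [Prod.mk.injEq, true_and]
        rw [← mul_assoc, hu', one_mul]
    right_inv := by
      intro t
      by_cases h : t.1 = x
      · simp only [h, dite_true]
        exact Subtype.ext h.symm
      · simp only [h, dite_false] }

/-- If `x` is conjugate to `x⁻¹`, the elements inverting `x` form a coset of the centralizer. -/
def invertingEquivCentralizer (x g₀ : G) (hg₀ : g₀ * x * g₀⁻¹ = x⁻¹) :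
    {g : G // g * x * g⁻¹ = x⁻¹} ≃ Subgroup.centralizer ({x} : Set G) where
  toFun g := ⟨g₀⁻¹ * g.1, by
    rw [mem_cent_single]
    have h1 : g.1 * x * (g.1)⁻¹ = x⁻¹ := g.2
    have h2 : g.1 * x = x⁻¹ * g.1 := by
      calc g.1 * x = g.1 * x * (g.1)⁻¹ * g.1 := by group
        _ = x⁻¹ * g.1 := by rw [h1]
    have h3 : x * g₀⁻¹ = g₀⁻¹ * x⁻¹ := by
      calc x * g₀⁻¹ = g₀⁻¹ * (g₀ * x * g₀⁻¹) := by group
        _ = g₀⁻¹ * x⁻¹ := by rw [hg₀]
    calc x * (g₀⁻¹ * g.1) = (x * g₀⁻¹) * g.1 := by group
      _ = g₀⁻¹ * (x⁻¹ * g.1) := by rw [h3]; group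
      _ = g₀⁻¹ * g.1 * x := by rw [← h2]; group⟩
  invFun c := ⟨g₀ * c.1, by
    have hc : x * c.1 = c.1 * x := mem_cent_single.mp c.2
    calc g₀ * c.1 * x * (g₀ * c.1)⁻¹ = g₀ * (c.1 * x) * (c.1)⁻¹ * g₀⁻¹ := by group
      _ = g₀ * (x * c.1) * (c.1)⁻¹ * g₀⁻¹ := by rw [hc]
      _ = g₀ * x * g₀⁻¹ := by group
      _ = x⁻¹ := hg₀⟩
  left_inv g := by apply Subtype.ext; simp
  right_inv c := by apply Subtype.ext; simp

lemma card_inverting_eq [Finite G] (x : G) (hreal : IsConj x x⁻¹) :
    Nat.card {g : G // g * x * g⁻¹ = x⁻¹} = Nat.card (Subgroup.centralizer ({x} : Set G)) := by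
  obtain ⟨g₀, hg₀⟩ := isConj_iff.mp hreal
  exact Nat.card_congr (invertingEquivCentralizer x g₀ hg₀)

lemma card_invPairs_le [Finite G] (x : G) :
    Nat.card (InvPairs x) ≤ Nat.card (Subgroup.centralizer ({x} : Set G)) := by
  by_cases hreal : IsConj x x⁻¹
  · rw [← card_inverting_eq x hreal]
    apply Nat.card_le_card_of_injective (fun p : InvPairs x =>
      (⟨p.1.1, invPairs_fst_inverts p⟩ : {g : G // g * x * g⁻¹ = x⁻¹}))
    intro p q h
    obtain ⟨⟨u, v⟩, hu, hv, huv⟩ := p
    obtain ⟨⟨u', v'⟩, hu', hv', huv'⟩ := q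
    simp only [Subtype.mk.injEq] at h
    subst h
    apply Subtype.ext
    simp only [Prod.mk.injEq, true_and]
    simp only at huv huv'
    exact mul_left_cancel (huv.trans huv'.symm)
  · have : IsEmpty (InvPairs x) := by
      constructor
      intro p
      exact hreal (isConj_iff.mpr ⟨p.1.1, invPairs_fst_inverts p⟩)
    simp

lemma card_invPairs_eq_zero [Finite G] (x : G) (hreal : ¬ IsConj x x⁻¹) :
    Nat.card (InvPairs x) = 0 := by
  have : IsEmpty (InvPairs x) := by
    constructor
    intro p
    exact hreal (isConj_iff.mpr ⟨p.1.1, invPairs_fst_inverts p⟩)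
  simp

lemma card_invPairs_add_one [Finite G] (x : G) (hx : orderOf x = 2) :
    Nat.card (InvPairs x) + 1 = Nat.card {t : G // orderOf t = 2 ∧ Commute t x} := by
  rw [← Nat.card_congr (invPairsOptionEquivCommuting x hx)]
  simp

lemma card_invPairs_add_two_le [Finite G] (x : G) (hx : orderOf x = 2) :
    Nat.card (InvPairs x) + 2 ≤ Nat.card (Subgroup.centralizer ({x} : Set G)) := by
  classical
  have h1 := card_invPairs_add_one x hx
  have h2 : Nat.card {t : G // orderOf t = 2 ∧ Commute t x} + 1 ≤
      Nat.card (Subgroup.centralizer ({x} : Set G)) := by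
    have : Nat.card (Option {t : G // orderOf t = 2 ∧ Commute t x}) =
        Nat.card {t : G // orderOf t = 2 ∧ Commute t x} + 1 := by
      simp
    rw [← this]
    apply Nat.card_le_card_of_injective (fun o : Option {t : G // orderOf t = 2 ∧ Commute t x} =>
      match o with
      | none => (1 : Subgroup.centralizer ({x} : Set G))
      | some t => ⟨t.1, mem_cent_single.mpr t.2.2.symm.eq⟩)
    intro a b h
    cases a with
    | none =>
      cases b with
      | none => rfl
      | some t =>
        exfalso
        simp only at h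
        have : (1 : G) = t.1 := congrArg Subtype.val h
        exact ne_one_of_orderOf_two t.2.1 this.symm
    | some s =>
      cases b with
      | none =>
        exfalso
        simp only at h
        have : s.1 = (1 : G) := congrArg Subtype.val h
        exact ne_one_of_orderOf_two s.2.1 this
      | some t =>
        simp only at h
        have : s.1 = t.1 := congrArg (fun c : Subgroup.centralizer ({x} : Set G) => (c : G)) h
        exact congrArg some (Subtype.ext this)
  omega

/-- If `g` inverts `x` then `g²` commutes with `x`. -/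
lemma sq_commute_of_inverts {g x : G} (hg : g * x * g⁻¹ = x⁻¹) : Commute (g ^ 2) x := by
  show g ^ 2 * x = x * g ^ 2
  have h1 : g * x = x⁻¹ * g := by
    calc g * x = g * x * g⁻¹ * g := by group
      _ = x⁻¹ * g := by rw [hg]
  have h2 : g * x⁻¹ = x * g := by
    have h3 : g * x⁻¹ * g⁻¹ = x := by
      have := congrArg Inv.inv hg
      simpa [mul_assoc] using this
    calc g * x⁻¹ = g * x⁻¹ * g⁻¹ * g := by group
      _ = x * g := by rw [h3]
  calc g ^ 2 * x = g * (g * x) := by rw [pow_two, mul_assoc]
    _ = g * (x⁻¹ * g) := by rw [h1]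
    _ = (g * x⁻¹) * g := by rw [mul_assoc]
    _ = x * g * g := by rw [h2]
    _ = x * g ^ 2 := by rw [pow_two, mul_assoc]

/-- If `g` inverts `x` then so does every odd power of `g`. -/
lemma odd_pow_inverts {g x : G} (hg : g * x * g⁻¹ = x⁻¹) {j : ℕ} (hj : Odd j) :
    g ^ j * x * (g ^ j)⁻¹ = x⁻¹ := by
  obtain ⟨i, rfl⟩ := hj
  have hc : Commute ((g ^ 2) ^ i) x := (sq_commute_of_inverts hg).pow_left i
  have hc' : Commute ((g ^ 2) ^ i) x⁻¹ := hc.inv_right
  have e : g ^ (2 * i + 1) = (g ^ 2) ^ i * g := by
    rw [pow_succ, pow_mul]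
  rw [e]
  calc (g ^ 2) ^ i * g * x * ((g ^ 2) ^ i * g)⁻¹
      = (g ^ 2) ^ i * (g * x * g⁻¹) * ((g ^ 2) ^ i)⁻¹ := by group
    _ = (g ^ 2) ^ i * x⁻¹ * ((g ^ 2) ^ i)⁻¹ := by rw [hg]
    _ = x⁻¹ * (g ^ 2) ^ i * ((g ^ 2) ^ i)⁻¹ := by rw [hc'.eq]
    _ = x⁻¹ := by group

lemma orderOf_conj_eq (g x : G) : orderOf (g * x * g⁻¹) = orderOf x := by
  have := MulEquiv.orderOf_eq (MulAut.conj g) x
  simpa [MulAut.conj_apply] using this

lemma orderOf_conj_eq' (g x : G) : orderOf (g⁻¹ * x * g) = orderOf x := by
  have := orderOf_conj_eq g⁻¹ x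
  rwa [inv_inv] at this

end Cfsg.Agent.H6
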