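import Mathlib
import Cfsg.Prelude.Def_Involutions
import Cfsg.Agent.H6Inv

/-! Helper lemmas on strongly embedded subgroups (helper6). -/

set_option autoImplicit false

namespace Cfsg.Agent.H6

variable {G : Type*} [Group G]

lemma mem_map_conj {H : Subgroup G} {g x : G} :
    x ∈ H.map (MulAut.conj g).toMonoidHom ↔ g⁻¹ * x * g ∈ H := by
  constructor
  · rintro ⟨h, hh, rfl⟩
    have : g⁻¹ * (g * h * g⁻¹) * g = h := by group
    simpa [MulAut.conj_apply, this] using hh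
  · intro hx
    refine ⟨g⁻¹ * x * g, hx, ?_⟩
    simp [MulAut.conj_apply, mul_assoc]

/-- Strong embedding criterion in terms of involutions. -/
lemma stronglyEmbedded_iff [Finite G] (H : Subgroup G) :
    (∀ g : G, g ∉ H → Odd (Nat.card ↥(H ⊓ H.map (MulAut.conj g).toMonoidHom))) ↔
    (∀ g : G, g ∉ H → ∀ t ∈ H, orderOf t = 2 → g⁻¹ * t * g ∉ H) := by
  constructor
  · intro h g hg t ht hto hcon
    have hmem : t ∈ H ⊓ H.map (MulAut.conj g).toMonoidHom :=
      ⟨ht, mem_map_conj.mpr hcon⟩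
    have ho : orderOf (⟨t, hmem⟩ : ↥(H ⊓ H.map (MulAut.conj g).toMonoidHom)) = 2 := by
      rw [← hto]; exact Subgroup.orderOf_mk t hmem
    have h2 : 2 ∣ Nat.card ↥(H ⊓ H.map (MulAut.conj g).toMonoidHom) :=
      ho ▸ orderOf_dvd_natCard _
    exact (Nat.not_even_iff_odd.mpr (h g hg)) (even_iff_two_dvd.mpr h2)
  · intro h g hg
    by_contra hcon
    rw [Nat.not_odd_iff_even] at hcon
    have : Fact (Nat.Prime 2) := ⟨Nat.prime_two⟩
    obtain ⟨k, hk⟩ := exists_prime_orderOf_dvd_card' 2 (even_iff_two_dvd.mp hcon)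
    have hk' : orderOf (k : G) = 2 := by rw [Subgroup.orderOf_coe]; exact hk
    exact h g hg k.1 k.2.1 hk' (mem_map_conj.mp k.2.2)

lemma isStronglyEmbedded_iff [Finite G] (H : Subgroup G) (hH : H ≠ ⊤) (heven : Even (Nat.card H)) :
    Cfsg.IsStronglyEmbedded H ↔
    (∀ g : G, g ∉ H → ∀ t ∈ H, orderOf t = 2 → g⁻¹ * t * g ∉ H) := by
  rw [← stronglyEmbedded_iff]
  unfold Cfsg.IsStronglyEmbedded
  constructor
  · exact fun h => h.2.2
  · exact fun h => ⟨hH, heven, h⟩

end Cfsg.Agent.H6
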