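import Mathlib
import Cfsg.Statements.S3975

set_option autoImplicit false
open scoped Pointwise
open Cfsg

namespace Cfsg.Agent.S3975

/-- `C(p^β m - 1, p^β - 1) ≡ 1 (mod p)`. -/
theorem choose_pred_modEq_one (p : ℕ) [Fact p.Prime] :
    ∀ (β m : ℕ), 0 < m → (p ^ β * m - 1).choose (p ^ β - 1) ≡ 1 [MOD p] := by
  have hp : p.Prime := Fact.out
  intro β
  induction β with
  | zero => intro m _; simp [Nat.ModEq]
  | succ β ih =>
    intro m hm
    have hpos : 0 < p ^ β * m := Nat.mul_pos (pow_pos hp.pos β) hm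
    have hpos' : 0 < p ^ β := pow_pos hp.pos β
    have e1 : p ^ (β + 1) * m - 1 = p * (p ^ β * m - 1) + (p - 1) := by
      have h1 : p ^ (β + 1) * m = p * (p ^ β * m) := by rw [pow_succ]; ring
      rw [h1]
      obtain ⟨a, ha⟩ : ∃ a, p ^ β * m = a + 1 := ⟨p ^ β * m - 1, by omega⟩
      obtain ⟨b, hb⟩ : ∃ b, p = b + 1 := ⟨p - 1, by have := hp.pos; omega⟩
      rw [ha, hb]
      simp only [Nat.add_sub_cancel]
      ring_nf
      omega
    have e2 : p ^ (β + 1) - 1 = p * (p ^ β - 1) + (p - 1) := by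
      have h1 : p ^ (β + 1) = p * p ^ β := by rw [pow_succ]; ring
      rw [h1]
      obtain ⟨a, ha⟩ : ∃ a, p ^ β = a + 1 := ⟨p ^ β - 1, by omega⟩
      obtain ⟨b, hb⟩ : ∃ b, p = b + 1 := ⟨p - 1, by have := hp.pos; omega⟩
      rw [ha, hb]
      simp only [Nat.add_sub_cancel]
      ring_nf
      omega
    have hlt : p - 1 < p := Nat.sub_lt hp.pos Nat.one_pos
    have m1 : (p ^ (β + 1) * m - 1) % p = p - 1 := by
      rw [e1, Nat.mul_add_mod, Nat.mod_eq_of_lt hlt]
    have m2 : (p ^ (β + 1) - 1) % p = p - 1 := by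
      rw [e2, Nat.mul_add_mod, Nat.mod_eq_of_lt hlt]
    have d1 : (p ^ (β + 1) * m - 1) / p = p ^ β * m - 1 := by
      rw [e1, Nat.mul_add_div hp.pos, Nat.div_eq_of_lt hlt, add_zero]
    have d2 : (p ^ (β + 1) - 1) / p = p ^ β - 1 := by
      rw [e2, Nat.mul_add_div hp.pos, Nat.div_eq_of_lt hlt, add_zero]
    have key := Choose.choose_modEq_choose_mod_mul_choose_div_nat
      (n := p ^ (β + 1) * m - 1) (k := p ^ (β + 1) - 1) (p := p)
    rw [m1, m2, d1, d2, Nat.choose_self, one_mul] at key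
    exact key.trans (ih m hm)

section

variable {G : Type*} [Group G]

/-- left cosets of subgroups of order `q` -/
def cosets (G : Type*) [Group G] (q : ℕ) : Set (Set G) :=
  {X | ∃ H : Subgroup G, Nat.card H = q ∧ ∃ g : G, X = g • (H : Set G)}

/-- the subsets of size `q` that are not cosets of subgroups of order `q`, as a `G`-set -/
def Y (G : Type*) [Group G] (q : ℕ) : SubMulAction G (Set G) where
  carrier := {X | X.ncard = q} \ cosets G q
  smul_mem' g X hX := by
    refine ⟨?_, ?_⟩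
    · show (g • X).ncard = q
      rw [Set.ncard_smul_set]; exact hX.1
    · rintro ⟨H, hH, g', hg'⟩
      apply hX.2
      refine ⟨H, hH, g⁻¹ * g', ?_⟩
      rw [mul_smul, ← hg', inv_smul_smul]

theorem card_stabilizer_dvd [Finite G] (X : Set G) :
    Nat.card (MulAction.stabilizer G X) ∣ X.ncard := by
  set S := MulAction.stabilizer G X with hSdef
  have h1 : (QuotientGroup.mk : G → G ⧸ S) ⁻¹' ((QuotientGroup.mk : G → G ⧸ S) '' X⁻¹) = X⁻¹ := by
    apply Set.Subset.antisymm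
    · rintro g ⟨a, ha, hag⟩
      have h2 : a⁻¹ * g ∈ S := QuotientGroup.eq.1 hag
      rw [Set.mem_inv] at ha ⊢
      have h3 : (a⁻¹ * g)⁻¹ • X = X := MulAction.mem_stabilizer_iff.1 (S.inv_mem h2)
      have h4 : (a⁻¹ * g)⁻¹ • a⁻¹ ∈ (a⁻¹ * g)⁻¹ • X := Set.smul_mem_smul_set ha
      rw [h3] at h4
      have h5 : (a⁻¹ * g)⁻¹ • a⁻¹ = g⁻¹ := by simp [smul_eq_mul]
      rwa [h5] at h4
    · exact Set.subset_preimage_image _ _
  have h2 := QuotientGroup.card_preimage_mk S ((QuotientGroup.mk : G → G ⧸ S) '' X⁻¹)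
  rw [h1, Nat.card_coe_set_eq, Set.ncard_inv] at h2
  exact Dvd.intro _ h2.symm

theorem orbit_mul_stab {α : Type*} [MulAction G α] (x : α) :
    (MulAction.orbit G x).ncard * Nat.card (MulAction.stabilizer G x) = Nat.card G := by
  rw [← MulAction.index_stabilizer, mul_comm]; exact Subgroup.card_mul_index _

theorem mem_cosets_of_stab [Finite G] (q : ℕ) (hq : q ≠ 0) (X : Set G) (hX : X.ncard = q)
    (hS : Nat.card (MulAction.stabilizer G X) = q) : X ∈ cosets G q := by
  have hne : X.Nonempty := by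
    apply Set.nonempty_of_ncard_ne_zero
    rw [hX]; exact hq
  obtain ⟨x, hx⟩ := hne
  set S := MulAction.stabilizer G X with hSdef
  have hcard : Nat.card (S.map (MulAut.conj x⁻¹).toMonoidHom) = q := by
    rw [← hS]
    exact Nat.card_congr (S.equivMapOfInjective _ (MulAut.conj x⁻¹).injective).symm.toEquiv
  refine ⟨S.map (MulAut.conj x⁻¹).toMonoidHom, hcard, x, ?_⟩
  symm
  apply Set.eq_of_subset_of_ncard_le
  · rintro y hy
    rw [Set.mem_smul_set_iff_inv_smul_mem] at hy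
    obtain ⟨s, hs, hsy⟩ := hy
    have hsy' : x⁻¹ * s * x⁻¹⁻¹ = x⁻¹ * y := hsy
    have hy' : y = s • x := by
      rw [smul_eq_mul]
      calc y = x * (x⁻¹ * y) := by group
        _ = x * (x⁻¹ * s * x⁻¹⁻¹) := by rw [hsy']
        _ = s * x := by group
    rw [hy']
    have h3 : s • X = X := MulAction.mem_stabilizer_iff.1 hs
    rw [← h3]
    exact Set.smul_mem_smul_set hx
  · rw [Set.ncard_smul_set, hX, ← hcard]
    exact (Nat.card_coe_set_eq _).le
  · exact Set.toFinite _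

theorem stab_card_lt [Finite G] (p β : ℕ) (hp : p.Prime) (X : Set G) (hX : X.ncard = p ^ β)
    (hXc : X ∉ cosets G (p ^ β)) :
    ∃ γ, γ < β ∧ Nat.card (MulAction.stabilizer G X) = p ^ γ := by
  have h1 := card_stabilizer_dvd X
  rw [hX] at h1
  obtain ⟨γ, hγ, hγ'⟩ := (Nat.dvd_prime_pow hp).1 h1
  refine ⟨γ, lt_of_le_of_ne hγ ?_, hγ'⟩
  rintro rfl
  exact hXc (mem_cosets_of_stab _ (pow_pos hp.pos _).ne' X hX hγ')

theorem stabilizer_coe (H : Subgroup G) : MulAction.stabilizer G (H : Set G) = H := by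
  ext s
  rw [MulAction.mem_stabilizer_iff]
  constructor
  · intro h
    have h1 : s • (1 : G) ∈ s • (H : Set G) := Set.smul_mem_smul_set H.one_mem
    rw [h] at h1
    simpa using h1
  · intro hs
    ext y
    rw [Set.mem_smul_set_iff_inv_smul_mem, smul_eq_mul, SetLike.mem_coe, SetLike.mem_coe]
    exact H.mul_mem_cancel_left (H.inv_mem hs)

theorem eq_of_coset_eq (H H' : Subgroup G) (g g' : G)
    (h : g • (H : Set G) = g' • (H' : Set G)) : H = H' := by
  have h1 : (H : Set G) = (g⁻¹ * g') • (H' : Set G) := by rw [mul_smul, ← h, inv_smul_smul]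
  have h2 : (g⁻¹ * g')⁻¹ • (1 : G) ∈ (H' : Set G) := by
    rw [← Set.mem_smul_set_iff_inv_smul_mem, ← h1]; exact H.one_mem
  have h3 : g⁻¹ * g' ∈ H' := by
    have : (g⁻¹ * g')⁻¹ ∈ H' := by simpa using h2
    exact (H'.inv_mem_iff).1 this
  have h4 : (g⁻¹ * g') • (H' : Set G) = H' :=
    MulAction.mem_stabilizer_iff.1 (by rw [stabilizer_coe]; exact h3)
  exact SetLike.coe_injective (h1.trans h4)

theorem ncard_cosets [Finite G] (q u : ℕ) (hq : q ≠ 0) (hn : Nat.card G = u * q) :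
    (cosets G q).ncard = Nat.card {H : Subgroup G // Nat.card H = q} * u := by
  classical
  haveI : Fintype {H : Subgroup G // Nat.card H = q} := Fintype.ofFinite _
  let f : (Σ H : {H : Subgroup G // Nat.card H = q},
      MulAction.orbit G ((H : Subgroup G) : Set G)) → Set G := fun x => x.2
  have hf : Function.Injective f := by
    rintro ⟨⟨H, hH⟩, ⟨X, hX⟩⟩ ⟨⟨H', hH'⟩, ⟨X', hX'⟩⟩ hxx
    simp only [f] at hxx
    subst hxx
    obtain ⟨g, hg⟩ := MulAction.mem_orbit_iff.1 hX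
    obtain ⟨g', hg'⟩ := MulAction.mem_orbit_iff.1 hX'
    have := eq_of_coset_eq H H' g g' (hg.trans hg'.symm)
    subst this
    rfl
  have hrange : Set.range f = cosets G q := by
    ext X
    constructor
    · rintro ⟨⟨⟨H, hH⟩, ⟨X', hX'⟩⟩, rfl⟩
      obtain ⟨g, hg⟩ := MulAction.mem_orbit_iff.1 hX'
      exact ⟨H, hH, g, hg.symm⟩
    · rintro ⟨H, hH, g, rfl⟩
      exact ⟨⟨⟨H, hH⟩, ⟨g • (H : Set G), MulAction.mem_orbit _ _⟩⟩, rfl⟩
  rw [← hrange, ← Nat.card_coe_set_eq, Nat.card_range_of_injective hf, Nat.card_sigma]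
  have hu : ∀ H : {H : Subgroup G // Nat.card H = q},
      Nat.card (MulAction.orbit G ((H : Subgroup G) : Set G)) = u := by
    rintro ⟨H, hH⟩
    have h1 := orbit_mul_stab (G := G) (H : Set G)
    rw [stabilizer_coe, hH, hn] at h1
    rw [Nat.card_coe_set_eq]
    exact Nat.eq_of_mul_eq_mul_right (Nat.pos_of_ne_zero hq) h1
  simp only [hu, Finset.sum_const, Finset.card_univ, smul_eq_mul]
  rw [Nat.card_eq_fintype_card]

theorem dvd_card_of_orbits {α : Type*} [MulAction G α] [Finite α] (d : ℕ)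
    (h : ∀ a : α, d ∣ Nat.card (MulAction.orbit G a)) : d ∣ Nat.card α := by
  classical
  haveI : Fintype (MulAction.orbitRel.Quotient G α) := Fintype.ofFinite _
  rw [Nat.card_congr (MulAction.selfEquivSigmaOrbits G α), Nat.card_sigma]
  exact Finset.dvd_sum (fun ω _ => h _)

theorem dvd_card_Y [Finite G] (p β u : ℕ) (hp : p.Prime) (hn : Nat.card G = u * p ^ β) :
    p * u ∣ Nat.card ↥(Y G (p ^ β)) := by
  apply dvd_card_of_orbits (G := G)
  intro y
  have h1 := orbit_mul_stab (G := G) y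
  rw [SubMulAction.stabilizer_of_subMul] at h1
  obtain ⟨γ, hγ, hγ'⟩ := stab_card_lt p β hp (y : Set G) y.2.1 y.2.2
  rw [hγ', hn] at h1
  obtain ⟨δ, rfl⟩ : ∃ δ, β = γ + δ + 1 := ⟨β - γ - 1, by omega⟩
  have h2 : (MulAction.orbit G y).ncard = u * p ^ (δ + 1) := by
    apply Nat.eq_of_mul_eq_mul_right (pow_pos hp.pos γ)
    rw [h1]; ring
  rw [Nat.card_coe_set_eq, h2]
  exact ⟨p ^ δ, by ring⟩

theorem ncard_subsets [Finite G] (q : ℕ) :
    ({X : Set G | X.ncard = q}).ncard = (Nat.card G).choose q := by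
  classical
  haveI := Fintype.ofFinite G
  rw [← Nat.card_coe_set_eq, Nat.card_eq_fintype_card (α := G), ← Fintype.card_finset_len,
    ← Nat.card_eq_fintype_card]
  exact (Nat.card_congr (Equiv.subtypeEquiv Fintype.finsetEquivSet
    (fun s => by simp [Set.ncard_coe_finset]))).symm

end

theorem result {G : Type*} [Group G] [Finite G] (p β : ℕ) (hp : p.Prime) (hdiv : p ^ β ∣ Nat.card G) : Nat.card {H : Subgroup G // Nat.card H = p ^ β} ≡ 1 [MOD p] := by
  haveI : Fact p.Prime := ⟨hp⟩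
  obtain ⟨u, hu⟩ := hdiv
  have hn : Nat.card G = u * p ^ β := by rw [hu, mul_comm]
  have hGpos : 0 < Nat.card G := Nat.card_pos
  have hupos : 0 < u := by
    rcases Nat.eq_zero_or_pos u with h | h
    · rw [h, zero_mul] at hn; omega
    · exact h
  have hqpos : 0 < p ^ β := pow_pos hp.pos β
  have h1 := ncard_subsets (G := G) (p ^ β)
  have hsub : cosets G (p ^ β) ⊆ {X : Set G | X.ncard = p ^ β} := by
    rintro X ⟨H, hH, g, rfl⟩
    show (g • (H : Set G)).ncard = p ^ β
    rw [Set.ncard_smul_set, ← hH]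
    exact (Nat.card_coe_set_eq _).symm
  have h2 := Set.ncard_sdiff_add_ncard_of_subset hsub (Set.toFinite _)
  have h3 := ncard_cosets (G := G) (p ^ β) u hqpos.ne' hn
  obtain ⟨K, hK⟩ := dvd_card_Y (G := G) p β u hp hn
  have h5 : Nat.card ↥(Y G (p ^ β)) = ({X : Set G | X.ncard = p ^ β} \ cosets G (p ^ β)).ncard :=
    Nat.card_coe_set_eq _
  have h6 : (Nat.card G).choose (p ^ β) = u * (Nat.card G - 1).choose (p ^ β - 1) := by
    have h := Nat.add_one_mul_choose_eq (Nat.card G - 1) (p ^ β - 1)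
    rw [Nat.sub_add_cancel hGpos, Nat.sub_add_cancel hqpos] at h
    apply Nat.eq_of_mul_eq_mul_right hqpos
    rw [← h, hn]; ring
  have h7 := choose_pred_modEq_one p β u hupos
  rw [← hu] at h7
  have h8 : (Nat.card G - 1).choose (p ^ β - 1) =
      p * K + Nat.card {H : Subgroup G // Nat.card H = p ^ β} := by
    apply Nat.eq_of_mul_eq_mul_left hupos
    rw [← h6, ← h1, ← h2, ← h5, hK, h3]; ring
  rw [h8] at h7
  have h9 : p * K + Nat.card {H : Subgroup G // Nat.card H = p ^ β} ≡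
      Nat.card {H : Subgroup G // Nat.card H = p ^ β} [MOD p] := by
    have : p * K ≡ 0 [MOD p] := (Nat.modEq_zero_iff_dvd).2 (dvd_mul_right p K)
    simpa using this.add_right (Nat.card {H : Subgroup G // Nat.card H = p ^ β})
  exact h9.symm.trans h7

end Cfsg.Agent.S3975
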