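import Mathlib
import Cfsg.Statements.S3976
import Cfsg.Agent.S3975

set_option autoImplicit false
open scoped Pointwise
open Cfsg

namespace Cfsg.Agent.S3976

/-- the subgroups of order `q`, as a `ConjAct G`-set -/
def subs (G : Type*) [Group G] (q : ℕ) : SubMulAction (ConjAct G) (Subgroup G) where
  carrier := {H | Nat.card H = q}
  smul_mem' g H hH := by
    show Nat.card ↥(g • H) = q
    rw [← Nat.card_congr (Subgroup.equivSMul g H).toEquiv]
    exact hH

theorem result {G : Type*} [Group G] [Finite G] (p m s : ℕ) (hp : p.Prime) (hG : Nat.card G = p ^ m) (hs : s ≤ m) : Nat.card {H : Subgroup G // H.Normal ∧ Nat.card H = p ^ s} ≡ 1 [MOD p] := by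
  haveI : Fact p.Prime := ⟨hp⟩
  have hPG : IsPGroup p (ConjAct G) := IsPGroup.of_card (n := m) hG
  have h1 := hPG.card_modEq_card_fixedPoints (↥(subs G (p ^ s)))
  have h2 : Nat.card ↥(subs G (p ^ s)) ≡ 1 [MOD p] :=
    Cfsg.Agent.S3975.result (G := G) p s hp (by rw [hG]; exact pow_dvd_pow p hs)
  have h3 : Nat.card (MulAction.fixedPoints (ConjAct G) (↥(subs G (p ^ s)))) =
      Nat.card {H : Subgroup G // H.Normal ∧ Nat.card H = p ^ s} := by
    refine Nat.card_congr
      { toFun := fun x => ⟨(x.1 : Subgroup G), ?_, x.1.2⟩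
        invFun := fun H => ⟨⟨H.1, H.2.2⟩, ?_⟩
        left_inv := fun x => rfl
        right_inv := fun H => rfl }
    · apply Subgroup.Normal.of_conjugate_fixed
      intro g
      have h4 := (MulAction.mem_fixedPoints.1 x.2) (ConjAct.toConjAct g)
      have h5 : ((ConjAct.toConjAct g • x.1 : ↥(subs G (p ^ s))) : Subgroup G) = (x.1 : Subgroup G) :=
        congrArg Subtype.val h4
      exact h5
    · rw [MulAction.mem_fixedPoints]
      intro g
      apply Subtype.ext
      exact Subgroup.Normal.conjAct H.2.1 g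
  rw [← h3]
  exact h1.symm.trans h2

end Cfsg.Agent.S3976
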