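import Mathlib
import Cfsg.Statements.S3977

set_option autoImplicit false
open Cfsg

namespace Cfsg.Agent.S3977

universe u

theorem a_pow_y {G : Type*} [Group G] (a y w : G) (hwa : Commute w a)
    (h : a * y = w * (y * a)) : ∀ n : ℕ, a ^ n * y = w ^ n * (y * a ^ n) := by
  intro n
  induction n with
  | zero => simp
  | succ n ih =>
    calc a ^ (n + 1) * y = a * (a ^ n * y) := by rw [pow_succ', mul_assoc]
      _ = a * (w ^ n * (y * a ^ n)) := by rw [ih]
      _ = w ^ n * (a * y) * a ^ n := by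
        rw [← mul_assoc a, ← (hwa.pow_left n).eq, mul_assoc, mul_assoc, mul_assoc]
      _ = w ^ n * (w * (y * a)) * a ^ n := by rw [h]
      _ = w ^ (n + 1) * (y * a ^ (n + 1)) := by
        rw [pow_succ w, pow_succ' a]; simp only [mul_assoc]

theorem a_y_pow {G : Type*} [Group G] (a y w : G) (hwy : Commute w y)
    (h : a * y = w * (y * a)) : ∀ n : ℕ, a * y ^ n = w ^ n * (y ^ n * a) := by
  intro n
  induction n with
  | zero => simp
  | succ n ih =>
    calc a * y ^ (n + 1) = (a * y ^ n) * y := by rw [pow_succ, mul_assoc]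
      _ = w ^ n * (y ^ n * a) * y := by rw [ih]
      _ = w ^ n * (y ^ n * (a * y)) := by simp only [mul_assoc]
      _ = w ^ n * (y ^ n * (w * (y * a))) := by rw [h]
      _ = w ^ n * ((y ^ n * w) * (y * a)) := by simp only [mul_assoc]
      _ = w ^ n * ((w * y ^ n) * (y * a)) := by rw [(hwy.pow_right n).eq]
      _ = w ^ (n + 1) * (y ^ (n + 1) * a) := by
        rw [pow_succ w, pow_succ y]; simp only [mul_assoc]

/-- the power formula in a group where the commutator `w` of `a` and `y` commutes with both -/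
theorem mul_pow_class2 {G : Type*} [Group G] (a y w : G) (hwa : Commute w a) (hwy : Commute w y)
    (h : a * y = w * (y * a)) : ∀ n : ℕ, (a * y) ^ n * w ^ (n.choose 2) = a ^ n * y ^ n := by
  intro n
  induction n with
  | zero => simp
  | succ n ih =>
    have hch : (n + 1).choose 2 = n + n.choose 2 := by
      rw [Nat.choose_succ_succ, Nat.choose_one_right]
    have c1 : Commute (w ^ (n.choose 2)) (a * y) := (hwa.mul_right hwy).pow_left _
    have c3 : Commute (w ^ n) (y ^ n * a * y) :=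
      (((hwy.pow_right n).mul_right hwa).mul_right hwy).pow_left n
    calc (a * y) ^ (n + 1) * w ^ ((n + 1).choose 2)
        = (a * y) ^ n * ((a * y) * (w ^ (n.choose 2) * w ^ n)) := by
          rw [hch, pow_succ, add_comm, pow_add]; simp only [mul_assoc]
      _ = (a * y) ^ n * ((w ^ (n.choose 2) * (a * y)) * w ^ n) := by
          rw [← mul_assoc (a * y), ← c1.eq]
      _ = ((a * y) ^ n * w ^ (n.choose 2)) * ((a * y) * w ^ n) := by simp only [mul_assoc]
      _ = (a ^ n * y ^ n) * ((a * y) * w ^ n) := by rw [ih]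
      _ = a ^ n * ((y ^ n * a * y) * w ^ n) := by simp only [mul_assoc]
      _ = a ^ n * (w ^ n * (y ^ n * a * y)) := by rw [c3.eq]
      _ = a ^ n * ((w ^ n * (y ^ n * a)) * y) := by simp only [mul_assoc]
      _ = a ^ n * ((a * y ^ n) * y) := by rw [← a_y_pow a y w hwy h n]
      _ = a ^ (n + 1) * y ^ (n + 1) := by
          rw [pow_succ a, pow_succ y]; simp only [mul_assoc]

/-- A group of order `p^(k+1)` with a unique subgroup of order `p^k` is cyclic. -/
theorem cyclic_of_unique_max {G : Type u} [Group G] [Finite G] (p k : ℕ) [Fact p.Prime]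
    (hG : Nat.card G = p ^ (k + 1))
    (huniq : ∀ H K : Subgroup G, Nat.card H = p ^ k → Nat.card K = p ^ k → H = K) :
    IsCyclic G := by
  have hp : p.Prime := Fact.out
  have hdvdG : p ^ k ∣ Nat.card G := by rw [hG]; exact pow_dvd_pow p (Nat.le_succ k)
  obtain ⟨M, hM⟩ := Sylow.exists_subgroup_card_pow_prime p hdvdG
  have hMne : M ≠ ⊤ := by
    intro h
    rw [h, Subgroup.card_top, hG] at hM
    have := Nat.pow_right_injective hp.two_le hM
    omega
  obtain ⟨x, hx⟩ : ∃ x, x ∉ M := by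
    by_contra h
    exact hMne (eq_top_iff.2 fun y _ => by_contra fun hy => h ⟨y, hy⟩)
  rw [isCyclic_iff_exists_zpowers_eq_top]
  refine ⟨x, ?_⟩
  by_contra hne
  have hdvd : Nat.card (Subgroup.zpowers x) ∣ p ^ (k + 1) := by
    rw [← hG]; exact Subgroup.card_subgroup_dvd_card _
  obtain ⟨j, hj, hj'⟩ := (Nat.dvd_prime_pow hp).1 hdvd
  have hjk : j ≤ k := by
    by_contra hjk
    have : j = k + 1 := by omega
    subst this
    exact hne (Subgroup.eq_top_of_card_eq _ (by rw [hj', hG]))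
  obtain ⟨K, hK, hxK⟩ := Sylow.exists_subgroup_card_pow_prime_le p hdvdG (Subgroup.zpowers x) hj' hjk
  have hKM := huniq K M hK hM
  exact hx (hKM ▸ hxK (Subgroup.mem_zpowers x))

theorem zpowers_coe_generator {G : Type u} [Group G] (M : Subgroup G) (a' : ↥M)
    (ha' : Subgroup.zpowers a' = ⊤) : M = Subgroup.zpowers (a' : G) := by
  have h := congrArg (Subgroup.map M.subtype) ha'
  rw [MonoidHom.map_zpowers, ← MonoidHom.range_eq_map, Subgroup.range_subtype] at h
  exact h.symm

theorem mem_zpowers_pow_of_coprime {G : Type u} [Group G] [Finite G] (b : G) (j : ℕ)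
    (hcop : (orderOf b).Coprime j) : b ∈ Subgroup.zpowers (b ^ j) := by
  have ho : orderOf (b ^ j) = orderOf b := hcop.orderOf_pow
  have hle : Subgroup.zpowers (b ^ j) ≤ Subgroup.zpowers b :=
    Subgroup.zpowers_le.2 (Subgroup.pow_mem _ (Subgroup.mem_zpowers b) j)
  have heq : Subgroup.zpowers (b ^ j) = Subgroup.zpowers b :=
    Subgroup.eq_of_le_of_card_ge hle (by rw [Nat.card_zpowers, Nat.card_zpowers, ho])
  rw [heq]; exact Subgroup.mem_zpowers b

theorem two_max_false {G : Type u} [Group G] [Finite G] (p s k : ℕ) [Fact p.Prime] (hs : 1 ≤ s)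
    (h2 : p ≠ 2 ∨ 2 ≤ s) (hsk : s < k) (hG : Nat.card G = p ^ (k + 1))
    (huniq : ∀ H K : Subgroup G, Nat.card H = p ^ s → Nat.card K = p ^ s → H = K)
    (M1 M2 : Subgroup G) (hM1 : Nat.card M1 = p ^ k) (hM2 : Nat.card M2 = p ^ k) (hne : M1 ≠ M2)
    (hc1 : IsCyclic M1) (hc2 : IsCyclic M2) : False := by
  have hp : p.Prime := Fact.out
  have hk2 : 2 ≤ k := by omega
  obtain ⟨a', ha'⟩ := (isCyclic_iff_exists_zpowers_eq_top (α := ↥M1)).1 hc1
  obtain ⟨b', hb'⟩ := (isCyclic_iff_exists_zpowers_eq_top (α := ↥M2)).1 hc2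
  have hM1z := zpowers_coe_generator M1 a' ha'
  have hM2z := zpowers_coe_generator M2 b' hb'
  set a : G := (a' : G) with hadef
  set b : G := (b' : G) with hbdef
  have haM1 : a ∈ M1 := a'.2
  have hbM2 : b ∈ M2 := b'.2
  have hoa : orderOf a = p ^ k := by rw [← Nat.card_zpowers, ← hM1z, hM1]
  have hob : orderOf b = p ^ k := by rw [← Nat.card_zpowers, ← hM2z, hM2]
  have hminfac : (Nat.card G).minFac = p := by rw [hG]; exact hp.pow_minFac (Nat.succ_ne_zero k)
  have hidx : ∀ M : Subgroup G, Nat.card M = p ^ k → M.index = p := by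
    intro M hM
    have h := M.card_mul_index
    rw [hM, hG, pow_succ] at h
    exact Nat.eq_of_mul_eq_mul_left (pow_pos hp.pos k) h
  have hn1 : M1.Normal := Subgroup.normal_of_index_eq_minFac_card (by rw [hidx M1 hM1, hminfac])
  have hn2 : M2.Normal := Subgroup.normal_of_index_eq_minFac_card (by rw [hidx M2 hM2, hminfac])
  have hapM2 : a ^ p ∈ M2 := by
    have h := Subgroup.pow_index_mem M2 a
    rwa [hidx M2 hM2] at h
  obtain ⟨j, hj⟩ : ∃ j : ℕ, b ^ j = a ^ p := by
    rw [hM2z] at hapM2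
    exact (Submonoid.mem_powers_iff _ _).1 ((mem_powers_iff_mem_zpowers).2 hapM2)
  have hnle : ¬ M2 ≤ M1 := fun h =>
    hne (Subgroup.eq_of_le_of_card_ge h (by rw [hM1, hM2])).symm
  have hbM1 : b ∉ M1 := fun h => hnle (by rw [hM2z, Subgroup.zpowers_le]; exact h)
  have hpj : p ∣ j := by
    by_contra hpj
    have hcop : (orderOf b).Coprime j := by
      rw [hob]; exact Nat.Coprime.pow_left k ((Nat.Prime.coprime_iff_not_dvd hp).2 hpj)
    have h1 := mem_zpowers_pow_of_coprime b j hcop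
    rw [hj] at h1
    exact hbM1 ((Subgroup.zpowers_le.2 (M1.pow_mem haM1 p)) h1)
  obtain ⟨k1, rfl⟩ := hpj
  have hpk1 : ¬ p ∣ k1 := by
    rintro ⟨k2, rfl⟩
    have h1 : a ^ (p ^ (k - 1)) = 1 := by
      have e : p ^ (k - 1) = p * p ^ (k - 2) := by
        rw [← pow_succ']; congr 1; omega
      rw [e, pow_mul, ← hj, ← pow_mul]
      have e2 : p * (p * k2) * p ^ (k - 2) = p ^ k * k2 := by
        have e3 : p ^ k = p ^ (k - 2) * p * p := by
          rw [← pow_succ, ← pow_succ]; congr 1; omega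
        rw [e3]; ring
      rw [e2, pow_mul, ← hob, pow_orderOf_eq_one, one_pow]
    have hdvd := orderOf_dvd_of_pow_eq_one h1
    rw [hoa] at hdvd
    have := (Nat.pow_dvd_pow_iff_le_right hp.one_lt).1 hdvd
    omega
  set b1 : G := b ^ k1 with hb1
  have hb1p : b1 ^ p = a ^ p := by rw [hb1, ← pow_mul, mul_comm, hj]
  have hb1M2 : b1 ∈ M2 := M2.pow_mem hbM2 k1
  have hb1M1 : b1 ∉ M1 := by
    intro h
    have hcop : (orderOf b).Coprime k1 := by
      rw [hob]; exact Nat.Coprime.pow_left k ((Nat.Prime.coprime_iff_not_dvd hp).2 hpk1)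
    have h1 := mem_zpowers_pow_of_coprime b k1 hcop
    exact hbM1 ((Subgroup.zpowers_le.2 h) h1)
  set y : G := b1⁻¹ with hy
  have hyM2 : y ∈ M2 := M2.inv_mem hb1M2
  set w : G := a * y * a⁻¹ * y⁻¹ with hw
  have hwM1 : w ∈ M1 := by
    have h1 : y * a⁻¹ * y⁻¹ ∈ M1 := hn1.conj_mem _ (M1.inv_mem haM1) y
    have e : w = a * (y * a⁻¹ * y⁻¹) := by rw [hw]; group
    rw [e]; exact M1.mul_mem haM1 h1
  have hwM2 : w ∈ M2 := by
    have h1 : a * y * a⁻¹ ∈ M2 := hn2.conj_mem _ hyM2 a
    exact M2.mul_mem h1 (M2.inv_mem hyM2)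
  have comm1 : ∀ g ∈ M1, ∀ h ∈ M1, Commute g h := by
    intro g hg h hh
    rw [hM1z] at hg hh
    obtain ⟨i, rfl⟩ := Subgroup.mem_zpowers_iff.1 hg
    obtain ⟨l, rfl⟩ := Subgroup.mem_zpowers_iff.1 hh
    exact (Commute.refl _).zpow_zpow i l
  have comm2 : ∀ g ∈ M2, ∀ h ∈ M2, Commute g h := by
    intro g hg h hh
    rw [hM2z] at hg hh
    obtain ⟨i, rfl⟩ := Subgroup.mem_zpowers_iff.1 hg
    obtain ⟨l, rfl⟩ := Subgroup.mem_zpowers_iff.1 hh
    exact (Commute.refl _).zpow_zpow i l
  have hwa : Commute w a := comm1 w hwM1 a haM1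
  have hwy : Commute w y := comm2 w hwM2 y hyM2
  have hrel : a * y = w * (y * a) := by rw [hw]; group
  have hwp : w ^ p = 1 := by
    have h1 := a_pow_y a y w hwa hrel p
    have h3 : Commute (a ^ p) y := comm2 _ (hb1p ▸ M2.pow_mem hb1M2 p) _ hyM2
    rw [h3.eq] at h1
    exact (mul_eq_right).1 h1.symm
  set c : G := a * y with hc
  have hcM1 : c ∉ M1 := by
    intro h
    apply hb1M1
    have e : b1 = c⁻¹ * a := by rw [hc, hy]; group
    rw [e]; exact M1.mul_mem (M1.inv_mem h) haM1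
  have hformula := mul_pow_class2 a y w hwa hwy hrel p
  have hayp : a ^ p * y ^ p = 1 := by
    rw [hy, inv_pow, hb1p, mul_inv_cancel]
  rw [hayp] at hformula
  have hcs : ∃ i, i ≤ s ∧ Nat.card (Subgroup.zpowers c) = p ^ i := by
    rcases h2 with hp2 | hs2
    · have hdiv : p ∣ p.choose 2 :=
        hp.dvd_choose_self (by norm_num) (lt_of_le_of_ne hp.two_le (Ne.symm hp2))
      obtain ⟨t, ht⟩ := hdiv
      rw [ht, pow_mul, hwp, one_pow, mul_one] at hformula
      have h1 := orderOf_dvd_of_pow_eq_one hformula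
      rcases (Nat.dvd_prime hp).1 h1 with h | h
      · exact ⟨0, Nat.zero_le _, by rw [Nat.card_zpowers, h, pow_zero]⟩
      · exact ⟨1, hs, by rw [Nat.card_zpowers, h, pow_one]⟩
    · have hc2 : c ^ (p ^ 2) = 1 := by
        have e1 : c ^ p = (w ^ (p.choose 2))⁻¹ := eq_inv_of_mul_eq_one_left hformula
        rw [pow_two, pow_mul, e1, inv_pow, ← pow_mul, mul_comm, pow_mul, hwp, one_pow, inv_one]
      have h1 := orderOf_dvd_of_pow_eq_one hc2
      obtain ⟨i, hi, hi'⟩ := (Nat.dvd_prime_pow hp).1 h1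
      exact ⟨i, le_trans hi hs2, by rw [Nat.card_zpowers, hi']⟩
  obtain ⟨i, his, hci⟩ := hcs
  have hdvdG : p ^ s ∣ Nat.card G := by rw [hG]; exact pow_dvd_pow p (by omega)
  obtain ⟨K, hK, hcK⟩ := Sylow.exists_subgroup_card_pow_prime_le p hdvdG (Subgroup.zpowers c) hci his
  obtain ⟨K0, hK0⟩ := Sylow.exists_subgroup_card_pow_prime (G := ↥M1) p
    (show p ^ s ∣ Nat.card ↥M1 by rw [hM1]; exact pow_dvd_pow p hsk.le)
  have hK' : Nat.card (K0.map M1.subtype) = p ^ s := by
    rw [← hK0]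
    exact Nat.card_congr (K0.equivMapOfInjective _ M1.subtype_injective).symm.toEquiv
  have hKK := huniq K (K0.map M1.subtype) hK hK'
  apply hcM1
  have hcmem : c ∈ K := hcK (Subgroup.mem_zpowers c)
  rw [hKK] at hcmem
  obtain ⟨x, -, hx⟩ := hcmem
  rw [← hx]
  exact x.2

theorem main (p s : ℕ) [Fact p.Prime] (hs : 1 ≤ s) (h2 : p ≠ 2 ∨ 2 ≤ s) :
    ∀ (m : ℕ) (G : Type u) [Group G] [Finite G], Nat.card G = p ^ m → s < m →
      (∀ H K : Subgroup G, Nat.card H = p ^ s → Nat.card K = p ^ s → H = K) → IsCyclic G := by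
  intro m
  induction m using Nat.strong_induction_on with
  | _ m ih =>
    intro G _ _ hG hsm huniq
    obtain ⟨k, rfl⟩ : ∃ k, m = k + 1 := ⟨m - 1, by omega⟩
    by_cases hk : k = s
    · subst hk; exact cyclic_of_unique_max p k hG huniq
    have hsk : s < k := by omega
    have hcyc : ∀ M : Subgroup G, Nat.card M = p ^ k → IsCyclic M := by
      intro M hM
      refine ih k (Nat.lt_succ_self k) ↥M hM hsk ?_
      intro H K hH hK
      have h1 : Nat.card (H.map M.subtype) = p ^ s := by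
        rw [← hH]
        exact Nat.card_congr (H.equivMapOfInjective _ M.subtype_injective).symm.toEquiv
      have h2 : Nat.card (K.map M.subtype) = p ^ s := by
        rw [← hK]
        exact Nat.card_congr (K.equivMapOfInjective _ M.subtype_injective).symm.toEquiv
      exact Subgroup.map_injective M.subtype_injective (huniq _ _ h1 h2)
    by_cases hall : ∀ H K : Subgroup G, Nat.card H = p ^ k → Nat.card K = p ^ k → H = K
    · exact cyclic_of_unique_max p k hG hall
    exfalso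
    have hall' : ∃ M1 M2 : Subgroup G, Nat.card M1 = p ^ k ∧ Nat.card M2 = p ^ k ∧ M1 ≠ M2 := by
      by_contra h
      apply hall
      intro H K hH hK
      by_contra hHK
      exact h ⟨H, K, hH, hK, hHK⟩
    obtain ⟨M1, M2, hM1, hM2, hne⟩ := hall'
    exact two_max_false p s k hs h2 hsk hG huniq M1 M2 hM1 hM2 hne (hcyc M1 hM1) (hcyc M2 hM2)

theorem result {G : Type*} [Group G] [Finite G] (p m s : ℕ) (hp : p.Prime) (hG : Nat.card G = p ^ m) (hs : 1 ≤ s) (hsm : s < m) (h2 : p ≠ 2 ∨ 2 ≤ s) (huniq : ∀ H K : Subgroup G, Nat.card H = p ^ s → Nat.card K = p ^ s → H = K) : IsCyclic G := by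
  haveI : Fact p.Prime := ⟨hp⟩
  exact main p s hs h2 m G hG hsm huniq

end Cfsg.Agent.S3977
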