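import Mathlib
import Cfsg.Statements.S4023
import Cfsg.Agent.S0016
import Cfsg.Agent.S3976
import Cfsg.Agent.S3977
import Cfsg.Agent.H70.Frob

set_option autoImplicit false
open Cfsg

namespace Cfsg.Agent.S4023

universe u

section lemmas

variable {Q : Type u} [Group Q]

/-- Product formula `|HN| |H ∩ N| = |H| |N|` when `H` normalizes `N`. -/
theorem card_sup_mul_card_inf (H N : Subgroup Q)
    (h : H ≤ Subgroup.normalizer (N : Set Q)) :
    Nat.card ↥(H ⊔ N) * Nat.card ↥(H ⊓ N) = Nat.card H * Nat.card N := by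
  have := Subgroup.normal_subgroupOf_of_le_normalizer h
  have := Subgroup.normal_subgroupOf_sup_of_le_normalizer h
  have h1 : N.relIndex (H ⊔ N) = N.relIndex H :=
    (Nat.card_congr (QuotientGroup.quotientInfEquivProdNormalizerQuotient H N h).toEquiv).symm
  have h2 : Nat.card N * N.relIndex (H ⊔ N) = Nat.card ↥(H ⊔ N) := by
    rw [← Subgroup.relIndex_bot_left, ← Subgroup.relIndex_bot_left]
    exact Subgroup.relIndex_mul_relIndex ⊥ N (H ⊔ N) bot_le le_sup_right
  have h3 : Nat.card ↥(N ⊓ H) * N.relIndex H = Nat.card H := by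
    rw [← Subgroup.inf_relIndex_right N H, ← Subgroup.relIndex_bot_left, ← Subgroup.relIndex_bot_left]
    exact Subgroup.relIndex_mul_relIndex ⊥ (N ⊓ H) H bot_le inf_le_right
  rw [inf_comm H N, ← h2, h1]
  calc Nat.card ↥N * N.relIndex H * Nat.card ↥(N ⊓ H)
      = (Nat.card ↥(N ⊓ H) * N.relIndex H) * Nat.card N := by ring
    _ = Nat.card H * Nat.card N := by rw [h3]

theorem card_sup_le (H N : Subgroup Q) [Finite Q]
    (h : H ≤ Subgroup.normalizer (N : Set Q)) :
    Nat.card ↥(H ⊔ N) ≤ Nat.card H * Nat.card N := by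
  rw [← card_sup_mul_card_inf H N h]
  exact Nat.le_mul_of_pos_right _ Nat.card_pos

/-- A subgroup generated by pairwise commuting elements is commutative. -/
theorem comm_closure (S : Set Q) (hS : ∀ a ∈ S, ∀ b ∈ S, a * b = b * a) :
    ∀ a ∈ Subgroup.closure S, ∀ b ∈ Subgroup.closure S, a * b = b * a := by
  have h1 : Subgroup.closure S ≤ Subgroup.centralizer S := by
    rw [Subgroup.closure_le]
    intro b hb
    rw [SetLike.mem_coe, Subgroup.mem_centralizer_iff]
    intro a ha
    exact hS a ha b hb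
  intro a ha b hb
  have hb' := h1 hb
  have h2 : Subgroup.closure S ≤ Subgroup.centralizer ({b} : Set Q) := by
    rw [Subgroup.closure_le]
    intro s hs
    rw [SetLike.mem_coe, Subgroup.mem_centralizer_iff]
    intro b' hb''
    rw [Set.mem_singleton_iff.1 hb'']
    rw [Subgroup.mem_centralizer_iff] at hb'
    exact (hb' s hs).symm
  have h3 := h2 ha
  rw [Subgroup.mem_centralizer_iff] at h3
  exact (h3 b rfl).symm

theorem comm_of_equiv {H K : Subgroup Q} (e : H ≃* K)
    (hK : ∀ a ∈ K, ∀ b ∈ K, a * b = b * a) : ∀ a ∈ H, ∀ b ∈ H, a * b = b * a := by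
  intro a ha b hb
  have h1 : e (⟨a, ha⟩ * ⟨b, hb⟩) = e (⟨b, hb⟩ * ⟨a, ha⟩) := by
    rw [map_mul, map_mul]
    exact Subtype.ext (hK _ (e ⟨a, ha⟩).2 _ (e ⟨b, hb⟩).2)
  exact congrArg Subtype.val (e.injective h1)

variable [Finite Q] {p : ℕ} [Fact p.Prime]

theorem card_eq_pow (hQ : IsPGroup p Q) (H : Subgroup Q) : ∃ j, Nat.card H = p ^ j :=
  IsPGroup.iff_card.1 (hQ.to_subgroup H)

/-- A proper inclusion of subgroups of a `p`-group multiplies the order by at least `p`. -/
theorem card_lt_mul (hQ : IsPGroup p Q) {H K : Subgroup Q} (hle : H ≤ K) (hne : H ≠ K) :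
    p * Nat.card H ≤ Nat.card K := by
  have hp : p.Prime := Fact.out
  obtain ⟨i, hi⟩ := card_eq_pow hQ H
  obtain ⟨j, hj⟩ := card_eq_pow hQ K
  have hdvd : Nat.card H ∣ Nat.card K := Subgroup.card_dvd_of_le hle
  rw [hi, hj] at hdvd ⊢
  have hij : i ≤ j := (Nat.pow_dvd_pow_iff_le_right hp.one_lt).1 hdvd
  have hij' : i ≠ j := by
    rintro rfl
    exact hne (Subgroup.eq_of_le_of_card_ge hle (by rw [hi, hj]))
  have : i + 1 ≤ j := by omega
  calc p * p ^ i = p ^ (i + 1) := by ring
    _ ≤ p ^ j := Nat.pow_le_pow_right hp.pos this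

/-- In a nonabelian `p`-group there is a non-central element all of whose commutators are
central. -/
theorem exists_second_center (hQ : IsPGroup p Q) (hab : ¬ ∀ a b : Q, a * b = b * a) :
    ∃ y : Q, y ∉ Subgroup.center Q ∧ ∀ g : Q, g * y * g⁻¹ * y⁻¹ ∈ Subgroup.center Q := by
  have hne : ∃ g : Q, g ∉ Subgroup.center Q := by
    by_contra hh
    apply hab
    intro a b
    have hb : b ∈ Subgroup.center Q := by_contra fun hb => hh ⟨b, hb⟩
    exact Subgroup.mem_center_iff.1 hb a
  obtain ⟨g0, hg0⟩ := hne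
  have hnt : Nontrivial (Q ⧸ Subgroup.center Q) :=
    ⟨⟨(g0 : Q ⧸ Subgroup.center Q), 1, fun h => hg0 ((QuotientGroup.eq_one_iff g0).1 h)⟩⟩
  have hP : IsPGroup p (Q ⧸ Subgroup.center Q) := hQ.to_quotient _
  have hcn := hP.center_nontrivial
  obtain ⟨ybar, hyc, hy1⟩ := (Subgroup.nontrivial_iff_exists_ne_one _).1 hcn
  obtain ⟨y, rfl⟩ := QuotientGroup.mk_surjective ybar
  refine ⟨y, fun h => hy1 ((QuotientGroup.eq_one_iff y).2 h), fun g => ?_⟩
  rw [← QuotientGroup.eq_one_iff]
  have := Subgroup.mem_center_iff.1 hyc (g : Q ⧸ Subgroup.center Q)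
  rw [QuotientGroup.mk_mul, QuotientGroup.mk_mul, QuotientGroup.mk_mul, QuotientGroup.mk_inv,
    QuotientGroup.mk_inv, this]
  group

/-- A nonabelian subgroup of order at most `p³` in a nonabelian `p`-group of exponent `p`. -/
theorem small_nonabelian (hQ : IsPGroup p Q) (hab : ¬ ∀ a b : Q, a * b = b * a)
    (hexp : ∀ x : Q, x ^ p = 1) :
    ∃ (H : Subgroup Q) (j : ℕ), j ≤ 3 ∧ Nat.card H = p ^ j ∧ ∃ a ∈ H, ∃ b ∈ H, a * b ≠ b * a := by
  have hp : p.Prime := Fact.out
  obtain ⟨y, hyc, hy⟩ := exists_second_center hQ hab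
  obtain ⟨x, hx⟩ : ∃ x : Q, x * y ≠ y * x := by
    by_contra hh
    exact hyc (Subgroup.mem_center_iff.2 fun g => by_contra fun hg => hh ⟨g, hg⟩)
  set w := x * y * x⁻¹ * y⁻¹ with hw
  have hwc : w ∈ Subgroup.center Q := hy x
  have hwcomm : ∀ g, g * w = w * g := Subgroup.mem_center_iff.1 hwc
  have hxy : x * y * x⁻¹ = w * y := by rw [hw]; group
  set M := Subgroup.zpowers y ⊔ Subgroup.zpowers w with hM
  have hyM : y ∈ M := (le_sup_left : Subgroup.zpowers y ≤ M) (Subgroup.mem_zpowers y)
  have hwM : w ∈ M := (le_sup_right : Subgroup.zpowers w ≤ M) (Subgroup.mem_zpowers w)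
  have hxN : x ∈ Subgroup.normalizer (M : Set Q) := by
    rw [Subgroup.mem_normalizer_iff_map_conj_eq]
    apply Subgroup.eq_of_le_of_card_ge
    · rw [hM, Subgroup.map_sup, MonoidHom.map_zpowers, MonoidHom.map_zpowers]
      refine sup_le (Subgroup.zpowers_le.2 ?_) (Subgroup.zpowers_le.2 ?_)
      · show x * y * x⁻¹ ∈ _
        rw [hxy]; exact Subgroup.mul_mem _ hwM hyM
      · show x * w * x⁻¹ ∈ _
        rw [hwcomm x, mul_inv_cancel_right]; exact hwM
    · rw [Subgroup.card_map_of_injective (MulAut.conj x).injective]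
  have hzN : Subgroup.zpowers x ≤ Subgroup.normalizer (M : Set Q) := Subgroup.zpowers_le.2 hxN
  have hord : ∀ g : Q, orderOf g ≤ p := fun g =>
    Nat.le_of_dvd hp.pos (orderOf_dvd_of_pow_eq_one (hexp g))
  have hwn : (Subgroup.zpowers w).Normal := ⟨fun c hc g => by
    have hcc := Subgroup.mem_center_iff.1 ((Subgroup.zpowers_le.2 hwc) hc) g
    rw [hcc, mul_inv_cancel_right]; exact hc⟩
  have hyN : Subgroup.zpowers y ≤ Subgroup.normalizer (Subgroup.zpowers w : Set Q) := by
    rw [Subgroup.normalizer_eq_top]; exact le_top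
  have hMcard : Nat.card M ≤ p * p :=
    (card_sup_le _ _ hyN).trans (Nat.mul_le_mul (by rw [Nat.card_zpowers]; exact hord y)
      (by rw [Nat.card_zpowers]; exact hord w))
  have hHcard : Nat.card ↥(Subgroup.zpowers x ⊔ M) ≤ p * (p * p) :=
    (card_sup_le _ _ hzN).trans (Nat.mul_le_mul (by rw [Nat.card_zpowers]; exact hord x) hMcard)
  obtain ⟨j, hj⟩ := card_eq_pow hQ (Subgroup.zpowers x ⊔ M)
  have hj3 : j ≤ 3 := by
    by_contra hcon
    have h1 : p ^ 4 ≤ p ^ j := Nat.pow_le_pow_right hp.pos (by omega)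
    have h2 : p ^ 3 < p ^ 4 := Nat.pow_lt_pow_right hp.one_lt (by norm_num)
    rw [hj] at hHcard
    have h3 : p * (p * p) = p ^ 3 := by ring
    omega
  exact ⟨Subgroup.zpowers x ⊔ M, j, hj3, hj, x,
    (le_sup_left : Subgroup.zpowers x ≤ _) (Subgroup.mem_zpowers x), y,
    (le_sup_right : M ≤ Subgroup.zpowers x ⊔ M) hyM, hx⟩

/-- An abelian subgroup of order `p³` in a nonabelian `p`-group of order at least `p⁴`. -/
theorem abelian_cube (hQ : IsPGroup p Q) (hab : ¬ ∀ a b : Q, a * b = b * a)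
    (h4 : p ^ 4 ∣ Nat.card Q) :
    ∃ B : Subgroup Q, Nat.card B = p ^ 3 ∧ ∀ a ∈ B, ∀ b ∈ B, a * b = b * a := by
  have hp : p.Prime := Fact.out
  obtain ⟨y, hyc, hy⟩ := exists_second_center hQ hab
  suffices hsuff : ∃ A : Subgroup Q, p ^ 3 ≤ Nat.card A ∧ ∀ a ∈ A, ∀ b ∈ A, a * b = b * a by
    obtain ⟨A, hA, hAc⟩ := hsuff
    obtain ⟨j, hj⟩ := card_eq_pow hQ A
    have hj3 : 3 ≤ j := by
      by_contra hcon
      have h1 : p ^ j < p ^ 3 := Nat.pow_lt_pow_right hp.one_lt (by omega)
      omega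
    have hdvd : p ^ 3 ∣ Nat.card A := by rw [hj]; exact pow_dvd_pow p hj3
    obtain ⟨K, hK⟩ := Sylow.exists_subgroup_card_pow_prime p hdvd
    refine ⟨K.map A.subtype, ?_, ?_⟩
    · rw [Subgroup.card_map_of_injective A.subtype_injective, hK]
    · rintro a ⟨a', -, rfl⟩ b ⟨b', -, rfl⟩
      exact hAc _ a'.2 _ b'.2
  have hnt : Nontrivial Q := by
    by_contra hh
    rw [not_nontrivial_iff_subsingleton] at hh
    exact hab (fun a b => by rw [Subsingleton.elim a b])
  have hcn := hQ.center_nontrivial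
  have hcen1 : Subgroup.center Q ≠ ⊥ := by
    intro h
    obtain ⟨c, hc, hc1⟩ := (Subgroup.nontrivial_iff_exists_ne_one _).1 hcn
    rw [h, Subgroup.mem_bot] at hc; exact hc1 hc
  have hcenp : p ≤ Nat.card (Subgroup.center Q) := by
    have h1 := card_lt_mul hQ (bot_le : (⊥ : Subgroup Q) ≤ Subgroup.center Q) (Ne.symm hcen1)
    rwa [Subgroup.card_bot, mul_one] at h1
  set S0 : Set Q := (Subgroup.center Q : Set Q) ∪ {y} with hS0
  have hS0c : ∀ a ∈ S0, ∀ b ∈ S0, a * b = b * a := by
    intro a ha b hb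
    rcases ha with ha | ha
    · exact (Subgroup.mem_center_iff.1 ha b).symm
    · rcases hb with hb | hb
      · exact Subgroup.mem_center_iff.1 hb a
      · rw [Set.mem_singleton_iff.1 ha, Set.mem_singleton_iff.1 hb]
  have hA0c := comm_closure S0 hS0c
  have hcA0 : Subgroup.center Q ≤ Subgroup.closure S0 :=
    fun c hc => Subgroup.subset_closure (Or.inl hc)
  have hyA0 : y ∈ Subgroup.closure S0 := Subgroup.subset_closure (Or.inr rfl)
  have hA0card : p * Nat.card (Subgroup.center Q) ≤ Nat.card (Subgroup.closure S0) :=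
    card_lt_mul hQ hcA0 (fun h => hyc (h ▸ hyA0))
  by_cases h3 : p ^ 3 ≤ Nat.card (Subgroup.closure S0)
  · exact ⟨Subgroup.closure S0, h3, hA0c⟩
  have hcenp' : Nat.card (Subgroup.center Q) = p := by
    obtain ⟨i, hi⟩ := card_eq_pow hQ (Subgroup.center Q)
    rw [hi] at hcenp hA0card ⊢
    have h1 : p * p ^ i < p * p ^ 2 := by
      have h2 : p * p ^ 2 = p ^ 3 := by ring
      omega
    have h2 : p ^ i < p ^ 2 := Nat.lt_of_mul_lt_mul_left h1
    have h3 : i < 2 := (Nat.pow_lt_pow_iff_right hp.one_lt).1 h2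
    have h4 : i ≠ 0 := by
      rintro rfl
      have := hp.one_lt
      simp at hcenp
      omega
    have h5 : i = 1 := by omega
    rw [h5, pow_one]
  have hconj : conjugatesOf y ⊆ (fun c => c * y) '' (Subgroup.center Q : Set Q) := by
    intro t ht
    obtain ⟨g, rfl⟩ := isConj_iff.1 ht
    exact ⟨g * y * g⁻¹ * y⁻¹, hy g, by group⟩
  have hidx : (Subgroup.centralizer ({y} : Set Q)).index ≤ p := by
    rw [Cfsg.Agent.H70.frob_class_card]
    calc (conjugatesOf y).ncard
        ≤ ((fun c => c * y) '' (Subgroup.center Q : Set Q)).ncard :=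
          Set.ncard_le_ncard hconj (Set.toFinite _)
      _ ≤ (Subgroup.center Q : Set Q).ncard := Set.ncard_image_le (Set.toFinite _)
      _ = p := by rw [← hcenp']; exact (Nat.card_coe_set_eq _).symm
  have hCcard : p ^ 3 ≤ Nat.card (Subgroup.centralizer ({y} : Set Q)) := by
    have h1 := Subgroup.card_mul_index (Subgroup.centralizer ({y} : Set Q))
    have h2 : p ^ 4 ≤ Nat.card Q := Nat.le_of_dvd Nat.card_pos h4
    by_contra hcon
    have hcon' : Nat.card (Subgroup.centralizer ({y} : Set Q)) < p ^ 3 := not_le.1 hcon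
    have h5 : Nat.card (Subgroup.centralizer ({y} : Set Q)) *
        (Subgroup.centralizer ({y} : Set Q)).index < p ^ 3 * p := by
      calc Nat.card (Subgroup.centralizer ({y} : Set Q)) *
            (Subgroup.centralizer ({y} : Set Q)).index
          ≤ Nat.card (Subgroup.centralizer ({y} : Set Q)) * p := Nat.mul_le_mul_left _ hidx
        _ < p ^ 3 * p := Nat.mul_lt_mul_of_pos_right hcon' hp.pos
    have h6 : p ^ 3 * p = p ^ 4 := by ring
    omega
  obtain ⟨u, huC, huA⟩ : ∃ u ∈ Subgroup.centralizer ({y} : Set Q), u ∉ Subgroup.closure S0 := by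
    by_contra hh
    have hle : Subgroup.centralizer ({y} : Set Q) ≤ Subgroup.closure S0 :=
      fun u hu => by_contra fun hu' => hh ⟨u, hu, hu'⟩
    have h1 := Subgroup.card_le_of_le hle
    omega
  have huy : y * u = u * y := by
    rw [Subgroup.mem_centralizer_iff] at huC; exact huC y rfl
  have hS1c : ∀ a ∈ S0 ∪ {u}, ∀ b ∈ S0 ∪ {u}, a * b = b * a := by
    intro a ha b hb
    rcases ha with ha | ha <;> rcases hb with hb | hb
    · exact hS0c a ha b hb
    · rw [Set.mem_singleton_iff.1 hb]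
      rcases ha with ha | ha
      · exact (Subgroup.mem_center_iff.1 ha u).symm
      · rw [Set.mem_singleton_iff.1 ha]; exact huy
    · rw [Set.mem_singleton_iff.1 ha]
      rcases hb with hb | hb
      · exact Subgroup.mem_center_iff.1 hb u
      · rw [Set.mem_singleton_iff.1 hb]; exact huy.symm
    · rw [Set.mem_singleton_iff.1 ha, Set.mem_singleton_iff.1 hb]
  refine ⟨Subgroup.closure (S0 ∪ {u}), ?_, comm_closure _ hS1c⟩
  have hle : Subgroup.closure S0 ≤ Subgroup.closure (S0 ∪ {u}) :=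
    Subgroup.closure_mono Set.subset_union_left
  have hne : Subgroup.closure S0 ≠ Subgroup.closure (S0 ∪ {u}) :=
    fun h => huA (h ▸ Subgroup.subset_closure (Or.inr rfl))
  have h1 := card_lt_mul hQ hle hne
  rw [hcenp'] at hA0card
  calc p ^ 3 = p * (p * p) := by ring
    _ ≤ p * Nat.card (Subgroup.closure S0) := Nat.mul_le_mul_left _ hA0card
    _ ≤ _ := h1

/-- If all subgroups of order `p²` are cyclic, there is only one subgroup of order `p`. -/
theorem unique_of_cyclic_sq (hQ : IsPGroup p Q)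
    (hcyc : ∀ H : Subgroup Q, Nat.card H = p ^ 2 → IsCyclic H) :
    ∀ H K : Subgroup Q, Nat.card H = p → Nat.card K = p → H = K := by
  have hp : p.Prime := Fact.out
  intro H K hH hK
  have hnt : Nontrivial Q := by
    by_contra hh
    rw [not_nontrivial_iff_subsingleton] at hh
    have h1 : Nat.card H ≤ Nat.card Q := Subgroup.card_le_card_group H
    have h2 : Nat.card Q ≤ 1 := Finite.card_le_one_iff_subsingleton.2 hh
    have := hp.one_lt
    omega
  have hcn := hQ.center_nontrivial
  have hpc : p ∣ Nat.card (Subgroup.center Q) := by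
    obtain ⟨i, hi⟩ := card_eq_pow hQ (Subgroup.center Q)
    rw [hi]
    have hi0 : i ≠ 0 := by
      rintro rfl
      rw [pow_zero] at hi
      exact (not_subsingleton (Subgroup.center Q)) (Finite.card_le_one_iff_subsingleton.1 hi.le)
    exact dvd_pow_self p hi0
  obtain ⟨z', hz'⟩ := exists_prime_orderOf_dvd_card' p hpc
  have hzo : orderOf (z' : Q) = p := by rw [Subgroup.orderOf_coe, hz']
  have hzc : (z' : Q) ∈ Subgroup.center Q := z'.2
  have hZle : Subgroup.zpowers (z' : Q) ≤ Subgroup.center Q := Subgroup.zpowers_le.2 hzc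
  have hZn : (Subgroup.zpowers (z' : Q)).Normal := ⟨fun c hc g => by
    have hcc := Subgroup.mem_center_iff.1 (hZle hc) g
    rw [hcc, mul_inv_cancel_right]; exact hc⟩
  have hZcard : Nat.card (Subgroup.zpowers (z' : Q)) = p := by rw [Nat.card_zpowers, hzo]
  have key : ∀ U : Subgroup Q, Nat.card U = p → U = Subgroup.zpowers (z' : Q) := by
    intro U hU
    by_contra hne
    have hinf : Nat.card ↥(U ⊓ Subgroup.zpowers (z' : Q)) = 1 := by
      have hdvd : Nat.card ↥(U ⊓ Subgroup.zpowers (z' : Q)) ∣ p :=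
        hU ▸ Subgroup.card_dvd_of_le inf_le_left
      rcases (Nat.dvd_prime hp).1 hdvd with h | h
      · exact h
      · exfalso
        have h1 : U ⊓ Subgroup.zpowers (z' : Q) = U :=
          Subgroup.eq_of_le_of_card_ge inf_le_left (by rw [h, hU])
        have h2 : U ≤ Subgroup.zpowers (z' : Q) := h1 ▸ inf_le_right
        exact hne (Subgroup.eq_of_le_of_card_ge h2 (by rw [hU, hZcard]))
    have hUN : U ≤ Subgroup.normalizer (Subgroup.zpowers (z' : Q) : Set Q) := by
      rw [Subgroup.normalizer_eq_top]; exact le_top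
    have hcard := card_sup_mul_card_inf U (Subgroup.zpowers (z' : Q)) hUN
    rw [hinf, mul_one, hU, hZcard] at hcard
    have hcyc' := hcyc (U ⊔ Subgroup.zpowers (z' : Q)) (by rw [hcard]; ring)
    obtain ⟨g, hg⟩ := hcyc'.exists_generator
    have hgo : orderOf g = p * p := by rw [orderOf_eq_card_of_forall_mem_zpowers hg, hcard]
    have hgp : (g : Q) ^ p = 1 := by
      obtain ⟨u, hu, c, hc, huc⟩ := Subgroup.mem_sup_of_normal_right.1 g.2
      rw [← huc]
      have hcomm : Commute u c := Subgroup.mem_center_iff.1 (hZle hc) u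
      rw [hcomm.mul_pow]
      have h1 : u ^ p = 1 := by
        have h := pow_card_eq_one' (G := U) (x := ⟨u, hu⟩)
        rw [hU] at h
        exact congrArg Subtype.val h
      have h2 : c ^ p = 1 := by
        have h := pow_card_eq_one' (G := Subgroup.zpowers (z' : Q)) (x := ⟨c, hc⟩)
        rw [hZcard] at h
        exact congrArg Subtype.val h
      rw [h1, h2, one_mul]
    have hgp' : g ^ p = 1 := Subtype.ext (by simpa using hgp)
    have h3 := orderOf_dvd_of_pow_eq_one hgp'
    rw [hgo] at h3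
    have h4 := Nat.le_of_dvd hp.pos h3
    nlinarith [hp.one_lt]
  rw [key H hH, key K hK]

/-- A `2`-group of order at least `16` with a unique involution in which subgroups of order `8`
are pairwise isomorphic is cyclic. -/
theorem cyclic_of_two_large (hQ : IsPGroup 2 Q) (m : ℕ) (hm : Nat.card Q = 2 ^ m) (hm4 : 4 ≤ m)
    (hiso : ∀ H K : Subgroup Q, Nat.card H = Nat.card K → Nonempty (H ≃* K))
    (huniq : ∀ H K : Subgroup Q, Nat.card H = 2 → Nat.card K = 2 → H = K)
    (hcyc : ∀ H : Subgroup Q, Nat.card H = 2 ^ 2 → IsCyclic H) : IsCyclic Q := by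
  by_contra hnc
  have h2 : Nat.Prime 2 := Nat.prime_two
  have hcount := Cfsg.Agent.S3976.result (G := Q) 2 m 2 h2 hm (by omega)
  have hne : Nonempty {H : Subgroup Q // H.Normal ∧ Nat.card H = 2 ^ 2} := by
    by_contra hh
    rw [not_nonempty_iff] at hh
    rw [Nat.card_of_isEmpty] at hcount
    exact absurd hcount (by decide)
  obtain ⟨⟨N, hNn, hNcard⟩⟩ := hne
  obtain ⟨C, hCcard, hCN⟩ : ∃ C : Subgroup Q, Nat.card C = 2 ^ 2 ∧ C ≠ N := by
    by_contra hh
    apply hnc
    refine Cfsg.Agent.S3977.main 2 2 (by norm_num) (Or.inr le_rfl) m Q hm (by omega) ?_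
    intro H K hH hK
    have h1 : H = N := by_contra fun h => hh ⟨H, hH, h⟩
    have h2 : K = N := by_contra fun h => hh ⟨K, hK, h⟩
    rw [h1, h2]
  obtain ⟨c', hc'⟩ := (hcyc N hNcard).exists_generator
  obtain ⟨d', hd'⟩ := (hcyc C hCcard).exists_generator
  have hNz : N = Subgroup.zpowers (c' : Q) :=
    Cfsg.Agent.S3977.zpowers_coe_generator N c' (eq_top_iff.2 fun x _ => hc' x)
  have hCz : C = Subgroup.zpowers (d' : Q) :=
    Cfsg.Agent.S3977.zpowers_coe_generator C d' (eq_top_iff.2 fun x _ => hd' x)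
  generalize (c' : Q) = c at hNz
  generalize (d' : Q) = d at hCz
  have hco : orderOf c = 4 := by
    rw [← Nat.card_zpowers, ← hNz, hNcard]; norm_num
  have hdo : orderOf d = 4 := by
    rw [← Nat.card_zpowers, ← hCz, hCcard]; norm_num
  have hc4 : c ^ 4 = 1 := hco ▸ pow_orderOf_eq_one c
  have hd4 : d ^ 4 = 1 := hdo ▸ pow_orderOf_eq_one d
  have hc2 : c ^ 2 ≠ 1 := by
    intro h
    have h' := Nat.le_of_dvd (by norm_num) (orderOf_dvd_of_pow_eq_one h)
    rw [hco] at h'; omega
  have hd2 : d ^ 2 ≠ 1 := by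
    intro h
    have h' := Nat.le_of_dvd (by norm_num) (orderOf_dvd_of_pow_eq_one h)
    rw [hdo] at h'; omega
  have hF2 : Fact (Nat.Prime 2) := ⟨h2⟩
  have hinv : ∀ t : Q, t ^ 2 = 1 → t ≠ 1 → t = c ^ 2 := by
    intro t ht ht1
    have ho : orderOf t = 2 := orderOf_eq_prime ht ht1
    have ho' : orderOf (c ^ 2) = 2 := orderOf_eq_prime (by rw [← pow_mul]; exact hc4) hc2
    have heq := huniq (Subgroup.zpowers t) (Subgroup.zpowers (c ^ 2))
      (by rw [Nat.card_zpowers, ho]) (by rw [Nat.card_zpowers, ho'])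
    have hmem : t ∈ Subgroup.zpowers (c ^ 2) := heq ▸ Subgroup.mem_zpowers t
    classical
    rw [mem_zpowers_iff_mem_range_orderOf, ho'] at hmem
    simp only [Finset.mem_image, Finset.mem_range] at hmem
    obtain ⟨k, hk, rfl⟩ := hmem
    interval_cases k
    · exact absurd (pow_zero _) ht1
    · exact pow_one _
  have hd2c2 : d ^ 2 = c ^ 2 := hinv (d ^ 2) (by rw [← pow_mul]; exact hd4) hd2
  have hNC : Nat.card ↥(C ⊓ N) = 2 := by
    have hmem : c ^ 2 ∈ C ⊓ N :=
      ⟨by rw [hCz, ← hd2c2]; exact Subgroup.pow_mem _ (Subgroup.mem_zpowers d) 2,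
        by rw [hNz]; exact Subgroup.pow_mem _ (Subgroup.mem_zpowers c) 2⟩
    have hne : C ⊓ N ≠ ⊥ := fun h => hc2 (by rw [h, Subgroup.mem_bot] at hmem; exact hmem)
    have hne2 : C ⊓ N ≠ C := by
      intro h
      have hle : C ≤ N := h ▸ inf_le_right
      exact hCN (Subgroup.eq_of_le_of_card_ge hle (by rw [hCcard, hNcard]))
    have h1 := card_lt_mul hQ (bot_le : ⊥ ≤ C ⊓ N) (Ne.symm hne)
    have h2' := card_lt_mul hQ (inf_le_left : C ⊓ N ≤ C) hne2
    rw [Subgroup.card_bot] at h1; rw [hCcard] at h2'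
    omega
  have hCNn : C ≤ Subgroup.normalizer (N : Set Q) := by
    rw [Subgroup.normalizer_eq_top]; exact le_top
  have hsup : Nat.card ↥(C ⊔ N) = 8 := by
    have h := card_sup_mul_card_inf C N hCNn
    rw [hNC, hCcard, hNcard] at h
    omega
  have hconj : conjugatesOf c ⊆ {c, c ^ 3} := by
    intro t ht
    obtain ⟨g, rfl⟩ := isConj_iff.1 ht
    have hmem : g * c * g⁻¹ ∈ N :=
      hNn.conj_mem c (by rw [hNz]; exact Subgroup.mem_zpowers c) g
    have ho : orderOf (g * c * g⁻¹) = 4 := by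
      rw [← hco, ← MulAut.conj_apply]; exact MulEquiv.orderOf_eq _ _
    rw [hNz] at hmem
    classical
    rw [mem_zpowers_iff_mem_range_orderOf, hco] at hmem
    simp only [Finset.mem_image, Finset.mem_range] at hmem
    obtain ⟨k, hk, hk'⟩ := hmem
    rw [← hk'] at ho ⊢
    interval_cases k
    · rw [pow_zero, orderOf_one] at ho; omega
    · left; exact pow_one c
    · exfalso
      have h' := Nat.le_of_dvd (by norm_num)
        (orderOf_dvd_of_pow_eq_one (show (c ^ 2) ^ 2 = 1 by rw [← pow_mul]; exact hc4))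
      rw [ho] at h'; omega
    · right; rfl
  have hidx : (Subgroup.centralizer ({c} : Set Q)).index ≤ 2 := by
    rw [Cfsg.Agent.H70.frob_class_card]
    calc (conjugatesOf c).ncard ≤ ({c, c ^ 3} : Set Q).ncard :=
          Set.ncard_le_ncard hconj (Set.toFinite _)
      _ ≤ 2 := (Set.ncard_insert_le c {c ^ 3}).trans (by rw [Set.ncard_singleton])
  have hCc : 8 ≤ Nat.card (Subgroup.centralizer ({c} : Set Q)) := by
    have h1 := Subgroup.card_mul_index (Subgroup.centralizer ({c} : Set Q))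
    have h16 : 16 ≤ Nat.card Q := by
      rw [hm]
      calc 16 = 2 ^ 4 := by norm_num
        _ ≤ 2 ^ m := Nat.pow_le_pow_right (by norm_num) hm4
    by_contra hcon
    have h5 : Nat.card (Subgroup.centralizer ({c} : Set Q)) *
        (Subgroup.centralizer ({c} : Set Q)).index ≤ 7 * 2 := Nat.mul_le_mul (by omega) hidx
    omega
  obtain ⟨u, huC, huN⟩ : ∃ u ∈ Subgroup.centralizer ({c} : Set Q), u ∉ N := by
    by_contra hh
    have hle : Subgroup.centralizer ({c} : Set Q) ≤ N :=
      fun u hu => by_contra fun hu' => hh ⟨u, hu, hu'⟩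
    have h1 := Subgroup.card_le_of_le hle
    rw [hNcard] at h1; omega
  have hcu : c * u = u * c := by
    rw [Subgroup.mem_centralizer_iff] at huC; exact huC c rfl
  have hSc : ∀ a ∈ ({c, u} : Set Q), ∀ b ∈ ({c, u} : Set Q), a * b = b * a := by
    intro a ha b hb
    rcases ha with ha | ha <;> rcases hb with hb | hb
    · rw [ha, hb]
    · rw [ha, Set.mem_singleton_iff.1 hb]; exact hcu
    · rw [Set.mem_singleton_iff.1 ha, hb]; exact hcu.symm
    · rw [Set.mem_singleton_iff.1 ha, Set.mem_singleton_iff.1 hb]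
  have hBc := comm_closure _ hSc
  have hNB : N ≤ Subgroup.closure ({c, u} : Set Q) := by
    rw [hNz, Subgroup.zpowers_le]; exact Subgroup.subset_closure (Or.inl rfl)
  have hNB' : N ≠ Subgroup.closure ({c, u} : Set Q) :=
    fun h => huN (h ▸ Subgroup.subset_closure (Or.inr rfl))
  have hBcard := card_lt_mul hQ hNB hNB'
  obtain ⟨j, hj⟩ := card_eq_pow hQ (Subgroup.closure ({c, u} : Set Q))
  have hj3 : 3 ≤ j := by
    by_contra hcon
    have h' : 2 ^ j < 2 ^ 3 := Nat.pow_lt_pow_right (by norm_num) (by omega)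
    rw [hNcard, hj] at hBcard; omega
  have hdvd : 2 ^ 3 ∣ Nat.card (Subgroup.closure ({c, u} : Set Q)) := by
    rw [hj]; exact pow_dvd_pow 2 hj3
  obtain ⟨K, hK⟩ := Sylow.exists_subgroup_card_pow_prime 2 hdvd
  have hK' : Nat.card (K.map (Subgroup.closure ({c, u} : Set Q)).subtype) = 8 := by
    rw [Subgroup.card_map_of_injective (Subgroup.subtype_injective _), hK]; norm_num
  have hKc : ∀ a ∈ K.map (Subgroup.closure ({c, u} : Set Q)).subtype,
      ∀ b ∈ K.map (Subgroup.closure ({c, u} : Set Q)).subtype, a * b = b * a := by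
    rintro a ⟨a', -, rfl⟩ b ⟨b', -, rfl⟩
    exact hBc _ a'.2 _ b'.2
  obtain ⟨e⟩ := hiso (C ⊔ N) (K.map (Subgroup.closure ({c, u} : Set Q)).subtype)
    (by rw [hsup, hK'])
  have hcomm := comm_of_equiv e hKc
  have hcd : c * d = d * c :=
    hcomm c ((le_sup_right : N ≤ C ⊔ N) (by rw [hNz]; exact Subgroup.mem_zpowers c)) d
      ((le_sup_left : C ≤ C ⊔ N) (by rw [hCz]; exact Subgroup.mem_zpowers d))
  have hsq : (c * d⁻¹) ^ 2 = 1 := by
    have hcomm' : Commute c d⁻¹ := (show Commute c d from hcd).inv_right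
    rw [hcomm'.mul_pow, inv_pow, hd2c2, mul_inv_cancel]
  have hdN : d ∈ N := by
    by_cases h1 : c * d⁻¹ = 1
    · have h' : c = d := by rw [mul_inv_eq_one] at h1; exact h1
      rw [← h', hNz]; exact Subgroup.mem_zpowers c
    · have h3 := hinv _ hsq h1
      have h' : d = (c ^ 2)⁻¹ * c := by rw [← h3]; group
      rw [h', hNz]
      exact Subgroup.mul_mem _ (Subgroup.inv_mem _ (Subgroup.pow_mem _ (Subgroup.mem_zpowers c) 2))
        (Subgroup.mem_zpowers c)
  have hCN' : C ≤ N := by rw [hCz, Subgroup.zpowers_le]; exact hdN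
  exact hCN (Subgroup.eq_of_le_of_card_ge hCN' (by rw [hCcard, hNcard]))

end lemmas

theorem abstract_main (p : ℕ) [Fact p.Prime] (Q : Type u) [Group Q] [Finite Q]
    (hQ : IsPGroup p Q)
    (hiso : ∀ H K : Subgroup Q, Nat.card H = Nat.card K → Nonempty (H ≃* K)) :
    IsCyclic Q ∨ ((∀ a b : Q, a * b = b * a) ∧ ∀ x : Q, x ^ p = 1) ∨
      (p = 2 ∧ Nonempty (Q ≃* QuaternionGroup 2)) ∨
      (p ≠ 2 ∧ (¬ ∀ a b : Q, a * b = b * a) ∧ Nat.card Q = p ^ 3 ∧ Monoid.exponent Q = p) := by
  have hp : p.Prime := Fact.out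
  obtain ⟨m, hm⟩ := IsPGroup.iff_card.1 hQ
  by_cases hexp : ∀ x : Q, x ^ p = 1
  · by_cases hab : ∀ a b : Q, a * b = b * a
    · exact Or.inr (Or.inl ⟨hab, hexp⟩)
    by_cases hm4 : 4 ≤ m
    · exfalso
      have h4 : p ^ 4 ∣ Nat.card Q := by rw [hm]; exact pow_dvd_pow p hm4
      have h3 : p ^ 3 ∣ Nat.card Q := by rw [hm]; exact pow_dvd_pow p (by omega)
      obtain ⟨B, hB, hBc⟩ := abelian_cube hQ hab h4
      obtain ⟨H, j, hj, hH, a, ha, b, hb, hne⟩ := small_nonabelian hQ hab hexp
      obtain ⟨H2, hH2, hle⟩ := Sylow.exists_subgroup_card_pow_prime_le p h3 H hH hj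
      obtain ⟨e⟩ := hiso H2 B (by rw [hH2, hB])
      exact hne (comm_of_equiv e hBc a (hle ha) b (hle hb))
    · by_cases hm3 : m = 3
      · subst hm3
        refine Or.inr (Or.inr (Or.inr ⟨?_, hab, hm, ?_⟩))
        · rintro rfl
          apply hab
          intro a b
          have ha := hexp a
          have hb := hexp b
          have hab' := hexp (a * b)
          have ia : a⁻¹ = a := inv_eq_of_mul_eq_one_right (by rw [← sq, ha])
          have ib : b⁻¹ = b := inv_eq_of_mul_eq_one_right (by rw [← sq, hb])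
          have h : a * b = (a * b)⁻¹ := eq_inv_of_mul_eq_one_left (by rw [← sq, hab'])
          rw [h, mul_inv_rev, ia, ib]
        · have hdvd : Monoid.exponent Q ∣ p := Monoid.exponent_dvd_of_forall_pow_eq_one hexp
          rcases (Nat.dvd_prime hp).1 hdvd with h | h
          · exfalso
            rw [Monoid.exp_eq_one_iff] at h
            exact hab (fun a b => by rw [Subsingleton.elim a b])
          · exact h
      · by_cases hm2' : m = 2
        · subst hm2'
          exact absurd (fun a b =>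
            (IsPGroup.isMulCommutative_of_card_eq_prime_sq hm).is_comm.comm a b) hab
        · left
          have hm1 : m ≤ 1 := by omega
          interval_cases m
          · rw [pow_zero] at hm
            have : Subsingleton Q := Finite.card_le_one_iff_subsingleton.1 hm.le
            exact isCyclic_of_subsingleton
          · rw [pow_one] at hm
            exact isCyclic_of_prime_card hm
  · have hex : ∃ x : Q, x ^ p ≠ 1 := by
      by_contra hh
      exact hexp (fun x => by_contra fun hx => hh ⟨x, hx⟩)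
    obtain ⟨x, hx⟩ := hex
    obtain ⟨k, hk⟩ := (IsPGroup.iff_orderOf.1 hQ) x
    have hk2 : 2 ≤ k := by
      by_contra hcon
      apply hx
      have hk1 : k ≤ 1 := by omega
      have hdvd : orderOf x ∣ p := by
        rw [hk]
        calc p ^ k ∣ p ^ 1 := pow_dvd_pow p hk1
          _ = p := pow_one p
      exact orderOf_dvd_iff_pow_eq_one.1 hdvd
    have hx0o : orderOf (x ^ (p ^ (k - 2))) = p ^ 2 := by
      rw [orderOf_pow_of_dvd (pow_ne_zero _ hp.ne_zero)
        (by rw [hk]; exact pow_dvd_pow p (by omega)), hk, Nat.pow_div (by omega) hp.pos]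
      congr 1; omega
    have hcyc : ∀ H : Subgroup Q, Nat.card H = p ^ 2 → IsCyclic H := by
      intro H hH
      obtain ⟨e⟩ := hiso H (Subgroup.zpowers (x ^ (p ^ (k - 2))))
        (by rw [hH, Nat.card_zpowers, hx0o])
      exact isCyclic_of_surjective e.symm e.symm.surjective
    have huniq := unique_of_cyclic_sq hQ hcyc
    rcases Cfsg.Agent.S0016.result p hQ huniq with hc | ⟨hp2, n, ⟨e⟩⟩
    · exact Or.inl hc
    · subst hp2
      by_cases hm4 : 4 ≤ m
      · exact Or.inl (cyclic_of_two_large hQ m hm hm4 hiso huniq hcyc)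
      · have hcard : Nat.card Q = 4 * 2 ^ n := by
          rw [Nat.card_congr e.toEquiv, Nat.card_eq_fintype_card, QuaternionGroup.card]
        have hn : n ≤ 1 := by
          by_contra hcon
          have h1 : 2 ^ 2 ≤ 2 ^ n := Nat.pow_le_pow_right (by norm_num) (by omega)
          have h2 : 2 ^ m ≤ 2 ^ 3 := Nat.pow_le_pow_right (by norm_num) (by omega)
          rw [hm] at hcard
          omega
        interval_cases n
        · left
          have e' : Q ≃* QuaternionGroup 1 := e
          have hc1 : IsCyclic (QuaternionGroup 1) := QuaternionGroup.quaternionGroup_one_isCyclic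
          exact isCyclic_of_surjective e'.symm e'.symm.surjective
        · exact Or.inr (Or.inr (Or.inl ⟨rfl, ⟨e⟩⟩))

/-- Let p be a prime and G a finite group in which any two p-subgroups of the same order are conjugate, with Sylow p-subgroup P. Then P is cyclic, or elementary abelian, or p = 2 and P is a quaternion group of order 8, or p is odd and P is non-abelian of order p³ and exponent p. -/
theorem result {G : Type*} [Group G] [Finite G]
    {p : ℕ} [Fact p.Prime] (hC : ∀ H K : Subgroup G, IsPGroup p H → IsPGroup p K → Nat.card H = Nat.card K →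
      ∃ g : G, K = H.map (MulAut.conj g).toMonoidHom) (P : Sylow p G) :
    IsCyclic P ∨ Cfsg.IsElementaryAbelian p (P : Subgroup G) ∨
      (p = 2 ∧ Nonempty ((P : Subgroup G) ≃* QuaternionGroup 2)) ∨
      (p ≠ 2 ∧ ¬ IsMulCommutative P ∧ Nat.card P = p ^ 3 ∧ Monoid.exponent P = p) := by
  have hP : IsPGroup p ↥(P : Subgroup G) := P.isPGroup'
  have hiso : ∀ H K : Subgroup ↥(P : Subgroup G), Nat.card H = Nat.card K →
      Nonempty (H ≃* K) := by
    intro H K hHK
    have hH : IsPGroup p ↥(H.map (P : Subgroup G).subtype) := (hP.to_subgroup H).map _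
    have hK : IsPGroup p ↥(K.map (P : Subgroup G).subtype) := (hP.to_subgroup K).map _
    have hinj := (P : Subgroup G).subtype_injective
    have hcard : Nat.card ↥(H.map (P : Subgroup G).subtype) =
        Nat.card ↥(K.map (P : Subgroup G).subtype) := by
      rw [Subgroup.card_map_of_injective hinj, Subgroup.card_map_of_injective hinj, hHK]
    obtain ⟨g, hg⟩ := hC _ _ hH hK hcard
    have e1 : H ≃* ↥(H.map (P : Subgroup G).subtype) := H.equivMapOfInjective _ hinj
    have e2 : ↥(H.map (P : Subgroup G).subtype) ≃*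
        ↥((H.map (P : Subgroup G).subtype).map (MulAut.conj g).toMonoidHom) :=
      Subgroup.equivMapOfInjective _ _ (MulAut.conj g).injective
    have e3 : ↥((H.map (P : Subgroup G).subtype).map (MulAut.conj g).toMonoidHom) ≃*
        ↥(K.map (P : Subgroup G).subtype) := MulEquiv.subgroupCongr hg.symm
    have e4 : K ≃* ↥(K.map (P : Subgroup G).subtype) := K.equivMapOfInjective _ hinj
    exact ⟨((e1.trans e2).trans e3).trans e4.symm⟩
  rcases abstract_main p ↥(P : Subgroup G) hP hiso with h | ⟨h1, h2⟩ | h | ⟨h1, h2, h3, h4⟩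
  · exact Or.inl h
  · refine Or.inr (Or.inl ⟨⟨⟨fun a b => h1 a b⟩⟩, fun a ha => ?_⟩)
    have h := h2 ⟨a, ha⟩
    simpa using congrArg Subtype.val h
  · exact Or.inr (Or.inr (Or.inl h))
  · exact Or.inr (Or.inr (Or.inr ⟨h1, fun hc => h2 (fun a b => hc.is_comm.comm a b), h3, h4⟩))

end Cfsg.Agent.S4023
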