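import Mathlib
import Cfsg.Statements.S4024
import Cfsg.Agent.S3977
import Cfsg.Agent.S4023
import Cfsg.Agent.H38.PiCore

set_option autoImplicit false
open Cfsg

namespace Cfsg.Agent.S4024

universe u

open Cfsg.Agent.H38
open scoped Pointwise

section basics

variable {G : Type u} [Group G]

theorem mem_map_conj_iff (g x : G) (K : Subgroup G) :
    x ∈ K.map (MulAut.conj g).toMonoidHom ↔ g⁻¹ * x * g ∈ K := by
  constructor
  · rintro ⟨y, hy, rfl⟩
    have : g⁻¹ * (MulAut.conj g).toMonoidHom y * g = y := by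
      simp [mul_assoc]
    rw [this]; exact hy
  · intro h
    exact ⟨g⁻¹ * x * g, h, by simp [mul_assoc]⟩

theorem card_map_conj (g : G) (K : Subgroup G) :
    Nat.card ↥(K.map (MulAut.conj g).toMonoidHom) = Nat.card K :=
  Subgroup.card_map_of_injective (MulAut.conj g).injective

/-- relative order formula -/
theorem card_eq_relIndex_mul {A B : Subgroup G} (h : A ≤ B) :
    Nat.card B = A.relIndex B * Nat.card A := by
  have := Subgroup.relIndex_mul_relIndex (⊥ : Subgroup G) A B bot_le h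
  rw [Subgroup.relIndex_bot_left, Subgroup.relIndex_bot_left] at this
  rw [← this, mul_comm]

/-- Sylow conjugacy inside a subgroup, for plain subgroups. -/
theorem sylow_conj_in [Finite G] {p : ℕ} [Fact p.Prime]
    (W P1 P2 : Subgroup G) (h1 : P1 ≤ W) (h2 : P2 ≤ W) (n : ℕ)
    (c1 : Nat.card P1 = p ^ n) (c2 : Nat.card P2 = p ^ n) (hW : ¬ p ^ (n + 1) ∣ Nat.card W) :
    ∃ w ∈ W, P2 = P1.map (MulAut.conj w).toMonoidHom := by
  classical
  have hp : p.Prime := Fact.out
  have hfac : (Nat.card W).factorization p = n := by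
    have hpos : Nat.card W ≠ 0 := Nat.card_pos.ne'
    have hle : n ≤ (Nat.card W).factorization p := by
      rw [← hp.pow_dvd_iff_le_factorization hpos, ← c1]
      exact Subgroup.card_dvd_of_le h1
    have hge : ¬ n + 1 ≤ (Nat.card W).factorization p := by
      rw [← hp.pow_dvd_iff_le_factorization hpos]
      exact hW
    omega
  have e1 : Nat.card ↥(P1.subgroupOf W) = p ^ (Nat.card W).factorization p := by
    rw [hfac, ← c1]
    exact Nat.card_congr (Subgroup.subgroupOfEquivOfLe h1).toEquiv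
  have e2 : Nat.card ↥(P2.subgroupOf W) = p ^ (Nat.card W).factorization p := by
    rw [hfac, ← c2]
    exact Nat.card_congr (Subgroup.subgroupOfEquivOfLe h2).toEquiv
  let S1 : Sylow p W := Sylow.ofCard (P1.subgroupOf W) e1
  let S2 : Sylow p W := Sylow.ofCard (P2.subgroupOf W) e2
  obtain ⟨w, hw⟩ := MulAction.exists_smul_eq W S1 S2
  refine ⟨w.1, w.2, ?_⟩
  have hw' : MulAut.conj w • (P1.subgroupOf W) = P2.subgroupOf W := by
    have := congrArg (fun S : Sylow p W => (S : Subgroup W)) hw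
    simpa [Sylow.coe_subgroup_smul, S1, S2] using this
  symm
  apply Subgroup.eq_of_le_of_card_ge
  · rintro x ⟨y, hy, rfl⟩
    have hyW : y ∈ W := h1 hy
    have hmem : MulAut.conj w • (⟨y, hyW⟩ : W) ∈ MulAut.conj w • (P1.subgroupOf W) :=
      Subgroup.smul_mem_pointwise_smul _ _ _ (Subgroup.mem_subgroupOf.2 hy)
    rw [hw'] at hmem
    have := Subgroup.mem_subgroupOf.1 hmem
    simpa using this
  · rw [card_map_conj, c1, c2]

end basics

/-- Structure of a `p`-solvable group of order divisible by `p`: above `O_{p'}` there is a normal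
subgroup `U` with `|U : O_{p'}|` a nontrivial power of `p`. -/
theorem psolv_struct (p : ℕ) [Fact p.Prime] (K : Type u) [Group K] [Finite K]
    (hs : Cfsg.IsPSolvable p K) (hdiv : p ∣ Nat.card K) :
    ∃ U : Subgroup K, U.Normal ∧ pPrimeCore p K ≤ U ∧
      ∃ m, 1 ≤ m ∧ Nat.card U = p ^ m * Nat.card (pPrimeCore p K) := by
  have hp : p.Prime := Fact.out
  obtain ⟨n, Hc, h0, hlast, hmono, hnorm, hstep⟩ := hs
  have hOc : (Nat.card (pPrimeCore p K)).Coprime p := coprime_card_pPrimeCore p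
  have hex : ∃ i : Fin n, Hc i.castSucc ≤ pPrimeCore p K ∧ ¬ Hc i.succ ≤ pPrimeCore p K := by
    by_contra hcon
    push Not at hcon
    have hall : ∀ j : Fin (n + 1), Hc j ≤ pPrimeCore p K := by
      intro j
      induction j using Fin.induction with
      | zero => rw [h0]; exact bot_le
      | succ i ih => exact hcon i ih
    have htop := hall (Fin.last n)
    rw [hlast] at htop
    have h1 : pPrimeCore p K = ⊤ := top_le_iff.1 htop
    rw [h1, Subgroup.card_top] at hOc
    exact (Nat.Prime.coprime_iff_not_dvd hp).1 hOc.symm hdiv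
  obtain ⟨i, hi1, hi2⟩ := hex
  have hN2 : (Hc i.succ).Normal := hnorm _
  have hle : Hc i.castSucc ≤ Hc i.succ := hmono (Fin.castSucc_le_succ i)
  have hcard : Nat.card (Hc i.succ) =
      (Hc i.castSucc).relIndex (Hc i.succ) * Nat.card (Hc i.castSucc) := card_eq_relIndex_mul hle
  have hcop1 : (Nat.card (Hc i.castSucc)).Coprime p :=
    Nat.Coprime.coprime_dvd_left (Subgroup.card_dvd_of_le hi1) hOc
  rcases hstep i with ⟨m, hm⟩ | hcop
  · have hm1 : 1 ≤ m := by
      by_contra h0'
      have hm0 : m = 0 := by omega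
      subst hm0
      rw [pow_zero, Subgroup.relIndex_eq_one] at hm
      exact hi2 (hm.trans hi1)
    refine ⟨Hc i.succ ⊔ pPrimeCore p K, inferInstance, le_sup_right, m, hm1, ?_⟩
    have hprod := Cfsg.Agent.S4023.card_sup_mul_card_inf (Hc i.succ) (pPrimeCore p K)
      (by rw [Subgroup.normalizer_eq_top]; exact le_top)
    have hinf : Nat.card ↥(Hc i.succ ⊓ pPrimeCore p K) = Nat.card (Hc i.castSucc) := by
      apply Nat.dvd_antisymm
      · have d1 : Nat.card ↥(Hc i.succ ⊓ pPrimeCore p K) ∣ p ^ m * Nat.card (Hc i.castSucc) := by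
          rw [← hm, ← hcard]; exact Subgroup.card_dvd_of_le inf_le_left
        have d2 : (Nat.card ↥(Hc i.succ ⊓ pPrimeCore p K)).Coprime (p ^ m) :=
          Nat.Coprime.pow_right _
            (Nat.Coprime.coprime_dvd_left (Subgroup.card_dvd_of_le inf_le_right) hOc)
        exact d2.dvd_of_dvd_mul_left d1
      · exact Subgroup.card_dvd_of_le (le_inf hle hi1)
    rw [hinf, hcard, hm] at hprod
    have hpos : 0 < Nat.card (Hc i.castSucc) := Nat.card_pos
    apply Nat.eq_of_mul_eq_mul_right hpos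
    rw [hprod]; ring
  · exfalso
    apply hi2
    apply le_pPrimeCore _ hN2
    rw [hcard]
    exact Nat.Coprime.mul_left hcop hcop1

/-- A Sylow `p`-subgroup meets a subgroup it normalizes in a Sylow `p`-subgroup (counting form). -/
theorem card_inf_sylow {G : Type u} [Group G] [Finite G] {p : ℕ} [Fact p.Prime] (P : Sylow p G)
    (V : Subgroup G) (hPV : (P : Subgroup G) ≤ Subgroup.normalizer (V : Set G)) (j c : ℕ)
    (hV : Nat.card V = p ^ j * c) (hc : c.Coprime p) :
    Nat.card ↥((P : Subgroup G) ⊓ V) = p ^ j := by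
  have hp : p.Prime := Fact.out
  have hprod := Cfsg.Agent.S4023.card_sup_mul_card_inf (P : Subgroup G) V hPV
  obtain ⟨i, hi⟩ := IsPGroup.iff_card.1 (P.isPGroup'.to_le (inf_le_left : (P : Subgroup G) ⊓ V ≤ P))
  obtain ⟨n, hn⟩ := IsPGroup.iff_card.1 P.isPGroup'
  have hij : i ≤ j := by
    have d1 : p ^ i ∣ p ^ j * c := by
      rw [← hi, ← hV]; exact Subgroup.card_dvd_of_le inf_le_right
    have d2 : (p ^ i).Coprime c := Nat.Coprime.pow_left _ hc.symm
    have d3 : p ^ i ∣ p ^ j := d2.dvd_of_dvd_mul_right d1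
    exact (Nat.pow_dvd_pow_iff_le_right hp.one_lt).1 d3
  rw [hi, hn, hV] at hprod
  have hsup : Nat.card ↥((P : Subgroup G) ⊔ V) = p ^ (n + j - i) * c := by
    apply Nat.eq_of_mul_eq_mul_right (pow_pos hp.pos i)
    rw [hprod]
    have : p ^ (n + j - i) * p ^ i = p ^ n * p ^ j := by
      rw [← pow_add, ← pow_add]; congr 1; omega
    calc p ^ n * (p ^ j * c) = (p ^ n * p ^ j) * c := by ring
      _ = p ^ (n + j - i) * p ^ i * c := by rw [this]
      _ = p ^ (n + j - i) * c * p ^ i := by ring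
  have hdvd : p ^ (n + j - i) ∣ Nat.card G :=
    (Dvd.intro _ hsup.symm).trans (Subgroup.card_subgroup_dvd_card _)
  have h2 := P.pow_dvd_card_of_pow_dvd_card hdvd
  rw [hn] at h2
  have h3 : n + j - i ≤ n := (Nat.pow_dvd_pow_iff_le_right hp.one_lt).1 h2
  have : i = j := by omega
  rw [hi, this]

section main

variable {G : Type u} [Group G] [Finite G] {p : ℕ} [Fact p.Prime]

/-- If `W = O P` is normalized by `H ⊇ W` with `O` a normal `p'`-subgroup of `G`, then (under the
conjugacy hypothesis, `P` of exponent `p`) `P` is abelian. -/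
theorem final
    (hC : ∀ H K : Subgroup G, IsPGroup p H → IsPGroup p K → Nat.card H = Nat.card K →
      ∃ g : G, K = H.map (MulAut.conj g).toMonoidHom)
    (P : Sylow p G) (H : Subgroup G) [H.Normal] (hPH : (P : Subgroup G) ≤ H)
    (O : Subgroup G) [O.Normal] (hOcop : (Nat.card O).Coprime p)
    (W : Subgroup G) (hWn : ∀ h ∈ H, ∀ w ∈ W, h * w * h⁻¹ ∈ W)
    (hPW : (P : Subgroup G) ≤ W) (hOW : O ≤ W)
    (hWcard : Nat.card W = Nat.card (P : Subgroup G) * Nat.card O)
    (hP1 : (P : Subgroup G) ≠ ⊥)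
    (hexp : ∀ x ∈ (P : Subgroup G), x ^ p = 1) :
    ∀ a ∈ (P : Subgroup G), ∀ b ∈ (P : Subgroup G), a * b = b * a := by
  have hp : p.Prime := Fact.out
  have hPp : IsPGroup p (P : Subgroup G) := P.isPGroup'
  obtain ⟨n, hn⟩ := IsPGroup.iff_card.1 hPp
  have hno : ¬ p ^ (n + 1) ∣ Nat.card G := by
    intro h
    have h2 := P.pow_dvd_card_of_pow_dvd_card h
    rw [hn] at h2
    have := (Nat.pow_dvd_pow_iff_le_right hp.one_lt).1 h2
    omega
  have hnoS : ∀ S : Subgroup G, ¬ p ^ (n + 1) ∣ Nat.card S := fun S h =>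
    hno (h.trans (Subgroup.card_subgroup_dvd_card S))
  have hPO : (P : Subgroup G) ⊓ O = ⊥ := by
    apply Disjoint.eq_bot
    apply Subgroup.disjoint_of_coprime_natCard
    rw [hn]
    exact Nat.Coprime.pow_left _ hOcop.symm
  have hW : O ⊔ (P : Subgroup G) = W := by
    apply Subgroup.eq_of_le_of_card_ge (sup_le hOW hPW)
    have hprod := Cfsg.Agent.S4023.card_sup_mul_card_inf (P : Subgroup G) O
      (by rw [Subgroup.normalizer_eq_top]; exact le_top)
    rw [hPO, Subgroup.card_bot, mul_one] at hprod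
    rw [sup_comm, hprod, hWcard]
  -- conjugates of `P` are conjugates by elements of `O`
  have hconj : ∀ g : G, ∃ l ∈ O, (P : Subgroup G).map (MulAut.conj g).toMonoidHom =
      (P : Subgroup G).map (MulAut.conj l).toMonoidHom := by
    intro g
    have hQH : (P : Subgroup G).map (MulAut.conj g).toMonoidHom ≤ H := by
      intro x hx
      rw [mem_map_conj_iff] at hx
      have h1 : g⁻¹ * x * g ∈ H := hPH hx
      have h2 := (inferInstance : H.Normal).conj_mem _ h1 g
      have h3 : g * (g⁻¹ * x * g) * g⁻¹ = x := by group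
      rw [h3] at h2
      exact h2
    have hQc : Nat.card ↥((P : Subgroup G).map (MulAut.conj g).toMonoidHom) = p ^ n := by
      rw [card_map_conj, hn]
    obtain ⟨h, hhH, hh⟩ := sylow_conj_in H (P : Subgroup G) _ hPH hQH n hn hQc (hnoS H)
    have hQW : (P : Subgroup G).map (MulAut.conj g).toMonoidHom ≤ W := by
      intro x hx
      rw [hh, mem_map_conj_iff] at hx
      have h1 : h⁻¹ * x * h ∈ W := hPW hx
      have h2 := hWn h hhH _ h1
      have h3 : h * (h⁻¹ * x * h) * h⁻¹ = x := by group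
      rw [h3] at h2
      exact h2
    obtain ⟨w, hwW, hw⟩ := sylow_conj_in W (P : Subgroup G) _ hPW hQW n hn hQc (hnoS W)
    rw [← hW] at hwW
    obtain ⟨l, hl, y, hy, rfl⟩ := Subgroup.mem_sup_of_normal_left.1 hwW
    refine ⟨l, hl, ?_⟩
    rw [hw]
    ext x
    rw [mem_map_conj_iff, mem_map_conj_iff]
    have h3 : (l * y)⁻¹ * x * (l * y) = y⁻¹ * (l⁻¹ * x * l) * y := by group
    rw [h3]
    constructor
    · intro hx
      have := (P : Subgroup G).mul_mem ((P : Subgroup G).mul_mem hy hx)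
        ((P : Subgroup G).inv_mem hy)
      have h4 : y * (y⁻¹ * (l⁻¹ * x * l) * y) * y⁻¹ = l⁻¹ * x * l := by group
      rw [h4] at this
      exact this
    · intro hx
      exact (P : Subgroup G).mul_mem ((P : Subgroup G).mul_mem ((P : Subgroup G).inv_mem hy) hx) hy
  -- conjugates inside `P` of central elements of `P` are central
  have hcent : ∀ (g z : G), z ∈ (P : Subgroup G) → (∀ x ∈ (P : Subgroup G), x * z = z * x) →
      g * z * g⁻¹ ∈ (P : Subgroup G) →
      ∀ x ∈ (P : Subgroup G), x * (g * z * g⁻¹) = (g * z * g⁻¹) * x := by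
    intro g z hz hzc hw x hx
    obtain ⟨l, hl, hgl⟩ := hconj g
    have hwg : g * z * g⁻¹ ∈ (P : Subgroup G).map (MulAut.conj g).toMonoidHom := by
      rw [mem_map_conj_iff]
      have : g⁻¹ * (g * z * g⁻¹) * g = z := by group
      rw [this]; exact hz
    rw [hgl, mem_map_conj_iff] at hwg
    -- `l` commutes with `w`
    have hcomm : (g * z * g⁻¹) * (l⁻¹ * (g * z * g⁻¹) * l)⁻¹ = 1 := by
      have hmemP : (g * z * g⁻¹) * (l⁻¹ * (g * z * g⁻¹) * l)⁻¹ ∈ (P : Subgroup G) :=
        (P : Subgroup G).mul_mem hw ((P : Subgroup G).inv_mem hwg)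
      have hmemO : (g * z * g⁻¹) * (l⁻¹ * (g * z * g⁻¹) * l)⁻¹ ∈ O := by
        have h1 : (g * z * g⁻¹) * l⁻¹ * (g * z * g⁻¹)⁻¹ ∈ O :=
          (inferInstance : O.Normal).conj_mem _ (O.inv_mem hl) _
        have h2 := O.mul_mem h1 hl
        have h3 : (g * z * g⁻¹) * l⁻¹ * (g * z * g⁻¹)⁻¹ * l =
            (g * z * g⁻¹) * (l⁻¹ * (g * z * g⁻¹) * l)⁻¹ := by group
        rw [h3] at h2
        exact h2
      have : (g * z * g⁻¹) * (l⁻¹ * (g * z * g⁻¹) * l)⁻¹ ∈ (P : Subgroup G) ⊓ O := ⟨hmemP, hmemO⟩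
      rw [hPO] at this
      exact Subgroup.mem_bot.1 this
    have hlw : l * (g * z * g⁻¹) = (g * z * g⁻¹) * l := by
      have h1 : g * z * g⁻¹ = l⁻¹ * (g * z * g⁻¹) * l := mul_inv_eq_one.1 hcomm
      calc l * (g * z * g⁻¹) = l * (l⁻¹ * (g * z * g⁻¹) * l) := by rw [← h1]
        _ = (g * z * g⁻¹) * l := by group
    -- transport `x`
    have hx1 : l * x * l⁻¹ ∈ (P : Subgroup G).map (MulAut.conj l).toMonoidHom := by
      rw [mem_map_conj_iff]
      have : l⁻¹ * (l * x * l⁻¹) * l = x := by group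
      rw [this]; exact hx
    rw [← hgl, mem_map_conj_iff] at hx1
    have h5 := hzc _ hx1
    -- h5 : g⁻¹ * (l * x * l⁻¹) * g * z = z * (g⁻¹ * (l * x * l⁻¹) * g)
    have h6 : (l * x * l⁻¹) * (g * z * g⁻¹) = (g * z * g⁻¹) * (l * x * l⁻¹) := by
      calc (l * x * l⁻¹) * (g * z * g⁻¹) = g * (g⁻¹ * (l * x * l⁻¹) * g * z) * g⁻¹ := by group
        _ = g * (z * (g⁻¹ * (l * x * l⁻¹) * g)) * g⁻¹ := by rw [h5]
        _ = (g * z * g⁻¹) * (l * x * l⁻¹) := by group
    have hlw' : l⁻¹ * (g * z * g⁻¹) = (g * z * g⁻¹) * l⁻¹ := by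
      calc l⁻¹ * (g * z * g⁻¹) = l⁻¹ * ((g * z * g⁻¹) * l) * l⁻¹ := by group
        _ = l⁻¹ * (l * (g * z * g⁻¹)) * l⁻¹ := by rw [hlw]
        _ = (g * z * g⁻¹) * l⁻¹ := by group
    calc x * (g * z * g⁻¹) = l⁻¹ * ((l * x * l⁻¹) * (l * (g * z * g⁻¹))) := by group
      _ = l⁻¹ * ((l * x * l⁻¹) * ((g * z * g⁻¹) * l)) := by rw [hlw]
      _ = l⁻¹ * ((l * x * l⁻¹) * (g * z * g⁻¹)) * l := by group
      _ = l⁻¹ * ((g * z * g⁻¹) * (l * x * l⁻¹)) * l := by rw [h6]
      _ = (l⁻¹ * (g * z * g⁻¹)) * l * x := by group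
      _ = ((g * z * g⁻¹) * l⁻¹) * l * x := by rw [hlw']
      _ = (g * z * g⁻¹) * x := by group
  -- a nontrivial central element of `P`
  have hnt : Nontrivial ↥(P : Subgroup G) := (Subgroup.nontrivial_iff_ne_bot _).2 hP1
  obtain ⟨z, hzc, hz1⟩ : ∃ z : ↥(P : Subgroup G), z ∈ Subgroup.center ↥(P : Subgroup G) ∧ z ≠ 1 := by
    have := hPp.center_nontrivial
    obtain ⟨z, hz⟩ := exists_ne (1 : Subgroup.center ↥(P : Subgroup G))
    exact ⟨z.1, z.2, fun h => hz (Subtype.ext h)⟩
  have hzc' : ∀ x ∈ (P : Subgroup G), x * (z : G) = (z : G) * x := by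
    intro x hx
    have := Subgroup.mem_center_iff.1 hzc ⟨x, hx⟩
    exact congrArg Subtype.val this
  have hz1' : (z : G) ≠ 1 := fun h => hz1 (Subtype.ext h)
  have hzp : (z : G) ^ p = 1 := hexp _ z.2
  have hoz : orderOf (z : G) = p := orderOf_eq_prime hzp hz1'
  intro a ha b hb
  by_cases hb1 : b = 1
  · rw [hb1, mul_one, one_mul]
  have hob : orderOf b = p := orderOf_eq_prime (hexp b hb) hb1
  have hA : IsPGroup p ↥(Subgroup.zpowers (z : G)) :=
    hPp.to_le (Subgroup.zpowers_le.2 z.2)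
  have hB : IsPGroup p ↥(Subgroup.zpowers b) := hPp.to_le (Subgroup.zpowers_le.2 hb)
  obtain ⟨g, hg⟩ := hC _ _ hA hB (by rw [Nat.card_zpowers, Nat.card_zpowers, hoz, hob])
  have hbm : b ∈ (Subgroup.zpowers (z : G)).map (MulAut.conj g).toMonoidHom := by
    rw [← hg]; exact Subgroup.mem_zpowers b
  obtain ⟨y, hy, hyb⟩ := hbm
  obtain ⟨k, rfl⟩ := Subgroup.mem_zpowers_iff.1 hy
  have hwP : g * (z : G) * g⁻¹ ∈ (P : Subgroup G) := by
    have : g * (z : G) * g⁻¹ ∈ (Subgroup.zpowers (z : G)).map (MulAut.conj g).toMonoidHom :=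
      ⟨z, Subgroup.mem_zpowers _, by simp⟩
    rw [← hg] at this
    exact (Subgroup.zpowers_le.2 hb) this
  have hcw := hcent g z z.2 hzc' hwP a ha
  have hbk : b = (g * (z : G) * g⁻¹) ^ k := by
    rw [← hyb]; simp
  rw [hbk]
  exact (Commute.zpow_right (show Commute a (g * (z : G) * g⁻¹) from hcw) k).eq

omit [Finite G] in
/-- a subgroup normalized (elementwise) by `H` has `H` in its normalizer -/
theorem le_normalizer_of_conj (H V : Subgroup G) (hV : ∀ h ∈ H, ∀ v ∈ V, h * v * h⁻¹ ∈ V) :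
    H ≤ Subgroup.normalizer (V : Set G) := by
  intro h hh
  rw [Subgroup.mem_normalizer_iff]
  intro x
  constructor
  · exact hV h hh x
  · intro hx
    have := hV h⁻¹ (H.inv_mem hh) _ hx
    have h3 : h⁻¹ * (h * x * h⁻¹) * h⁻¹⁻¹ = x := by group
    rw [h3] at this
    exact this

omit [Finite G] in
/-- conjugates of an `H`-normalized subgroup are `H`-normalized, for `H` normal -/
theorem conj_normalized (H : Subgroup G) [H.Normal] (U : Subgroup G)
    (hU : ∀ h ∈ H, ∀ u ∈ U, h * u * h⁻¹ ∈ U) (g : G) :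
    ∀ h ∈ H, ∀ v ∈ U.map (MulAut.conj g).toMonoidHom,
      h * v * h⁻¹ ∈ U.map (MulAut.conj g).toMonoidHom := by
  intro h hh v hv
  rw [mem_map_conj_iff] at hv ⊢
  have h1 : g⁻¹ * h * g⁻¹⁻¹ ∈ H := (inferInstance : H.Normal).conj_mem _ hh _
  have h2 := hU _ h1 _ hv
  have h3 : g⁻¹ * h * g⁻¹⁻¹ * (g⁻¹ * v * g) * (g⁻¹ * h * g⁻¹⁻¹)⁻¹ = g⁻¹ * (h * v * h⁻¹) * g := by
    group
  rw [h3] at h2
  exact h2

/-- Case `m = 1`: every subgroup of order `p` of `P` is normal in `P`, so `P` (of exponent `p`)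
is abelian. -/
theorem case_one
    (hC : ∀ H K : Subgroup G, IsPGroup p H → IsPGroup p K → Nat.card H = Nat.card K →
      ∃ g : G, K = H.map (MulAut.conj g).toMonoidHom)
    (P : Sylow p G) (H : Subgroup G) [H.Normal] (hPH : (P : Subgroup G) ≤ H)
    (U : Subgroup G) (hUn : ∀ h ∈ H, ∀ u ∈ U, h * u * h⁻¹ ∈ U) (c : ℕ) (hc : c.Coprime p)
    (hUcard : Nat.card U = p ^ 1 * c)
    (hexp : ∀ x ∈ (P : Subgroup G), x ^ p = 1) :
    ∀ a ∈ (P : Subgroup G), ∀ b ∈ (P : Subgroup G), a * b = b * a := by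
  have hp : p.Prime := Fact.out
  have hPp : IsPGroup p (P : Subgroup G) := P.isPGroup'
  have hPU : Nat.card ↥((P : Subgroup G) ⊓ U) = p ^ 1 :=
    card_inf_sylow P U (hPH.trans (le_normalizer_of_conj H U hUn)) 1 c hUcard hc
  -- every cyclic subgroup of `P` is normalized by `P`
  have hnorm : ∀ x ∈ (P : Subgroup G), ∀ y ∈ (P : Subgroup G), y ≠ 1 →
      x * y * x⁻¹ ∈ Subgroup.zpowers y := by
    intro x hx y hy hy1
    have hoy : orderOf y = p := orderOf_eq_prime (hexp y hy) hy1
    have hA : IsPGroup p ↥((P : Subgroup G) ⊓ U) := hPp.to_le inf_le_left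
    have hB : IsPGroup p ↥(Subgroup.zpowers y) := hPp.to_le (Subgroup.zpowers_le.2 hy)
    obtain ⟨g, hg⟩ := hC _ _ hA hB (by rw [Nat.card_zpowers, hoy, hPU, pow_one])
    have hVn := conj_normalized H U hUn g
    have hVcard : Nat.card ↥(U.map (MulAut.conj g).toMonoidHom) = p ^ 1 * c := by
      rw [card_map_conj, hUcard]
    have hPV : Nat.card ↥((P : Subgroup G) ⊓ U.map (MulAut.conj g).toMonoidHom) = p ^ 1 :=
      card_inf_sylow P _ (hPH.trans (le_normalizer_of_conj H _ hVn)) 1 c hVcard hc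
    have hle : Subgroup.zpowers y ≤ (P : Subgroup G) ⊓ U.map (MulAut.conj g).toMonoidHom := by
      refine le_inf (Subgroup.zpowers_le.2 hy) ?_
      rw [hg]
      exact Subgroup.map_mono inf_le_right
    have heq : Subgroup.zpowers y = (P : Subgroup G) ⊓ U.map (MulAut.conj g).toMonoidHom :=
      Subgroup.eq_of_le_of_card_ge hle (by rw [hPV, Nat.card_zpowers, hoy, pow_one])
    rw [heq]
    have hyV : y ∈ U.map (MulAut.conj g).toMonoidHom := (hle (Subgroup.mem_zpowers y)).2
    exact ⟨(P : Subgroup G).mul_mem ((P : Subgroup G).mul_mem hx hy) ((P : Subgroup G).inv_mem hx),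
      hVn x (hPH hx) y hyV⟩
  intro a ha b hb
  by_cases ha1 : a = 1
  · rw [ha1, mul_one, one_mul]
  by_cases hb1 : b = 1
  · rw [hb1, mul_one, one_mul]
  have hoa : orderOf a = p := orderOf_eq_prime (hexp a ha) ha1
  have hob : orderOf b = p := orderOf_eq_prime (hexp b hb) hb1
  by_cases hba : b ∈ Subgroup.zpowers a
  · obtain ⟨k, rfl⟩ := Subgroup.mem_zpowers_iff.1 hba
    exact (Commute.zpow_right (Commute.refl a) k).eq
  -- the commutator lies in both cyclic groups
  have h1 : a * b * a⁻¹ * b⁻¹ ∈ Subgroup.zpowers b :=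
    (Subgroup.zpowers b).mul_mem (hnorm a ha b hb hb1)
      ((Subgroup.zpowers b).inv_mem (Subgroup.mem_zpowers b))
  have h2 : a * b * a⁻¹ * b⁻¹ ∈ Subgroup.zpowers a := by
    have h3 := (Subgroup.zpowers a).inv_mem (hnorm b hb a ha ha1)
    have h4 := (Subgroup.zpowers a).mul_mem (Subgroup.mem_zpowers a) h3
    have h5 : a * (b * a * b⁻¹)⁻¹ = a * b * a⁻¹ * b⁻¹ := by group
    rw [h5] at h4
    exact h4
  by_cases hc1 : a * b * a⁻¹ * b⁻¹ = 1
  · have h6 : a * b = (a * b * a⁻¹ * b⁻¹) * (b * a) := by group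
    rw [h6, hc1, one_mul]
  exfalso
  apply hba
  -- the commutator generates `zpowers b`
  have hoc : orderOf (a * b * a⁻¹ * b⁻¹) = p := by
    have hcp : (a * b * a⁻¹ * b⁻¹) ^ p = 1 := by
      obtain ⟨k, hk⟩ := Subgroup.mem_zpowers_iff.1 h1
      rw [← hk, ← zpow_natCast, ← zpow_mul, mul_comm, zpow_mul, zpow_natCast, hexp b hb, one_zpow]
    exact orderOf_eq_prime hcp hc1
  have heq : Subgroup.zpowers (a * b * a⁻¹ * b⁻¹) = Subgroup.zpowers b :=
    Subgroup.eq_of_le_of_card_ge (Subgroup.zpowers_le.2 h1)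
      (by rw [Nat.card_zpowers, Nat.card_zpowers, hoc, hob])
  have : b ∈ Subgroup.zpowers (a * b * a⁻¹ * b⁻¹) := by rw [heq]; exact Subgroup.mem_zpowers b
  exact (Subgroup.zpowers_le.2 h2) this

/-- The nonabelian case is impossible inside a normal `p`-solvable subgroup. -/
theorem key
    (hC : ∀ H K : Subgroup G, IsPGroup p H → IsPGroup p K → Nat.card H = Nat.card K →
      ∃ g : G, K = H.map (MulAut.conj g).toMonoidHom)
    (P : Sylow p G) (H : Subgroup G) [H.Normal] (hsolv : Cfsg.IsPSolvable p H)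
    (hPH : (P : Subgroup G) ≤ H) (hcard : Nat.card (P : Subgroup G) = p ^ 3)
    (hexp : ∀ x ∈ (P : Subgroup G), x ^ p = 1) :
    ∀ a ∈ (P : Subgroup G), ∀ b ∈ (P : Subgroup G), a * b = b * a := by
  have hp : p.Prime := Fact.out
  have hPp : IsPGroup p (P : Subgroup G) := P.isPGroup'
  have hdiv : p ∣ Nat.card H := by
    have h1 : Nat.card (P : Subgroup G) ∣ Nat.card H := Subgroup.card_dvd_of_le hPH
    rw [hcard] at h1
    exact (dvd_pow_self p (by norm_num)).trans h1
  obtain ⟨U', hU'n, hOU', m, hm1, hU'card⟩ := psolv_struct p ↥H hsolv hdiv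
  have hinj := H.subtype_injective
  -- the subgroups `O ≤ U` of `G`
  have hOcard : Nat.card ↥((pPrimeCore p ↥H).map H.subtype) = Nat.card (pPrimeCore p ↥H) :=
    Subgroup.card_map_of_injective hinj
  have hOcop : (Nat.card ↥((pPrimeCore p ↥H).map H.subtype)).Coprime p := by
    rw [hOcard]; exact coprime_card_pPrimeCore p
  have hUcard : Nat.card ↥(U'.map H.subtype) =
      p ^ m * Nat.card ↥((pPrimeCore p ↥H).map H.subtype) := by
    rw [hOcard, Subgroup.card_map_of_injective hinj, hU'card]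
  have hUH : U'.map H.subtype ≤ H := Subgroup.map_subtype_le U'
  have hOU : (pPrimeCore p ↥H).map H.subtype ≤ U'.map H.subtype := Subgroup.map_mono hOU'
  have hUn : ∀ h ∈ H, ∀ u ∈ U'.map H.subtype, h * u * h⁻¹ ∈ U'.map H.subtype := by
    rintro h hh _ ⟨u, hu, rfl⟩
    exact ⟨⟨h, hh⟩ * u * ⟨h, hh⟩⁻¹, hU'n.conj_mem u hu ⟨h, hh⟩, rfl⟩
  have hOnorm : ((pPrimeCore p ↥H).map H.subtype).Normal := by
    constructor
    intro x hx g
    rw [pPrimeCore_eq_piCore hp] at hx ⊢
    exact conj_mem_map_piCore (le_top : H ≤ ⊤) Subgroup.normal_subgroupOf g (Subgroup.mem_top g) x hx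
  have hP1 : (P : Subgroup G) ≠ ⊥ := by
    intro h
    rw [h, Subgroup.card_bot] at hcard
    have : 1 < p ^ 3 := Nat.one_lt_pow (by norm_num) hp.one_lt
    omega
  have hPU : Nat.card ↥((P : Subgroup G) ⊓ U'.map H.subtype) = p ^ m :=
    card_inf_sylow P _ (hPH.trans (le_normalizer_of_conj H _ hUn)) m _ hUcard hOcop
  have hm3 : m ≤ 3 := by
    have h1 : Nat.card ↥((P : Subgroup G) ⊓ U'.map H.subtype) ∣ Nat.card (P : Subgroup G) :=
      Subgroup.card_dvd_of_le inf_le_left
    rw [hPU, hcard] at h1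
    exact (Nat.pow_dvd_pow_iff_le_right hp.one_lt).1 h1
  have hno4 : ¬ p ^ 4 ∣ Nat.card G := by
    intro h
    have h2 := P.pow_dvd_card_of_pow_dvd_card h
    rw [hcard] at h2
    have := (Nat.pow_dvd_pow_iff_le_right hp.one_lt).1 h2
    omega
  obtain rfl | rfl | rfl : m = 1 ∨ m = 2 ∨ m = 3 := by omega
  · -- m = 1
    exact case_one hC P H hPH _ hUn _ hOcop hUcard hexp
  · -- m = 2
    -- a second subgroup of order `p²`
    have hex : ∃ y ∈ (P : Subgroup G), y ∉ (P : Subgroup G) ⊓ U'.map H.subtype := by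
      by_contra hcon
      push Not at hcon
      have hle : (P : Subgroup G) ≤ (P : Subgroup G) ⊓ U'.map H.subtype := fun y hy => hcon y hy
      have h1 := Subgroup.card_dvd_of_le hle
      rw [hPU, hcard] at h1
      have := (Nat.pow_dvd_pow_iff_le_right hp.one_lt).1 h1
      omega
    obtain ⟨y, hy, hyB⟩ := hex
    have hy1 : y ≠ 1 := fun h => hyB (h ▸ Subgroup.one_mem _)
    have hoy : orderOf (⟨y, hy⟩ : ↥(P : Subgroup G)) = p := by
      apply orderOf_eq_prime
      · apply Subtype.ext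
        simpa using hexp y hy
      · intro h
        exact hy1 (congrArg Subtype.val h)
    obtain ⟨B2', hB2c, hB2y⟩ := Sylow.exists_subgroup_card_pow_prime_le p
      (show p ^ 2 ∣ Nat.card ↥(P : Subgroup G) from by rw [hcard]; exact pow_dvd_pow p (by norm_num))
      (Subgroup.zpowers (⟨y, hy⟩ : ↥(P : Subgroup G)))
      (show Nat.card _ = p ^ 1 by rw [Nat.card_zpowers, hoy, pow_one]) (by norm_num)
    have hB2P : B2'.map (P : Subgroup G).subtype ≤ (P : Subgroup G) := Subgroup.map_subtype_le B2'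
    have hB2card : Nat.card ↥(B2'.map (P : Subgroup G).subtype) = p ^ 2 := by
      rw [Subgroup.card_map_of_injective (P : Subgroup G).subtype_injective, hB2c]
    have hyB2 : y ∈ B2'.map (P : Subgroup G).subtype :=
      ⟨⟨y, hy⟩, hB2y (Subgroup.mem_zpowers _), rfl⟩
    obtain ⟨g, hg⟩ := hC ((P : Subgroup G) ⊓ U'.map H.subtype) (B2'.map (P : Subgroup G).subtype)
      (hPp.to_le inf_le_left) (hPp.to_le hB2P) (by rw [hPU, hB2card])
    have hVn := conj_normalized H _ hUn g
    have hVcard : Nat.card ↥((U'.map H.subtype).map (MulAut.conj g).toMonoidHom) =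
        p ^ 2 * Nat.card ↥((pPrimeCore p ↥H).map H.subtype) := by
      rw [card_map_conj, hUcard]
    have hB2V : B2'.map (P : Subgroup G).subtype ≤
        (U'.map H.subtype).map (MulAut.conj g).toMonoidHom := by
      rw [hg]; exact Subgroup.map_mono inf_le_right
    have hOV : (pPrimeCore p ↥H).map H.subtype ≤
        (U'.map H.subtype).map (MulAut.conj g).toMonoidHom := by
      intro x hx
      rw [mem_map_conj_iff]
      apply hOU
      have := hOnorm.conj_mem x hx g⁻¹
      simpa using this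
    -- `W = U ⊔ U^g`
    have hPW : (P : Subgroup G) ≤
        U'.map H.subtype ⊔ (U'.map H.subtype).map (MulAut.conj g).toMonoidHom := by
      have hsup : (P : Subgroup G) ⊓ U'.map H.subtype ⊔ B2'.map (P : Subgroup G).subtype =
          (P : Subgroup G) := by
        apply Subgroup.eq_of_le_of_card_ge (sup_le inf_le_left hB2P)
        have hne : (P : Subgroup G) ⊓ U'.map H.subtype ≠
            (P : Subgroup G) ⊓ U'.map H.subtype ⊔ B2'.map (P : Subgroup G).subtype := by
          intro h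
          apply hyB
          rw [h]
          exact (le_sup_right : B2'.map (P : Subgroup G).subtype ≤ _) hyB2
        have hPsup : IsPGroup p ↥((P : Subgroup G) ⊓ U'.map H.subtype ⊔
            B2'.map (P : Subgroup G).subtype) := hPp.to_le (sup_le inf_le_left hB2P)
        obtain ⟨j, hj⟩ := IsPGroup.iff_card.1 hPsup
        have hdvd : Nat.card ↥((P : Subgroup G) ⊓ U'.map H.subtype) ∣
            Nat.card ↥((P : Subgroup G) ⊓ U'.map H.subtype ⊔ B2'.map (P : Subgroup G).subtype) :=
          Subgroup.card_dvd_of_le le_sup_left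
        rw [hPU, hj] at hdvd
        have h2j : 2 ≤ j := (Nat.pow_dvd_pow_iff_le_right hp.one_lt).1 hdvd
        have hj2 : j ≠ 2 := by
          rintro rfl
          exact hne (Subgroup.eq_of_le_of_card_ge le_sup_left (by rw [hj, hPU]))
        rw [hcard, hj]
        exact Nat.pow_le_pow_right hp.pos (by omega)
      rw [← hsup]
      exact sup_le (inf_le_right.trans le_sup_left) (hB2V.trans le_sup_right)
    have hWn : ∀ h ∈ H, ∀ w ∈ U'.map H.subtype ⊔ (U'.map H.subtype).map (MulAut.conj g).toMonoidHom,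
        h * w * h⁻¹ ∈ U'.map H.subtype ⊔ (U'.map H.subtype).map (MulAut.conj g).toMonoidHom := by
      intro h hh w hw
      have h1 : (U'.map H.subtype ⊔ (U'.map H.subtype).map (MulAut.conj g).toMonoidHom).map
          (MulAut.conj h).toMonoidHom ≤
          U'.map H.subtype ⊔ (U'.map H.subtype).map (MulAut.conj g).toMonoidHom := by
        rw [Subgroup.map_sup]
        apply sup_le_sup
        · rintro _ ⟨u, hu, rfl⟩
          exact hUn h hh u hu
        · rintro _ ⟨u, hu, rfl⟩
          exact hVn h hh u hu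
      exact h1 ⟨w, hw, rfl⟩
    have hWcard : Nat.card ↥(U'.map H.subtype ⊔ (U'.map H.subtype).map (MulAut.conj g).toMonoidHom)
        = Nat.card (P : Subgroup G) * Nat.card ↥((pPrimeCore p ↥H).map H.subtype) := by
      have hprod := Cfsg.Agent.S4023.card_sup_mul_card_inf (U'.map H.subtype)
        ((U'.map H.subtype).map (MulAut.conj g).toMonoidHom)
        (hUH.trans (le_normalizer_of_conj H _ hVn))
      rw [hUcard, hVcard] at hprod
      have hd1 : Nat.card ↥((pPrimeCore p ↥H).map H.subtype) ∣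
          Nat.card ↥(U'.map H.subtype ⊓ (U'.map H.subtype).map (MulAut.conj g).toMonoidHom) :=
        Subgroup.card_dvd_of_le (le_inf hOU hOV)
      have hd2 : Nat.card ↥(U'.map H.subtype ⊓ (U'.map H.subtype).map (MulAut.conj g).toMonoidHom)
          ∣ p ^ 2 * Nat.card ↥((pPrimeCore p ↥H).map H.subtype) := by
        rw [← hUcard]; exact Subgroup.card_dvd_of_le inf_le_left
      have hd3 : p ^ 3 ∣
          Nat.card ↥(U'.map H.subtype ⊔ (U'.map H.subtype).map (MulAut.conj g).toMonoidHom) := by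
        rw [← hcard]; exact Subgroup.card_dvd_of_le hPW
      have hd4 : ¬ p ^ 4 ∣
          Nat.card ↥(U'.map H.subtype ⊔ (U'.map H.subtype).map (MulAut.conj g).toMonoidHom) :=
        fun h => hno4 (h.trans (Subgroup.card_subgroup_dvd_card _))
      rw [hcard]
      generalize Nat.card ↥(U'.map H.subtype ⊔ (U'.map H.subtype).map (MulAut.conj g).toMonoidHom)
        = w at hprod hd3 hd4 ⊢
      generalize Nat.card ↥(U'.map H.subtype ⊓ (U'.map H.subtype).map (MulAut.conj g).toMonoidHom)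
        = a at hprod hd1 hd2
      have hcpos : 0 < Nat.card ↥((pPrimeCore p ↥H).map H.subtype) := Nat.card_pos
      generalize Nat.card ↥((pPrimeCore p ↥H).map H.subtype) = c at hprod hd1 hd2 hOcop hcpos ⊢
      obtain ⟨t, rfl⟩ := hd1
      have ht : t ∣ p ^ 2 := by
        have : c * t ∣ c * p ^ 2 := by rw [mul_comm c (p ^ 2)]; exact hd2
        exact (Nat.mul_dvd_mul_iff_left hcpos).1 this
      obtain ⟨j, hj, rfl⟩ := (Nat.dvd_prime_pow hp).1 ht
      have hwt : w * p ^ j = p ^ 4 * c := by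
        apply Nat.eq_of_mul_eq_mul_right hcpos
        calc w * p ^ j * c = w * (c * p ^ j) := by ring
          _ = p ^ 2 * c * (p ^ 2 * c) := hprod
          _ = p ^ 4 * c * c := by ring
      have hj' : j = 0 ∨ j = 1 ∨ j = 2 := by omega
      rcases hj' with rfl | rfl | rfl
      · exfalso
        apply hd4
        rw [pow_zero, mul_one] at hwt
        rw [hwt]; exact Dvd.intro _ rfl
      · apply Nat.eq_of_mul_eq_mul_right hp.pos
        rw [pow_one] at hwt
        rw [hwt]; ring
      · exfalso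
        have h1 : w = p ^ 2 * c := by
          apply Nat.eq_of_mul_eq_mul_right (pow_pos hp.pos 2)
          rw [hwt]; ring
        rw [h1] at hd3
        have h2 : p ^ 2 * p ∣ p ^ 2 * c := by
          have : p ^ 3 = p ^ 2 * p := by ring
          rw [← this]; exact hd3
        have h3 : p ∣ c := (Nat.mul_dvd_mul_iff_left (pow_pos hp.pos 2)).1 h2
        exact (Nat.Prime.coprime_iff_not_dvd hp).1 hOcop.symm h3
    exact final hC P H hPH _ hOcop _ hWn hPW (hOU.trans le_sup_left) hWcard hP1 hexp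
  · -- m = 3
    have hPW : (P : Subgroup G) ≤ U'.map H.subtype := by
      have h1 : (P : Subgroup G) ⊓ U'.map H.subtype = (P : Subgroup G) :=
        Subgroup.eq_of_le_of_card_ge inf_le_left (by rw [hPU, hcard])
      rw [← h1]; exact inf_le_right
    have hWcard : Nat.card ↥(U'.map H.subtype) =
        Nat.card (P : Subgroup G) * Nat.card ↥((pPrimeCore p ↥H).map H.subtype) := by
      rw [hUcard, hcard]
    exact final hC P H hPH _ hOcop _ hUn hPW hOU hWcard hP1 hexp

/-- If `P` is not contained in `H`, then `P` is cyclic. -/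
theorem part1 (hp2 : p ≠ 2)
    (hC : ∀ H K : Subgroup G, IsPGroup p H → IsPGroup p K → Nat.card H = Nat.card K →
      ∃ g : G, K = H.map (MulAut.conj g).toMonoidHom)
    (P : Sylow p G) (H : Subgroup G) [H.Normal] (hdiv : p ∣ Nat.card H)
    (hPH : ¬ (P : Subgroup G) ≤ H) : IsCyclic ↥(P : Subgroup G) := by
  have hp : p.Prime := Fact.out
  have hPp : IsPGroup p (P : Subgroup G) := P.isPGroup'
  obtain ⟨n, hn⟩ := IsPGroup.iff_card.1 hPp
  obtain ⟨k, hk⟩ := IsPGroup.iff_card.1 (hPp.to_le (inf_le_left : (P : Subgroup G) ⊓ H ≤ P))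
  have hHn : ∀ (K : Subgroup G) (g : G), K ≤ H → K.map (MulAut.conj g).toMonoidHom ≤ H := by
    intro K g hK x hx
    rw [mem_map_conj_iff] at hx
    have h2 := (inferInstance : H.Normal).conj_mem _ (hK hx) g
    have h3 : g * (g⁻¹ * x * g) * g⁻¹ = x := by group
    rw [h3] at h2
    exact h2
  -- `k ≥ 1`
  have hk1 : 1 ≤ k := by
    obtain ⟨x, hx⟩ := exists_prime_orderOf_dvd_card' p hdiv
    have hox : orderOf (x : G) = p := by rw [Subgroup.orderOf_coe, hx]
    have hpP : p ∣ Nat.card (P : Subgroup G) :=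
      P.dvd_card_of_dvd_card (hdiv.trans (Subgroup.card_subgroup_dvd_card H))
    obtain ⟨y, hy⟩ := exists_prime_orderOf_dvd_card' p hpP
    have hoy : orderOf (y : G) = p := by rw [Subgroup.orderOf_coe, hy]
    have hA : IsPGroup p ↥(Subgroup.zpowers (x : G)) := by
      apply IsPGroup.of_card (n := 1)
      rw [Nat.card_zpowers, hox, pow_one]
    have hB : IsPGroup p ↥(Subgroup.zpowers (y : G)) := hPp.to_le (Subgroup.zpowers_le.2 y.2)
    obtain ⟨g, hg⟩ := hC _ _ hA hB (by rw [Nat.card_zpowers, Nat.card_zpowers, hox, hoy])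
    have hle : Subgroup.zpowers (y : G) ≤ (P : Subgroup G) ⊓ H := by
      refine le_inf (Subgroup.zpowers_le.2 y.2) ?_
      rw [hg]
      exact hHn _ g (Subgroup.zpowers_le.2 x.2)
    have hd := Subgroup.card_dvd_of_le hle
    rw [Nat.card_zpowers, hoy, hk] at hd
    by_contra h0
    have hk0 : k = 0 := by omega
    rw [hk0, pow_zero] at hd
    exact hp.one_lt.ne' (Nat.dvd_one.1 hd)
  -- `k < n`
  have hkn : k < n := by
    have hne : (P : Subgroup G) ⊓ H ≠ (P : Subgroup G) := fun h => hPH (h ▸ inf_le_right)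
    have hd := Subgroup.card_dvd_of_le (inf_le_left : (P : Subgroup G) ⊓ H ≤ P)
    rw [hk, hn] at hd
    have hle := (Nat.pow_dvd_pow_iff_le_right hp.one_lt).1 hd
    rcases hle.lt_or_eq with h | h
    · exact h
    · exact absurd (Subgroup.eq_of_le_of_card_ge inf_le_left (by rw [hk, hn, h])) hne
  -- uniqueness of the subgroup of order `p ^ k`
  have huniq : ∀ K : Subgroup G, K ≤ (P : Subgroup G) → Nat.card K = p ^ k →
      K = (P : Subgroup G) ⊓ H := by
    intro K hK hKc
    obtain ⟨g, hg⟩ := hC ((P : Subgroup G) ⊓ H) K (hPp.to_le inf_le_left) (hPp.to_le hK)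
      (by rw [hk, hKc])
    have hKH : K ≤ H := by rw [hg]; exact hHn _ g inf_le_right
    exact Subgroup.eq_of_le_of_card_ge (le_inf hK hKH) (by rw [hk, hKc])
  refine Cfsg.Agent.S3977.main p k hk1 (Or.inl hp2) n ↥(P : Subgroup G) hn hkn ?_
  intro A B hA hB
  have hinj := (P : Subgroup G).subtype_injective
  have h1 := huniq (A.map (P : Subgroup G).subtype) (Subgroup.map_subtype_le A)
    (by rw [Subgroup.card_map_of_injective hinj, hA])
  have h2 := huniq (B.map (P : Subgroup G).subtype) (Subgroup.map_subtype_le B)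
    (by rw [Subgroup.card_map_of_injective hinj, hB])
  exact Subgroup.map_injective hinj (h1.trans h2.symm)

end main

/-- Let p be an odd prime and G a finite group in which any two p-subgroups of the same order are conjugate, with Sylow p-subgroup P. If H is a normal p-solvable subgroup of G whose order is divisible by p, then P is abelian, and either P ≤ H or P is cyclic. -/
theorem result {G : Type*} [Group G] [Finite G]
    {p : ℕ} [Fact p.Prime] (hp : p ≠ 2) (hC : ∀ H K : Subgroup G, IsPGroup p H → IsPGroup p K → Nat.card H = Nat.card K →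
      ∃ g : G, K = H.map (MulAut.conj g).toMonoidHom) (P : Sylow p G)
    (H : Subgroup G) [H.Normal] (hsolv : Cfsg.IsPSolvable p H) (hdiv : p ∣ Nat.card H) :
    IsMulCommutative P ∧ ((P : Subgroup G) ≤ H ∨ IsCyclic P) := by
  rcases Cfsg.Agent.S4023.result hC P with hcyc | hel | ⟨h2, _⟩ | ⟨_, hnab, hc3, hexp⟩
  · have hcyc' : IsCyclic ↥(P : Subgroup G) := hcyc
    exact ⟨IsCyclic.isMulCommutative, Or.inr hcyc⟩
  · refine ⟨hel.1, ?_⟩
    by_cases hPH : (P : Subgroup G) ≤ H
    · exact Or.inl hPH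
    · exact Or.inr (part1 hp hC P H hdiv hPH)
  · exact absurd h2 hp
  · exfalso
    by_cases hPH : (P : Subgroup G) ≤ H
    · apply hnab
      have hexp' : ∀ x ∈ (P : Subgroup G), x ^ p = 1 := by
        intro x hx
        have h1 : (⟨x, hx⟩ : ↥(P : Subgroup G)) ^ p = 1 := by
          have := Monoid.pow_exponent_eq_one (⟨x, hx⟩ : ↥(P : Subgroup G))
          rw [hexp] at this; exact this
        simpa using congrArg Subtype.val h1
      have hk := key hC P H hsolv hPH hc3 hexp'
      exact ⟨⟨fun a b => Subtype.ext (hk a.1 a.2 b.1 b.2)⟩⟩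
    · have hcyc : IsCyclic ↥(P : Subgroup G) := part1 hp hC P H hdiv hPH
      exact hnab IsCyclic.isMulCommutative

end Cfsg.Agent.S4024
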