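-- Statement S0941: inflation bijection of blocks for a normal p-subgroup P with G/C_G(P) a p-group.
import Mathlib
import Cfsg.Statements.S0941
import Cfsg.Agent.H84.BlockDom

set_option autoImplicit false
open Cfsg

namespace Cfsg.Agent.S0941

open Cfsg.Agent.H84

/-- Let P be a normal p-subgroup of the finite group G such that the index of C_G(P) is a power of p, and fix a maximal ideal M of the algebraic integers containing p. Then (i) two irreducible characters of G ⧸ P lie in the same block if and only if their inflations to G do, and (ii) every block of G contains the inflation of some irreducible character of G ⧸ P; so inflation induces a bijection between the blocks of G ⧸ P and the blocks of G. -/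
theorem result {G : Type*} [Group G] [Finite G] (p : ℕ) [Fact p.Prime] (M : Ideal Cfsg.AlgInt) (hM : Cfsg.IsPModular p M) (P : Subgroup G) [P.Normal] (hP : IsPGroup p P) (hC : ∃ k : ℕ, (Subgroup.centralizer (P : Set G)).index = p ^ k) : (∀ χ ψ : Cfsg.IrrCharacter (G ⧸ P), Cfsg.SameBlock M (χ : G ⧸ P → ℂ) (ψ : G ⧸ P → ℂ) ↔ Cfsg.SameBlock M ((χ : G ⧸ P → ℂ) ∘ QuotientGroup.mk) ((ψ : G ⧸ P → ℂ) ∘ QuotientGroup.mk)) ∧ ∀ B : Set (Cfsg.IrrCharacter G), Cfsg.IsPBlock M B → ∃ χ : Cfsg.IrrCharacter (G ⧸ P), ∃ θ ∈ B, (θ : G → ℂ) = (χ : G ⧸ P → ℂ) ∘ QuotientGroup.mk := by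
  classical
  have _ : Fintype G := Fintype.ofFinite G
  have hMp := Cfsg.Agent.H20.isPrime_of_isPModular hM
  have hp : p.Prime := Fact.out
  refine ⟨fun χ ψ => ⟨fun h => sameBlock_comp_mk hMp _ _ _ h, fun h => ?_⟩, ?_⟩
  · refine sameBlock_of_comp_mk hM P hP ?_ χ ψ h
    intro q hq
    left
    obtain ⟨g, rfl, hg⟩ := exists_regular_lift hp P q hq
    refine ⟨g, rfl, hg, ?_⟩
    obtain ⟨k, hk⟩ := hC
    have h1 : g ^ p ^ k ∈ Subgroup.centralizer (P : Set G) :=
      hk ▸ Subgroup.pow_index_mem _ g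
    have hcop : Nat.Coprime (p ^ k) (orderOf g) :=
      Nat.Coprime.pow_left k ((Nat.Prime.coprime_iff_not_dvd hp).mpr hg)
    have hφ : 0 < Nat.totient (orderOf g) := Nat.totient_pos.mpr (orderOf_pos g)
    have h2 : (g ^ p ^ k) ^ (p ^ k) ^ (Nat.totient (orderOf g) - 1) = g := by
      rw [← pow_mul, ← pow_succ', Nat.sub_add_cancel hφ]
      have h3 : (p ^ k) ^ Nat.totient (orderOf g) ≡ 1 [MOD orderOf g] :=
        Nat.ModEq.pow_totient hcop
      rw [pow_eq_pow_iff_modEq.mpr h3, pow_one]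
    rw [← h2]
    exact Subgroup.pow_mem _ h1 _
  · rintro B ⟨χ₀, rfl⟩
    obtain ⟨θ, hθB, hθker⟩ := exists_mem_block_ker hM P hP χ₀
    obtain ⟨χ, hχ⟩ := Cfsg.Agent.H82.exists_deflate P θ hθker
    exact ⟨χ, θ, hθB, by rw [← hχ]; rfl⟩

end Cfsg.Agent.S0941
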