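import Cfsg.Statements.S4735
import Cfsg.Agent.H81.Lambda
import Cfsg.Agent.H81.Reg
import Cfsg.Agent.S0967
import Cfsg.Agent.S0145
import Cfsg.Agent.H84.BlockDom
import Cfsg.Agent.H80.GroupBasic

set_option autoImplicit false
set_option linter.style.haveILetI false
open Cfsg

namespace Cfsg.Agent.S4735

/-- Let p be a prime, M a maximal ideal of the algebraic integers containing p, G a finite group, H = O_p'(G) and Ḡ = G/H. For x ∈ G write λ(G, x) for the sum of |χ(x)|^2 over the irreducible characters χ in the principal p-block of G. Then λ(G, x) is a positive integer, λ(G, x) = λ(Ḡ, x̄) where x̄ is the image of x, and λ(G, x) ≤ #C_Ḡ(x̄). Moreover λ(G, 1) = [G : H] if and only if the principal block is the only p-block of Ḡ. -/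
theorem result {G : Type*} [Group G] [Finite G] (p : ℕ) [Fact p.Prime] (M : Ideal Cfsg.AlgInt) (hM : Cfsg.IsPModular p M) (x : G) : (∃ n : ℕ, 0 < n ∧ ∑ᶠ χ ∈ Cfsg.principalBlock M G, Complex.normSq ((χ : G → ℂ) x) = n) ∧ ∑ᶠ χ ∈ Cfsg.principalBlock M G, Complex.normSq ((χ : G → ℂ) x) = ∑ᶠ ψ ∈ Cfsg.principalBlock M (G ⧸ Cfsg.pPrimeCore p G), Complex.normSq ((ψ : G ⧸ Cfsg.pPrimeCore p G → ℂ) (QuotientGroup.mk x)) ∧ ∑ᶠ χ ∈ Cfsg.principalBlock M G, Complex.normSq ((χ : G → ℂ) x) ≤ (Nat.card ↥(Subgroup.centralizer ({(QuotientGroup.mk x : G ⧸ Cfsg.pPrimeCore p G)} : Set (G ⧸ Cfsg.pPrimeCore p G))) : ℝ) ∧ ((∑ᶠ χ ∈ Cfsg.principalBlock M G, Cfsg.charDegree (χ : G → ℂ) ^ 2) = (Cfsg.pPrimeCore p G).index ↔ ∀ B : Set (Cfsg.IrrCharacter (G ⧸ Cfsg.pPrimeCore p G)), Cfsg.IsPBlock M B → B = Cfsg.principalBlock M (G ⧸ Cfsg.pPrimeCore p G)) := by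
  classical
  haveI : Fintype G := Fintype.ofFinite G
  have hp : p.Prime := Fact.out
  have hMp : M.IsPrime := Cfsg.Agent.H20.isPrime_of_isPModular hM
  have hN : ¬ p ∣ Nat.card (Cfsg.pPrimeCore p G) := by
    have hc := Cfsg.Agent.H80.pPrimeCore_coprime p G
    intro hd
    exact hp.one_lt.ne' (Nat.Coprime.eq_one_of_dvd hc.symm hd)
  have hmemiff : ∀ ψ : Cfsg.IrrCharacter (G ⧸ Cfsg.pPrimeCore p G),
      Cfsg.Agent.H82.inflate (Cfsg.pPrimeCore p G) ψ ∈ Cfsg.principalBlock M G ↔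
        ψ ∈ Cfsg.principalBlock M (G ⧸ Cfsg.pPrimeCore p G) := by
    intro ψ
    constructor
    · intro h
      exact Cfsg.Agent.H79.sameBlock_of_comp_mk_of_not_dvd hM (Cfsg.pPrimeCore p G) hN
        (Cfsg.Agent.H80.trivChar (G ⧸ Cfsg.pPrimeCore p G)) ψ h
    · intro h
      exact Cfsg.Agent.H84.sameBlock_comp_mk hMp (Cfsg.pPrimeCore p G) (fun _ => 1) ψ.1 h
  have hbij : Set.BijOn (Cfsg.Agent.H82.inflate (Cfsg.pPrimeCore p G))
      (Cfsg.principalBlock M (G ⧸ Cfsg.pPrimeCore p G)) (Cfsg.principalBlock M G) := by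
    refine ⟨fun ψ h => (hmemiff ψ).mpr h,
      (Cfsg.Agent.H82.inflate_injective (Cfsg.pPrimeCore p G)).injOn, ?_⟩
    intro χ hχ
    obtain ⟨ψ', h1, h2⟩ := Cfsg.Agent.S0967.result p M hM (Cfsg.pPrimeCore p G) hN
      (Cfsg.Agent.H80.trivChar (G ⧸ Cfsg.pPrimeCore p G)) χ hχ
    exact ⟨ψ', h2, Subtype.ext h1.symm⟩
  have hpart2 : ∑ᶠ χ ∈ Cfsg.principalBlock M G, Complex.normSq ((χ : G → ℂ) x) =
      ∑ᶠ ψ ∈ Cfsg.principalBlock M (G ⧸ Cfsg.pPrimeCore p G),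
        Complex.normSq ((ψ : G ⧸ Cfsg.pPrimeCore p G → ℂ) (QuotientGroup.mk x)) :=
    (finsum_mem_eq_of_bijOn (Cfsg.Agent.H82.inflate (Cfsg.pPrimeCore p G)) hbij
      (fun ψ _ => rfl)).symm
  haveI : Finite (Cfsg.IrrCharacter (G ⧸ Cfsg.pPrimeCore p G)) :=
    Cfsg.Agent.H80.irr_finite (G ⧸ Cfsg.pPrimeCore p G)
  haveI : Fintype (Cfsg.IrrCharacter (G ⧸ Cfsg.pPrimeCore p G)) := Fintype.ofFinite _
  refine ⟨Cfsg.Agent.H81.principal_normSq_sum_nat M hMp x, hpart2, ?_, ?_⟩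
  · rw [hpart2, finsum_mem_def, finsum_eq_sum_of_fintype]
    have h145 := (Cfsg.Agent.S0145.result (G := G ⧸ Cfsg.pPrimeCore p G)
      (QuotientGroup.mk x) (QuotientGroup.mk x)).1 (IsConj.refl _)
    rw [finsum_eq_sum_of_fintype] at h145
    have hall : ∑ ψ : Cfsg.IrrCharacter (G ⧸ Cfsg.pPrimeCore p G),
        Complex.normSq ((ψ : G ⧸ Cfsg.pPrimeCore p G → ℂ) (QuotientGroup.mk x)) =
        (Nat.card ↥(Subgroup.centralizer ({(QuotientGroup.mk x : G ⧸ Cfsg.pPrimeCore p G)} :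
          Set (G ⧸ Cfsg.pPrimeCore p G))) : ℝ) := by
      apply Complex.ofReal_injective
      rw [Complex.ofReal_sum]
      push_cast
      rw [← h145]
      apply Finset.sum_congr rfl
      intro ψ _
      rw [Complex.mul_conj]
    rw [← hall]
    apply Finset.sum_le_sum
    intro ψ _
    rw [Set.indicator_apply]
    split_ifs
    · exact le_refl _
    · exact Complex.normSq_nonneg _
  · have h1 : (∑ᶠ χ ∈ Cfsg.principalBlock M G, Cfsg.charDegree (χ : G → ℂ) ^ 2) =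
        ∑ᶠ ψ ∈ Cfsg.principalBlock M (G ⧸ Cfsg.pPrimeCore p G),
          Cfsg.charDegree (ψ : G ⧸ Cfsg.pPrimeCore p G → ℂ) ^ 2 :=
      (finsum_mem_eq_of_bijOn (Cfsg.Agent.H82.inflate (Cfsg.pPrimeCore p G)) hbij
        (fun ψ _ => by rw [Cfsg.Agent.H82.charDegree_inflate])).symm
    have hall : ∑ ψ : Cfsg.IrrCharacter (G ⧸ Cfsg.pPrimeCore p G),
        Cfsg.charDegree (ψ : G ⧸ Cfsg.pPrimeCore p G → ℂ) ^ 2 = (Cfsg.pPrimeCore p G).index := by
      have h145 := (Cfsg.Agent.S0145.result (G := G ⧸ Cfsg.pPrimeCore p G) 1 1).1 (IsConj.refl _)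
      rw [finsum_eq_sum_of_fintype] at h145
      have hc : Subgroup.centralizer ({1} : Set (G ⧸ Cfsg.pPrimeCore p G)) = ⊤ := by
        rw [Subgroup.centralizer_eq_top_iff_subset]
        simp
      rw [hc, Subgroup.card_top] at h145
      rw [Subgroup.index_eq_card]
      have h2 : ((∑ ψ : Cfsg.IrrCharacter (G ⧸ Cfsg.pPrimeCore p G),
          Cfsg.charDegree (ψ : G ⧸ Cfsg.pPrimeCore p G → ℂ) ^ 2 : ℕ) : ℂ) =
          (Nat.card (G ⧸ Cfsg.pPrimeCore p G) : ℂ) := by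
        rw [← h145]
        push_cast
        apply Finset.sum_congr rfl
        intro ψ _
        rw [(Cfsg.Agent.H81.irr_charDegree ψ).1, Complex.conj_natCast, pow_two]
      exact_mod_cast h2
    rw [h1, finsum_mem_def, finsum_eq_sum_of_fintype, ← hall]
    have huniv : (∀ B : Set (Cfsg.IrrCharacter (G ⧸ Cfsg.pPrimeCore p G)), Cfsg.IsPBlock M B →
        B = Cfsg.principalBlock M (G ⧸ Cfsg.pPrimeCore p G)) ↔
        ∀ ψ : Cfsg.IrrCharacter (G ⧸ Cfsg.pPrimeCore p G),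
          ψ ∈ Cfsg.principalBlock M (G ⧸ Cfsg.pPrimeCore p G) := by
      constructor
      · intro h ψ
        have h2 := h (Cfsg.blockOf M (ψ : G ⧸ Cfsg.pPrimeCore p G → ℂ)) ⟨ψ, rfl⟩
        rw [← h2]
        exact Cfsg.Agent.H80.mem_blockOf_self hMp ψ
      · rintro h B ⟨χ, rfl⟩
        exact Cfsg.Agent.H80.blockOf_eq_of_mem hMp (h χ)
    rw [huniv]
    constructor
    · intro hsum ψ₀
      by_contra hψ₀
      have hlt : ∑ ψ : Cfsg.IrrCharacter (G ⧸ Cfsg.pPrimeCore p G),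
          (Cfsg.principalBlock M (G ⧸ Cfsg.pPrimeCore p G)).indicator
            (fun ψ => Cfsg.charDegree (ψ : G ⧸ Cfsg.pPrimeCore p G → ℂ) ^ 2) ψ <
          ∑ ψ : Cfsg.IrrCharacter (G ⧸ Cfsg.pPrimeCore p G),
            Cfsg.charDegree (ψ : G ⧸ Cfsg.pPrimeCore p G → ℂ) ^ 2 := by
        apply Finset.sum_lt_sum
        · intro ψ _
          rw [Set.indicator_apply]
          split_ifs
          · exact le_refl _
          · exact Nat.zero_le _
        · refine ⟨ψ₀, Finset.mem_univ _, ?_⟩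
          rw [Set.indicator_apply, if_neg hψ₀]
          exact pow_pos (Cfsg.Agent.H81.irr_charDegree ψ₀).2 2
      exact hlt.ne hsum
    · intro h
      apply Finset.sum_congr rfl
      intro ψ _
      rw [Set.indicator_apply, if_pos (h ψ)]

end Cfsg.Agent.S4735
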