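import Cfsg.Statements.S0944
import Cfsg.Agent.H4.CharBasic

set_option autoImplicit false
open Cfsg

namespace Cfsg.Agent.S0944

open Cfsg.Agent.H4

/-- Let χ be an irreducible character of the finite group G and u an involution. Then χ u is a rational integer n with n ≡ χ 1 (mod 2). -/
theorem result {G : Type*} [Group G] [Finite G] (χ : Cfsg.IrrCharacter G) (u : G) (hu : orderOf u = 2) : ∃ n : ℤ, (χ : G → ℂ) u = (n : ℂ) ∧ (2 : ℤ) ∣ (Cfsg.charDegree (χ : G → ℂ) : ℤ) - n := by
  classical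
  obtain ⟨χ, n, ρ, hρ, rfl⟩ := χ
  have hdeg : Cfsg.charDegree ρ.character = n := by
    unfold Cfsg.charDegree
    rw [Representation.char_one]
    simp
  have hsum := character_eq_sum ρ u
  have hmult := sum_eigMult ρ u
  have hfr : Module.finrank ℂ (Fin n → ℂ) = n := by simp
  rw [hfr] at hmult
  have hμ : ∀ μ ∈ eigFinset ρ u, μ = 1 ∨ μ = -1 := by
    intro μ hμ
    have h := eigFinset_pow_orderOf ρ hμ
    rw [hu] at h
    have : (μ - 1) * (μ + 1) = 0 := by ring_nf; rw [h]; ring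
    rcases mul_eq_zero.1 this with h1 | h1
    · left; exact sub_eq_zero.1 h1
    · right; exact eq_neg_of_add_eq_zero_left h1
  set b : ℕ := ∑ μ ∈ eigFinset ρ u, (if μ = -1 then eigMult ρ u μ else 0) with hb
  refine ⟨(n : ℤ) - 2 * (b : ℤ), ?_, ?_⟩
  · show ρ.character u = _
    rw [hsum]
    have h1 : ∀ μ ∈ eigFinset ρ u, (eigMult ρ u μ : ℂ) * μ
        = (eigMult ρ u μ : ℂ) - 2 * ((if μ = -1 then eigMult ρ u μ else 0 : ℕ) : ℂ) := by
      intro μ hμm
      rcases hμ μ hμm with h | h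
      · have : ¬ (μ = -1) := by rw [h]; norm_num
        rw [if_neg this, h]; simp
      · rw [if_pos h, h]; ring
    rw [Finset.sum_congr rfl h1, Finset.sum_sub_distrib, ← Finset.mul_sum]
    have h2 : (∑ μ ∈ eigFinset ρ u, (eigMult ρ u μ : ℂ)) = (n : ℂ) := by
      have := congrArg (Nat.cast : ℕ → ℂ) hmult
      push_cast at this
      exact this
    have h3 : (∑ μ ∈ eigFinset ρ u, ((if μ = -1 then eigMult ρ u μ else 0 : ℕ) : ℂ)) = (b : ℂ) := by
      rw [hb]; push_cast; rfl
    rw [h2, h3]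
    push_cast
    ring
  · rw [hdeg]
    exact ⟨b, by ring⟩

end Cfsg.Agent.S0944
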