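import Cfsg.Statements.S4702
import Cfsg.Agent.H60.Sharp3Main

set_option autoImplicit false
open Cfsg

namespace Cfsg.Agent.S4702

/-- Let G be a triply transitive permutation group on a finite set of odd size m ≥ 3 in which only the identity fixes three or more points. Then m = 2^a + 1 for some a ≥ 1 and G is isomorphic to SL(2, 2^a). -/
theorem result {α : Type*} [Fintype α] [DecidableEq α] (hm : 3 ≤ Fintype.card α) (hodd : Odd (Fintype.card α)) (G : Subgroup (Equiv.Perm α)) (h3 : MulAction.IsMultiplyPretransitive G α 3) (hfix : ∀ g : G, 3 ≤ Nat.card (MulAction.fixedBy α g) → g = 1) : ∃ a : ℕ, 1 ≤ a ∧ Fintype.card α = 2 ^ a + 1 ∧ ∃ (F : Type) (_ : Field F) (_ : Fintype F), Fintype.card F = 2 ^ a ∧ Nonempty (G ≃* Matrix.SpecialLinearGroup (Fin 2) F) := by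
  have h3' : ∀ a b c a' b' c' : α, a ≠ b → a ≠ c → b ≠ c → a' ≠ b' → a' ≠ c' → b' ≠ c' →
      ∃ g : G, g • a = a' ∧ g • b = b' ∧ g • c = c' := by
    intro a b c a' b' c' hab hac hbc hab' hac' hbc'
    obtain ⟨g, hg⟩ := h3.exists_smul_eq (H60.triEmb a b c hab hac hbc)
      (H60.triEmb a' b' c' hab' hac' hbc')
    refine ⟨g, ?_, ?_, ?_⟩
    · exact congrArg (fun x : Fin 3 ↪ α => x 0) hg
    · exact congrArg (fun x : Fin 3 ↪ α => x 1) hg
    · exact congrArg (fun x : Fin 3 ↪ α => x 2) hg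
  have hs' : ∀ (g : G) (a b c : α), a ≠ b → a ≠ c → b ≠ c → g • a = a → g • b = b →
      g • c = c → g = 1 := by
    intro g a b c hab hac hbc ha hb hc
    apply hfix
    have hsub : ({a, b, c} : Set α) ⊆ MulAction.fixedBy α g := by
      intro x hx
      rw [MulAction.mem_fixedBy]
      rcases hx with rfl | rfl | rfl
      · exact ha
      · exact hb
      · exact hc
    have hcard : ({a, b, c} : Set α).ncard = 3 := by
      rw [Set.ncard_eq_three]
      exact ⟨a, b, c, hab, hac, hbc, rfl⟩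
    calc 3 = ({a, b, c} : Set α).ncard := hcard.symm
      _ ≤ (MulAction.fixedBy α g).ncard := Set.ncard_le_ncard hsub (Set.toFinite _)
      _ = Nat.card (MulAction.fixedBy α g) := (Nat.card_coe_set_eq _).symm
  obtain ⟨q, hq⟩ : ∃ q : ℕ, Fintype.card α = q + 1 := ⟨Fintype.card α - 1, by omega⟩
  have hqe : Even q := by
    rcases hodd with ⟨k, hk⟩
    exact ⟨k, by omega⟩
  have hq2 : 2 ≤ q := by omega
  obtain ⟨F, -, -, h1⟩ := H60.sharp3_abstract h3' hs' q hq hqe hq2
  have h2c : ringChar (Fin q) = 2 := by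
    rw [FiniteField.even_card_iff_char_two, Fintype.card_fin]
    exact Nat.even_iff.mp hqe
  have hch : CharP (Fin q) 2 := ringChar.of_eq h2c
  obtain ⟨n, -, hn⟩ := FiniteField.card (Fin q) 2
  rw [Fintype.card_fin] at hn
  exact ⟨n, n.pos, by rw [hq, hn], Fin q, F, inferInstance, by rw [Fintype.card_fin, hn], h1⟩

end Cfsg.Agent.S4702
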