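import Cfsg.Statements.S4658
import Cfsg.Agent.H80.SubpairStep

set_option autoImplicit false
set_option linter.style.haveILetI false
open Cfsg

namespace Cfsg.Agent.S4658

open Cfsg.Agent.H20 Cfsg.Agent.H4 Cfsg.Agent.H80

/-- One normal step: if `(Q, f)` is normally below `(P, e)`, then `(P, e)` is a Brauer pair of the
block `B` iff `(Q, f)` is. -/
theorem step {G : Type*} [Group G] [Fintype G] (p : ℕ) [Fact p.Prime] (M : Ideal Cfsg.AlgInt)
    (hM : Cfsg.IsPModular p M) (Q P : Subgroup G)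
    (f : Set (Cfsg.IrrCharacter (Subgroup.centralizer (Q : Set G))))
    (e : Set (Cfsg.IrrCharacter (Subgroup.centralizer (P : Set G))))
    (h : Cfsg.IsNormalSubpair p M Q f P e) (B : Set (Cfsg.IrrCharacter G))
    (hB : Cfsg.IsPBlock M B) :
    Cfsg.IsBrauerPairOf p M B P e ↔ Cfsg.IsBrauerPairOf p M B Q f := by
  classical
  haveI : Fintype ↥(Subgroup.centralizer (P : Set G)) := Fintype.ofFinite _
  haveI : Fintype ↥(Subgroup.centralizer (Q : Set G)) := Fintype.ofFinite _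
  have hMp := isPrime_of_isPModular hM
  obtain ⟨⟨hQ, hf⟩, ⟨hP, ξ₀, rfl⟩, hQP, hPN, hstab, hlam⟩ := h
  have hlam' : ∀ ξ ∈ blockOf M ξ₀.1,
      MemLocalIdeal M (brLam P ξ.1 (zB (Subgroup.centralizer (Q : Set G)) f) - 1) := by
    intro ξ hξ
    have := hlam ξ hξ
    rwa [brauerOmega_subgroupBlockCoeff] at this
  have hE : blockElt B ∈ brRing P hMp := by
    obtain ⟨χ, rfl⟩ := hB
    exact cfSubring_le_brRing P hMp (blockElt_mem hMp χ)
  have hEK : IsInv (Subgroup.centralizer (Q : Set G)) (blockElt B) :=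
    isInv_of_isCF _ (isCF_blockElt B)
  have hboP : ∀ ξ : Subgroup.centralizer (P : Set G) → ℂ,
      brauerOmega P (blockCoeff B) ξ = brLam P ξ (blockElt B) := fun ξ =>
    brauerOmega_eq P (blockCoeff B) (blockElt B) (fun g => (coeff_blockElt B g).symm) ξ
  have hboQ : ∀ θ : Subgroup.centralizer (Q : Set G) → ℂ,
      brauerOmega Q (blockCoeff B) θ
        = omega θ (truncTo (Subgroup.centralizer (Q : Set G)) (blockElt B)) := fun θ =>
    brauerOmega_eq Q (blockCoeff B) (blockElt B) (fun g => (coeff_blockElt B g).symm) θ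
  constructor
  · rintro ⟨-, -, h1⟩
    refine ⟨⟨hQ, hf⟩, hB, fun θ hθ => ?_⟩
    rw [hboQ]
    have h2 := h1 ξ₀ (mem_blockOf_self hMp ξ₀)
    rw [hboP] at h2
    exact step_down p P Q hM hP hQP hPN hf hstab hE hEK (blockElt_mul_self B) ξ₀
      (hlam' ξ₀ (mem_blockOf_self hMp ξ₀)) h2 θ hθ
  · rintro ⟨-, -, h1⟩
    refine ⟨⟨hP, ξ₀, rfl⟩, hB, fun ξ hξ => ?_⟩
    rw [hboP]
    exact step_up p P Q hM hP hQP hPN hf hstab hE hEK ξ (hlam' ξ hξ) (fun θ hθ => by
      have := h1 θ hθ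
      rwa [hboQ] at this)

/-- Fix a prime p and a maximal ideal M of the algebraic integers containing p. Let (Q, f) ≤ (P, e) be Brauer pairs of the finite group G and B a p-block of G. Then (P, e) is a Brauer pair of B if and only if (Q, f) is. -/
theorem result {G : Type*} [Group G] [Fintype G] (p : ℕ) [Fact p.Prime] (M : Ideal Cfsg.AlgInt) (hM : Cfsg.IsPModular p M) (P Q : Subgroup G) (e : Set (Cfsg.IrrCharacter (Subgroup.centralizer (P : Set G)))) (f : Set (Cfsg.IrrCharacter (Subgroup.centralizer (Q : Set G)))) (hPe : Cfsg.IsBrauerPair p M P e) (hQf : Cfsg.IsBrauerPair p M Q f) (hle : Cfsg.SubpairLE p M Q f P e) (B : Set (Cfsg.IrrCharacter G)) (hB : Cfsg.IsPBlock M B) : Cfsg.IsBrauerPairOf p M B P e ↔ Cfsg.IsBrauerPairOf p M B Q f := by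
  have key : ∀ a b : BrauerPairIdx G, Relation.ReflTransGen (NormalSubpairRel p M) a b →
      (IsBrauerPairOf p M B b.1 b.2 ↔ IsBrauerPairOf p M B a.1 a.2) := by
    intro a b hab
    induction hab with
    | refl => exact Iff.rfl
    | tail _ hbc ih => exact (step p M hM _ _ _ _ hbc B hB).trans ih
  exact key ⟨Q, f⟩ ⟨P, e⟩ hle

end Cfsg.Agent.S4658
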