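import Cfsg.Statements.S4656
import Cfsg.Agent.H80.Subpair

set_option autoImplicit false
set_option linter.style.haveILetI false
open Cfsg

namespace Cfsg.Agent.S4656

open Cfsg.Agent.H20 Cfsg.Agent.H4 Cfsg.Agent.H80

/-- Fix a prime p and a maximal ideal M of the algebraic integers containing p. Let (P, e) be a Brauer pair of the finite group G and Q a normal subgroup of P. Then there is exactly one p-block f of C_G(Q) that is stable under conjugation by P and such that e occurs in the Brauer-map image at P of the idempotent of f; that is, exactly one f with (Q, f) normally below (P, e). -/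
theorem result {G : Type*} [Group G] [Fintype G] (p : ℕ) [Fact p.Prime] (M : Ideal Cfsg.AlgInt) (hM : Cfsg.IsPModular p M) (P Q : Subgroup G) (e : Set (Cfsg.IrrCharacter (Subgroup.centralizer (P : Set G)))) (hPe : Cfsg.IsBrauerPair p M P e) (hQP : Q ≤ P) (hPN : P ≤ Subgroup.normalizer (Q : Set G)) : ∃! f : Set (Cfsg.IrrCharacter (Subgroup.centralizer (Q : Set G))), Cfsg.IsNormalSubpair p M Q f P e := by
  classical
  haveI : Fintype ↥(Subgroup.centralizer (P : Set G)) := Fintype.ofFinite _
  haveI : Fintype ↥(Subgroup.centralizer (Q : Set G)) := Fintype.ofFinite _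
  have hMp := isPrime_of_isPModular hM
  obtain ⟨hP, ξ₀, rfl⟩ := hPe
  have hPK : P ≤ Subgroup.normalizer ((Subgroup.centralizer (Q : Set G) : Subgroup G) : Set G) :=
    hPN.trans (normalizer_le_normalizer_centralizer Q)
  have hCK : Subgroup.centralizer (P : Set G) ≤ Subgroup.centralizer (Q : Set G) :=
    Subgroup.centralizer_le hQP
  obtain ⟨f, hf, hstab, h1⟩ :=
    exists_stable_block p P (Subgroup.centralizer (Q : Set G)) hM hP hPK hCK ξ₀
  have hQ : IsPGroup p Q := hP.to_le hQP
  refine ⟨f, ⟨⟨hQ, hf⟩, ⟨hP, ξ₀, rfl⟩, hQP, hPN, hstab, fun ξ hξ => ?_⟩, ?_⟩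
  · rw [brauerOmega_subgroupBlockCoeff]
    have h2 := brLam_congr_block P (zB_mem_brRing _ hMp hf P hCK hstab) (ξ := ξ) (ξ' := ξ₀)
      (sameBlock_symm hξ)
    have := memLocalIdeal_add hMp h2 h1
    rwa [sub_add_sub_cancel] at this
  · rintro f' ⟨⟨-, hf'⟩, -, -, -, hstab', h'⟩
    have h2 := h' ξ₀ (mem_blockOf_self hMp ξ₀)
    rw [brauerOmega_subgroupBlockCoeff] at h2
    exact (stable_block_unique p P _ hM hP hCK ξ₀ hf hf' hstab hstab' h1 h2).symm

end Cfsg.Agent.S4656
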