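import Cfsg.Statements.S4448
import Cfsg.Agent.H32.InvOver
import Cfsg.Agent.H4.GlaubP

set_option autoImplicit false
open Cfsg

namespace Cfsg.Agent.S4448

/-- Inside a finite group Γ let S normalise G and also normalise a normal subgroup N of G, with the order of S coprime to the index of N in G and G/N solvable. Then for every S-invariant irreducible character ϑ of N, the induced character ϑ^G has an S-invariant irreducible constituent. -/
theorem result {Γ : Type*} [Group Γ] [Fintype Γ] (G S N : Subgroup Γ) [Fintype G] [Fintype N] (hnorm : ∀ s ∈ S, ∀ g ∈ G, s * g * s⁻¹ ∈ G) (hNG : N ≤ G) [hNn : (N.subgroupOf G).Normal] (hNS : ∀ s ∈ S, ∀ n ∈ N, s * n * s⁻¹ ∈ N) (hcop : (N.relIndex G).Coprime (Nat.card S)) (hsolv : Group.IsSolvable (G ⧸ N.subgroupOf G)) (θ : Cfsg.IrrCharacter N) (hinv : (∀ s ∈ S, ∀ g g' : N, (g' : Γ) = s * g * s⁻¹ → (θ : N → ℂ) g' = (θ : N → ℂ) g)) : ∃ χ : Cfsg.IrrCharacter G, Cfsg.classInner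 (fun n : N => (χ : G → ℂ) ⟨n, hNG n.2⟩) (θ : N → ℂ) ≠ 0 ∧ (∀ s ∈ S, ∀ g g' : G, (g' : Γ) = s * g * s⁻¹ → (χ : G → ℂ) g' = (χ : G → ℂ) g) := by
  classical
  letI := Cfsg.Agent.H4.conjAct G S hnorm
  haveI : Fintype (N.subgroupOf G) := Fintype.ofFinite _
  have hN' : ∀ (s : S), ∀ n ∈ N.subgroupOf G, s • n ∈ N.subgroupOf G := by
    intro s n hn
    rw [Subgroup.mem_subgroupOf] at hn ⊢
    exact hNS s s.2 n hn
  have hθ' : Cfsg.IsIrrCharacter (N.subgroupOf G)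
      (fun x => (θ : N → ℂ) (Subgroup.subgroupOfEquivOfLe hNG x)) :=
    Cfsg.Agent.Clifford.isIrrCharacter_comp_equiv (Subgroup.subgroupOfEquivOfLe hNG) θ.2
  have hinv' : ∀ (s : S) (n : N.subgroupOf G),
      (fun x => (θ : N → ℂ) (Subgroup.subgroupOfEquivOfLe hNG x)) ⟨s • (n : G), hN' s n n.2⟩ =
        (fun x => (θ : N → ℂ) (Subgroup.subgroupOfEquivOfLe hNG x)) n := by
    intro s n
    exact hinv s s.2 (Subgroup.subgroupOfEquivOfLe hNG n)
      (Subgroup.subgroupOfEquivOfLe hNG ⟨s • (n : G), hN' s n n.2⟩) rfl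
  obtain ⟨χ, hχ, hχθ, hχinv⟩ := Cfsg.Agent.H32.exists_invariant_over_aux S
    (N.subgroupOf G).index ↥G (N.subgroupOf G) rfl hsolv hN' hcop _ hθ' hinv'
  refine ⟨⟨χ, hχ⟩, ?_, ?_⟩
  · have h7 := Cfsg.Agent.Clifford.classInner_comp_equiv (Subgroup.subgroupOfEquivOfLe hNG)
      (fun n : N => χ ⟨n, hNG n.2⟩) (θ : N → ℂ)
    rw [← h7]
    exact hχθ
  · exact (Cfsg.Agent.H4.conjAct_inv_iff G S hnorm χ).mpr hχinv

end Cfsg.Agent.S4448
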