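import Cfsg.Statements.S2063
import Cfsg.Agent.H94.DOut23

set_option autoImplicit false
open Cfsg

namespace Cfsg.Agent.S2063

open Cfsg.Agent.H9 Cfsg.Agent.H33 Cfsg.Agent.H94
open scoped Pointwise

/-! ### the group -/

theorem gPt23 : gPt 23 = (none : GolayPt) := by decide

theorem mem_M23 {g : Equiv.Perm GolayPt} : g ∈ Spor.M23 ↔ g ∈ M24 ∧ g (gPt 23) = gPt 23 := by
  rw [gPt23]
  exact Iff.rfl

theorem M23_le_M24 : Spor.M23 ≤ M24 := fun _ hg => (mem_M23.mp hg).1

theorem tE_mem23 : tE ∈ Spor.M23 :=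
  mem_M23.mpr ⟨tE_mem, (rep_apply rT (by norm_num)).trans (congrArg gPt (by decide +kernel))⟩

theorem yE_mem23 : yE ∈ Spor.M23 :=
  mem_M23.mpr ⟨yE_mem, (rep_apply rY (by norm_num)).trans (congrArg gPt (by decide +kernel))⟩

theorem dE_mem23 : cubeTwist ∈ Spor.M23 :=
  mem_M23.mpr ⟨dE_mem, (rep_apply rD (by norm_num)).trans (congrArg gPt (by decide +kernel))⟩

theorem card_M23 : Nat.card Spor.M23 = 10200960 := by
  have e : (MulAction.stabilizer M24 (none : GolayPt)).map M24.subtype = Spor.M23 := by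
    ext g
    constructor
    · rintro ⟨h, hh, rfl⟩
      exact ⟨h.2, hh⟩
    · rintro ⟨hg, h1⟩
      exact ⟨⟨g, hg⟩, h1, rfl⟩
  rw [← e, Subgroup.card_map_of_injective M24.subtype_injective]
  exact card_stabilizer_point _

theorem card_factor23 : (Nat.card ↥Spor.M23).factorization 23 = 1 := by
  rw [card_M23]
  have h : (10200960 : ℕ) = 23 ^ 1 * 443520 := by norm_num
  rw [h, Nat.factorization_mul (by norm_num) (by norm_num), Finsupp.add_apply,
    Nat.Prime.factorization_pow (by norm_num),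
    Nat.factorization_eq_zero_of_not_dvd (by norm_num)]
  simp

/-! ### generation -/

/-- the three generators -/
def gen3 : Set (Equiv.Perm GolayPt) := {tE, yE, cubeTwist}

theorem lvl0 : levelOK [23] [] 0 o23c0 = true := by decide +kernel

theorem lvl1 : levelOK [0, 23] [] 1 o23c1 = true := by decide +kernel

theorem lvl2 : levelOK [1, 0, 23] [] 2 o23c2 = true := by decide +kernel

theorem lvl3 : levelOK [2, 1, 0, 23] [] 3 o23c3 = true := by decide +kernel

theorem lvl4 : levelOK [3, 2, 1, 0, 23] [0x82402f] 4 o23c4 = true := by decide +kernel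

theorem certs_mem : (o23c0 ++ o23c1 ++ o23c2 ++ o23c3 ++ o23c4).all
    (fun P => memB P (slpRun o23prog o23init 7)) = true := by decide +kernel

theorem last_mem : allB (fun j => !(Nat.beq (lk (fldG u5 j) 23) 23) ||
    memB (fldG u5 j) (slpRun o23prog o23init 7)) 48 = true := by decide +kernel

theorem init_good : ∀ P ∈ o23init, ∃ g ∈ Subgroup.closure gen3, Rep P g := by
  have hT : tE ∈ Subgroup.closure gen3 := Subgroup.subset_closure (by simp [gen3])
  have hY : yE ∈ Subgroup.closure gen3 := Subgroup.subset_closure (by simp [gen3])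
  have hD : cubeTwist ∈ Subgroup.closure gen3 := Subgroup.subset_closure (by simp [gen3])
  intro P hP
  simp only [o23init, List.mem_cons, List.not_mem_nil, or_false] at hP
  rcases hP with rfl | rfl | rfl | rfl | rfl | rfl | rfl
  · exact ⟨_, inv_mem hD, rep_inv rD (by decide +kernel)⟩
  · exact ⟨_, hD, rD⟩
  · exact ⟨_, inv_mem hY, rYI⟩
  · exact ⟨_, hY, rY⟩
  · exact ⟨_, inv_mem hT, rep_inv rT (by decide +kernel)⟩
  · exact ⟨_, hT, rT⟩
  · have e : o23Id = idN := by decide +kernel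
    rw [e]
    exact ⟨1, one_mem _, rep_idN⟩

theorem gen_good : ∀ P ∈ slpRun o23prog o23init 7, ∃ g ∈ Subgroup.closure gen3, Rep P g :=
  slpRun_sound _ o23prog o23init 7 init_good

theorem M23_le : Spor.M23 ≤ Subgroup.closure gen3 := by
  have hall : ∀ P ∈ o23c0 ++ o23c1 ++ o23c2 ++ o23c3 ++ o23c4,
      ∃ g ∈ Subgroup.closure gen3, Rep P g := by
    intro P hP
    exact gen_good P ((memB_iff _ _).mp (List.all_eq_true.mp certs_mem P hP))
  simp only [List.mem_append] at hall
  have h5 : Stab [4, 3, 2, 1, 0, 23] ≤ Subgroup.closure gen3 := by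
    intro g hg
    have hg5 : g ∈ Stab [4, 3, 2, 1, 0] :=
      ⟨hg.1, fun i hi => hg.2 i (by
        simp only [List.mem_cons, List.not_mem_nil, or_false] at hi ⊢
        tauto)⟩
    obtain ⟨j, hj, hr⟩ := stab5_enum g hg5
    have h23 : lk (fldG u5 j) 23 = 23 := by
      rw [lk_of_rep hr (by norm_num), hg.2 23 (by simp), gIdx_gPt (by norm_num)]
    have hm := (allB_iff _ _).mp last_mem j hj
    rw [h23] at hm
    have hm' : memB (fldG u5 j) (slpRun o23prog o23init 7) = true := hm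
    obtain ⟨g', hg', hr'⟩ := gen_good _ ((memB_iff _ _).mp hm')
    rw [rep_uniq hr hr']
    exact hg'
  have h4 := Stab_le_step lvl4 _ (fun P hP => hall P (by tauto)) h5
  have h3 := Stab_le_step lvl3 _ (fun P hP => hall P (by tauto)) h4
  have h2 := Stab_le_step lvl2 _ (fun P hP => hall P (by tauto)) h3
  have h1 := Stab_le_step lvl1 _ (fun P hP => hall P (by tauto)) h2
  have h0 := Stab_le_step lvl0 _ (fun P hP => hall P (by tauto)) h1
  intro g hg
  refine h0 ⟨(mem_M23.mp hg).1, fun i hi => ?_⟩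
  rw [List.mem_singleton] at hi
  rw [hi]
  exact (mem_M23.mp hg).2

theorem closure_le_M23 : Subgroup.closure gen3 ≤ Spor.M23 := by
  rw [Subgroup.closure_le]
  intro g hg
  simp only [gen3, Set.mem_insert_iff, Set.mem_singleton_iff] at hg
  rcases hg with rfl | rfl | rfl
  · exact tE_mem23
  · exact yE_mem23
  · exact dE_mem23

theorem aut_ext_gens (α β : MulAut ↥Spor.M23)
    (hT : α ⟨tE, tE_mem23⟩ = β ⟨tE, tE_mem23⟩) (hY : α ⟨yE, yE_mem23⟩ = β ⟨yE, yE_mem23⟩)
    (hD : α ⟨cubeTwist, dE_mem23⟩ = β ⟨cubeTwist, dE_mem23⟩) : α = β := by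
  have key : ∀ y ∈ Subgroup.closure gen3, ∀ h : y ∈ Spor.M23, α ⟨y, h⟩ = β ⟨y, h⟩ := by
    intro y hy
    induction hy using Subgroup.closure_induction with
    | mem z hz =>
      intro h
      simp only [gen3, Set.mem_insert_iff, Set.mem_singleton_iff] at hz
      rcases hz with rfl | rfl | rfl
      · exact hT
      · exact hY
      · exact hD
    | one =>
      intro h
      exact (map_one α).trans (map_one β).symm
    | mul a b ha hb iha ihb =>
      intro h
      have ha' : a ∈ Spor.M23 := closure_le_M23 ha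
      have hb' : b ∈ Spor.M23 := closure_le_M23 hb
      have e : (⟨a * b, h⟩ : ↥Spor.M23) = ⟨a, ha'⟩ * ⟨b, hb'⟩ := rfl
      rw [e, map_mul, map_mul, iha ha', ihb hb']
    | inv a ha iha =>
      intro h
      have ha' : a ∈ Spor.M23 := closure_le_M23 ha
      have e : (⟨a⁻¹, h⟩ : ↥Spor.M23) = (⟨a, ha'⟩ : ↥Spor.M23)⁻¹ := rfl
      rw [e, map_inv, map_inv, iha ha']
  refine MulEquiv.ext fun x => ?_
  obtain ⟨x, hx⟩ := x
  exact key x (M23_le hx) hx

/-! ### the final check -/

/-- the packed conjugate of `X` by the `j`-th power of `x ↦ 2 x` -/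
def cjN (j X : ℕ) : ℕ := mulN (mulN (pwN o24Y j) X) (pwN o24YI j)

/-- the candidate images `T ^ k`, `D'` of the generators are obtained by conjugation with a power
of `x ↦ 2 x` or violate a relator -/
def finB (k D' : ℕ) : Bool :=
  anyB (fun j => eqN (pwN o24T k) (cjN j o24T) && eqN D' (cjN j o24D)) 11 ||
    !(isIdP (pwN (mulN (pwN o24T k) (mulN D' D')) 5))

theorem KF : allB (fun k => Nat.beq k 0 || o24lD.all (fun D' => finB k D')) 23 = true := by
  decide +kernel

theorem rel1 : (tE * (cubeTwist * cubeTwist)) ^ 5 = 1 :=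
  eq_one_of_isIdP (rep_pwN (rep_mulN rT (rep_mulN rD rD)) 5) (by decide +kernel)

/-! ### every automorphism is inner -/

theorem aut_inner (α : MulAut ↥Spor.M23) : ∃ g : ↥Spor.M23, α = MulAut.conj g := by
  obtain ⟨c, k, hk0, hk23, hαT, hαY⟩ :=
    front Spor.M23 M23_le_M24 tE_mem23 yE_mem23 card_factor23 α
  obtain ⟨tG, htG⟩ : ∃ tG : ↥Spor.M23, tG = ⟨tE, tE_mem23⟩ := ⟨_, rfl⟩
  obtain ⟨yG, hyG⟩ : ∃ yG : ↥Spor.M23, yG = ⟨yE, yE_mem23⟩ := ⟨_, rfl⟩
  obtain ⟨dG, hdG⟩ : ∃ dG : ↥Spor.M23, dG = ⟨cubeTwist, dE_mem23⟩ := ⟨_, rfl⟩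
  rw [← htG] at hαT
  rw [← hyG] at hαY
  have htv : (tG : Equiv.Perm GolayPt) = tE := by rw [htG]
  have hyv : (yG : Equiv.Perm GolayPt) = yE := by rw [hyG]
  have hdv : (dG : Equiv.Perm GolayPt) = cubeTwist := by rw [hdG]
  obtain ⟨γ, hγ⟩ : ∃ γ : MulAut ↥Spor.M23, γ = (MulAut.conj c)⁻¹ * α := ⟨_, rfl⟩
  have hγa : ∀ x, γ x = c⁻¹ * α x * c := by
    intro x
    rw [hγ, MulAut.mul_apply, MulAut.conj_inv_apply]
  have hγT : γ tG = tG ^ k := by
    rw [hγa, hαT]
    group
  have hγY : γ yG = yG := by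
    rw [hγa, hαY]
    group
  have hrelD : dG * yG = yG ^ 3 * dG := by
    apply Subtype.ext
    rw [Subgroup.coe_mul, Subgroup.coe_mul, Subgroup.coe_pow, hdv, hyv]
    exact relDY
  have hr1 : (tG * (dG * dG)) ^ 5 = 1 := by
    apply Subtype.ext
    rw [Subgroup.coe_pow]
    simp only [Subgroup.coe_mul]
    rw [htv, hdv, rel1]
    rfl
  have hD' : ((γ dG : ↥Spor.M23) : Equiv.Perm GolayPt) * yE
      = yE ^ 3 * ((γ dG : ↥Spor.M23) : Equiv.Perm GolayPt) := by
    have h1 : γ dG * γ yG = (γ yG) ^ 3 * γ dG := by rw [← map_pow, ← map_mul, ← map_mul, hrelD]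
    rw [hγY] at h1
    have := congrArg Subtype.val h1
    rw [Subgroup.coe_mul, Subgroup.coe_mul, Subgroup.coe_pow, hyv] at this
    exact this
  obtain ⟨Pd, hPd, hrd⟩ := d_cands (M23_le_M24 (γ dG).2) hD'
  have hrt : Rep (pwN o24T k) ((γ tG : ↥Spor.M23) : Equiv.Perm GolayPt) := by
    rw [hγT, Subgroup.coe_pow, htv]
    exact rep_pwN rT k
  have hfin := (allB_iff _ _).mp KF k hk23
  have hkb : Nat.beq k 0 = false := by
    rw [Bool.eq_false_iff]
    intro h
    have := Nat.eq_of_beq_eq_true h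
    omega
  rw [hkb, Bool.false_or] at hfin
  have hf := List.all_eq_true.mp hfin Pd hPd
  unfold finB at hf
  have hi1 : isIdP (pwN (mulN (pwN o24T k) (mulN Pd Pd)) 5) = true := by
    apply isIdP_of_rep_one
    have h1 : (γ tG * (γ dG * γ dG)) ^ 5 = 1 := by
      simp only [← map_mul, ← map_pow]
      rw [hr1, map_one]
    have h2 := congrArg Subtype.val h1
    rw [Subgroup.coe_pow] at h2
    simp only [Subgroup.coe_mul] at h2
    have h3 := rep_pwN (rep_mulN hrt (rep_mulN hrd hrd)) 5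
    rw [h2] at h3
    exact h3
  rw [hi1] at hf
  simp only [Bool.not_true, Bool.or_false] at hf
  obtain ⟨j, -, hj⟩ := (anyB_iff _ _).mp hf
  rw [Bool.and_eq_true] at hj
  obtain ⟨hj1, hj3⟩ := hj
  have hcj : ∀ {X : ℕ} {x : Equiv.Perm GolayPt}, Rep X x →
      Rep (cjN j X) (yE ^ j * x * (yE ^ j)⁻¹) := by
    intro X x hX
    rw [← inv_pow]
    exact rep_mulN (rep_mulN (rep_pwN rY j) hX) (rep_pwN rYI j)
  have hconj : ∀ x : ↥Spor.M23, ((MulAut.conj (yG ^ j) x : ↥Spor.M23) : Equiv.Perm GolayPt)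
      = yE ^ j * (x : Equiv.Perm GolayPt) * (yE ^ j)⁻¹ := by
    intro x
    rw [MulAut.conj_apply, Subgroup.coe_mul, Subgroup.coe_mul, Subgroup.coe_inv,
      Subgroup.coe_pow, hyv]
  have hγeq : γ = MulAut.conj (yG ^ j) := by
    rw [htG, hyG, hdG] at *
    apply aut_ext_gens
    · apply Subtype.ext
      rw [hconj]
      exact eq_of_eqN hrt (hcj rT) hj1
    · rw [hγY, MulAut.conj_apply]
      group
    · apply Subtype.ext
      rw [hconj]
      exact eq_of_eqN hrd (hcj rD) hj3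
  refine ⟨c * yG ^ j, ?_⟩
  rw [map_mul, ← hγeq, hγ, mul_inv_cancel_left]

/-- If every automorphism is inner, the outer automorphism group is trivial. -/
theorem out_card_one {G : Type*} [Group G] (h : ∀ α : MulAut G, ∃ g : G, α = MulAut.conj g) :
    Nat.card (Cfsg.Out G) = 1 := by
  have h1 : Cfsg.Inn G = ⊤ := by
    rw [eq_top_iff]
    intro α _
    obtain ⟨g, hg⟩ := h α
    exact ⟨g, hg.symm⟩
  have h2 : (Cfsg.Inn G).index = 1 := Subgroup.index_eq_one.mpr h1
  exact h2

/-- The outer automorphism group of the Mathieu group M₂₃ (the stabiliser of a point in the automorphism group of the length-24 binary code) is trivial: every automorphism is inner. -/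
theorem result : Nat.card (Cfsg.Out ↥Cfsg.Spor.M23) = 1 := by
  exact out_card_one aut_inner

end Cfsg.Agent.S2063
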