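import Cfsg.Statements.S4996
import Cfsg.Agent.H82.Zeros
import Cfsg.Agent.H82.CosetAvg
import Cfsg.Agent.H4.TwoTrans

set_option autoImplicit false
open Cfsg

namespace Cfsg.Agent.S4996

open Cfsg.Agent.H82 Cfsg.Agent.H4

/-- Let N be a normal subgroup of the finite group G and χ an irreducible complex character of G. Then the restriction of χ to N is not irreducible if and only if χ vanishes on some whole coset Nx of N in G. -/
theorem result {G : Type*} [Group G] [Finite G] (N : Subgroup G) [N.Normal] (χ : Cfsg.IrrCharacter G) : ¬ Cfsg.IsIrrCharacter ↥N (fun n : ↥N => (χ : G → ℂ) n) ↔ ∃ x : G, ∀ n : ↥N, (χ : G → ℂ) ((n : G) * x) = 0 := by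
  classical
  haveI := Fintype.ofFinite G
  haveI : Fintype N := Fintype.ofFinite N
  haveI : NeZero (Nat.card G) := ⟨Nat.card_pos.ne'⟩
  have hchar := isCharacter_cosetAvg N χ
  have hres : IsCharacter N (fun n : N => χ.1 n) :=
    isCharacter_restrict N (isCharacter_of_isIrrCharacter χ.2)
  have hF1 : cosetAvg N χ.1 1 = classInner (fun n : N => χ.1 n) (fun n : N => χ.1 n) :=
    cosetAvg_one N χ.1
  have hNpos : (0 : ℝ) < (Nat.card N : ℝ) := by exact_mod_cast Nat.card_pos
  set r : G → ℝ := fun g => (Nat.card N : ℝ)⁻¹ * ∑ x : N, ‖χ.1 ((x : G) * g)‖ ^ 2 with hr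
  have hFr : ∀ g, cosetAvg N χ.1 g = ((r g : ℝ) : ℂ) := fun g => cosetAvg_eq_ofReal N χ.1 g
  have hr0 : ∀ g, 0 ≤ r g := fun g => by
    simp only [hr]; positivity
  constructor
  · intro hirr
    by_contra hcon
    push Not at hcon
    have hrpos : ∀ x, 0 < r x := by
      intro x
      obtain ⟨n, hn⟩ := hcon x
      have h1 : ‖χ.1 ((n : G) * x)‖ ^ 2 ≤ ∑ y : N, ‖χ.1 ((y : G) * x)‖ ^ 2 :=
        Finset.single_le_sum (f := fun y : N => ‖χ.1 ((y : G) * x)‖ ^ 2)
          (fun y _ => by positivity) (Finset.mem_univ n)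
      have h2 : 0 < ‖χ.1 ((n : G) * x)‖ ^ 2 := by
        have := norm_pos_iff.mpr hn
        positivity
      simp only [hr]
      exact mul_pos (inv_pos.mpr hNpos) (lt_of_lt_of_le h2 h1)
    have hne : ∀ x, cosetAvg N χ.1 x ≠ 0 := by
      intro x
      rw [hFr]
      exact_mod_cast (hrpos x).ne'
    obtain ⟨m, hm⟩ := classInner_isCharacter_nat hres hres
    have hm1 : m ≠ 1 := by
      rintro rfl
      exact hirr (isIrrCharacter_of_norm_one hres (by rw [hm]; simp))
    have hm0 : m ≠ 0 := by
      rintro rfl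
      exact hne 1 (by rw [hF1, hm]; simp)
    have hm2 : (2 : ℝ) ≤ m := by
      have : 2 ≤ m := by omega
      exact_mod_cast this
    have hr1 : r 1 = m := by
      have : ((r 1 : ℝ) : ℂ) = m := by rw [← hFr, hF1, hm]
      exact_mod_cast this
    have hcount := card_le_sum_norm_pow hchar 1 (Finset.univ.erase (1 : G))
      (fun g hg u => by
        rw [Finset.mem_erase] at hg ⊢
        refine ⟨fun h => hg.1 ?_, Finset.mem_univ _⟩
        apply pow_unit_injective u
        simpa using h)
      (fun g _ => hne g)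
    have hnorm : ∀ g, ‖cosetAvg N χ.1 g‖ ^ 1 = r g := by
      intro g
      rw [hFr, pow_one, Complex.norm_real, Real.norm_of_nonneg (hr0 g)]
    simp only [hnorm] at hcount
    have htot : ∑ g : G, r g = (Nat.card G : ℝ) := by
      have h := sum_cosetAvg N χ
      simp only [hFr] at h
      exact_mod_cast h
    rw [← Finset.add_sum_erase Finset.univ r (Finset.mem_univ (1 : G)), hr1] at htot
    have hcard : ((Finset.univ.erase (1 : G)).card : ℝ) = (Nat.card G : ℝ) - 1 := by
      rw [Finset.card_erase_of_mem (Finset.mem_univ _), Finset.card_univ,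
        Nat.card_eq_fintype_card, Nat.cast_sub Fintype.card_pos]
      simp
    rw [hcard] at hcount
    linarith
  · rintro ⟨x, hx⟩ hirr
    have h1 : cosetAvg N χ.1 1 = 1 := by
      rw [hF1]
      exact irr_inner_self (⟨_, hirr⟩ : IrrCharacter N)
    have hx0 : cosetAvg N χ.1 x = 0 := by
      unfold cosetAvg
      simp [hx]
    have hG0 : (Nat.card G : ℂ) ≠ 0 := by
      have : 0 < Nat.card G := Nat.card_pos
      exact_mod_cast this.ne'
    have htriv : classInner (cosetAvg N χ.1) (trivChar G).1 = 1 := by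
      unfold classInner
      simp only [trivChar_apply, map_one, mul_one]
      rw [sum_cosetAvg, inv_mul_cancel₀ hG0]
    have hsub := isCharacter_sub_irr hchar (trivChar G) (by rw [htriv]; exact one_ne_zero)
    have hz : cosetAvg N χ.1 - (trivChar G).1 = 0 :=
      isCharacter_eq_zero_of_one hsub (by simp [h1, trivChar_apply])
    have := congrFun hz x
    simp [hx0, trivChar_apply] at this

end Cfsg.Agent.S4996
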