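import Cfsg.Statements.S0365
import Cfsg.Agent.H9.M24b
import Cfsg.Agent.H10.PermSimple

set_option autoImplicit false
open Cfsg

namespace Cfsg.Agent.S0365

/-- `M24` acts faithfully on the 24 points. -/
theorem m24_faithful (g : Cfsg.M24) (hg : g ≠ 1) : ∃ a : Cfsg.GolayPt, g • a ≠ a := by
  by_contra h
  push Not at h
  apply hg
  apply Subtype.ext
  apply Equiv.ext
  intro x
  exact h x

/-- The permutation group preserving the length-24 code is simple. -/
theorem result : IsSimpleGroup Cfsg.M24 := by
  exact Cfsg.Agent.H10.simple_deg24 (α := Cfsg.GolayPt)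
    (by rw [Nat.card_eq_fintype_card]; exact Cfsg.Agent.H9.card_golayPt)
    Cfsg.Agent.H9.m24_five_transitive m24_faithful Cfsg.Agent.H9.card_M24

end Cfsg.Agent.S0365
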