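import Cfsg.Statements.S5600
import Cfsg.Agent.H9.M24b

set_option autoImplicit false

namespace Cfsg.Agent.S5600

open Cfsg Cfsg.Agent.H9
open scoped Pointwise

/-- the octad through the first five base points -/
def oc : Finset GolayPt := fs 0x149f

theorem oc_mem : oc ∈ octads := fs_mem_octads (by decide +kernel) (by decide +kernel)

theorem stab5_oc {g : Equiv.Perm GolayPt} (hg : g ∈ Stab [4, 3, 2, 1, 0]) : g • oc = oc :=
  smul_octad_eq hg.1 (fixesMask_maskOf hg.2)
    (by decide +kernel : octOK (maskOf [4, 3, 2, 1, 0]) 0x149f = true)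

theorem orb5 : orbMask 7 m24c5 = 0x1480 := by decide +kernel

theorem orb6 : orbMask 5 m24c6 = 0xffeb60 := by decide +kernel

theorem bits_A : ∀ j < 24, Nat.testBit 0x149f j = true →
    (j ≠ 4 ∧ j ≠ 3 ∧ j ≠ 2 ∧ j ≠ 1 ∧ j ≠ 0) → Nat.testBit 0x1480 j = true := by decide

theorem bits_B : ∀ j < 24, Nat.testBit 0x149f j = false → Nat.testBit 0xffeb60 j = true := by
  decide

theorem bits_B' : ∀ j < 24, Nat.testBit 0xffeb60 j = true → Nat.testBit 0x149f j = false := by
  decide

theorem ne_gPt {q : GolayPt} {i : ℕ} (h : q ≠ gPt i) : gIdx q ≠ i := by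
  intro hc
  apply h
  rw [← hc, gPt_gIdx]

/-- the stabiliser of the five base points is transitive on the rest of their octad -/
theorem exists_stab5_oct (q : GolayPt) (hq : q ∈ oc) (hq' : ∀ i ∈ [4, 3, 2, 1, 0], q ≠ gPt i) :
    ∃ u ∈ Stab [4, 3, 2, 1, 0], u (gPt 7) = q := by
  have horb := orbit_of_levelOK m24_lvl5
  have hmem : q ∈ (↑(fs (orbMask 7 m24c5)) : Set GolayPt) := by
    rw [orb5, Finset.mem_coe, mem_fs]
    unfold oc at hq
    rw [mem_fs] at hq
    exact bits_A _ (gIdx_lt q) hq ⟨ne_gPt (hq' 4 (by simp)), ne_gPt (hq' 3 (by simp)),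
      ne_gPt (hq' 2 (by simp)), ne_gPt (hq' 1 (by simp)), ne_gPt (hq' 0 (by simp))⟩
  rw [← horb] at hmem
  exact hmem

/-- the stabiliser of six points of the octad is transitive on the points outside the octad -/
theorem exists_stab6_out (q : GolayPt) (hq : q ∉ oc) :
    ∃ u ∈ Stab [7, 4, 3, 2, 1, 0], u (gPt 5) = q := by
  have horb := orbit_of_levelOK m24_lvl6
  have hmem : q ∈ (↑(fs (orbMask 5 m24c6)) : Set GolayPt) := by
    rw [orb6, Finset.mem_coe, mem_fs]
    unfold oc at hq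
    rw [mem_fs] at hq
    exact bits_B _ (gIdx_lt q) (by simpa using hq)
  rw [← horb] at hmem
  exact hmem

theorem stab6_le {g : Equiv.Perm GolayPt} (hg : g ∈ Stab [7, 4, 3, 2, 1, 0]) :
    g ∈ Stab [4, 3, 2, 1, 0] :=
  ⟨hg.1, fun i hi => hg.2 i (List.mem_cons_of_mem _ hi)⟩

/-- base indices of type A (six points of an octad) and of type B -/
def bA (i : Fin 6) : ℕ := if (i : ℕ) < 5 then (i : ℕ) else 7

def bB (i : Fin 6) : ℕ := (i : ℕ)

/-- a 6-tuple is the image of the base tuple `b` -/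
def Ty (b : Fin 6 → ℕ) (e : Fin 6 → GolayPt) : Prop :=
  ∃ g ∈ M24, ∀ i : Fin 6, g (gPt (b i)) = e i

theorem normal_form (e : Fin 6 → GolayPt) (he : Function.Injective e) : Ty bA e ∨ Ty bB e := by
  let x : Fin 5 ↪ GolayPt :=
    ⟨fun i => e i.castSucc, fun a b h => Fin.castSucc_injective _ (he h)⟩
  obtain ⟨g1, hg1, h1⟩ := exists_map_base5 x
  have h1' : ∀ i : ℕ, ∀ hi : i < 5, g1 (gPt i) = e ⟨i, by omega⟩ := fun i hi => h1 ⟨i, hi⟩
  set q := g1⁻¹ (e 5) with hq
  have hgq : g1 q = e 5 := by rw [hq]; simp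
  have hqne : ∀ i ∈ [4, 3, 2, 1, 0], q ≠ gPt i := by
    intro i hi hc
    have hi5 : i < 5 := by
      simp only [List.mem_cons, List.not_mem_nil, or_false] at hi
      omega
    have h2 := h1' i hi5
    rw [← hc, hgq] at h2
    have h3 := he h2
    have h4 := congrArg Fin.val h3
    simp at h4
    omega
  by_cases hqo : q ∈ oc
  · left
    obtain ⟨u, hu, huq⟩ := exists_stab5_oct q hqo hqne
    refine ⟨g1 * u, mul_mem hg1 hu.1, fun i => ?_⟩
    rw [Equiv.Perm.mul_apply]
    unfold bA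
    by_cases hi : (i : ℕ) < 5
    · rw [if_pos hi, hu.2 _ (by simp only [List.mem_cons, List.not_mem_nil, or_false]; omega),
        h1' _ hi]
    · rw [if_neg hi, huq, hgq]
      congr 1
      apply Fin.ext
      have := i.2
      simp
      omega
  · right
    obtain ⟨u, hu, huq⟩ := exists_stab6_out q hqo
    refine ⟨g1 * u, mul_mem hg1 hu.1, fun i => ?_⟩
    rw [Equiv.Perm.mul_apply]
    unfold bB
    by_cases hi : (i : ℕ) < 5
    · rw [hu.2 _ (by simp only [List.mem_cons, List.not_mem_nil, or_false]; omega), h1' _ hi]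
    · have hi5 : (i : ℕ) = 5 := by have := i.2; omega
      rw [hi5, huq, hgq]
      congr 1
      apply Fin.ext
      simp [hi5]

theorem five_sub : fs 0x1f ⊆ oc := by
  have h : fs (0x1f &&& 0x149f) = fs 0x1f ∩ fs 0x149f := fs_and _ _
  have h2 : (0x1f &&& 0x149f : ℕ) = 0x1f := by decide
  rw [h2] at h
  unfold oc
  rw [h]
  exact Finset.inter_subset_right

theorem five_card : (fs 0x1f).card = 5 := by
  rw [card_fs']
  decide +kernel

theorem bits_five : ∀ j < 24, Nat.testBit 0x1f j = true → j < 5 := by decide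

/-- type A tuples lie in an octad -/
theorem tyA_octad {e : Fin 6 → GolayPt} (h : Ty bA e) : ∃ o ∈ octads, ∀ i, e i ∈ o := by
  obtain ⟨g, hg, hge⟩ := h
  refine ⟨g • oc, smul_mem_octads hg oc_mem, fun i => ?_⟩
  rw [← hge i]
  apply Finset.smul_mem_smul_finset
  unfold oc bA
  rw [mem_fs]
  by_cases hi : (i : ℕ) < 5
  · rw [if_pos hi, gIdx_gPt (by omega)]
    have : ∀ j < 5, Nat.testBit 0x149f j = true := by decide
    exact this _ hi
  · rw [if_neg hi, gIdx_gPt (by norm_num)]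
    decide

/-- type B tuples do not lie in an octad -/
theorem tyB_not_octad {e : Fin 6 → GolayPt} (h : Ty bB e) : ¬ ∃ o ∈ octads, ∀ i, e i ∈ o := by
  obtain ⟨g, hg, hge⟩ := h
  rintro ⟨o, ho, hoe⟩
  have ho' : g⁻¹ • o ∈ octads := smul_mem_octads (inv_mem hg) ho
  have hsub : fs 0x1f ⊆ g⁻¹ • o := by
    intro p hp
    rw [mem_fs] at hp
    have hlt := bits_five _ (gIdx_lt p) hp
    have h1 := hge ⟨gIdx p, by omega⟩
    unfold bB at h1
    simp only at h1
    rw [gPt_gIdx] at h1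
    rw [Finset.mem_inv_smul_finset_iff, Equiv.Perm.smul_def, h1]
    exact hoe _
  have heq := octad_unique ho' oc_mem five_card hsub five_sub
  have h5 : gPt 5 ∈ g⁻¹ • o := by
    have h1 := hge 5
    unfold bB at h1
    rw [Finset.mem_inv_smul_finset_iff, Equiv.Perm.smul_def]
    have h2 : ((5 : Fin 6) : ℕ) = 5 := rfl
    rw [h2] at h1
    rw [h1]
    exact hoe _
  rw [heq] at h5
  unfold oc at h5
  rw [mem_fs, gIdx_gPt (by norm_num)] at h5
  exact absurd h5 (by decide)

theorem card_stab6 : Nat.card (Stab [7, 4, 3, 2, 1, 0]) = 16 := by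
  rw [card_Stab [7, 4, 3, 2, 1, 0] 5, ncard_orbit_of_levelOK m24_lvl6, m24_orb6, Stab_base_eq_bot,
    Subgroup.card_bot]

theorem card_stab5 : Nat.card (Stab [4, 3, 2, 1, 0]) = 48 := by
  have h := card_M24
  rw [← Stab_nil, card_Stab [] 0, ncard_orbit_of_levelOK m24_lvl0, m24_orb0,
    card_Stab [0] 1, ncard_orbit_of_levelOK m24_lvl1, m24_orb1,
    card_Stab [1, 0] 2, ncard_orbit_of_levelOK m24_lvl2, m24_orb2,
    card_Stab [2, 1, 0] 3, ncard_orbit_of_levelOK m24_lvl3, m24_orb3,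
    card_Stab [3, 2, 1, 0] 4, ncard_orbit_of_levelOK m24_lvl4, m24_orb4] at h
  omega

theorem orbit5_eq :
    {p : GolayPt | ∃ g ∈ Stab [4, 3, 2, 1, 0], g (gPt 5) = p} = ↑(fs 0xffeb60) := by
  ext p
  constructor
  · rintro ⟨g, hg, rfl⟩
    have hoc := stab5_oc hg
    have h5 : gPt 5 ∉ oc := by
      unfold oc
      rw [mem_fs, gIdx_gPt (by norm_num)]
      decide
    have h6 : g (gPt 5) ∉ oc := by
      intro hc
      rw [← hoc] at hc
      exact h5 ((Finset.smul_mem_smul_finset_iff g).mp hc)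
    rw [Finset.mem_coe, mem_fs]
    unfold oc at h6
    rw [mem_fs] at h6
    exact bits_B _ (gIdx_lt _) (by simpa using h6)
  · intro hp
    rw [Finset.mem_coe, mem_fs] at hp
    have hq : p ∉ oc := by
      unfold oc
      rw [mem_fs, bits_B' _ (gIdx_lt p) hp]
      simp
    obtain ⟨u, hu, huq⟩ := exists_stab6_out p hq
    exact ⟨u, stab6_le hu, huq⟩

theorem card_stab6B : Nat.card (Stab [5, 4, 3, 2, 1, 0]) = 3 := by
  have h := card_Stab [4, 3, 2, 1, 0] 5
  rw [card_stab5, orbit5_eq, Set.ncard_coe_finset, card_fs'] at h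
  have h16 : pcT 0xffeb60 = 16 := by decide +kernel
  rw [h16] at h
  omega

/-- the pointwise stabiliser of a 6-set of a given type is conjugate to a base stabiliser -/
theorem card_fix_eq (b : Fin 6 → ℕ) (l : List ℕ) (hbl : ∀ i, b i ∈ l)
    (hlb : ∀ j ∈ l, ∃ i, b i = j) (E : Finset GolayPt) (e : Fin 6 → GolayPt)
    (heE : ∀ i, e i ∈ E) (hEe : ∀ p ∈ E, ∃ i, e i = p) (h : Ty b e) :
    Nat.card {g : Equiv.Perm GolayPt // g ∈ M24 ∧ ∀ p ∈ E, g p = p} = Nat.card (Stab l) := by
  obtain ⟨g0, hg0, hge⟩ := h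
  apply Nat.card_congr
  refine
    { toFun := fun g => ⟨g0⁻¹ * g.1 * g0, ?_⟩
      invFun := fun g => ⟨g0 * g.1 * g0⁻¹, ?_⟩
      left_inv := ?_
      right_inv := ?_ }
  · refine ⟨mul_mem (mul_mem (inv_mem hg0) g.2.1) hg0, fun j hj => ?_⟩
    obtain ⟨i, rfl⟩ := hlb j hj
    rw [Equiv.Perm.mul_apply, Equiv.Perm.mul_apply, hge i, g.2.2 _ (heE i), ← hge i]
    simp
  · refine ⟨mul_mem (mul_mem hg0 g.2.1) (inv_mem hg0), fun p hp => ?_⟩
    obtain ⟨i, rfl⟩ := hEe p hp
    have hinv : g0⁻¹ (g0 (gPt (b i))) = gPt (b i) := by simp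
    rw [Equiv.Perm.mul_apply, Equiv.Perm.mul_apply, ← hge i, hinv, g.2.2 _ (hbl i)]
  · intro g
    apply Subtype.ext
    simp [mul_assoc]
  · intro g
    apply Subtype.ext
    simp [mul_assoc]

theorem bA_mem : ∀ i, bA i ∈ [7, 4, 3, 2, 1, 0] := by decide

theorem mem_bA : ∀ j ∈ [7, 4, 3, 2, 1, 0], ∃ i, bA i = j := by decide

theorem bB_mem : ∀ i, bB i ∈ [5, 4, 3, 2, 1, 0] := by decide

theorem mem_bB : ∀ j ∈ [5, 4, 3, 2, 1, 0], ∃ i, bB i = j := by decide

theorem result (E : Finset Cfsg.GolayPt) (hE : E.card = 6) : (∀ σ : Equiv.Perm ↥E, ∃ g ∈ Cfsg.M24, ∀ p : ↥E, g p = σ p) ∧ ((∃ o ∈ Cfsg.octads, E ⊆ o) → Nat.card {g : Equiv.Perm Cfsg.GolayPt // g ∈ Cfsg.M24 ∧ ∀ p ∈ E, g p = p} = 16) ∧ ((¬ ∃ o ∈ Cfsg.octads, E ⊆ o) → Nat.card {g : Equiv.Perm Cfsg.GolayPt // g ∈ Cfsg.M24 ∧ ∀ p ∈ E, g p = p} = 3 ∧ Nat.card ↥(MulAction.stabilizer Cfsg.M24 E) = 2160) := by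
  classical
  let eq : Fin 6 ≃ {x // x ∈ E} := (Finset.equivFinOfCardEq hE).symm
  set e : Fin 6 → GolayPt := fun i => (eq i : GolayPt) with he
  have he_inj : Function.Injective e := fun a b h => eq.injective (Subtype.ext h)
  have heE : ∀ i, e i ∈ E := fun i => (eq i).2
  have hEe : ∀ p ∈ E, ∃ i, e i = p := fun p hp => ⟨eq.symm ⟨p, hp⟩, by simp [he]⟩
  have hoct_A : (∃ o ∈ octads, E ⊆ o) → Ty bA e := by
    rintro ⟨o, ho, hEo⟩
    rcases normal_form e he_inj with h | h
    · exact h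
    · exact absurd ⟨o, ho, fun i => hEo (heE i)⟩ (tyB_not_octad h)
  have hnoct_B : (¬ ∃ o ∈ octads, E ⊆ o) → Ty bB e := by
    intro hno
    rcases normal_form e he_inj with h | h
    · obtain ⟨o, ho, hoe⟩ := tyA_octad h
      exact absurd ⟨o, ho, fun p hp => by obtain ⟨i, rfl⟩ := hEe p hp; exact hoe i⟩ hno
    · exact h
  have part1 : ∀ σ : Equiv.Perm {x // x ∈ E}, ∃ g ∈ M24, ∀ p : {x // x ∈ E}, g p = σ p := by
    intro σ
    set e' : Fin 6 → GolayPt := fun i => (σ (eq i) : GolayPt) with he'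
    have he'_inj : Function.Injective e' :=
      fun a b h => eq.injective (σ.injective (Subtype.ext h))
    have key : ∀ b, Ty b e → Ty b e' → ∃ g ∈ M24, ∀ p : {x // x ∈ E}, g p = σ p := by
      rintro b ⟨g, hg, hge⟩ ⟨g', hg', hge'⟩
      refine ⟨g' * g⁻¹, mul_mem hg' (inv_mem hg), fun p => ?_⟩
      have hp : (p : GolayPt) = e (eq.symm p) := by simp [he]
      have hinv : g⁻¹ (g (gPt (b (eq.symm p)))) = gPt (b (eq.symm p)) := by simp
      rw [hp, ← hge, Equiv.Perm.mul_apply, hinv, hge']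
      simp [he']
    by_cases hoct : ∃ o ∈ octads, E ⊆ o
    · have hA := hoct_A hoct
      have hA' : Ty bA e' := by
        rcases normal_form e' he'_inj with h | h
        · exact h
        · obtain ⟨o, ho, hEo⟩ := hoct
          exact absurd ⟨o, ho, fun i => hEo (σ (eq i)).2⟩ (tyB_not_octad h)
      exact key bA hA hA'
    · have hB := hnoct_B hoct
      have hB' : Ty bB e' := by
        rcases normal_form e' he'_inj with h | h
        · obtain ⟨o, ho, hoe⟩ := tyA_octad h
          exact absurd ⟨o, ho, fun p hp => by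
            have := hoe (eq.symm (σ⁻¹ ⟨p, hp⟩))
            simpa [he'] using this⟩ hoct
        · exact h
      exact key bB hB hB'
  refine ⟨part1, ?_, ?_⟩
  · intro hoct
    rw [card_fix_eq bA [7, 4, 3, 2, 1, 0] bA_mem mem_bA E e heE hEe (hoct_A hoct), card_stab6]
  · intro hno
    have hfix : Nat.card {g : Equiv.Perm GolayPt // g ∈ M24 ∧ ∀ p ∈ E, g p = p} = 3 := by
      rw [card_fix_eq bB [5, 4, 3, 2, 1, 0] bB_mem mem_bB E e heE hEe (hnoct_B hno), card_stab6B]
    refine ⟨hfix, ?_⟩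
    -- the restriction homomorphism to `E`
    have hpres : ∀ g : MulAction.stabilizer M24 E, ∀ x : GolayPt,
        (((g : M24) : Equiv.Perm GolayPt) x ∈ E) ↔ x ∈ E := by
      rintro ⟨⟨g, hg⟩, h0⟩ x
      have h0' : g • E = E := h0
      show g x ∈ E ↔ x ∈ E
      have h1 : g x ∈ g • E ↔ x ∈ E := Finset.smul_mem_smul_finset_iff g
      rwa [h0'] at h1
    let ψ : MulAction.stabilizer M24 E →* Equiv.Perm {x // x ∈ E} :=
      { toFun := fun g => Equiv.Perm.subtypePerm ((g : M24) : Equiv.Perm GolayPt) (hpres g)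
        map_one' := by
          ext x
          rfl
        map_mul' := by
          intro g h
          ext x
          rfl }
    have hsurj : Function.Surjective ψ := by
      intro σ
      obtain ⟨g, hg, hgσ⟩ := part1 σ
      have hgE : g • E = E := by
        apply Finset.eq_of_subset_of_card_le
        · intro x hx
          rw [Finset.mem_smul_finset] at hx
          obtain ⟨y, hy, rfl⟩ := hx
          have := hgσ ⟨y, hy⟩
          rw [Equiv.Perm.smul_def]
          simp only at this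
          rw [this]
          exact (σ ⟨y, hy⟩).2
        · rw [Finset.card_smul_finset]
      refine ⟨⟨⟨g, hg⟩, hgE⟩, ?_⟩
      exact Equiv.ext fun p => Subtype.ext (hgσ p)
    have h1 := Subgroup.card_mul_index ψ.ker
    rw [Subgroup.index_ker, MonoidHom.range_eq_top.mpr hsurj, Subgroup.card_top, Nat.card_perm,
      Nat.card_eq_fintype_card (α := {x // x ∈ E}), Fintype.card_coe, hE] at h1
    have hker : Nat.card ψ.ker = 3 := by
      rw [← hfix]
      apply Nat.card_congr
      refine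
        { toFun := fun k => ⟨(((k : MulAction.stabilizer M24 E) : M24) : Equiv.Perm GolayPt),
            ((k : MulAction.stabilizer M24 E) : M24).2, fun p hp => ?_⟩
          invFun := fun g => ⟨⟨⟨g.1, g.2.1⟩, ?_⟩, ?_⟩
          left_inv := fun k => rfl
          right_inv := fun g => rfl }
      · have hk := k.2
        rw [MonoidHom.mem_ker] at hk
        have := congrArg (fun σ : Equiv.Perm {x // x ∈ E} => ((σ ⟨p, hp⟩ : {x // x ∈ E}) : GolayPt)) hk
        exact this
      · show g.1 • E = E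
        ext x
        rw [Finset.mem_smul_finset]
        constructor
        · rintro ⟨y, hy, rfl⟩
          rw [Equiv.Perm.smul_def, g.2.2 y hy]
          exact hy
        · intro hx
          exact ⟨x, hx, g.2.2 x hx⟩
      · rw [MonoidHom.mem_ker]
        exact Equiv.ext fun p => Subtype.ext (g.2.2 p.1 p.2)
    rw [hker] at h1
    rw [← h1]
    rfl

end Cfsg.Agent.S5600
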