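import Cfsg.Statements.S5613
import Cfsg.Agent.H33.OctStab
import Cfsg.Agent.H9.M24b

set_option autoImplicit false

namespace Cfsg.Agent.S5613

open Cfsg Cfsg.Agent.H9 Cfsg.Agent.H33
open scoped Pointwise

/-- the stabiliser of an octad has order `322560` -/
theorem card_stab_octad (o : Finset GolayPt) (ho : o ∈ octads) :
    Nat.card (MulAction.stabilizer M24 o) = 322560 := by
  have h1 : Nat.card M24
      = Nat.card (MulAction.orbit M24 o) * Nat.card (MulAction.stabilizer M24 o) := by
    rw [← Nat.card_prod]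
    exact Nat.card_congr (MulAction.orbitProdStabilizerEquivGroup M24 o).symm
  have h2 : MulAction.orbit M24 o = octads := by
    ext x
    constructor
    · rintro ⟨g, rfl⟩
      exact m24_smul_mem_octads g.2 ho
    · intro hx
      obtain ⟨g, hg, rfl⟩ := exists_smul_octad ho hx
      exact ⟨⟨g, hg⟩, rfl⟩
  rw [card_M24, h2, Nat.card_coe_set_eq, octads_ncard] at h1
  omega

/-- the orbit of an octad under the stabiliser of another one -/
theorem orbit_stab_octad (o o' : Finset GolayPt) (ho : o ∈ octads) (ho' : o' ∈ octads) :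
    MulAction.orbit (MulAction.stabilizer M24 o) o' = ↑(meetF o (o ∩ o').card) := by
  ext x
  rw [Finset.mem_coe, mem_meetF]
  constructor
  · rintro ⟨h, rfl⟩
    have hh : ((h : M24) : Equiv.Perm GolayPt) • o = o := h.2
    refine ⟨m24_smul_mem_octads (h : M24).2 ho', ?_⟩
    show (o ∩ ((h : M24) : Equiv.Perm GolayPt) • o').card = _
    obtain ⟨⟨g, hg⟩, hgs⟩ := h
    simp only at hh ⊢
    have e : o ∩ g • o' = g • (o ∩ o') := by
      rw [Finset.smul_finset_inter, hh]
    rw [e, Finset.card_smul_finset]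
  · rintro ⟨hx, hc⟩
    obtain ⟨g, hg, hgo, hgx⟩ := octad_stab_trans o o' x ho ho' hx hc.symm
    exact ⟨⟨⟨g, hg⟩, hgo⟩, hgx⟩

theorem card_joint (o o' : Finset GolayPt) (ho : o ∈ octads) (ho' : o' ∈ octads) :
    322560 = (meetF o (o ∩ o').card).card *
      Nat.card ↥(MulAction.stabilizer M24 o ⊓ MulAction.stabilizer M24 o') := by
  have h := card_eq_orbit_mul_inf (MulAction.stabilizer M24 o) o'
  rw [card_stab_octad o ho, orbit_stab_octad o o' ho ho', Set.ncard_coe_finset] at h
  exact h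

theorem result (o o' : Finset Cfsg.GolayPt) (ho : o ∈ Cfsg.octads) (ho' : o' ∈ Cfsg.octads) : ((o ∩ o').card = 0 → Nat.card ↥(MulAction.stabilizer Cfsg.M24 o ⊓ MulAction.stabilizer Cfsg.M24 o') = 10752) ∧ ((o ∩ o').card = 4 → Nat.card ↥(MulAction.stabilizer Cfsg.M24 o ⊓ MulAction.stabilizer Cfsg.M24 o') = 1152) ∧ ((o ∩ o').card = 2 → Nat.card ↥(MulAction.stabilizer Cfsg.M24 o ⊓ MulAction.stabilizer Cfsg.M24 o') = 720) := by
  have h := card_joint o o' ho ho'
  refine ⟨fun h0 => ?_, fun h4 => ?_, fun h2 => ?_⟩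
  · rw [h0, meetF_zero hW hS o ho] at h
    omega
  · rw [h4, meetF_four hW hS o ho] at h
    omega
  · rw [h2, meetF_two hW hS o ho] at h
    omega

end Cfsg.Agent.S5613
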