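import Cfsg.Statements.S5614
import Cfsg.Agent.S5613

set_option autoImplicit false

namespace Cfsg.Agent.S5614

open Cfsg Cfsg.Agent.H9 Cfsg.Agent.H33
open scoped Pointwise

/-- the base pair of octads, meeting in two points -/
def o0 : Finset GolayPt := fs 0x149f

def o1 : Finset GolayPt := fs 0x7b420

theorem lk_lt_of_rep {P : ℕ} {g : Equiv.Perm GolayPt} (h : Rep P g) {i : ℕ} (hi : i < 24) :
    lk P i < 24 := by
  have := h (gPt i)
  rw [gIdx_gPt hi] at this
  rw [← this]
  exact gIdx_lt _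

theorem imgN_lt_of_rep {P : ℕ} {g : Equiv.Perm GolayPt} (h : Rep P g) (n : ℕ) :
    imgN P n < 2 ^ 24 := by
  apply Nat.lt_pow_two_of_testBit
  intro j hj
  by_contra hc
  rw [Bool.not_eq_false, imgN_eq, testBit_imgAux] at hc
  obtain ⟨i, hi, -, h3⟩ := hc
  have := lk_lt_of_rep h hi
  omega

theorem c6_fix : m24c6.all (fun P => !(Nat.beq (imgN P 0x7b420) 0x7b420) || Nat.beq (lk P 5) 5)
    = true := by decide +kernel

theorem c6_ok : m24c6.all (okElt [7, 4, 3, 2, 1, 0]) = true := by decide +kernel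

/-- an element of `M24` fixing six points of the first octad and the second octad is trivial -/
theorem rigid0 (g : Equiv.Perm GolayPt) (hg : g ∈ Stab [7, 4, 3, 2, 1, 0]) (h1 : g • o1 = o1) :
    g = 1 := by
  have horb := orbit_of_levelOK m24_lvl6
  have hmem : g (gPt 5) ∈ {p : GolayPt | ∃ g ∈ Stab [7, 4, 3, 2, 1, 0], g (gPt 5) = p} :=
    ⟨g, hg, rfl⟩
  rw [horb, Finset.mem_coe, mem_fs, testBit_orbMask] at hmem
  obtain ⟨P, hP, hlk⟩ := hmem
  have hok : okElt [7, 4, 3, 2, 1, 0] P = true := List.all_eq_true.mp c6_ok P hP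
  obtain ⟨h, hh, hrep⟩ := exists_of_okElt (by decide) hok
  have hgh : g (gPt 5) = h (gPt 5) := by
    apply gIdx_injective
    rw [hrep, gIdx_gPt (by norm_num), hlk]
  have hmem2 : h⁻¹ * g ∈ Stab [5, 7, 4, 3, 2, 1, 0] := by
    refine ⟨mul_mem (inv_mem hh.1) hg.1, fun i hi => ?_⟩
    rcases List.mem_cons.mp hi with rfl | hi
    · rw [Equiv.Perm.mul_apply, hgh]
      simp
    · rw [Equiv.Perm.mul_apply, hg.2 i hi, Equiv.Perm.inv_eq_iff_eq, hh.2 i hi]
  rw [Stab_base_eq_bot, Subgroup.mem_bot, inv_mul_eq_one] at hmem2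
  subst hmem2
  have h2 : fs (imgN P 0x7b420) = fs 0x7b420 := by
    rw [← smul_fs hrep]
    exact h1
  have h3 : imgN P 0x7b420 = 0x7b420 := fs_inj (imgN_lt_of_rep hrep _) (by norm_num) h2
  have h4 := List.all_eq_true.mp c6_fix P hP
  rw [h3] at h4
  have h5 : lk P 5 = 5 := by
    rw [Bool.or_eq_true] at h4
    rcases h4 with h4 | h4
    · exact absurd h4 (by decide)
    · exact Nat.eq_of_beq_eq_true h4
  have hmem3 : h ∈ Stab [5, 7, 4, 3, 2, 1, 0] := by
    refine ⟨hh.1, fun i hi => ?_⟩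
    rcases List.mem_cons.mp hi with rfl | hi
    · apply gIdx_injective
      rw [hrep, gIdx_gPt (by norm_num), h5]
    · exact hh.2 i hi
  rw [Stab_base_eq_bot, Subgroup.mem_bot] at hmem3
  exact hmem3

theorem o0_mem : o0 ∈ octads := by
  have h : (0x149f : ℕ) = cw 1 := by decide +kernel
  unfold o0
  rw [h]
  exact fs_cw_mem_octads (by norm_num) (by decide +kernel)

theorem o1_mem : o1 ∈ octads := by
  refine fs_mem_octads (by decide +kernel) (by decide +kernel)

theorem o0_o1 : (o0 ∩ o1).card = 2 := by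
  unfold o0 o1
  rw [card_inter_fs]
  decide +kernel

theorem base_pts : ∀ i ∈ [7, 4, 3, 2, 1, 0], gPt i ∈ o0 \ o1 := by
  intro i hi
  simp only [List.mem_cons, List.not_mem_nil, or_false] at hi
  rcases hi with rfl | rfl | rfl | rfl | rfl | rfl <;>
  · rw [Finset.mem_sdiff, o0, o1, mem_fs, mem_fs, gIdx_gPt (by norm_num)]
    decide

/-- rigidity for the base pair -/
theorem rigid_base (g : Equiv.Perm GolayPt) (hg : g ∈ M24) (h1 : g • o1 = o1)
    (hfix : ∀ p ∈ o0 \ o1, g p = p) : g = 1 :=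
  rigid0 g ⟨hg, fun i hi => hfix _ (base_pts i hi)⟩ h1

/-- rigidity for any pair of octads meeting in two points -/
theorem rigid (o o' : Finset GolayPt) (ho : o ∈ octads) (ho' : o' ∈ octads)
    (h₂ : (o ∩ o').card = 2) (g : Equiv.Perm GolayPt) (hg : g ∈ M24) (h0 : g • o = o)
    (h1 : g • o' = o') (hfix : ∀ p ∈ o \ o', g p = p) : g = 1 := by
  obtain ⟨a, ha, rfl⟩ := exists_smul_octad o0_mem ho
  have hc : (a • o0 ∩ a • o1).card = (a • o0 ∩ o').card := by
    rw [← Finset.smul_finset_inter, Finset.card_smul_finset, o0_o1, h₂]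
  obtain ⟨b, hb, hb0, hb1⟩ := octad_stab_trans (a • o0) (a • o1) o' ho
    (m24_smul_mem_octads ha o1_mem) ho' hc
  -- `c = b * a` maps the base pair to the given pair
  have hc0 : (b * a) • o0 = a • o0 := by rw [mul_smul, hb0]
  have hc1 : (b * a) • o1 = o' := by rw [mul_smul, hb1]
  have hcm : b * a ∈ M24 := mul_mem hb ha
  have key : (b * a)⁻¹ * g * (b * a) = 1 := by
    apply rigid_base _ (mul_mem (mul_mem (inv_mem hcm) hg) hcm)
    · rw [mul_smul, mul_smul, hc1, h1, ← hc1, inv_smul_smul]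
    · intro p hp
      have hp' : (b * a) p ∈ a • o0 \ o' := by
        rw [← hc0, ← hc1, ← Finset.smul_finset_sdiff]
        exact Finset.smul_mem_smul_finset hp
      rw [Equiv.Perm.mul_apply, Equiv.Perm.mul_apply, hfix _ hp']
      simp
  have : g = (b * a) * ((b * a)⁻¹ * g * (b * a)) * (b * a)⁻¹ := by group
  rw [this, key]
  group

theorem result (o o' : Finset Cfsg.GolayPt) (ho : o ∈ Cfsg.octads) (ho' : o' ∈ Cfsg.octads) (h₂ : (o ∩ o').card = 2) : Nonempty (↥(MulAction.stabilizer Cfsg.M24 o ⊓ MulAction.stabilizer Cfsg.M24 o') ≃* Equiv.Perm (Fin 6)) := by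
  classical
  set J := MulAction.stabilizer M24 o ⊓ MulAction.stabilizer M24 o' with hJ
  have hDcard0 : (o \ o').card = 6 := by
    have := Finset.card_sdiff_add_card_inter o o'
    rw [h₂, ho.2] at this
    omega
  set D := o \ o' with hD
  have hDcard : D.card = 6 := hDcard0
  -- every element of `J` preserves `D`
  have hpres : ∀ g : J, ∀ x : GolayPt,
      (((g : M24) : Equiv.Perm GolayPt) x ∈ D) ↔ x ∈ D := by
    intro g x
    have h0 : ((g : M24) : Equiv.Perm GolayPt) • o = o := g.2.1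
    have h1 : ((g : M24) : Equiv.Perm GolayPt) • o' = o' := g.2.2
    have hDD : ((g : M24) : Equiv.Perm GolayPt) • D = D := by
      rw [hD, Finset.smul_finset_sdiff, h0, h1]
    conv_lhs => rw [← hDD]
    exact Finset.smul_mem_smul_finset_iff _
  let φ : J →* Equiv.Perm {x // x ∈ D} :=
    { toFun := fun g => Equiv.Perm.subtypePerm ((g : M24) : Equiv.Perm GolayPt) (hpres g)
      map_one' := by
        ext x
        rfl
      map_mul' := by
        intro g h
        ext x
        rfl }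
  have hinj : Function.Injective φ := by
    rw [injective_iff_map_eq_one]
    intro g hg1
    have hfix : ∀ p ∈ D, ((g : M24) : Equiv.Perm GolayPt) p = p := by
      intro p hp
      have := congrArg (fun σ : Equiv.Perm {x // x ∈ D} => ((σ ⟨p, hp⟩ : {x // x ∈ D}) : GolayPt)) hg1
      exact this
    have h1 := rigid o o' ho ho' h₂ ((g : M24) : Equiv.Perm GolayPt) (g : M24).2 g.2.1 g.2.2 hfix
    apply Subtype.ext
    apply Subtype.ext
    exact h1
  have hcardJ : Nat.card J = 720 := (Cfsg.Agent.S5613.result o o' ho ho').2.2 h₂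
  have hcardP : Nat.card (Equiv.Perm {x // x ∈ D}) = 720 := by
    rw [Nat.card_perm, Nat.card_eq_fintype_card, Fintype.card_coe, hDcard]
    rfl
  have hbij : Function.Bijective φ :=
    (Nat.bijective_iff_injective_and_card φ).mpr ⟨hinj, by rw [hcardJ, hcardP]⟩
  exact ⟨(MulEquiv.ofBijective φ hbij).trans
    (Equiv.permCongrHom (Finset.equivFinOfCardEq hDcard))⟩

end Cfsg.Agent.S5614
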