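import Cfsg.Statements.S5608
import Cfsg.Agent.H94.EltCls

set_option autoImplicit false
open scoped Pointwise
open Cfsg

namespace Cfsg.Agent.S5608

open Cfsg.Agent.H9 Cfsg.Agent.H33 Cfsg.Agent.H94 Cfsg.Agent.S5600

/-- two packed permutations commute -/
def commN (P Q : ℕ) : Bool := allB (fun i => Nat.beq (lk P (lk Q i)) (lk Q (lk P i))) 24

theorem commN_of {P Q : ℕ} {g h : Equiv.Perm GolayPt} (hP : Rep P g) (hQ : Rep Q h)
    (hc : g * h = h * g) : commN P Q = true := by
  unfold commN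
  rw [allB_iff]
  intro i hi
  have h1 := hQ (gPt i)
  have h2 := hP (h (gPt i))
  have h3 := hP (gPt i)
  have h4 := hQ (g (gPt i))
  rw [gIdx_gPt hi] at h1 h3
  rw [h1] at h2
  rw [h3] at h4
  have h5 : g (h (gPt i)) = h (g (gPt i)) :=
    congrArg (fun f : Equiv.Perm GolayPt => f (gPt i)) hc
  rw [← h2, ← h4, h5]
  exact Nat.beq_refl _

theorem chkComm : allB (fun j => allB (fun k =>
    !(isOrd3 (fldG u5 j) && (!(Nat.beq (fixN (fldG u5 j)) 24) &&
      (isInv (mulN c2A (fldG u5 k)) && commN (fldG u5 j) (mulN c2A (fldG u5 k))))) &&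
    !(isOrd3 (fldG u5 j) && (!(Nat.beq (fixN (fldG u5 j)) 24) &&
      (isInv (mulN c2B (fldG u5 k)) && commN (fldG u5 j) (mulN c2B (fldG u5 k)))))) 48) 48
    = true := by decide +kernel

theorem three_dvd_card_of_fpf (x : Equiv.Perm GolayPt) (hx3 : x ^ 3 = 1) (hfpf : ∀ p, x p ≠ p)
    (F : Finset GolayPt) (hF : ∀ p, x p ∈ F ↔ p ∈ F) : 3 ∣ F.card := by
  haveI : Fact (Nat.Prime 3) := ⟨by norm_num⟩
  have hσ : (x.subtypePerm hF) ^ 3 ^ 1 = 1 := by
    rw [pow_one, Equiv.Perm.subtypePerm_pow]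
    ext ⟨p, hp⟩
    simp [hx3]
  have h := Equiv.Perm.card_compl_support_modEq hσ
  have hs : (x.subtypePerm hF).supportᶜ = ∅ := by
    ext ⟨p, hp⟩
    simp only [Finset.mem_compl, Equiv.Perm.mem_support, Equiv.Perm.subtypePerm_apply, ne_eq,
      Subtype.mk.injEq, not_not, Finset.notMem_empty, iff_false]
    exact hfpf p
  rw [hs, Finset.card_empty, Fintype.card_coe] at h
  exact Nat.modEq_zero_iff_dvd.mp h.symm

theorem no_fpf_commute {x s : Equiv.Perm GolayPt} (hx : x ∈ M24) (hs : s ∈ M24)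
    (hx3 : x * x * x = 1) (hx1 : x ≠ 1) (hs2 : s * s = 1) (hc : x * s = s * x)
    (hfix : (Finset.univ.filter fun p => x p = p).card = 6) (hs0 : ∀ p, s p ≠ p) : False := by
  have ss : ∀ y, s (s y) = y := fun y => congrArg (fun f : Equiv.Perm GolayPt => f y) hs2
  have hE : ∀ p, x p = p → x (s p) = s p := by
    intro p hp
    have h1 : x (s p) = s (x p) := congrArg (fun f : Equiv.Perm GolayPt => f p) hc
    rw [h1, hp]
  obtain ⟨p, hpE⟩ := Finset.card_pos.mp (by rw [hfix]; norm_num :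
    0 < (Finset.univ.filter fun p => x p = p).card)
  have hp : x p = p := (Finset.mem_filter.mp hpE).2
  obtain ⟨q, hqE, hqA⟩ := Finset.exists_mem_notMem_of_card_lt_card
    (lt_of_le_of_lt (Finset.card_le_two (a := p) (b := s p)) (by rw [hfix]; norm_num))
  have hq : x q = q := (Finset.mem_filter.mp hqE).2
  obtain ⟨r, hrE, hrA⟩ := Finset.exists_mem_notMem_of_card_lt_card
    (lt_of_le_of_lt (Finset.card_le_four (a := p) (b := s p) (c := q) (d := s q))
      (by rw [hfix]; norm_num))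
  have hr : x r = r := (Finset.mem_filter.mp hrE).2
  simp only [Finset.mem_insert, Finset.mem_singleton, not_or] at hqA hrA
  obtain ⟨hqp, hqs⟩ := hqA
  obtain ⟨hrp, hrs, hrq, hrt⟩ := hrA
  have he : Function.Injective ![p, s p, q, s q, r, s r] := by
    apply inj6
    · exact Ne.symm (hs0 p)
    · exact Ne.symm hqp
    · intro h
      apply hqs
      rw [h, ss]
    · exact Ne.symm hrp
    · intro h
      apply hrs
      rw [h, ss]
    · exact Ne.symm hqs
    · intro h
      exact hqp (s.injective h).symm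
    · exact Ne.symm hrs
    · intro h
      exact hrp (s.injective h).symm
    · exact Ne.symm (hs0 q)
    · exact Ne.symm hrq
    · intro h
      apply hrt
      rw [h, ss]
    · exact Ne.symm hrt
    · intro h
      exact hrq (s.injective h).symm
    · exact Ne.symm (hs0 r)
  have hxe : ∀ i : Fin 6, x (![p, s p, q, s q, r, s r] i) = ![p, s p, q, s q, r, s r] i := by
    intro i
    fin_cases i
    · exact hp
    · exact hE p hp
    · exact hq
    · exact hE q hq
    · exact hr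
    · exact hE r hr
  have hπ : ∀ i : Fin 6, s (![p, s p, q, s q, r, s r] i)
      = ![p, s p, q, s q, r, s r] ((![1, 0, 3, 2, 5, 4] : Fin 6 → Fin 6) i) := by
    intro i
    fin_cases i
    · rfl
    · exact ss p
    · rfl
    · exact ss q
    · rfl
    · exact ss r
  have hx3' : ∀ a : Equiv.Perm GolayPt,
      (a⁻¹ * x * a) * (a⁻¹ * x * a) * (a⁻¹ * x * a) = 1 := by
    intro a
    have : (a⁻¹ * x * a) * (a⁻¹ * x * a) * (a⁻¹ * x * a) = a⁻¹ * (x * x * x) * a := by group
    rw [this, hx3]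
    group
  have hs2' : ∀ a : Equiv.Perm GolayPt, (a⁻¹ * s * a) * (a⁻¹ * s * a) = 1 := by
    intro a
    have : (a⁻¹ * s * a) * (a⁻¹ * s * a) = a⁻¹ * (s * s) * a := by group
    rw [this, hs2]
    group
  have hc' : ∀ a : Equiv.Perm GolayPt,
      (a⁻¹ * x * a) * (a⁻¹ * s * a) = (a⁻¹ * s * a) * (a⁻¹ * x * a) := by
    intro a
    have h1 : (a⁻¹ * x * a) * (a⁻¹ * s * a) = a⁻¹ * (x * s) * a := by group
    have h2 : (a⁻¹ * s * a) * (a⁻¹ * x * a) = a⁻¹ * (s * x) * a := by group
    rw [h1, h2, hc]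
  have key : ∀ a ∈ M24, ∀ j < 48, ∀ k < 48, ∀ C : ℕ,
      Rep (fldG u5 j) (a⁻¹ * x * a) → Rep (mulN C (fldG u5 k)) (a⁻¹ * s * a) →
      (isOrd3 (fldG u5 j) && (!(Nat.beq (fixN (fldG u5 j)) 24) &&
        (isInv (mulN C (fldG u5 k)) && commN (fldG u5 j) (mulN C (fldG u5 k))))) = true := by
    intro a ha j hj k hk C hrx hrs'
    rw [isOrd3_of hrx (hx3' a), isInv_of hrs' (hs2' a), commN_of hrx hrs' (hc' a)]
    have hne : Nat.beq (fixN (fldG u5 j)) 24 = false := by
      cases hb : Nat.beq (fixN (fldG u5 j)) 24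
      · rfl
      · exact absurd (conj_eq_one (eq_one_of_fixN hrx (Nat.eq_of_beq_eq_true hb))) hx1
    rw [hne]
    rfl
  rcases normal_form _ he with ⟨a, ha, h⟩ | ⟨a, ha, h⟩
  · have hxf : ∀ i : Fin 6, (a⁻¹ * x * a) (gPt (bA i)) = gPt (bA i) := by
      intro i
      show a⁻¹ (x (a (gPt (bA i)))) = gPt (bA i)
      rw [h i, hxe i, ← h i]
      exact a.symm_apply_apply _
    have hsf : ∀ i : Fin 6, (a⁻¹ * s * a) (gPt (bA i))
        = gPt (bA ((![1, 0, 3, 2, 5, 4] : Fin 6 → Fin 6) i)) := by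
      intro i
      show a⁻¹ (s (a (gPt (bA i)))) = _
      rw [h i, hπ i, ← h _]
      exact a.symm_apply_apply _
    have x0 : (a⁻¹ * x * a) (gPt 0) = gPt 0 := hxf 0
    have x1 : (a⁻¹ * x * a) (gPt 1) = gPt 1 := hxf 1
    have x2 : (a⁻¹ * x * a) (gPt 2) = gPt 2 := hxf 2
    have x3 : (a⁻¹ * x * a) (gPt 3) = gPt 3 := hxf 3
    have x4 : (a⁻¹ * x * a) (gPt 4) = gPt 4 := hxf 4
    have hmem : a⁻¹ * x * a ∈ Stab [4, 3, 2, 1, 0] := by
      refine ⟨conj_mem ha hx, fun i hi => ?_⟩
      simp only [List.mem_cons, List.not_mem_nil, or_false] at hi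
      rcases hi with rfl | rfl | rfl | rfl | rfl
      · exact x4
      · exact x3
      · exact x2
      · exact x1
      · exact x0
    obtain ⟨j, hj, hrx⟩ := stab5_enum _ hmem
    have s0 : (a⁻¹ * s * a) (gPt 0) = gPt 1 := hsf 0
    have s1 : (a⁻¹ * s * a) (gPt 1) = gPt 0 := hsf 1
    have s2 : (a⁻¹ * s * a) (gPt 2) = gPt 3 := hsf 2
    have s3 : (a⁻¹ * s * a) (gPt 3) = gPt 2 := hsf 3
    have s4 : (a⁻¹ * s * a) (gPt 4) = gPt 7 := hsf 4
    obtain ⟨l0, l1, l2, l3, l4⟩ := c2A_img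
    obtain ⟨k, hk, hrs'⟩ := coset5 c2A_ok.1 c2A_ok.2 (conj_mem ha hs) (by
      intro i hi
      interval_cases i
      · rw [l0]; exact s0
      · rw [l1]; exact s1
      · rw [l2]; exact s2
      · rw [l3]; exact s3
      · rw [l4]; exact s4)
    have hk1 := key a ha j hj k hk c2A hrx hrs'
    have hchk := (allB_iff _ _).mp ((allB_iff _ _).mp chkComm j hj) k hk
    rw [hk1] at hchk
    simp at hchk
  · have hxf : ∀ i : Fin 6, (a⁻¹ * x * a) (gPt (bB i)) = gPt (bB i) := by
      intro i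
      show a⁻¹ (x (a (gPt (bB i)))) = gPt (bB i)
      rw [h i, hxe i, ← h i]
      exact a.symm_apply_apply _
    have hsf : ∀ i : Fin 6, (a⁻¹ * s * a) (gPt (bB i))
        = gPt (bB ((![1, 0, 3, 2, 5, 4] : Fin 6 → Fin 6) i)) := by
      intro i
      show a⁻¹ (s (a (gPt (bB i)))) = _
      rw [h i, hπ i, ← h _]
      exact a.symm_apply_apply _
    have x0 : (a⁻¹ * x * a) (gPt 0) = gPt 0 := hxf 0
    have x1 : (a⁻¹ * x * a) (gPt 1) = gPt 1 := hxf 1
    have x2 : (a⁻¹ * x * a) (gPt 2) = gPt 2 := hxf 2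
    have x3 : (a⁻¹ * x * a) (gPt 3) = gPt 3 := hxf 3
    have x4 : (a⁻¹ * x * a) (gPt 4) = gPt 4 := hxf 4
    have hmem : a⁻¹ * x * a ∈ Stab [4, 3, 2, 1, 0] := by
      refine ⟨conj_mem ha hx, fun i hi => ?_⟩
      simp only [List.mem_cons, List.not_mem_nil, or_false] at hi
      rcases hi with rfl | rfl | rfl | rfl | rfl
      · exact x4
      · exact x3
      · exact x2
      · exact x1
      · exact x0
    obtain ⟨j, hj, hrx⟩ := stab5_enum _ hmem
    have s0 : (a⁻¹ * s * a) (gPt 0) = gPt 1 := hsf 0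
    have s1 : (a⁻¹ * s * a) (gPt 1) = gPt 0 := hsf 1
    have s2 : (a⁻¹ * s * a) (gPt 2) = gPt 3 := hsf 2
    have s3 : (a⁻¹ * s * a) (gPt 3) = gPt 2 := hsf 3
    have s4 : (a⁻¹ * s * a) (gPt 4) = gPt 5 := hsf 4
    obtain ⟨l0, l1, l2, l3, l4⟩ := c2B_img
    obtain ⟨k, hk, hrs'⟩ := coset5 c2B_ok.1 c2B_ok.2 (conj_mem ha hs) (by
      intro i hi
      interval_cases i
      · rw [l0]; exact s0
      · rw [l1]; exact s1
      · rw [l2]; exact s2
      · rw [l3]; exact s3
      · rw [l4]; exact s4)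
    have hk1 := key a ha j hj k hk c2B hrx hrs'
    have hchk := (allB_iff _ _).mp ((allB_iff _ _).mp chkComm j hj) k hk
    rw [hk1] at hchk
    simp at hchk


/-- If an element of order 3 and an involution of the group of the length-24 code commute, then either the element of order 3 has exactly 6 fixed points and the involution exactly 8, or both are fixed-point-free. -/
theorem result (x s : Equiv.Perm Cfsg.GolayPt) (hx : x ∈ Cfsg.M24) (hs : s ∈ Cfsg.M24) (h₃ : orderOf x = 3) (h₂ : orderOf s = 2) (hc : Commute x s) : ((Finset.univ.filter fun p => x p = p).card = 6 ∧ (Finset.univ.filter fun p => s p = p).card = 8) ∨ ((Finset.univ.filter fun p => x p = p).card = 0 ∧ (Finset.univ.filter fun p => s p = p).card = 0) := by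
  have hx3 : x * x * x = 1 := by
    have := pow_orderOf_eq_one x
    rw [h₃, pow_succ, pow_two] at this
    exact this
  have hx1 : x ≠ 1 := by
    intro h
    rw [h, orderOf_one] at h₃
    omega
  have hs2 : s * s = 1 := by
    have := pow_orderOf_eq_one s
    rw [h₂, pow_two] at this
    exact this
  have hcomm : x * s = s * x := hc
  rcases ord3_facts hx h₃ with ⟨hx6, -⟩ | ⟨hx0, -⟩ <;>
    rcases invol_facts hs h₂ with ⟨hs8, -⟩ | ⟨hs0, -⟩
  · exact Or.inl ⟨hx6, hs8⟩
  · exfalso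
    rw [Finset.card_eq_zero, Finset.filter_eq_empty_iff] at hs0
    exact no_fpf_commute hx hs hx3 hx1 hs2 hcomm hx6 (fun p => hs0 (Finset.mem_univ p))
  · exfalso
    rw [Finset.card_eq_zero, Finset.filter_eq_empty_iff] at hx0
    have hd := three_dvd_card_of_fpf x (by rw [pow_succ, pow_two]; exact hx3)
      (fun p => hx0 (Finset.mem_univ p)) (Finset.univ.filter fun p => s p = p) (by
        intro p
        simp only [Finset.mem_filter, Finset.mem_univ, true_and]
        have h1 : x (s p) = s (x p) := congrArg (fun f : Equiv.Perm GolayPt => f p) hcomm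
        constructor
        · intro h
          rw [← h1] at h
          exact x.injective h
        · intro h
          rw [← h1, h])
    rw [hs8] at hd
    omega
  · exact Or.inr ⟨hx0, hs0⟩

end Cfsg.Agent.S5608
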