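import Cfsg.Statements.S0493
import Cfsg.Agent.H11.SmallSimple

set_option autoImplicit false
open Cfsg Cfsg.Agent.H11

namespace Cfsg.Agent.S0493

/-- A finite simple group of order at most 100 that is not cyclic has order 60. -/
theorem result {G : Type*} [Group G] [Finite G] [IsSimpleGroup G]
    (hG : ¬ IsCyclic G) (h : Nat.card G ≤ 100) : Nat.card G = 60 := by
  by_contra hne
  have key : ∀ n ≤ 100, n ≠ 60 → n = 0 ∨ n = 1 ∨ (∃ p ≤ n, SylowKills n p) ∨ (∃ p ≤ n, BurnsideKills n p) := by
    decide +kernel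
  rcases key _ h hne with h0 | h1 | ⟨p, -, hp⟩ | ⟨p, -, hp⟩
  · have : 0 < Nat.card G := Nat.card_pos
    omega
  · have : 1 < Nat.card G := Finite.one_lt_card
    omega
  · exact not_sylowKills hG p hp
  · exact not_burnsideKills hG p hp


end Cfsg.Agent.S0493
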