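import Cfsg.Statements.S4565
import Cfsg.Agent.H82.Ramified
import Cfsg.Agent.H82.CyclicExtChar
import Cfsg.Agent.H83.Gagola2
import Cfsg.Agent.H4.TwoTrans
import Cfsg.Agent.S4996

set_option autoImplicit false
open Cfsg

namespace Cfsg.Agent.S4565

open Cfsg.Agent.H82 Cfsg.Agent.H4 Cfsg.Agent.H83
open scoped ComplexConjugate

/-- Let χ be an irreducible character of the finite group H that is fully ramified over the normal subgroup Z: the restriction of χ to Z is e times an irreducible character of Z with e ^ 2 equal to the index of Z. If Z ≠ H, then H/Z has no cyclic subgroup that is its own centralizer. -/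
theorem result {H : Type*} [Group H] [Finite H] (Z : Subgroup H) [Z.Normal] (χ : Cfsg.IrrCharacter H) (hfr : ∃ (θ : Cfsg.IrrCharacter ↥Z) (e : ℕ), e ^ 2 = Z.index ∧ ∀ z : ↥Z, (χ : H → ℂ) z = (e : ℂ) * (θ : ↥Z → ℂ) z) (hZ : Z ≠ ⊤) (C : Subgroup (H ⧸ Z)) (hC : IsCyclic C) : Subgroup.centralizer (C : Set (H ⧸ Z)) ≠ C := by
  classical
  intro hcent
  obtain ⟨θ, e, he, hχθ⟩ := hfr
  haveI := Fintype.ofFinite H
  haveI : Fintype Z := Fintype.ofFinite Z
  obtain ⟨γ, hγ⟩ := hC.exists_generator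
  obtain ⟨c, hc⟩ := QuotientGroup.mk_surjective (γ : H ⧸ Z)
  set K : Subgroup H := C.comap (QuotientGroup.mk' Z) with hK
  have hmemK : ∀ h : H, h ∈ K ↔ (h : H ⧸ Z) ∈ C := fun h => Iff.rfl
  have hZK : Z ≤ K := fun z hz => by
    rw [hmemK, (QuotientGroup.eq_one_iff z).mpr hz]
    exact C.one_mem
  have hcK : c ∈ K := by
    rw [hmemK, hc]
    exact γ.2
  have hCpow : ∀ q ∈ C, ∃ j : ℤ, (γ : H ⧸ Z) ^ j = q := by
    intro q hq
    obtain ⟨j, hj⟩ := Subgroup.mem_zpowers_iff.mp (hγ ⟨q, hq⟩)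
    refine ⟨j, ?_⟩
    have := congrArg Subtype.val hj
    simpa using this
  have hγ1 : (γ : H ⧸ Z) ≠ 1 := by
    intro h1
    have hCbot : ∀ q ∈ C, q = 1 := by
      intro q hq
      obtain ⟨j, rfl⟩ := hCpow q hq
      rw [h1, one_zpow]
    apply hZ
    rw [eq_top_iff]
    intro h _
    have hh : (h : H ⧸ Z) ∈ Subgroup.centralizer (C : Set (H ⧸ Z)) := by
      rw [Subgroup.mem_centralizer_iff]
      intro q hq
      rw [hCbot q hq]
      simp
    rw [hcent] at hh
    exact (QuotientGroup.eq_one_iff h).mp (hCbot _ hh)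
  have hcentK : ∀ h : H, (h : H ⧸ Z) * γ = γ * (h : H ⧸ Z) → h ∈ K := by
    intro h hh
    rw [hmemK, ← hcent, Subgroup.mem_centralizer_iff]
    intro q hq
    obtain ⟨j, rfl⟩ := hCpow q hq
    have hcomm : Commute (γ : H ⧸ Z) (h : H ⧸ Z) := hh.symm
    exact (hcomm.zpow_left j).eq
  have hCcomm : ∀ q ∈ C, q * (γ : H ⧸ Z) = γ * q := by
    intro q hq
    obtain ⟨j, rfl⟩ := hCpow q hq
    exact ((Commute.refl (γ : H ⧸ Z)).zpow_left j).eq
  have he0 : e ≠ 0 := by
    rintro rfl
    have hidx : Z.index ≠ 0 := Subgroup.index_ne_zero_of_finite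
    apply hidx
    rw [← he]
    norm_num
  have hvan : ∀ h : H, h ∉ Z → χ.1 h = 0 := fully_ramified_vanish Z χ θ e he hχθ
  have huniq : ∀ ξ : IrrCharacter H, ξ ≠ χ → classInner (fun n : Z => ξ.1 n) θ.1 = 0 :=
    fully_ramified_unique Z χ θ e he hχθ
  have hθinv : ∀ (h : H) (z : Z) (hz : h * z * h⁻¹ ∈ Z), θ.1 ⟨h * z * h⁻¹, hz⟩ = θ.1 z := by
    intro h z hz
    have h1 := hχθ ⟨h * z * h⁻¹, hz⟩
    have h2 := hχθ z
    have h3 : χ.1 (h * z * h⁻¹) = χ.1 z := irr_conj χ z h
    have h4 : (e : ℂ) * θ.1 ⟨h * z * h⁻¹, hz⟩ = (e : ℂ) * θ.1 z := by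
      rw [← h1, ← h2]
      exact h3
    exact mul_left_cancel₀ (by exact_mod_cast he0) h4
  -- the subgroup K and the extension ψ of θ
  haveI : Fintype K := Fintype.ofFinite K
  set Z' : Subgroup K := Z.subgroupOf K with hZ'
  haveI : Fintype Z' := Fintype.ofFinite Z'
  let eZ : Z' ≃* Z := Subgroup.subgroupOfEquivOfLe hZK
  let θ' : Z' → ℂ := fun n => θ.1 (eZ n)
  have hθ'irr : IsIrrCharacter Z' θ' := isIrrCharacter_comp_mulEquiv eZ θ.2
  let c₀ : K := ⟨c, hcK⟩
  have hcycK : IsCyclic (K ⧸ Z') := by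
    refine ⟨⟨(c₀ : K ⧸ Z'), fun x => ?_⟩⟩
    obtain ⟨k, rfl⟩ := QuotientGroup.mk_surjective x
    obtain ⟨j, hj⟩ := hCpow ((k : H) : H ⧸ Z) k.2
    refine ⟨j, ?_⟩
    change (c₀ : K ⧸ Z') ^ j = (k : K ⧸ Z')
    rw [← QuotientGroup.mk_zpow, QuotientGroup.eq, hZ', Subgroup.mem_subgroupOf]
    have h1 : ((c ^ j)⁻¹ * (k : H)) ∈ Z := by
      rw [← QuotientGroup.eq, QuotientGroup.mk_zpow, hc, hj]
    simpa [c₀] using h1
  obtain ⟨ψ, hψirr, hψθ⟩ := exists_extension_of_cyclic Z' hcycK θ' hθ'irr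
    (fun k n => hθinv (k : H) (eZ n) _)
  set Ψ : IrrCharacter K := ⟨ψ, hψirr⟩ with hΨ
  -- ψ does not vanish on the coset of c₀
  have h6 := Cfsg.Agent.S4996.result Z' Ψ
  have hres : (fun n : Z' => (Ψ : K → ℂ) n) = θ' := funext hψθ
  rw [hres] at h6
  have hnv : ¬ ∃ x : K, ∀ n : Z', ψ ((n : K) * x) = 0 := fun hx => (h6.mpr hx) hθ'irr
  push Not at hnv
  obtain ⟨n₀, hn₀⟩ := hnv c₀
  set c' : K := (n₀ : K) * c₀ with hc'
  have hc'γ : ((c' : H) : H ⧸ Z) = γ := by
    have h1 : ((n₀ : K) : H) ∈ Z := Subgroup.mem_subgroupOf.mp n₀.2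
    rw [hc', Subgroup.coe_mul, QuotientGroup.mk_mul, (QuotientGroup.eq_one_iff _).mpr h1,
      one_mul]
    exact hc
  have hc'Z : (c' : H) ∉ Z := by
    intro h
    apply hγ1
    rw [← hc'γ]
    exact (QuotientGroup.eq_one_iff _).mpr h
  -- the truncated function and its induction
  let f : K → ℂ := fun k => if ((k : H) : H ⧸ Z) = γ then ψ k else 0
  set Φ := Cfsg.indFun K f with hΦ
  have hK0 : (Nat.card K : ℂ) ≠ 0 := by
    have : 0 < Nat.card K := Nat.card_pos
    exact_mod_cast this.ne'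
  have hΦc : Φ (c' : H) = ψ c' := by
    rw [hΦ, indFun_apply]
    have hterm : ∀ h : H, extendByZero K f (h⁻¹ * (c' : H) * h) = if h ∈ K then ψ c' else 0 := by
      intro h
      split_ifs with hh
      · have hy : h⁻¹ * (c' : H) * h ∈ K := K.mul_mem (K.mul_mem (K.inv_mem hh) c'.2) hh
        rw [extendByZero_of_mem K f hy]
        have hyγ : (((⟨h⁻¹ * (c' : H) * h, hy⟩ : K) : H) : H ⧸ Z) = γ := by
          change ((h⁻¹ * (c' : H) * h : H) : H ⧸ Z) = γ
          rw [QuotientGroup.mk_mul, QuotientGroup.mk_mul, QuotientGroup.mk_inv, hc'γ,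
            mul_assoc, ← hCcomm _ ((hmemK h).mp hh), inv_mul_cancel_left]
        change (if (((⟨h⁻¹ * (c' : H) * h, hy⟩ : K) : H) : H ⧸ Z) = γ then
          ψ ⟨h⁻¹ * (c' : H) * h, hy⟩ else 0) = ψ c'
        rw [if_pos hyγ]
        have h1 := irr_conj Ψ c' (⟨h, hh⟩ : K)⁻¹
        rw [inv_inv] at h1
        exact h1
      · by_cases hy : h⁻¹ * (c' : H) * h ∈ K
        · rw [extendByZero_of_mem K f hy]
          have hyγ : ¬ (((⟨h⁻¹ * (c' : H) * h, hy⟩ : K) : H) : H ⧸ Z) = γ := by
            intro hcon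
            apply hh
            apply hcentK
            have h2 : ((h⁻¹ * (c' : H) * h : H) : H ⧸ Z) = γ := hcon
            rw [QuotientGroup.mk_mul, QuotientGroup.mk_mul, QuotientGroup.mk_inv, hc'γ] at h2
            calc (h : H ⧸ Z) * γ = (h : H ⧸ Z) * ((h : H ⧸ Z)⁻¹ * γ * (h : H ⧸ Z)) := by rw [h2]
              _ = γ * (h : H ⧸ Z) := by group
          change (if (((⟨h⁻¹ * (c' : H) * h, hy⟩ : K) : H) : H ⧸ Z) = γ then
            ψ ⟨h⁻¹ * (c' : H) * h, hy⟩ else 0) = 0
          rw [if_neg hyγ]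
        · exact extendByZero_of_not_mem K f hy
    simp only [hterm]
    rw [Finset.sum_ite, Finset.sum_const_zero, add_zero, Finset.sum_const, nsmul_eq_mul]
    have hcard : ((Finset.univ.filter (fun h : H => h ∈ K)).card : ℂ) = (Nat.card K : ℂ) := by
      rw [Nat.card_eq_fintype_card, Fintype.card_subtype]
    rw [hcard, ← mul_assoc, inv_mul_cancel₀ hK0, one_mul]
  -- Φ is a multiple of χ
  have hΦcf : IsClassFunction H Φ := indFun_isClassFunction K f
  have hΦξ : ∀ ξ : IrrCharacter H, ξ ≠ χ → classInner Φ ξ.1 = 0 := by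
    intro ξ hξ
    rw [hΦ, frobenius_reciprocity K f ξ.1 (irr_isClassFunction ξ)]
    set Θ : K → ℂ := fun k => ψ k * conj (ξ.1 (k : H)) with hΘ
    have hΘcf : IsClassFunction K Θ := by
      intro g h
      simp only [hΘ]
      have e1 : ψ (h * g * h⁻¹) = ψ g := irr_conj Ψ g h
      have h1 : (((h * g * h⁻¹ : K)) : H) = (h : H) * (g : H) * (h : H)⁻¹ := by simp
      rw [e1, h1, irr_conj ξ]
    have hAvg : nAvg Z' Θ = 0 := by
      apply nAvg_eq_zero Z' hΘcf
      intro ν hν
      by_contra hne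
      set Ξ : K → ℂ := (fun k : K => ξ.1 (k : H)) * ν.1 with hΞ
      have hΞchar : IsCharacter K Ξ :=
        isCharacter_mul (isCharacter_restrict K (isCharacter_of_isIrrCharacter ξ.2))
          (isCharacter_of_isIrrCharacter ν.2)
      have h1 : classInner Θ ν.1 = classInner ψ Ξ := by
        unfold classInner
        congr 1
        refine Finset.sum_congr rfl fun k _ => ?_
        simp only [hΘ, hΞ, Pi.mul_apply, map_mul]
        ring
      have h2 : classInner Ξ Ψ.1 ≠ 0 := by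
        rw [← classInner_conj_symm]
        intro h0
        apply hne
        rw [h1]
        have := congrArg conj h0
        simpa using this
      have hsub := isCharacter_sub_irr hΞchar Ψ h2
      have hR : IsCharacter Z' (fun n : Z' => (Ξ - Ψ.1) (n : K)) := isCharacter_restrict Z' hsub
      obtain ⟨r, hr⟩ := classInner_isCharacter_nat hR (isCharacter_of_isIrrCharacter hθ'irr)
      have h3 : classInner (fun n : Z' => Ξ (n : K)) θ' = (r : ℂ) + 1 := by
        have h4 : (fun n : Z' => Ξ (n : K)) = (fun n : Z' => (Ξ - Ψ.1) (n : K)) + θ' := by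
          funext n
          simp only [Pi.add_apply, Pi.sub_apply]
          rw [← hψθ n]
          ring
        rw [h4, classInner_add_left, hr, irr_inner_self (⟨θ', hθ'irr⟩ : IrrCharacter Z')]
      have h5 : classInner (fun n : Z' => Ξ (n : K)) θ' =
          ν.1 1 * classInner (fun z : Z => ξ.1 (z : H)) θ.1 := by
        have h6 : (fun n : Z' => Ξ (n : K)) = (ν.1 1) • (fun n : Z' => ξ.1 ((n : K) : H)) := by
          funext n
          simp only [hΞ, Pi.mul_apply, Pi.smul_apply, smul_eq_mul]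
          rw [hν (n : K) n.2]
          ring
        rw [h6, classInner_smul_left]
        congr 1
        unfold classInner
        rw [Nat.card_congr eZ.toEquiv]
        congr 1
        exact Equiv.sum_comp eZ.toEquiv (fun z : Z => ξ.1 (z : H) * conj (θ.1 z))
      rw [h5, huniq ξ hξ, mul_zero] at h3
      have h7 : ((r + 1 : ℕ) : ℂ) = 0 := by
        push_cast
        exact h3.symm
      exact Nat.succ_ne_zero r (by exact_mod_cast h7)
    -- the inner product is a coset sum of Θ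
    set I : K → ℂ := fun k => if ((k : H) : H ⧸ Z) = γ then 1 else 0 with hI
    have hswap := sum_coset_swap Z' Θ I
    have hIinv : ∀ (x : Z') (k : K), I ((x : K) * k) = I k := by
      intro x k
      simp only [hI]
      have h1 : (((x : K) : H) : H ⧸ Z) = 1 :=
        (QuotientGroup.eq_one_iff _).mpr (Subgroup.mem_subgroupOf.mp x.2)
      rw [Subgroup.coe_mul, QuotientGroup.mk_mul, h1, one_mul]
    have hlhs : ∑ k : K, (∑ x : Z', Θ ((x : K) * k)) * I k = 0 := by
      apply Finset.sum_eq_zero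
      intro k _
      have h1 := congrFun hAvg k
      unfold nAvg at h1
      have hZ0 : (Nat.card Z' : ℂ) ≠ 0 := by
        have : 0 < Nat.card Z' := Nat.card_pos
        exact_mod_cast this.ne'
      have h2 : ∑ x : Z', Θ ((x : K) * k) = 0 := by
        rcases mul_eq_zero.mp h1 with h | h
        · exact absurd (inv_eq_zero.mp h) hZ0
        · exact h
      rw [h2, zero_mul]
    rw [hlhs] at hswap
    simp only [hIinv, Finset.sum_const, Finset.card_univ, nsmul_eq_mul] at hswap
    have hZc : ((Fintype.card Z' : ℕ) : ℂ) ≠ 0 := by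
      have : 0 < Fintype.card Z' := Fintype.card_pos
      exact_mod_cast this.ne'
    have hfin : ∑ k : K, f k * conj (ξ.1 (k : H)) = 0 := by
      have h1 : ∑ k : K, f k * conj (ξ.1 (k : H)) = ∑ k : K, Θ k * I k := by
        refine Finset.sum_congr rfl fun k _ => ?_
        simp only [f, hΘ, hI]
        split_ifs <;> ring
      have h2 : ∑ k : K, Θ k * ((Fintype.card Z' : ℂ) * I k) =
          (Fintype.card Z' : ℂ) * ∑ k : K, Θ k * I k := by
        rw [Finset.mul_sum]
        refine Finset.sum_congr rfl fun k _ => ?_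
        ring
      rw [h2] at hswap
      rw [h1]
      exact (mul_eq_zero.mp hswap.symm).resolve_left hZc
    unfold classInner
    rw [hfin, mul_zero]
  have hΦeq : Φ = classInner Φ χ.1 • χ.1 := by
    conv_lhs => rw [classFunction_eq_finsum hΦcf]
    apply finsum_eq_single
    intro ξ hξ
    rw [hΦξ ξ hξ, zero_smul]
  have hzero : Φ (c' : H) = 0 := by
    rw [hΦeq, Pi.smul_apply, hvan _ hc'Z, smul_zero]
  rw [hΦc] at hzero
  exact hn₀ hzero

end Cfsg.Agent.S4565
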