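import Cfsg.Statements.S0031
-- import your own Cfsg.Agent.* helpers here

set_option autoImplicit false
open Cfsg

namespace Cfsg.Agent.S0031

/-- A fixed-point-free automorphism of a finite group maps some Sylow p-subgroup to itself. -/
theorem result {G : Type*} [Group G] [Finite G] (φ : G ≃* G)
    (hφ : MonoidHom.FixedPointFree (φ : G →* G)) (p : ℕ) [Fact p.Prime] :
    ∃ P : Sylow p G, (P : Subgroup G).map (φ : G →* G) = P := by
  obtain ⟨P⟩ : Nonempty (Sylow p G) := inferInstance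
  obtain ⟨g, hg⟩ := MulAction.exists_smul_eq G P ((φ : MulAut G) • P)
  have hmemS : ∀ (a : G) (x : G), x ∈ (a • P : Sylow p G) ↔ a⁻¹ * x * a ∈ P := by
    intro a x
    change x ∈ ((a • P : Sylow p G) : Subgroup G) ↔ _
    rw [Sylow.smul_def, Sylow.pointwise_smul_def,
      Subgroup.mem_pointwise_smul_iff_inv_smul_mem, MulAut.smul_def, MulAut.conj_inv_apply]
    rfl
  have hmemφ : ∀ x : G, x ∈ ((φ : MulAut G) • P : Sylow p G) ↔ φ.symm x ∈ P := by
    intro x
    change x ∈ (((φ : MulAut G) • P : Sylow p G) : Subgroup G) ↔ _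
    rw [Sylow.pointwise_smul_def,
      Subgroup.mem_pointwise_smul_iff_inv_smul_mem, MulAut.smul_def]
    rfl
  have hmem : ∀ y : G, g⁻¹ * φ y * g ∈ P ↔ y ∈ P := by
    intro y
    rw [← hmemS, hg, hmemφ, MulEquiv.symm_apply_apply]
  obtain ⟨k, hk⟩ := hφ.commutatorMap_surjective g⁻¹
  rw [MonoidHom.commutatorMap_apply] at hk
  have hk' : φ k = g * k := by
    have h1 : k / φ k = g⁻¹ := hk
    rw [div_eq_iff_eq_mul, eq_inv_mul_iff_mul_eq] at h1
    exact h1.symm
  refine ⟨k⁻¹ • P, ?_⟩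
  ext x
  change x ∈ Subgroup.map φ.toMonoidHom _ ↔ x ∈ (k⁻¹ • P : Sylow p G)
  rw [Subgroup.mem_map_equiv]
  change φ.symm x ∈ (k⁻¹ • P : Sylow p G) ↔ _
  rw [hmemS, hmemS, ← hmem]
  simp only [inv_inv, map_mul, map_inv, MulEquiv.apply_symm_apply, hk']
  constructor <;> intro h <;> convert h using 1 <;> group

end Cfsg.Agent.S0031
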