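import Cfsg.Statements.S0196
import Mathlib

set_option autoImplicit false
open Cfsg

namespace Cfsg.Agent.S0196

/-- Conjugation action of the normalizer of `A` on the non-identity elements of `A`. -/
@[instance_reducible]
noncomputable def conjAction {G : Type*} [Group G] (A : Subgroup G) :
    MulAction (Subgroup.normalizer (A : Set G)) ↥((A : Set G) \ {1}) where
  smul n x := ⟨(n : G) * x * (n : G)⁻¹, by
    refine ⟨(Subgroup.mem_normalizer_iff.1 n.2 x).1 x.2.1, ?_⟩
    intro h
    apply x.2.2
    have h' : (n : G) * x * (n : G)⁻¹ = 1 := h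
    have : (x : G) = (n : G)⁻¹ * ((n : G) * x * (n : G)⁻¹) * n := by group
    rw [Set.mem_singleton_iff, this, h']; group⟩
  one_smul x := by
    apply Subtype.ext
    change ((1 : Subgroup.normalizer (A : Set G)) : G) * x * ((1 : Subgroup.normalizer (A : Set G)) : G)⁻¹ = x
    simp
  mul_smul m n x := by
    apply Subtype.ext
    change ((m * n : Subgroup.normalizer (A : Set G)) : G) * x * ((m * n : Subgroup.normalizer (A : Set G)) : G)⁻¹ = (m : G) * ((n : G) * x * (n : G)⁻¹) * (m : G)⁻¹
    simp [mul_assoc]

/-- Let A be a subgroup of a finite group G that equals the centralizer of each of its non-identity elements, and let N be its normalizer. Then the index of A in N divides |A| − 1 (N/A permutes the non-identity elements of A in orbits of full length). -/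
theorem result {G : Type*} [Group G] [Finite G] (A : Subgroup G) (hA : ∀ x ∈ A, x ≠ 1 → Subgroup.centralizer ({x} : Set G) = A) : (A.subgroupOf (Subgroup.normalizer (A : Set G))).index ∣ Nat.card A - 1 := by
  classical
  let _ := conjAction A
  have hsmul : ∀ (n : Subgroup.normalizer (A : Set G)) (x : ↥((A : Set G) \ {1})),
      ((n • x : ↥((A : Set G) \ {1})) : G) = (n : G) * x * (n : G)⁻¹ := fun _ _ => rfl
  have hstab : ∀ x : ↥((A : Set G) \ {1}),
      MulAction.stabilizer (Subgroup.normalizer (A : Set G)) x
        = A.subgroupOf (Subgroup.normalizer (A : Set G)) := by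
    intro x
    ext n
    have e1 : (n : G) ∈ A ↔ (n : G) * x = x * n := by
      have := hA x x.2.1 x.2.2
      rw [← Subgroup.mem_centralizer_singleton_iff, this]
    rw [MulAction.mem_stabilizer_iff, Subgroup.mem_subgroupOf, e1, Subtype.ext_iff, hsmul]
    constructor
    · intro h
      nth_rewrite 2 [← h]
      group
    · intro h
      rw [h]; group
  have hcard : Nat.card ↥((A : Set G) \ {1}) = Nat.card A - 1 := by
    rw [Nat.card_coe_set_eq, Set.ncard_sdiff_singleton_of_mem (Subgroup.one_mem A)]
    rfl
  rw [← hcard]
  have e := MulAction.selfEquivSigmaOrbitsQuotientStabilizer' (Subgroup.normalizer (A : Set G))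
    ↥((A : Set G) \ {1}) (φ := Quotient.out) (fun ω => Quotient.out_eq' ω)
  rw [Nat.card_congr e]
  have : Finite (Quotient (MulAction.orbitRel (Subgroup.normalizer (A : Set G)) ↥((A : Set G) \ {1}))) :=
    Quotient.finite _
  have := Fintype.ofFinite (Quotient (MulAction.orbitRel (Subgroup.normalizer (A : Set G)) ↥((A : Set G) \ {1})))
  rw [Nat.card_sigma]
  apply Finset.dvd_sum
  intro ω _
  rw [hstab]
  rfl

end Cfsg.Agent.S0196
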