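import Cfsg.Statements.S0214
import Mathlib

set_option autoImplicit false
open Cfsg

namespace Cfsg.Agent.S0214

open scoped Pointwise

variable {G : Type*} [Group G] [Finite G]

/-- Sylow's theorem inside `H`, phrased in `G`. -/
theorem exists_conj_le (H : Subgroup G) (P : Sylow 2 ↥H) (X : Subgroup G) (hXH : X ≤ H)
    (hX : IsPGroup 2 X) :
    ∃ h ∈ H, ∀ x ∈ X, h * x * h⁻¹ ∈ (P : Subgroup ↥H).map H.subtype := by
  have hX' : IsPGroup 2 (X.subgroupOf H) :=
    hX.comap_of_injective H.subtype H.subtype_injective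
  obtain ⟨Q, hQ⟩ := hX'.exists_le_sylow
  obtain ⟨h, rfl⟩ := MulAction.exists_smul_eq (↥H) Q P
  refine ⟨h, h.2, ?_⟩
  intro x hx
  have h1 : (⟨x, hXH hx⟩ : ↥H) ∈ (Q : Subgroup ↥H) := hQ (by rw [Subgroup.mem_subgroupOf]; exact hx)
  have h2 : MulAut.conj h • (⟨x, hXH hx⟩ : ↥H) ∈ MulAut.conj h • (Q : Subgroup ↥H) :=
    Subgroup.smul_mem_pointwise_smul_iff.mpr h1
  rw [← Sylow.coe_subgroup_smul] at h2
  exact ⟨_, h2, by simp [MulAut.smul_def]⟩

theorem centralizer_le_normalizer_zpowers (z : G) :
    Subgroup.centralizer ({z} : Set G) ≤ Subgroup.normalizer ((Subgroup.zpowers z : Subgroup G) : Set G) := by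
  intro c hc
  rw [Subgroup.mem_centralizer_singleton_iff] at hc
  apply Subgroup.mem_normalizer_fintype
  rintro n ⟨k, rfl⟩
  have hcomm : Commute c (z ^ k) := (Commute.zpow_right hc k)
  have : c * z ^ k * c⁻¹ = z ^ k := by rw [hcomm.eq, mul_inv_cancel_right]
  simp only
  rw [this]
  exact Subgroup.zpow_mem_zpowers z k

/-- Let H be a proper subgroup of the finite group G and P a nontrivial Sylow 2-subgroup of H. Then H is strongly embedded in G if and only if N_G(X) ≤ H for every nontrivial subgroup X of P. -/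
theorem result {G : Type*} [Group G] [Finite G] (H : Subgroup G) (hH : H ≠ ⊤) (P : Sylow 2 ↥H) (hP : (P : Subgroup ↥H) ≠ ⊥) : Cfsg.IsStronglyEmbedded H ↔ (∀ X : Subgroup ↥H, X ≤ (P : Subgroup ↥H) → X ≠ ⊥ → Subgroup.normalizer ((X.map H.subtype : Subgroup G) : Set G) ≤ H) := by
  have h2P : 2 ∣ Nat.card (P : Subgroup ↥H) := by
    rcases P.isPGroup'.card_eq_or_dvd with h | h
    · exact absurd (Subgroup.card_eq_one.mp h) hP
    · exact h
  constructor
  · rintro ⟨-, -, hodd⟩ X hXP hX g hg
    by_contra hgH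
    have hoddg := hodd g hgH
    have hX2 : IsPGroup 2 X := P.isPGroup'.to_le hXP
    have hXcard : 2 ∣ Nat.card X := by
      rcases hX2.card_eq_or_dvd with h | h
      · exact absurd (Subgroup.card_eq_one.mp h) hX
      · exact h
    have hcard' : Nat.card (X.map H.subtype) = Nat.card X :=
      Subgroup.card_map_of_injective H.subtype_injective
    have hle : X.map H.subtype ≤ H ⊓ H.map (MulAut.conj g).toMonoidHom := by
      intro x hx
      refine ⟨Subgroup.map_subtype_le X hx, ?_⟩
      have h1 : g⁻¹ * x * g ∈ X.map H.subtype := (Subgroup.mem_normalizer_iff''.mp hg x).mp hx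
      refine ⟨g⁻¹ * x * g, Subgroup.map_subtype_le X h1, ?_⟩
      simp [MulAut.conj_apply, mul_assoc]
    have hdvd := Subgroup.card_dvd_of_le hle
    rw [hcard'] at hdvd
    have : 2 ∣ Nat.card ↥(H ⊓ H.map (MulAut.conj g).toMonoidHom) := dvd_trans hXcard hdvd
    exact (Nat.not_even_iff_odd.mpr hoddg) (even_iff_two_dvd.mpr this)
  · intro hN
    -- translate to subgroups of G
    set P' : Subgroup G := (P : Subgroup ↥H).map H.subtype with hP'
    have hP'H : P' ≤ H := Subgroup.map_subtype_le _
    have hP'2 : IsPGroup 2 P' := P.isPGroup'.map H.subtype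
    have hP'ne : P' ≠ ⊥ := by
      intro h
      exact hP ((Subgroup.map_eq_bot_iff_of_injective _ H.subtype_injective).mp h)
    have hN' : ∀ X : Subgroup G, X ≤ P' → X ≠ ⊥ → Subgroup.normalizer (X : Set G) ≤ H := by
      intro X hXP hX
      have hmap : (X.subgroupOf H).map H.subtype = X := by
        rw [Subgroup.subgroupOf_map_subtype]
        exact inf_eq_left.mpr (hXP.trans hP'H)
      have h1 : X.subgroupOf H ≤ (P : Subgroup ↥H) := by
        intro x hx
        rw [Subgroup.mem_subgroupOf] at hx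
        obtain ⟨p, hp, hpx⟩ := hXP hx
        have : p = x := Subtype.ext hpx
        rwa [← this]
      have h2 : X.subgroupOf H ≠ ⊥ := by
        intro h
        apply hX
        rw [← hmap, h, Subgroup.map_bot]
      have := hN (X.subgroupOf H) h1 h2
      rwa [hmap] at this
    -- centralizers of nontrivial 2-elements of H lie in H
    have hC : ∀ z : G, z ∈ H → z ≠ 1 → IsPGroup 2 (Subgroup.zpowers z) →
        Subgroup.centralizer ({z} : Set G) ≤ H := by
      intro z hzH hz1 hz2
      obtain ⟨h, hhH, hh⟩ := exists_conj_le H P (Subgroup.zpowers z)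
        (by rw [Subgroup.zpowers_le]; exact hzH) hz2
      have hz' : h * z * h⁻¹ ∈ P' := hh z (Subgroup.mem_zpowers z)
      have hz'1 : h * z * h⁻¹ ≠ 1 := by
        intro hc
        apply hz1
        have : z = h⁻¹ * (h * z * h⁻¹) * h := by group
        rw [this, hc]; group
      have hle : Subgroup.zpowers (h * z * h⁻¹) ≤ P' := by
        rw [Subgroup.zpowers_le]; exact hz'
      have hne : Subgroup.zpowers (h * z * h⁻¹) ≠ ⊥ := by
        rw [Ne, Subgroup.zpowers_eq_bot]; exact hz'1
      have hnorm := hN' _ hle hne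
      intro c hc
      rw [Subgroup.mem_centralizer_singleton_iff] at hc
      have hc' : h * c * h⁻¹ ∈ Subgroup.centralizer ({h * z * h⁻¹} : Set G) := by
        rw [Subgroup.mem_centralizer_singleton_iff]
        calc h * c * h⁻¹ * (h * z * h⁻¹) = h * (c * z) * h⁻¹ := by group
          _ = h * (z * c) * h⁻¹ := by rw [hc]
          _ = h * z * h⁻¹ * (h * c * h⁻¹) := by group
      have h3 : h * c * h⁻¹ ∈ H := hnorm (centralizer_le_normalizer_zpowers _ hc')
      have : c = h⁻¹ * (h * c * h⁻¹) * h := by group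
      rw [this]
      exact H.mul_mem (H.mul_mem (H.inv_mem hhH) h3) hhH
    refine ⟨hH, ?_, ?_⟩
    · exact even_iff_two_dvd.mpr (dvd_trans h2P (Subgroup.card_subgroup_dvd_card _))
    · intro g hgH
      by_contra hodd
      rw [Nat.not_odd_iff_even, even_iff_two_dvd] at hodd
      obtain ⟨t, ht⟩ := exists_prime_orderOf_dvd_card' (G := ↥(H ⊓ H.map (MulAut.conj g).toMonoidHom)) 2 hodd
      have htG : orderOf (t : G) = 2 := by rw [Subgroup.orderOf_coe]; exact ht
      have htH : (t : G) ∈ H := t.2.1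
      obtain ⟨s, hsH, hst⟩ := t.2.2
      have hst' : g * s * g⁻¹ = (t : G) := by
        simpa [MulAut.conj_apply] using hst
      have hsord : orderOf s = 2 := by
        have := orderOf_injective (MulAut.conj g).toMonoidHom (MulAut.conj g).injective s
        rw [← this, hst]; exact htG
      have hzp2 : ∀ w : G, orderOf w = 2 → IsPGroup 2 (Subgroup.zpowers w) := by
        intro w hw
        apply IsPGroup.of_card (n := 1)
        rw [Nat.card_zpowers, hw, pow_one]
      have hne1 : ∀ w : G, orderOf w = 2 → w ≠ 1 := by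
        rintro w hw rfl
        rw [orderOf_one] at hw; omega
      obtain ⟨h, hhH, hh⟩ := exists_conj_le H P (Subgroup.zpowers s)
        (by rw [Subgroup.zpowers_le]; exact hsH) (hzp2 s hsord)
      have hs' : h * s * h⁻¹ ∈ P' := hh s (Subgroup.mem_zpowers s)
      -- x := g h⁻¹
      obtain ⟨x, hx⟩ : ∃ x : G, x = g * h⁻¹ := ⟨_, rfl⟩
      have hxt : x * (h * s * h⁻¹) * x⁻¹ = (t : G) := by
        rw [hx, ← hst']; group
      -- a nontrivial central element of P
      have hnt : Nontrivial ↥(P : Subgroup ↥H) := by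
        rw [Subgroup.nontrivial_iff_ne_bot]; exact hP
      have hcnt : Nontrivial (Subgroup.center ↥(P : Subgroup ↥H)) := P.isPGroup'.center_nontrivial
      obtain ⟨z₀, hz₀⟩ := exists_ne (1 : Subgroup.center ↥(P : Subgroup ↥H))
      obtain ⟨ζ, hζ⟩ : ∃ ζ : G, ζ = (((z₀ : ↥(P : Subgroup ↥H)) : ↥H) : G) := ⟨_, rfl⟩
      have hζP : ζ ∈ P' := by
        rw [hζ]
        exact ⟨((z₀ : ↥(P : Subgroup ↥H)) : ↥H), (z₀ : ↥(P : Subgroup ↥H)).2, rfl⟩
      have hζ1 : ζ ≠ 1 := by
        intro h1
        apply hz₀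
        rw [hζ] at h1
        apply Subtype.ext
        apply Subtype.ext
        apply Subtype.ext
        exact h1
      have hζc : ∀ p ∈ P', p * ζ = ζ * p := by
        rintro _ ⟨p, hp, rfl⟩
        have := Subgroup.mem_center_iff.mp z₀.2 ⟨p, hp⟩
        rw [hζ]
        have h2 := congrArg (fun w : ↥(P : Subgroup ↥H) => ((w : ↥H) : G)) this
        simpa using h2
      -- z := x ζ x⁻¹ commutes with t
      obtain ⟨z, hz⟩ : ∃ z : G, z = x * ζ * x⁻¹ := ⟨_, rfl⟩
      have hzconj : ∀ p ∈ P', (x * p * x⁻¹) * z = z * (x * p * x⁻¹) := by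
        intro p hp
        rw [hz]
        calc x * p * x⁻¹ * (x * ζ * x⁻¹) = x * (p * ζ) * x⁻¹ := by group
          _ = x * (ζ * p) * x⁻¹ := by rw [hζc p hp]
          _ = x * ζ * x⁻¹ * (x * p * x⁻¹) := by group
      have hzt : z ∈ Subgroup.centralizer ({(t : G)} : Set G) := by
        rw [Subgroup.mem_centralizer_singleton_iff, ← hxt]
        exact (hzconj _ hs').symm
      have hzH : z ∈ H := hC (t : G) htH (hne1 _ htG) (hzp2 _ htG) hzt
      have hz1 : z ≠ 1 := by
        intro hc
        apply hζ1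
        have : ζ = x⁻¹ * (x * ζ * x⁻¹) * x := by group
        rw [this, ← hz, hc]; group
      have hz2 : IsPGroup 2 (Subgroup.zpowers z) := by
        obtain ⟨k, hk⟩ := (IsPGroup.iff_orderOf.mp hP'2) ⟨ζ, hζP⟩
        rw [Subgroup.orderOf_mk] at hk
        apply IsPGroup.of_card (n := k)
        rw [Nat.card_zpowers, ← hk, hz]
        have := orderOf_injective (MulAut.conj x).toMonoidHom (MulAut.conj x).injective ζ
        simpa [MulAut.conj_apply] using this
      have hCz := hC z hzH hz1 hz2
      -- x P' x⁻¹ ≤ H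
      have hXH : P'.map (MulAut.conj x).toMonoidHom ≤ H := by
        rintro _ ⟨p, hp, rfl⟩
        apply hCz
        rw [Subgroup.mem_centralizer_singleton_iff]
        have := hzconj p hp
        simpa [MulAut.conj_apply] using this
      obtain ⟨h₂, hh₂H, hh₂⟩ := exists_conj_le H P _ hXH (hP'2.map _)
      have hnorm : h₂ * x ∈ Subgroup.normalizer (P' : Set G) := by
        apply Subgroup.mem_normalizer_fintype
        intro p hp
        have := hh₂ (x * p * x⁻¹) ⟨p, hp, by simp [MulAut.conj_apply]⟩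
        have e : h₂ * x * p * (h₂ * x)⁻¹ = h₂ * (x * p * x⁻¹) * h₂⁻¹ := by group
        rw [e]; exact this
      have h3 : h₂ * x ∈ H := hN' P' le_rfl hP'ne hnorm
      apply hgH
      have : g = h₂⁻¹ * (h₂ * x) * h := by rw [hx]; group
      rw [this]
      exact H.mul_mem (H.mul_mem (H.inv_mem hh₂H) h3) hhH

end Cfsg.Agent.S0214
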