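import Cfsg.Statements.S0223
import Mathlib
import Cfsg.Agent.H6SE

set_option autoImplicit false
open Cfsg

namespace Cfsg.Agent.S0223

/-- Let H be a proper subgroup of even order of the finite group G. Then H is strongly embedded if and only if (i) C_G(t) ≤ H for every involution t of H and (ii) H controls fusion of its involutions: involutions of H conjugate in G are conjugate in H. -/
theorem result {G : Type*} [Group G] [Finite G] (H : Subgroup G) (hH : H ≠ ⊤) (heven : Even (Nat.card H)) : Cfsg.IsStronglyEmbedded H ↔ ((∀ t ∈ H, orderOf t = 2 → Subgroup.centralizer ({t} : Set G) ≤ H) ∧ (∀ t ∈ H, ∀ s ∈ H, orderOf t = 2 → orderOf s = 2 → IsConj t s → ∃ h ∈ H, h * t * h⁻¹ = s)) := by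
  rw [H6.isStronglyEmbedded_iff H hH heven]
  constructor
  · intro h
    refine ⟨?_, ?_⟩
    · intro t ht hto c hc
      by_contra hcH
      apply h c hcH t ht hto
      have : t * c = c * t := H6.mem_cent_single.mp hc
      have e : c⁻¹ * t * c = t := by
        rw [mul_assoc, this, ← mul_assoc, inv_mul_cancel, one_mul]
      rw [e]; exact ht
    · intro t ht s hs hto hso hconj
      obtain ⟨c, hc⟩ := isConj_iff.mp hconj
      refine ⟨c, ?_, hc⟩
      by_contra hcH
      have hcH' : c⁻¹ ∉ H := fun hh => hcH (by simpa using H.inv_mem hh)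
      apply h c⁻¹ hcH' t ht hto
      rw [inv_inv, hc]; exact hs
  · rintro ⟨h1, h2⟩ g hg t ht hto hcon
    apply hg
    have hso : orderOf (g⁻¹ * t * g) = 2 := by
      rw [H6.orderOf_conj_eq']
      exact hto
    have hconj : IsConj t (g⁻¹ * t * g) := isConj_iff.mpr ⟨g⁻¹, by rw [inv_inv]⟩
    obtain ⟨h, hh, hht⟩ := h2 t ht (g⁻¹ * t * g) hcon hto hso hconj
    have hmem : g * h ∈ Subgroup.centralizer ({t} : Set G) := by
      rw [H6.mem_cent_single]
      have e1 : h * t = g⁻¹ * t * g * h := by
        calc h * t = h * t * h⁻¹ * h := by group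
          _ = g⁻¹ * t * g * h := by rw [hht]
      calc t * (g * h) = g * (g⁻¹ * t * g * h) := by group
        _ = g * (h * t) := by rw [e1]
        _ = g * h * t := by group
    have hgh : g * h ∈ H := h1 t ht hto hmem
    have : g = g * h * h⁻¹ := by group
    rw [this]
    exact H.mul_mem hgh (H.inv_mem hh)

end Cfsg.Agent.S0223
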