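import Cfsg.Statements.S0224
import Mathlib
import Cfsg.Agent.H6SE

set_option autoImplicit false
open Cfsg

namespace Cfsg.Agent.S0224

/-- Let H be a proper subgroup of even order of the finite group G. Then H is strongly embedded if and only if each involution of H fixes exactly one point (namely the coset H) in the action of G on the cosets of H. -/
theorem result {G : Type*} [Group G] [Finite G] (H : Subgroup G) (hH : H ≠ ⊤) (heven : Even (Nat.card H)) : Cfsg.IsStronglyEmbedded H ↔ ∀ t ∈ H, orderOf t = 2 → Nat.card {c : G ⧸ H // t • c = c} = 1 := by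
  rw [H6.isStronglyEmbedded_iff H hH heven]
  have hfix : ∀ (t g : G), t • (g : G ⧸ H) = (g : G ⧸ H) ↔ g⁻¹ * t * g ∈ H := by
    intro t g
    have e : t • (g : G ⧸ H) = ((t * g : G) : G ⧸ H) := rfl
    rw [e, QuotientGroup.eq]
    constructor
    · intro h
      have := H.inv_mem h
      simpa [mul_assoc] using this
    · intro h
      have := H.inv_mem h
      simpa [mul_assoc] using this
  constructor
  · intro h t ht hto
    rw [Nat.card_eq_one_iff_unique]
    refine ⟨⟨?_⟩, ⟨⟨((1 : G) : G ⧸ H), ?_⟩⟩⟩
    · rintro ⟨a, ha⟩ ⟨b, hb⟩
      apply Subtype.ext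
      simp only
      induction a using QuotientGroup.induction_on with
      | H a =>
        induction b using QuotientGroup.induction_on with
        | H b =>
          have haH : a ∈ H := by
            by_contra hcon
            exact h a hcon t ht hto ((hfix t a).mp ha)
          have hbH : b ∈ H := by
            by_contra hcon
            exact h b hcon t ht hto ((hfix t b).mp hb)
          rw [QuotientGroup.eq]
          exact H.mul_mem (H.inv_mem haH) hbH
    · rw [hfix]; simpa using ht
  · intro h g hg t ht hto hcon
    have h1 := h t ht hto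
    rw [Nat.card_eq_one_iff_unique] at h1
    obtain ⟨hs, _⟩ := h1
    have e := @Subsingleton.elim _ hs
      (⟨((1 : G) : G ⧸ H), by rw [hfix]; simpa using ht⟩ : {c : G ⧸ H // t • c = c})
      ⟨(g : G ⧸ H), (hfix t g).mpr hcon⟩
    have e' : ((1 : G) : G ⧸ H) = (g : G ⧸ H) := congrArg Subtype.val e
    rw [QuotientGroup.eq] at e'
    apply hg
    simpa using e'

end Cfsg.Agent.S0224
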