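import Cfsg.Statements.S0647

set_option autoImplicit false
open Cfsg

namespace Cfsg.Agent.S0647

theorem sup_comm_of_le_centralizer {S : Type*} [Group S] (A B : Subgroup S)
    (hA : IsMulCommutative A) (hB : IsMulCommutative B)
    (hAB : B ≤ Subgroup.centralizer (A : Set S)) : IsMulCommutative ↥(A ⊔ B) := by
  rw [← Subgroup.le_centralizer_iff_isMulCommutative]
  have hA' : A ≤ Subgroup.centralizer (A : Set S) := Subgroup.le_centralizer_iff_isMulCommutative.mpr hA
  have hB' : B ≤ Subgroup.centralizer (B : Set S) := Subgroup.le_centralizer_iff_isMulCommutative.mpr hB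
  have hBA : A ≤ Subgroup.centralizer (B : Set S) := Subgroup.le_centralizer_iff.mp hAB
  apply sup_le
  · rw [Subgroup.le_centralizer_iff]
    exact sup_le hA' hAB
  · rw [Subgroup.le_centralizer_iff]
    exact sup_le hBA hB'

/-- For a nonempty family of maximal abelian subgroups of a finite group, the intersection of the family is the centre of the subgroup it generates, which is also the full centralizer of that subgroup. -/
theorem result {S : Type*} [Group S] [Finite S] (𝒜 : Set (Subgroup S)) (hne : 𝒜.Nonempty) (hab : ∀ A ∈ 𝒜, IsMulCommutative A) (hmax : ∀ A ∈ 𝒜, ∀ B : Subgroup S, IsMulCommutative B → A ≤ B → B = A) : sInf 𝒜 = sSup 𝒜 ⊓ Subgroup.centralizer ((sSup 𝒜 : Subgroup S) : Set S) ∧ sInf 𝒜 = Subgroup.centralizer ((sSup 𝒜 : Subgroup S) : Set S) := by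
  have h1 : sInf 𝒜 ≤ Subgroup.centralizer ((sSup 𝒜 : Subgroup S) : Set S) := by
    rw [Subgroup.le_centralizer_iff]
    apply sSup_le
    intro A hA
    have hA' : A ≤ Subgroup.centralizer (A : Set S) :=
      Subgroup.le_centralizer_iff_isMulCommutative.mpr (hab A hA)
    exact hA'.trans (Subgroup.centralizer_le (by exact_mod_cast (sInf_le hA : sInf 𝒜 ≤ A)))
  have h2 : Subgroup.centralizer ((sSup 𝒜 : Subgroup S) : Set S) ≤ sInf 𝒜 := by
    intro x hx
    rw [Subgroup.mem_sInf]
    intro A hA
    have hAJ : A ≤ sSup 𝒜 := le_sSup hA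
    have hxA : x ∈ Subgroup.centralizer (A : Set S) :=
      Subgroup.centralizer_le (by exact_mod_cast hAJ) hx
    have hB : IsMulCommutative ↥(A ⊔ Subgroup.zpowers x) := by
      apply sup_comm_of_le_centralizer A _ (hab A hA) inferInstance
      rw [Subgroup.zpowers_le]
      exact hxA
    have := hmax A hA _ hB le_sup_left
    rw [← this]
    exact (le_sup_right : Subgroup.zpowers x ≤ A ⊔ Subgroup.zpowers x) (Subgroup.mem_zpowers x)
  have h3 : sInf 𝒜 ≤ sSup 𝒜 := by
    obtain ⟨A, hA⟩ := hne
    exact (sInf_le hA).trans (le_sSup hA)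
  have h4 : sInf 𝒜 = Subgroup.centralizer ((sSup 𝒜 : Subgroup S) : Set S) := le_antisymm h1 h2
  refine ⟨?_, h4⟩
  apply le_antisymm (le_inf h3 h1)
  exact inf_le_right.trans h2

end Cfsg.Agent.S0647
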