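import Cfsg.Statements.S0651
import Cfsg.Agent.H14.GFamily

set_option autoImplicit false
open Cfsg

namespace Cfsg.Agent.S0651

/-- For odd p and D normal in the p-group S, the abelian subgroups of D of largest order satisfy the replacement property: a class-2 normal subgroup B of S with a member containing [B, B] but not B normalizes some such member. -/
theorem result {S : Type*} [Group S] [Finite S] {p : ℕ} [Fact p.Prime] (hS : IsPGroup p S) (hp : p ≠ 2) (D : Subgroup S) [D.Normal] : ∀ (B : Subgroup S) [B.Normal], ⁅⁅B, B⁆, B⁆ = ⊥ → (∃ U ∈ (Set.image (fun A : Subgroup ↥D => A.map D.subtype) (Cfsg.maxAbelianSubgroups ↥D)), ⁅B, B⁆ ≤ U ∧ ¬ B ≤ U) → ∃ A ∈ (Set.image (fun A : Subgroup ↥D => A.map D.subtype) (Cfsg.maxAbelianSubgroups ↥D)), ⁅B, B⁆ ≤ A ∧ ¬ B ≤ A ∧ B ≤ Subgroup.normalizer (A : Set S) := by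
  intro B _ _ hex
  apply H14.replacement_family hS hp D _ ?_ ?_ ?_ B hex
  · rintro _ ⟨A₀, hA₀, rfl⟩
    haveI := hA₀.1
    exact Subgroup.map_isMulCommutative A₀ _
  · rintro _ ⟨A₀, hA₀, rfl⟩ A' hA'D hA'c hcard _
    have e : (A'.subgroupOf D).map D.subtype = A' := Subgroup.map_subgroupOf_eq_of_le hA'D
    refine ⟨A'.subgroupOf D, ⟨Subgroup.subgroupOf_isMulCommutative D A', ?_⟩, e⟩
    intro B' hB'
    have h1 := hA₀.2 B' hB'
    have h2 : Nat.card ↥(A'.subgroupOf D) = Nat.card A' := by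
      rw [← Subgroup.card_subtype D (A'.subgroupOf D), e]
    rw [h2, hcard, Subgroup.card_subtype]
    exact h1
  · rintro _ ⟨A₀, hA₀, rfl⟩
    exact Subgroup.map_subtype_le A₀

end Cfsg.Agent.S0651
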