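import Cfsg.Statements.S0652
import Cfsg.Agent.H14.GFamily

set_option autoImplicit false
open Cfsg

namespace Cfsg.Agent.S0652

/-- For odd p and D normal in the p-group S, the elementary abelian subgroups of D of largest order satisfy the replacement property for class-2 normal subgroups of S. -/
theorem result {S : Type*} [Group S] [Finite S] {p : ℕ} [Fact p.Prime] (hS : IsPGroup p S) (hp : p ≠ 2) (D : Subgroup S) [D.Normal] : ∀ (B : Subgroup S) [B.Normal], ⁅⁅B, B⁆, B⁆ = ⊥ → (∃ U ∈ (Set.image (fun A : Subgroup ↥D => A.map D.subtype) (Cfsg.maxElementaryAbelianSubgroups p ↥D)), ⁅B, B⁆ ≤ U ∧ ¬ B ≤ U) → ∃ A ∈ (Set.image (fun A : Subgroup ↥D => A.map D.subtype) (Cfsg.maxElementaryAbelianSubgroups p ↥D)), ⁅B, B⁆ ≤ A ∧ ¬ B ≤ A ∧ B ≤ Subgroup.normalizer (A : Set S) := by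
  intro B _ _ hex
  apply H14.replacement_family hS hp D _ ?_ ?_ ?_ B hex
  · rintro _ ⟨A₀, hA₀, rfl⟩
    haveI := hA₀.1.1
    exact Subgroup.map_isMulCommutative A₀ _
  · rintro _ ⟨A₀, hA₀, rfl⟩ A' hA'D hA'c hcard hexp
    have e : (A'.subgroupOf D).map D.subtype = A' := Subgroup.map_subgroupOf_eq_of_le hA'D
    have hexpA : Monoid.exponent ↥(A₀.map D.subtype) ∣ p := by
      apply Monoid.exponent_dvd_of_forall_pow_eq_one
      rintro ⟨_, ⟨a, ha, rfl⟩⟩
      apply Subtype.ext
      rw [Subgroup.coe_pow, Subgroup.coe_one]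
      show (D.subtype a) ^ p = 1
      rw [← map_pow, hA₀.1.2 a ha, map_one]
    have hpow : ∀ x ∈ A', x ^ p = 1 := by
      intro x hx
      have h3 := Monoid.exponent_dvd_iff_forall_pow_eq_one.mp (hexp.trans hexpA) ⟨x, hx⟩
      have h4 := congrArg Subtype.val h3
      simpa using h4
    refine ⟨A'.subgroupOf D, ⟨⟨Subgroup.subgroupOf_isMulCommutative D A', ?_⟩, ?_⟩, e⟩
    · intro x hx
      apply Subtype.ext
      rw [Subgroup.coe_pow, Subgroup.coe_one]
      exact hpow _ (Subgroup.mem_subgroupOf.mp hx)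
    · intro B' hB'
      have h1 := hA₀.2 B' hB'
      have h2 : Nat.card ↥(A'.subgroupOf D) = Nat.card A' := by
        rw [← Subgroup.card_subtype D (A'.subgroupOf D), e]
      rw [h2, hcard, Subgroup.card_subtype]
      exact h1
  · rintro _ ⟨A₀, hA₀, rfl⟩
    exact Subgroup.map_subtype_le A₀

end Cfsg.Agent.S0652
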