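import Cfsg.Statements.S0655
import Cfsg.Agent.H14.Basic

set_option autoImplicit false
open Cfsg

namespace Cfsg.Agent.S0655

/-- In a p-group the intersection of all elementary abelian subgroups of largest order is the subgroup generated by the elements of order dividing p in the centre (equivalently the centralizer) of the elementary-version Thompson subgroup. -/
theorem result {S : Type*} [Group S] [Finite S] {p : ℕ} [Fact p.Prime] (hS : IsPGroup p S) : sInf (Cfsg.maxElementaryAbelianSubgroups p S) = Cfsg.omegaCenterThompson p S ∧ Cfsg.omegaCenterThompson p S = Cfsg.omegaOne p (Subgroup.centralizer (Cfsg.thompsonSubgroup p S : Set S)) := by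
  have hJ : ∀ A ∈ Cfsg.maxElementaryAbelianSubgroups p S, A ≤ Cfsg.thompsonSubgroup p S :=
    fun A hA => le_sSup hA
  have hcent : ∀ A ∈ Cfsg.maxElementaryAbelianSubgroups p S,
      Subgroup.centralizer (Cfsg.thompsonSubgroup p S : Set S) ≤ Subgroup.centralizer (A : Set S) :=
    fun A hA => Subgroup.centralizer_le (hJ A hA)
  obtain ⟨A₀, hA₀⟩ := H14.maxElementaryAbelian_nonempty (G := S) p
  constructor
  · apply le_antisymm
    · intro x hx
      rw [Subgroup.mem_sInf] at hx
      unfold Cfsg.omegaCenterThompson Cfsg.omegaOne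
      apply Subgroup.subset_closure
      have hxA₀ := hx A₀ hA₀
      refine ⟨Subgroup.mem_inf.mpr ⟨hJ A₀ hA₀ hxA₀, ?_⟩, hA₀.1.2 x hxA₀⟩
      have h1 : Cfsg.thompsonSubgroup p S ≤ Subgroup.centralizer ({x} : Set S) := by
        unfold Cfsg.thompsonSubgroup
        apply sSup_le
        intro A hA a ha
        rw [Subgroup.mem_centralizer_iff]
        intro y hy
        rw [Set.mem_singleton_iff] at hy
        subst hy
        haveI := hA.1.1
        exact setLike_mul_comm (hx A hA) ha
      rw [Subgroup.mem_centralizer_iff]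
      intro y hy
      have h2 := h1 hy
      rw [Subgroup.mem_centralizer_iff] at h2
      exact (h2 x rfl).symm
    · apply le_sInf
      intro A hA
      unfold Cfsg.omegaCenterThompson Cfsg.omegaOne
      rw [Subgroup.closure_le]
      rintro x ⟨hx1, hx2⟩
      exact H14.mem_of_mem_center_of_pow_eq_one hA (hcent A hA (Subgroup.mem_inf.mp hx1).2) hx2
  · unfold Cfsg.omegaCenterThompson Cfsg.omegaOne
    apply le_antisymm
    · apply Subgroup.closure_mono
      rintro x ⟨hx1, hx2⟩
      exact ⟨(Subgroup.mem_inf.mp hx1).2, hx2⟩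
    · apply Subgroup.closure_mono
      rintro x ⟨hx1, hx2⟩
      refine ⟨Subgroup.mem_inf.mpr ⟨?_, hx1⟩, hx2⟩
      exact hJ A₀ hA₀ (H14.mem_of_mem_center_of_pow_eq_one hA₀ (hcent A₀ hA₀ hx1) hx2)

end Cfsg.Agent.S0655
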