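import Mathlib
import Cfsg.Agent.H65.CharSimple
import Cfsg.Statements.S0721

set_option autoImplicit false
open Cfsg

namespace Cfsg.Agent.S0721

/-- A minimal normal subgroup of a finite group is isomorphic to a direct power `T ^ m` of a simple group `T` (possibly of prime order). -/
theorem result {H : Type*} [Group H] [Finite H] (N : Subgroup H) [N.Normal] (hN : N ≠ ⊥) (hmin : ∀ M : Subgroup H, M.Normal → M ≤ N → M = ⊥ ∨ M = N) : ∃ (T : Type) (_ : Group T) (m : ℕ), IsSimpleGroup T ∧ 0 < m ∧ Nonempty (N ≃* (Fin m → T)) := by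
  have : Nontrivial N := (Subgroup.nontrivial_iff_ne_bot N).mpr hN
  obtain ⟨T, m, hT, hm, ⟨e⟩⟩ := H65.exists_simple_power (N := N)
    (MulAut.conjNormal (H := N)).range (by
    intro M hMn hM
    have hnorm : (M.map N.subtype).Normal := by
      constructor
      intro x hx h
      obtain ⟨y, hy, rfl⟩ := hx
      refine ⟨MulAut.conjNormal h y, ?_, ?_⟩
      · exact hM (MulAut.conjNormal h) ⟨h, rfl⟩ (Subgroup.mem_map_of_mem _ hy)
      · simp [MulAut.conjNormal_apply]
    rcases hmin _ hnorm (Subgroup.map_subtype_le M) with h | h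
    · left; exact (Subgroup.map_eq_bot_iff_of_injective M (Subgroup.subtype_injective N)).mp h
    · right
      rw [eq_top_iff]; intro x _
      have hx : (x : H) ∈ M.map N.subtype := by rw [h]; exact x.2
      obtain ⟨k, hk, hkx⟩ := hx
      have : k = x := Subtype.ext hkx
      exact this ▸ hk)
  obtain ⟨T', _, ⟨eT⟩⟩ := H65.exists_type_zero T
  exact ⟨T', inferInstance, m, eT.symm.isSimpleGroup, hm,
    ⟨e.trans (MulEquiv.piCongrRight (fun _ => eT))⟩⟩

end Cfsg.Agent.S0721
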