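import Cfsg.Statements.S0976
import Cfsg.Agent.H21.E2Setup

set_option autoImplicit false
open Cfsg

namespace Cfsg.Agent.S0976

open Cfsg.Agent.H21 Cfsg.Agent.H21.E2Block in
/-- No finite simple group has order 4032 = 2^6 * 3^2 * 7. -/
theorem result {G : Type*} [Group G] [Finite G] [IsSimpleGroup G] : Nat.card G ≠ 4032 := by
  intro hcard
  classical
  have hnp : ¬ (Nat.card G).Prime := by rw [hcard]; norm_num
  have hG : ¬ IsMulCommutative G := Cfsg.Agent.H21.not_comm_of_not_prime hnp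
  have hna : ∃ u v : G, u * v ≠ v * u := by
    by_contra hcon
    push Not at hcon
    exact hG ⟨⟨hcon⟩⟩
  have : Fact (Nat.Prime 7) := ⟨by norm_num⟩
  have : Fact (Nat.Prime 2) := ⟨Nat.prime_two⟩
  have hcard' : Nat.card G = 2 ^ 6 * 3 ^ 2 * 7 := by rw [hcard]; norm_num
  obtain ⟨M7, hM7⟩ := Cfsg.Agent.H78.exists_isPModular 7 (by norm_num)
  obtain ⟨M2, hM2⟩ := Cfsg.Agent.H78.exists_isPModular 2 Nat.prime_two
  obtain ⟨χ, Y, η₁, x, y, hB, hχne, h0Y, hχY, hYn, hη₁, hout, hx1, hy1, hYeq, hxdvd, hydvd,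
      hx2, hxsq, hxy⟩ := e2_setup hna 7 6 2 (by norm_num) hcard' (by
        intro d n hd hd1 h hn
        have hd6 : d ≤ 6 := Nat.le_of_dvd (by norm_num) hd
        interval_cases d <;> omega) M7 hM7
  rw [hcard] at hxdvd hydvd hxsq
  -- the degrees are 8 and 9
  have hx63 : x < 64 := by nlinarith
  have key : ∀ x ∈ Finset.range 64, x ∣ 4032 → 2 ≤ x →
      ((7 ∣ x - 1 → (x + 1) ∣ 4032 → x = 8) ∧ (7 ∣ x + 1 → ¬ (x - 1) ∣ 4032)) := by decide
  have hk := key x (Finset.mem_range.mpr hx63) hxdvd hx2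
  have hx8 : x = 8 ∧ y = 9 := by
    rcases hxy with ⟨h1, h2⟩ | ⟨h1, h2⟩
    · have := hk.1 h1 (h2 ▸ hydvd)
      omega
    · exfalso
      have h3 : y = x - 1 := by omega
      exact hk.2 h1 (h3 ▸ hydvd)
  obtain ⟨hx8, hy9⟩ := hx8
  rw [hx8] at hx1
  rw [hy9] at hy1
  -- weak block orthogonality for the prime 2
  obtain ⟨e, k, he, hk, heχ, -, hw⟩ :=
    wbo_split 7 M2 hM2 χ Y (principalBlock M7 G) hB hχne h0Y hχY hout
  have he0 : e = 0 := by
    by_contra hne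
    have he1 : e = 1 := by omega
    have hdeg : (χ : G → ℂ) 1 = ((2 : ℕ) : ℂ) ^ 3 := by rw [hx1]; norm_num
    have := Cfsg.Agent.S0910.result 2 M2 hM2 hna χ (heχ he1) 3 hdeg
    exact hχne (Subtype.ext this)
  have hk3 : k ≤ 3 := by rw [hYn] at hk; omega
  -- a Sylow 2-subgroup
  let S : Sylow 2 G := default
  have hS : Nat.card (S : Subgroup G) = 2 ^ 6 :=
    Cfsg.Agent.H21.sylow_card_of_card_eq (p := 2) (k := 6) (m := 63) (by rw [hcard]; norm_num)
      (by norm_num) S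
  have hKg : ∀ g ∈ (S : Subgroup G), g ≠ 1 → ∃ w : ℂ, IsIntegral ℤ w ∧
      1 + ((9 * (k : ℤ) : ℤ) : ℂ) * (η₁ : G → ℂ) g = ((7 : ℕ) : ℂ) * w := by
    intro g hg hg1
    obtain ⟨h2, h7⟩ := two_elt_facts (S : Subgroup G) 6 hS 7 (by norm_num) (by norm_num) g hg hg1
    obtain ⟨w, hw1, hw2⟩ := hw g h2 9 ((η₁ : G → ℂ) g)
      (fun η hη => ⟨hy1 η hη, hYeq η hη g h7⟩)
    refine ⟨w, hw1, ?_⟩
    rw [he0] at hw2
    push_cast at hw2 ⊢
    linear_combination hw2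
  obtain ⟨g0, hg0S, hg0⟩ : ∃ g0 ∈ (S : Subgroup G), orderOf g0 = 2 :=
    Cfsg.Agent.H21.exists_mem_orderOf_eq_prime (S : Subgroup G) 2 (by rw [hS]; norm_num)
  have hg01 : g0 ≠ 1 := by
    rintro rfl
    rw [orderOf_one] at hg0
    omega
  rcases Nat.eq_zero_or_pos k with hk0 | hkpos
  · obtain ⟨w, hw1, hw2⟩ := hKg g0 hg0S hg01
    rw [hk0] at hw2
    exact not_isIntegral_one_eq_mul 7 (by norm_num) w hw1 (by
      push_cast at hw2 ⊢; linear_combination hw2)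
  · have hD : ∀ d : ℕ, d ∣ Nat.card (S : Subgroup G) → d * d < Nat.card (S : Subgroup G) →
        d ≤ 4 := by
      rw [hS]
      intro d hd hdd
      have : d ≤ 7 := by nlinarith
      interval_cases d <;> omega
    have hqS : ¬ 7 ∣ Nat.card (S : Subgroup G) := by rw [hS]; norm_num
    have hfin := ResidueTrick.residue_count (S : Subgroup G) 7 (by norm_num) hqS (η₁ : G → ℂ)
      (Cfsg.Agent.H4.isCharacter_of_isIrrCharacter η₁.2) 9 (by rw [hy1 η₁ hη₁]) (9 * (k : ℤ))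
      hKg (by omega) 4 hD
    rw [hS] at hfin
    omega

end Cfsg.Agent.S0976
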