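import Cfsg.Statements.S0977
import Cfsg.Agent.H2.O4320Main
import Cfsg.Agent.H99.AltSq
import Cfsg.Agent.H28.Ord4320Inv4
import Cfsg.Agent.S0225

set_option autoImplicit false
open Cfsg

namespace Cfsg.Agent.S0977

open Cfsg.Agent.H21 Cfsg.Agent.H21.E2Block Cfsg.Agent.H2.O4320 in
/-- No finite simple group has order 4320 = 2^5 * 3^3 * 5. -/
theorem result {G : Type*} [Group G] [Finite G] [IsSimpleGroup G] : Nat.card G ≠ 4320 := by
  intro hcard
  classical
  have hnp : ¬ (Nat.card G).Prime := by rw [hcard]; norm_num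
  have hG : ¬ IsMulCommutative G := Cfsg.Agent.H21.not_comm_of_not_prime hnp
  have hna : ∃ u v : G, u * v ≠ v * u := by
    by_contra hcon
    push Not at hcon
    exact hG ⟨⟨hcon⟩⟩
  obtain ⟨x, χ₄, B, ε, hx5, h41, h4x, h4xx, htB, hεt, hB, hout, h6⟩ := exists_chi4 hcard
  haveI : Fintype G := Fintype.ofFinite G
  letI := Cfsg.Agent.H4.fintypeIrr G
  -- the exterior square of `χ₄`
  obtain ⟨lam, hlam⟩ : ∃ lam : G → ℂ,
      lam = fun g => ((χ₄ : G → ℂ) g ^ 2 - (χ₄ : G → ℂ) (g * g)) / 2 := ⟨_, rfl⟩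
  have hlamchar : IsCharacter G lam := by
    rw [hlam]
    exact Cfsg.Agent.H99.AltSq.altSq_isCharacter _
      (Cfsg.Agent.H4.isCharacter_of_isIrrCharacter χ₄.2)
  obtain ⟨m, hm⟩ := Cfsg.Agent.H4.isCharacter_iff.mp hlamchar
  have hmg : ∀ g, lam g = ∑ ψ : IrrCharacter G, (m ψ : ℂ) * (ψ : G → ℂ) g := by
    intro g
    rw [hm, Cfsg.Agent.H4.finsum_irr_eq_sum]
    simp [Finset.sum_apply]
  have hlam1 : lam 1 = 6 := by
    rw [hlam]
    simp only [mul_one, h41]
    norm_num
  have hlamx : lam x = 1 := by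
    rw [hlam]
    simp only [h4x, h4xx]
    norm_num
  -- degrees
  have hdeg6 : ∑ ψ : IrrCharacter G, m ψ * charDegree (ψ : G → ℂ) = 6 := by
    have h := hmg 1
    rw [hlam1] at h
    have h2 : ((∑ ψ : IrrCharacter G, m ψ * charDegree (ψ : G → ℂ) : ℕ) : ℂ) = 6 := by
      rw [h]
      push_cast
      exact Finset.sum_congr rfl fun ψ _ => by rw [(Cfsg.Agent.H81.irr_charDegree ψ).1]
    exact_mod_cast h2
  -- values at `x`
  have hval : ∑ ψ ∈ B, (m ψ : ℤ) * ε ψ = 1 := by
    have h1 : lam x = ∑ ψ ∈ B, (m ψ : ℂ) * (ε ψ : ℂ) := by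
      rw [hmg x]
      symm
      rw [← Finset.sum_subset (Finset.subset_univ B)]
      · exact Finset.sum_congr rfl fun ψ hψ => by rw [(hB ψ hψ).2]
      · intro ψ _ hψ
        rw [hout ψ hψ, mul_zero]
    have h2 : ((∑ ψ ∈ B, (m ψ : ℤ) * ε ψ : ℤ) : ℂ) = 1 := by
      rw [← hlamx, h1]
      push_cast
      rfl
    exact_mod_cast h2
  -- the principal character occurs in `lam`
  have hmt : 1 ≤ m (triv G) := by
    rw [← Finset.add_sum_erase B _ htB, hεt, mul_one] at hval
    have hle : ∑ ψ ∈ B.erase (triv G), (m ψ : ℤ) * ε ψ ≤ 0 := by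
      apply Finset.sum_nonpos
      intro ψ hψ
      rw [Finset.mem_erase] at hψ
      rcases (hB ψ hψ.2).1 with h | h
      · have h6' := h6 ψ hψ.2 hψ.1 h
        have hle6 : m ψ * charDegree (ψ : G → ℂ) ≤ 6 := by
          rw [← hdeg6]
          exact Finset.single_le_sum (f := fun ψ : IrrCharacter G => m ψ * charDegree (ψ : G → ℂ))
            (fun _ _ => Nat.zero_le _) (Finset.mem_univ ψ)
        have hm0 : m ψ = 0 := by
          by_contra hne
          have : 1 ≤ m ψ := Nat.one_le_iff_ne_zero.mpr hne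
          nlinarith
        rw [hm0]
        simp
      · rw [h]
        have : (0 : ℤ) ≤ (m ψ : ℤ) := Int.natCast_nonneg _
        linarith
    omega
  -- there is no Klein four-subgroup
  have hnoK : ∀ E : Subgroup G, ¬ IsKleinFour E := by
    intro E hE
    haveI : Fintype E := Fintype.ofFinite E
    have hcardE : Fintype.card E = 4 := by
      rw [← Nat.card_eq_fintype_card]
      exact IsKleinFour.card_four
    have hord : ∀ v : E, v ≠ 1 → orderOf (v : G) = 2 := by
      intro v hv
      rw [Subgroup.orderOf_coe]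
      have hvv : v * v = 1 := IsKleinFour.mul_self v
      have hd : orderOf v ∣ 2 := orderOf_dvd_of_pow_eq_one (by rw [pow_two]; exact hvv)
      have h1 : orderOf v ≠ 1 := fun h => hv (orderOf_eq_one_iff.mp h)
      rcases (Nat.dvd_prime Nat.prime_two).mp hd with h | h
      · exact absurd h h1
      · exact h
    have hlamv : ∀ v : E, v ≠ 1 → lam (v : G) = -2 := by
      intro v hv
      have h2 := hord v hv
      have h0 := Cfsg.Agent.H28.Ord4320.invol_deg_four hna χ₄ h41 (v : G) h2
      have hvv : (v : G) * (v : G) = 1 := by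
        rw [← pow_two, ← h2]
        exact pow_orderOf_eq_one _
      rw [hlam]
      simp only [h0, hvv, h41]
      norm_num
    have hsumE : ∑ v : E, lam (v : G) = 0 := by
      rw [← Finset.add_sum_erase Finset.univ _ (Finset.mem_univ (1 : E)),
        Finset.sum_congr rfl (fun v hv => hlamv v (Finset.ne_of_mem_erase hv)), Finset.sum_const,
        Finset.card_erase_of_mem (Finset.mem_univ _), Finset.card_univ, hcardE]
      simp only [Subgroup.coe_one, hlam1]
      norm_num
    have hk : ∀ ψ : IrrCharacter G, ∃ k : ℕ,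
        ∑ v : E, (ψ : G → ℂ) (v : G) = (4 : ℂ) * (k : ℂ) := by
      intro ψ
      obtain ⟨k, hk⟩ := Cfsg.Agent.H4.classInner_isCharacter_nat
        (Cfsg.Agent.H4.isCharacter_restrict E (Cfsg.Agent.H4.isCharacter_of_isIrrCharacter ψ.2))
        (Cfsg.Agent.H4.isCharacter_of_isIrrCharacter (Cfsg.Agent.H4.isIrrCharacter_one (G := E)))
      unfold classInner at hk
      refine ⟨k, ?_⟩
      have hc : (Nat.card E : ℂ) = 4 := by
        rw [Nat.card_eq_fintype_card, hcardE]; norm_num
      rw [hc] at hk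
      have hs : ∑ g : E, (ψ : G → ℂ) (g : G) * (starRingEnd ℂ) (1 : ℂ) =
          ∑ v : E, (ψ : G → ℂ) (v : G) := by
        refine Finset.sum_congr rfl fun v _ => ?_
        simp
      rw [hs] at hk
      rw [← hk]
      field_simp
    choose k hk using hk
    have htk : k (triv G) = 1 := by
      have h := hk (triv G)
      simp only [triv_apply, Finset.sum_const, Finset.card_univ, hcardE, nsmul_eq_mul,
        mul_one] at h
      have h2 : ((4 : ℕ) : ℂ) = ((4 * k (triv G) : ℕ) : ℂ) := by
        push_cast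
        exact h
      have h3 : 4 = 4 * k (triv G) := by exact_mod_cast h2
      omega
    have h0 : (0 : ℂ) = ∑ ψ : IrrCharacter G, (m ψ : ℂ) * ((4 : ℂ) * (k ψ : ℂ)) := by
      rw [← hsumE]
      simp_rw [hmg]
      rw [Finset.sum_comm]
      refine Finset.sum_congr rfl fun ψ _ => ?_
      rw [← Finset.mul_sum, hk ψ]
    have h0' : ∑ ψ : IrrCharacter G, m ψ * (4 * k ψ) = 0 := by
      have : ((∑ ψ : IrrCharacter G, m ψ * (4 * k ψ) : ℕ) : ℂ) = 0 := by
        rw [h0]
        push_cast
        rfl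
      exact_mod_cast this
    have h1 := (Finset.sum_eq_zero_iff.mp h0') (triv G) (Finset.mem_univ _)
    rw [htk] at h1
    omega
  -- conclusion by S0225
  obtain ⟨z, hz, N, hNn, hNodd, hNz⟩ := Cfsg.Agent.S0225.result
    (by rw [hcard]; decide : Even (Nat.card G)) hnoK
  rcases hNn.eq_bot_or_eq_top with hb | ht
  · have hzc : z ∈ Subgroup.center G := by
      rw [Subgroup.mem_center_iff]
      intro g
      have h := hNz g
      rw [hb, Subgroup.mem_bot] at h
      have h2 : z * g = g * z := by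
        have : z * g = (z * g * z⁻¹ * g⁻¹) * (g * z) := by group
        rw [this, h, one_mul]
      exact h2.symm
    have hcn : (Subgroup.center G).Normal := inferInstance
    rcases hcn.eq_bot_or_eq_top with hcb | hct
    · rw [hcb, Subgroup.mem_bot] at hzc
      rw [hzc, orderOf_one] at hz
      omega
    · obtain ⟨u, v, huv⟩ := hna
      apply huv
      have hu : u ∈ Subgroup.center G := by rw [hct]; exact Subgroup.mem_top u
      exact ((Subgroup.mem_center_iff.mp hu) v).symm
  · rw [ht, Subgroup.card_top, hcard] at hNodd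
    exact absurd hNodd (by decide)

end Cfsg.Agent.S0977
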