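-- Statement S0978: no simple group of order 5040 (helper26 assembly; pieces by helper5, helper16).
import Cfsg.Statements.S0978
import Cfsg.Agent.H16.Ord5040P7
import Cfsg.Agent.H5.Ord5040P5
import Cfsg.Agent.H5.Ord5040PB

set_option autoImplicit false
open Cfsg

namespace Cfsg.Agent.S0978

/-- No finite simple group has order 5040 = 2^4 * 3^2 * 5 * 7. -/
theorem result {G : Type*} [Group G] [Finite G] [IsSimpleGroup G] : Nat.card G ≠ 5040 := by
  intro hcard
  have : Fact (Nat.Prime 7) := ⟨by norm_num⟩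
  have : Fact (Nat.Prime 5) := ⟨by norm_num⟩
  have P7 : Sylow 7 G := default
  have P5 : Sylow 5 G := default
  obtain ⟨hC, he7⟩ := Cfsg.Agent.H16.Ord5040.p7_cent hcard P7
  exact Cfsg.Agent.H5.Ord5040.caseB_false hcard P7 hC he7 P5
    (Cfsg.Agent.H5.Ord5040.p5_facts hcard P5).1

end Cfsg.Agent.S0978
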