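import Cfsg.Statements.S0980
-- import your own Cfsg.Agent.* helpers here
import Cfsg.Agent.H21.E2Setup

set_option autoImplicit false
open Cfsg

namespace Cfsg.Agent.S0980

open Cfsg.Agent.H21 Cfsg.Agent.H21.E2Block in
/-- No finite simple group has order 5760 = 2^7 * 3^2 * 5. -/
theorem result {G : Type*} [Group G] [Finite G] [IsSimpleGroup G] : Nat.card G ≠ 5760 := by
  intro hcard
  classical
  have hnp : ¬ (Nat.card G).Prime := by rw [hcard]; norm_num
  have hG : ¬ IsMulCommutative G := Cfsg.Agent.H21.not_comm_of_not_prime hnp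
  have hna : ∃ u v : G, u * v ≠ v * u := by
    by_contra hcon
    push Not at hcon
    exact hG ⟨⟨hcon⟩⟩
  have : Fact (Nat.Prime 5) := ⟨by norm_num⟩
  have : Fact (Nat.Prime 2) := ⟨Nat.prime_two⟩
  have hcard' : Nat.card G = 2 ^ 7 * 3 ^ 2 * 5 := by rw [hcard]; norm_num
  obtain ⟨M5, hM5⟩ := Cfsg.Agent.H78.exists_isPModular 5 (by norm_num)
  obtain ⟨M2, hM2⟩ := Cfsg.Agent.H78.exists_isPModular 2 Nat.prime_two
  obtain ⟨χ, Y, η₁, x, y, hB, hχne, h0Y, hχY, hYn, hη₁, hout, hx1, hy1, hYeq, hxdvd, hydvd,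
      hx2, hxsq, hxy⟩ := e2_setup hna 5 7 2 (by norm_num) hcard' (by
        intro d n hd hd1 h hn
        have hd4 : d ≤ 4 := Nat.le_of_dvd (by norm_num) hd
        interval_cases d <;> omega) M5 hM5
  rw [hcard] at hxdvd hydvd hxsq
  -- the degrees are (4, 3) or (9, 8)
  have hx76 : x < 76 := by nlinarith
  have key : ∀ x ∈ Finset.range 76, x ∣ 5760 → 2 ≤ x →
      ((5 ∣ x - 1 → ¬ (x + 1) ∣ 5760) ∧ (5 ∣ x + 1 → (x - 1) ∣ 5760 → x = 4 ∨ x = 9)) := by
    decide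
  have hk := key x (Finset.mem_range.mpr hx76) hxdvd hx2
  have hxy' : (x = 4 ∧ y = 3) ∨ (x = 9 ∧ y = 8) := by
    rcases hxy with ⟨h1, h2⟩ | ⟨h1, h2⟩
    · exfalso
      exact hk.1 h1 (h2 ▸ hydvd)
    · have h3 : y = x - 1 := by omega
      have := hk.2 h1 (h3 ▸ hydvd)
      omega
  -- weak block orthogonality for the prime 2
  obtain ⟨e, k, he, hk, heχ, hkη, hw⟩ :=
    wbo_split 5 M2 hM2 χ Y (principalBlock M5 G) hB hχne h0Y hχY hout
  have hk2 : k ≤ 2 := by rw [hYn] at hk; omega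
  -- a Sylow 2-subgroup
  let S : Sylow 2 G := default
  have hS : Nat.card (S : Subgroup G) = 2 ^ 7 :=
    Cfsg.Agent.H21.sylow_card_of_card_eq (p := 2) (k := 7) (m := 45) (by rw [hcard]; norm_num)
      (by norm_num) S
  obtain ⟨g0, hg0S, hg0⟩ : ∃ g0 ∈ (S : Subgroup G), orderOf g0 = 2 :=
    Cfsg.Agent.H21.exists_mem_orderOf_eq_prime (S : Subgroup G) 2 (by rw [hS]; norm_num)
  have hg01 : g0 ≠ 1 := by
    rintro rfl
    rw [orderOf_one] at hg0
    omega
  have hD : ∀ d : ℕ, d ∣ Nat.card (S : Subgroup G) → d * d < Nat.card (S : Subgroup G) →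
      d ≤ 8 := by
    rw [hS]
    intro d hd hdd
    have : d ≤ 11 := by nlinarith
    interval_cases d <;> omega
  have hqS : ¬ 5 ∣ Nat.card (S : Subgroup G) := by rw [hS]; norm_num
  have hfacts : ∀ g ∈ (S : Subgroup G), g ≠ 1 → 2 ∣ orderOf g ∧ ¬ 5 ∣ orderOf g :=
    fun g hg hg1 => two_elt_facts (S : Subgroup G) 7 hS 5 (by norm_num) (by norm_num) g hg hg1
  rcases hxy' with ⟨hx4, hy3⟩ | ⟨hx9, hy8⟩
  · -- degrees 4; 3, 3
    rw [hx4] at hx1
    rw [hy3] at hy1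
    have he0 : e = 0 := by
      by_contra hne
      have he1 : e = 1 := by omega
      have hdeg : (χ : G → ℂ) 1 = ((2 : ℕ) : ℂ) ^ 2 := by rw [hx1]; norm_num
      have := Cfsg.Agent.S0910.result 2 M2 hM2 hna χ (heχ he1) 2 hdeg
      exact hχne (Subtype.ext this)
    have hKg : ∀ g ∈ (S : Subgroup G), g ≠ 1 → ∃ w : ℂ, IsIntegral ℤ w ∧
        1 + ((3 * (k : ℤ) : ℤ) : ℂ) * (η₁ : G → ℂ) g = ((5 : ℕ) : ℂ) * w := by
      intro g hg hg1
      obtain ⟨h2, h5⟩ := hfacts g hg hg1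
      obtain ⟨w, hw1, hw2⟩ := hw g h2 3 ((η₁ : G → ℂ) g)
        (fun η hη => ⟨hy1 η hη, hYeq η hη g h5⟩)
      refine ⟨w, hw1, ?_⟩
      rw [he0] at hw2
      push_cast at hw2 ⊢
      linear_combination hw2
    have hη₁char := Cfsg.Agent.H4.isCharacter_of_isIrrCharacter η₁.2
    have hk012 : k = 0 ∨ k = 1 ∨ k = 2 := by omega
    rcases hk012 with hk0 | hk1 | hk2'
    · obtain ⟨w, hw1, hw2⟩ := hKg g0 hg0S hg01
      rw [hk0] at hw2
      exact not_isIntegral_one_eq_mul 5 (by norm_num) w hw1 (by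
        push_cast at hw2 ⊢; linear_combination hw2)
    · -- degenerate case: `η₁` restricted to `S` is trivial
      have htriv := ResidueTrick.residue_trivial (S : Subgroup G) 5 (by norm_num) hqS
        (η₁ : G → ℂ) hη₁char 3 (hy1 η₁ hη₁) (3 * (k : ℤ)) hKg (by rw [hk1]; norm_num)
        (by norm_num) g0 hg0S
      refine ResidueTrick.irr_apply_ne_degree η₁ ?_ g0 hg01 htriv
      rw [hy1 η₁ hη₁]
      norm_num
    · have hfin := ResidueTrick.residue_count (S : Subgroup G) 5 (by norm_num) hqS (η₁ : G → ℂ)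
        hη₁char 3 (hy1 η₁ hη₁) (3 * (k : ℤ)) hKg (by rw [hk2']; norm_num) 8 hD
      rw [hS] at hfin
      omega
  · -- degrees 9; 8, 8
    rw [hx9] at hx1
    rw [hy8] at hy1
    have hk0 : k = 0 := by
      by_contra hne
      obtain ⟨η, hηY, hηB⟩ := hkη (by omega)
      have hdeg : (η : G → ℂ) 1 = ((2 : ℕ) : ℂ) ^ 3 := by rw [hy1 η hηY]; norm_num
      have := Cfsg.Agent.S0910.result 2 M2 hM2 hna η hηB 3 hdeg
      have h2 : η = triv G := Subtype.ext this
      rw [h2] at hηY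
      exact h0Y hηY
    have hKg : ∀ g ∈ (S : Subgroup G), g ≠ 1 → ∃ w : ℂ, IsIntegral ℤ w ∧
        1 + ((9 * (e : ℤ) : ℤ) : ℂ) * (χ : G → ℂ) g = ((5 : ℕ) : ℂ) * w := by
      intro g hg hg1
      obtain ⟨h2, h5⟩ := hfacts g hg hg1
      obtain ⟨w, hw1, hw2⟩ := hw g h2 8 ((η₁ : G → ℂ) g)
        (fun η hη => ⟨hy1 η hη, hYeq η hη g h5⟩)
      refine ⟨w, hw1, ?_⟩
      rw [hk0, hx1] at hw2
      push_cast at hw2 ⊢
      linear_combination hw2
    rcases Nat.eq_zero_or_pos e with he0 | hepos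
    · obtain ⟨w, hw1, hw2⟩ := hKg g0 hg0S hg01
      rw [he0] at hw2
      exact not_isIntegral_one_eq_mul 5 (by norm_num) w hw1 (by
        push_cast at hw2 ⊢; linear_combination hw2)
    · have he1 : e = 1 := by omega
      have hfin := ResidueTrick.residue_count (S : Subgroup G) 5 (by norm_num) hqS (χ : G → ℂ)
        (Cfsg.Agent.H4.isCharacter_of_isIrrCharacter χ.2) 9 hx1 (9 * (e : ℤ)) hKg
        (by rw [he1]; norm_num) 8 hD
      rw [hS] at hfin
      omega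

end Cfsg.Agent.S0980
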