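import Cfsg.Statements.S0983
-- import your own Cfsg.Agent.* helpers here
import Cfsg.Agent.H2.CensusBK
import Cfsg.Agent.H26.Range3641Table
import Cfsg.Agent.H26.Range3641Paqb
import Cfsg.Agent.H26.Range3641BT
import Cfsg.Agent.H26.R3641A
import Cfsg.Agent.H26.R3641B
import Cfsg.Agent.H65.SylInterKills
import Cfsg.Agent.H65.Ord4620
import Cfsg.Agent.H44.Ord175560A
import Cfsg.Agent.H16.Ord175560B
import Cfsg.Agent.S0975
import Cfsg.Agent.S0976
import Cfsg.Agent.S0977
import Cfsg.Agent.S0978
import Cfsg.Agent.S0979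
import Cfsg.Agent.S0980
import Cfsg.Agent.H69.CensusBS
import Cfsg.Agent.H21.CensusBG4
import Cfsg.Agent.H80.CensusBG1
import Cfsg.Agent.H59.CensusBG3
import Cfsg.Agent.H26.R3641C
import Cfsg.Agent.H56.CensusD2
import Cfsg.Agent.H56.CensusB
import Cfsg.Agent.H54.CensusC
import Cfsg.Agent.H54.CensusA
import Cfsg.Agent.H64.CensusD1

set_option autoImplicit false
open Cfsg

namespace Cfsg.Agent.S0983

open Cfsg.Agent.H2.Census

universe u

/-- How the 71 special orders are distributed over the available arguments. -/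
theorem special_split : ∀ n ∈ Cfsg.Agent.H26.Range3641.special,
    n ∈ ([3888, 3968, 4000, 4563, 5184, 6075] : List ℕ) ∨
    n ∈ ([3648, 3672, 3800, 3840, 4160, 4224, 4400, 4416, 4480, 4512, 4536, 4752, 4800, 4928,
      5200, 5376, 5508, 5952, 6080] : List ℕ) ∨
    n ∈ ([4284, 4560, 5220, 5520, 5700, 5724] : List ℕ) ∨
    n ∈ ([3696, 4900, 5236, 5544, 6120, 6160] : List ℕ) ∨
    n ∈ ([4500, 5292, 6000] : List ℕ) ∨
    n ∈ brauerList.map Prod.fst ∨
    n ∈ ([3744, 4032, 4320, 5040, 5472, 5760, 5320, 5852, 4620, 5460, 5400, 4080, 5616, 6048,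
      6072] : List ℕ) := by
  decide

theorem result {G : Type*} [Group G] [Finite G] [IsSimpleGroup G] (hG : ¬ IsMulCommutative G) (h1 : 3640 < Nat.card G) (h2 : Nat.card G ≤ 6232) : Nat.card G = 4080 ∨ Nat.card G = 5616 ∨ Nat.card G = 6048 ∨ Nat.card G = 6072 := by
  have hnc : ¬ IsCyclic G := Cfsg.Agent.H11.not_isCyclic_of_not_isMulCommutative hG
  rcases Cfsg.Agent.H26.Range3641.table _ h1 h2 with ⟨p, hp⟩ | ⟨p, hp⟩ | hsp
  · exact absurd hp (Cfsg.Agent.H11.not_sylowKills hnc p)
  · exact absurd hp (Cfsg.Agent.H11.not_burnsideKills hnc p)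
  · rcases special_split _ hsp with h | h | h | h | h | h | h
    · exact (Cfsg.Agent.H26.Range3641.no_simple_paqb2 h).elim
    · exact (Cfsg.Agent.H26.Range3641.no_simple_bt2 h).elim
    · exact (Cfsg.Agent.H26.R3641.no_simple_a h).elim
    · exact (Cfsg.Agent.H26.R3641.no_simple_b h).elim
    · exact (Cfsg.Agent.H65.SylInterKills.no_simple_inter h).elim
    · exfalso
      obtain ⟨x, hx, hcard⟩ := List.mem_map.mp h
      have hfalse := brauerB_list x hx
      obtain ⟨hx1, hx2, hx3, hx4⟩ := brauerList_prime x hx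
      have : Fact x.2.Prime := ⟨hx1⟩
      have hbd := Cfsg.Agent.H21.Census.stmtBD Cfsg.Agent.H80.Census.noDegTwo
        Cfsg.Agent.H59.Census.blockChars G hnc x.2 hx2 (by rw [← hcard]; exact hx3)
        (by rw [← hcard]; exact hx4)
      rw [← hcard] at hbd
      have := Cfsg.Agent.H69.Census.brauerB_complete x.1 x.2 hx1 _ hbd
      rw [hfalse] at this
      exact Bool.false_ne_true this
    · simp only [List.mem_cons, List.not_mem_nil, or_false] at h
      rcases h with h | h | h | h | h | h | h | h | h | h | h | h | h | h | h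
      · exact (Cfsg.Agent.S0975.result h).elim
      · exact (Cfsg.Agent.S0976.result h).elim
      · exact (Cfsg.Agent.S0977.result h).elim
      · exact (Cfsg.Agent.S0978.result h).elim
      · exact (Cfsg.Agent.S0979.result h).elim
      · exact (Cfsg.Agent.S0980.result h).elim
      · exact (Cfsg.Agent.H44.Ord175560.no_simple_5320 h).elim
      · exact (Cfsg.Agent.H16.Ord175560.no_simple_5852 h).elim
      · exact (Cfsg.Agent.H65.Ord4620.no_simple_4620 h).elim
      · exact (Cfsg.Agent.H26.R3641.no_simple_5460 h).elim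
      · exact (Cfsg.Agent.H56.Census.no_simple_5400 Cfsg.Agent.H54.Census.disjointSylow
          (Cfsg.Agent.H64.Census.thick5400 Cfsg.Agent.H54.Census.sylowThrough
            Cfsg.Agent.H56.Census.uniqueSylow5) h).elim
      · exact Or.inl h
      · exact Or.inr (Or.inl h)
      · exact Or.inr (Or.inr (Or.inl h))
      · exact Or.inr (Or.inr (Or.inr h))

end Cfsg.Agent.S0983
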