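import Cfsg.Statements.S0994
import Cfsg.Agent.H21.SimpleTools

set_option autoImplicit false
open Cfsg

namespace Cfsg.Agent.S0994

open Cfsg.Agent.H21 Subgroup

/-- There is no finite simple group of order 1188. -/
theorem result {G : Type*} [Group G] [Finite G] [IsSimpleGroup G] : Nat.card G ≠ 1188 := by
  intro hcard
  have hG : ¬ IsMulCommutative G := not_comm_of_not_prime (by rw [hcard]; norm_num)
  have : Fact (Nat.Prime 11) := ⟨by norm_num⟩
  obtain ⟨P⟩ : Nonempty (Sylow 11 G) := inferInstance
  obtain ⟨hP, -, -, hdvd, hmod, hne1, -, hNn, -⟩ :=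
    simple_sylow_facts hG (p := 11) (k := 1) (m := 108) (by rw [hcard]; norm_num) (by norm_num) (by norm_num) P
  obtain ⟨d, -, hd1, hd10, hdN⟩ := simple_sylow_prime_card_NC hG P (by simpa using hP)
  generalize Nat.card (Sylow 11 G) = n at *
  generalize Nat.card (normalizer ((P : Subgroup G) : Set G)) = N at *
  have hn : n = 12 := by
    have hle : n ≤ 108 := Nat.le_of_dvd (by norm_num) hdvd
    interval_cases n <;> omega
  subst hn
  have hN : N = 99 := by omega
  subst hN
  have hd9 : d ∣ 9 := by
    have : 11 * d ∣ 11 * 9 := hdN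
    exact (Nat.mul_dvd_mul_iff_left (by norm_num)).1 this
  have hle : d ≤ 9 := Nat.le_of_dvd (by norm_num) hd9
  interval_cases d <;> omega

end Cfsg.Agent.S0994
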