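import Cfsg.Statements.S0999
import Cfsg.Agent.H21.BRDefs
import Cfsg.Agent.H21.BRSplit
import Cfsg.Agent.H21.SimpleTools
import Cfsg.Agent.H81.Reg
import Cfsg.Agent.H4.IrrCount
import Cfsg.Agent.H16.BRN1A
import Cfsg.Agent.H16.BRN1B
import Cfsg.Agent.H16.BRCol
import Cfsg.Agent.H71.BRArith1
import Cfsg.Agent.H71.BRArith2
import Cfsg.Agent.H8.BRC2A
import Cfsg.Agent.H8.BRC2C
import Cfsg.Agent.H62.BRC2B
import Cfsg.Agent.H62.BRC2D
import Cfsg.Agent.H62.BRTBG1
import Cfsg.Agent.H62.BRTBDih
import Cfsg.Agent.H40.BRTBFin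
import Cfsg.Agent.H40.BRTBG3
import Cfsg.Agent.H40.BRTBG2
import Cfsg.Agent.H62.BRTBC1
import Cfsg.Agent.H16.BRTypeA
import Cfsg.Agent.H65.BRSetup
import Cfsg.Agent.H36.BRTBC2
import Cfsg.Agent.H69.BRTBC3
import Cfsg.Agent.H69.BRTBSQ
import Cfsg.Agent.Helper55.BRN1
import Cfsg.Agent.H80.BRC1

set_option autoImplicit false
open Cfsg

namespace Cfsg.Agent.S0999

open Cfsg.Agent.H21 Cfsg.Agent.H21.BR

/-- The sum of the squares of the degrees over a finset of irreducible characters is at most
`|G|`. -/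
theorem sum_sq_le {G : Type*} [Group G] [Finite G] (S : Finset (IrrCharacter G)) :
    ∑ ψ ∈ S, (charDegree (ψ : G → ℂ)) ^ 2 ≤ Nat.card G := by
  classical
  letI := Cfsg.Agent.H4.fintypeIrr G
  have h1 := Cfsg.Agent.H4.sum_irr_sq (G := G)
  rw [Cfsg.Agent.H4.finsum_irr_eq_sum] at h1
  have h2 : ∑ ψ : IrrCharacter G, (charDegree (ψ : G → ℂ)) ^ 2 = Nat.card G := by
    have h3 : ((∑ ψ : IrrCharacter G, (charDegree (ψ : G → ℂ)) ^ 2 : ℕ) : ℂ) =
        ((Nat.card G : ℕ) : ℂ) := by
      rw [← h1]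
      push_cast
      apply Finset.sum_congr rfl
      intro ψ _
      rw [(Cfsg.Agent.H81.irr_charDegree ψ).1]
    exact_mod_cast h3
  rw [← h2]
  exact Finset.sum_le_sum_of_subset (Finset.subset_univ S)

/-- The degree of the principal character. -/
theorem charDegree_one (G : Type*) [Group G] : charDegree ((one G : IrrCharacter G) : G → ℂ) = 1 := by
  have h := (Cfsg.Agent.H81.irr_charDegree (one G)).1
  rw [Cfsg.Agent.H21.E2Block.triv_apply] at h
  exact_mod_cast h.symm

/-- Let G be a non-cyclic finite simple group and p a prime divisor of its order with p^3 > |G|. Then p > 3 and G is isomorphic to the projective special linear group of dimension 2 over the field with p elements, or p - 1 is a power of 2 and G is isomorphic to that group over the field with p - 1 elements. -/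
theorem result {G : Type*} [Group G] [Finite G] [IsSimpleGroup G] (hG : ¬ IsCyclic G) (p : ℕ) (hp : p.Prime) (hdvd : p ∣ Nat.card G) (hbig : Nat.card G < p ^ 3) : (∃ (F : Type) (_ : Field F) (_ : Fintype F), Fintype.card F = p ∧ 3 < p ∧ Nonempty (G ≃* Matrix.ProjectiveSpecialLinearGroup (Fin 2) F)) ∨ (∃ (m : ℕ) (F : Type) (_ : Field F) (_ : Fintype F), Fintype.card F = 2 ^ m ∧ p = 2 ^ m + 1 ∧ 3 < p ∧ Nonempty (G ≃* Matrix.ProjectiveSpecialLinearGroup (Fin 2) F)) := by
  classical
  haveI : Fact p.Prime := ⟨hp⟩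
  have hnc : ¬ IsMulCommutative G := by
    intro hc
    have h1 : (Nat.card G).Prime := Group.is_simple_iff_prime_card.1 inferInstance
    haveI : Fact (Nat.card G).Prime := ⟨h1⟩
    exact hG (isCyclic_of_prime_card rfl)
  have hna : ∃ a b : G, a * b ≠ b * a := by
    by_contra h
    push Not at h
    exact hnc ⟨⟨h⟩⟩
  have hG0 : Nat.card G ≠ 0 := Nat.card_pos.ne'
  obtain ⟨k, m, hm, hN⟩ := Nat.exists_eq_pow_mul_and_not_dvd hG0 p hp.ne_one
  have hk : k ≠ 0 := by
    rintro rfl
    rw [pow_zero, one_mul] at hN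
    exact hm (hN ▸ hdvd)
  let P : Sylow p G := default
  obtain ⟨hPc, hidx, hnidx, hnm, hmod, hne1, -, hNn, hPne⟩ := simple_sylow_facts hnc hN hm hk P
  have hm0 : 0 < m := Nat.pos_of_ne_zero (by rintro rfl; exact hm (dvd_zero p))
  have hk1 : k = 1 := by
    by_contra hk1
    have hk2 : 2 ≤ k := by omega
    have h1 : p ^ 2 * m ≤ p ^ k * m :=
      Nat.mul_le_mul_right m (Nat.pow_le_pow_right hp.pos hk2)
    have h2 : p ^ 2 * m < p ^ 2 * p := by
      calc p ^ 2 * m ≤ p ^ k * m := h1
        _ = Nat.card G := hN.symm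
        _ < p ^ 3 := hbig
        _ = p ^ 2 * p := by ring
    have h3 : m < p := Nat.lt_of_mul_lt_mul_left h2
    have h4 : Nat.card (Sylow p G) ≤ m := Nat.le_of_dvd hm0 hnm
    have h5 : Nat.card (Sylow p G) < p := lt_of_le_of_lt h4 h3
    rw [Nat.mod_eq_of_lt h5] at hmod
    exact hne1 hmod
  subst hk1
  rw [pow_one] at hPc hN
  obtain ⟨e, he, he1, hedvd, -⟩ := simple_sylow_prime_card_NC hnc P hPc
  have hp2 : p ≠ 2 := by
    rintro rfl
    exact he1 (Nat.dvd_one.1 hedvd)
  have hp3 : 3 ≤ p := by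
    have := hp.two_le
    omega
  have hC := Cfsg.Agent.H80.BR.centralizer_eq_of_card_lt hG p hp2 P hPc hbig
  have hNC := card_centralizer_mul_relIndex_normalizer (P : Subgroup G)
  rw [← he, hC, hPc] at hNC
  obtain ⟨n, hn⟩ : ∃ n, Nat.card (Sylow p G) = 1 + n * p :=
    ⟨Nat.card (Sylow p G) / p, by
      have := Nat.div_add_mod (Nat.card (Sylow p G)) p
      rw [hmod] at this
      linarith⟩
  have hn1 : 1 ≤ n := by
    by_contra h
    have h0 : n = 0 := by omega
    subst h0
    rw [zero_mul, add_zero] at hn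
    exact hne1 hn
  have hGcard : Nat.card G = p * (e * (1 + n * p)) := by
    rw [← hNn, ← hNC, hn, mul_assoc]
  have hD : e * (1 + n * p) < p ^ 2 := by
    have h1 : p * (e * (1 + n * p)) < p * p ^ 2 := by
      rw [← hGcard]
      calc Nat.card G < p ^ 3 := hbig
        _ = p * p ^ 2 := by ring
    exact Nat.lt_of_mul_lt_mul_left h1
  have he0 : 0 < e := Nat.pos_of_dvd_of_pos hedvd (by omega)
  have he2 : 2 ≤ e := by omega
  have hep : e < p := lt_of_le_of_lt (Nat.le_of_dvd (by omega) hedvd) (by omega)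
  by_cases hn1' : n = 1
  · left
    subst hn1'
    have hcard' : Nat.card G = (p + 1) * p * e := by rw [hGcard]; ring
    have hnp' : Nat.card (Sylow p G) = p + 1 := by rw [hn]; ring
    exact Cfsg.Agent.Helper55.BR.case_n_one hna p hp2 hnp' e he2 hep hcard'
      (fun f => Cfsg.Agent.H16.BR.not_simple_pgl hna p hp2 f)
      (fun q f hf hmem => Cfsg.Agent.H16.BR.no_simple_in_semiaffine hna f hf hmem)
  · right
    have hn2 : 2 ≤ n := by omega
    have h2e : 2 * e ≤ p - 1 := by
      have h1 : e * (1 + 2 * p) ≤ e * (1 + n * p) :=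
        Nat.mul_le_mul_left _ (by nlinarith)
      have h2 : 2 * e * p < p * p := by nlinarith
      have h3 : 2 * e < p := Nat.lt_of_mul_lt_mul_right h2
      omega
    obtain ⟨t, ht⟩ := hedvd
    have het : e * t = p - 1 := ht.symm
    obtain ⟨X, Y, δ, ε, h⟩ := Cfsg.Agent.H65.BR.b0_setup hG p hp2 P hPc hC e he.symm h2e
    obtain ⟨f0, hf0Y, hrel, hcolY, hcolYsq⟩ :=
      Cfsg.Agent.H16.BR.col_facts p P hPc hC e X Y δ ε h
    have hdegdvd : ∀ (ψ : IrrCharacter G) (c : ℤ),
        (charDegree (ψ : G → ℂ) : ℤ) ≡ c [ZMOD p] → ¬ (p : ℤ) ∣ c →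
        charDegree (ψ : G → ℂ) ∣ e * (1 + n * p) := by
      intro ψ c hc hpc
      have h1 := Cfsg.Agent.H81.irr_charDegree_dvd ψ
      rw [hGcard] at h1
      have hcop : Nat.Coprime (charDegree (ψ : G → ℂ)) p := by
        rw [Nat.coprime_comm, hp.coprime_iff_not_dvd]
        intro hd
        apply hpc
        have h2 : (p : ℤ) ∣ (charDegree (ψ : G → ℂ) : ℤ) := by exact_mod_cast hd
        exact (Int.ModEq.dvd_iff hc).1 h2
      exact hcop.dvd_of_dvd_mul_left h1
    have hpm : ∀ c : ℤ, c = 1 ∨ c = -1 → ¬ (p : ℤ) ∣ c := by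
      intro c hc hd
      have h1 : (p : ℤ) ∣ 1 := by
        rcases hc with rfl | rfl
        · exact hd
        · simpa using hd
      have h2 := Int.le_of_dvd one_pos h1
      have h3 : (3 : ℤ) ≤ p := by exact_mod_cast hp3
      omega
    have hplus : ∀ χ ∈ X, χ ≠ one G → δ χ = 1 → charDegree (χ : G → ℂ) = 1 + n * p := by
      intro χ hχ hχ1 hδ
      have hmod := h.deg_X χ hχ
      rw [hδ] at hmod
      exact Cfsg.Agent.H71.BR.plus_degree p e n _ hp he0 hep hD (h.two_le_X χ hχ hχ1)
        (hdegdvd χ 1 hmod (hpm 1 (Or.inl rfl))) hmod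
    have hminus : ∀ χ ∈ X, δ χ = -1 →
        charDegree (χ : G → ℂ) * (p - e) = e * (1 + n * p) := by
      intro χ hχ hδ
      have hmod := h.deg_X χ hχ
      rw [hδ] at hmod
      exact Cfsg.Agent.H71.BR.minus_degree p e n _ hp hp2 he0 h2e hD
        (hdegdvd χ (-1) hmod (hpm (-1) (Or.inr rfl))) hmod
    have hYcard : Y.card = t := card_Y h t het he0
    have ht1 : 1 ≤ t := by
      rcases Nat.eq_zero_or_pos t with h0 | h0
      · rw [h0, mul_zero] at het; omega
      · exact h0
    obtain ⟨θ₀, hθ₀⟩ : Y.Nonempty := by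
      rw [← Finset.card_pos, hYcard]; exact ht1
    have hf0pos : 1 ≤ f0 := by
      rw [← hf0Y θ₀ hθ₀]
      exact (Cfsg.Agent.H81.irr_charDegree θ₀).2
    have hεe : ¬ (p : ℤ) ∣ ε * (e : ℤ) := by
      intro hd
      have h1 : (p : ℤ) ∣ (e : ℤ) := by
        rcases h.ε_pm with h2 | h2
        · rw [h2, one_mul] at hd; exact hd
        · rw [h2, neg_one_mul, dvd_neg] at hd; exact hd
      have h2 : p ∣ e := by exact_mod_cast h1
      have := Nat.le_of_dvd he0 h2
      omega
    have hf0dvd : f0 ∣ e * (1 + n * p) := by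
      rw [← hf0Y θ₀ hθ₀]
      exact hdegdvd θ₀ _ (h.deg_Y θ₀ hθ₀) hεe
    have hf0mod : (f0 : ℤ) ≡ ε * (e : ℤ) [ZMOD p] := by
      rw [← hf0Y θ₀ hθ₀]
      exact h.deg_Y θ₀ hθ₀
    have hsq : t * f0 ^ 2 ≤ p * (e * (1 + n * p)) := by
      rw [← hGcard]
      have h1 := sum_sq_le (G := G) Y
      rw [Finset.sum_congr rfl (fun θ hθ => by rw [hf0Y θ hθ]), Finset.sum_const, hYcard,
        smul_eq_mul] at h1
      exact h1
    have hexc := Cfsg.Agent.H71.BR.exc_degree_bound p e t n f0 ε hp hp2 het he2 hn1 hD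
      h.ε_pm hf0dvd hf0mod hsq
    obtain ⟨hnt, hplus2, hminus2, hAB⟩ := Cfsg.Agent.H71.BR.arith_main p e t n hp hp2 het he2
      hn2 hD X (one G) h.one_mem h.cardX (fun ψ => charDegree (ψ : G → ℂ)) δ f0 ε h.δ_pm h.ε_pm
      (charDegree_one G) h.δ_one hf0pos hplus hminus hexc hrel
    have ht3 : 3 ≤ t := by omega
    have hplus3 : ∀ χ ∈ plusSet X δ, charDegree (χ : G → ℂ) = t * (p - e) := by
      intro χ hχ
      rw [mem_plusSet] at hχ
      exact hplus2 χ hχ.1 hχ.2.1 hχ.2.2
    have hminus3 : ∀ χ ∈ minusSet X δ, charDegree (χ : G → ℂ) = p - 1 := by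
      intro χ hχ
      rw [mem_minusSet] at hχ
      exact hminus2 χ hχ.1 hχ.2
    have hpe : plusSet X δ = X.filter (fun χ => χ ≠ one G ∧ δ χ = 1) := by
      ext χ
      rw [mem_plusSet, Finset.mem_filter]
    rcases hAB with ⟨hε, hf0e, -⟩ | ⟨hε, hf0e, hcp⟩
    · exfalso
      exact Cfsg.Agent.H16.BR.typeA_false p hp2 P hPc hC e t het he2 ht3 X Y δ ε h hplus3
        hminus3 hε (fun θ hθ => by rw [hf0Y θ hθ, hf0e]) hcolY hcolYsq
    · rw [← hpe] at hcp
      -- `e` is even
      have hev : Even e := by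
        by_contra hodd
        rw [Nat.not_even_iff_odd] at hodd
        have hpodd : Odd p := hp.odd_of_ne_two hp2
        have h1 : Even (e * t) := by
          rw [het]
          exact Nat.Odd.sub_odd hpodd odd_one
        have h2 : Even t := by
          rcases Nat.even_mul.1 h1 with h3 | h3
          · exact absurd h3 (Nat.not_even_iff_odd.2 hodd)
          · exact h3
        have h3 : Even ((plusSet X δ).card * t) := Nat.even_mul.2 (Or.inr h2)
        rw [hcp] at h3
        have h4 : Odd (e - 2) := by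
          obtain ⟨j, hj⟩ := hodd
          exact ⟨j - 1, by omega⟩
        exact (Nat.not_even_iff_odd.2 h4) h3
      have hD2 : e * (1 + n * p) = (p - 1) * (p - e) := by
        have h1 : (e : ℤ) * ((n : ℤ) + 1) = (p : ℤ) - 1 := by
          have h2 := het
          rw [← hnt] at h2
          zify [hp.one_le] at h2
          linarith
        zify [hp.one_le, hep.le]
        have h2 : (p : ℤ) = e * (n + 1) + 1 := by linarith
        rw [h2]
        ring
      have hB : TypeB p e t X Y δ ε :=
        { het := het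
          he2 := he2
          ht2 := by omega
          hε := hε
          deg_plus := hplus3
          deg_minus := hminus3
          deg_Y := fun θ hθ => by rw [hf0Y θ hθ, hf0e]
          card_plus := hcp
          card_G := by rw [hGcard, hD2, mul_assoc] }
      obtain ⟨τ, hτ, hinv⟩ := Cfsg.Agent.H62.BR.exists_inverting_involution p hp2 P hPc hC e
        hNC.symm hev
      have hdih := fun (ψ : G → ℂ) (hψ : IsCharacter G ψ) =>
        Cfsg.Agent.H62.BR.dihedral_bound p hp2 (P : Subgroup G) hPc τ hτ hinv ψ hψ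
      obtain ⟨Z, hZ⟩ := exists_out X Y
      have hsqZ := Cfsg.Agent.H69.BR.sum_out_sq p hp2 (P : Subgroup G) e t X Y δ ε h hB Z hZ
      obtain ⟨s, hv⟩ := Cfsg.Agent.H62.BR.tau_vals p hp2 P hPc hC e t X Y δ ε h hB Z hZ hsqZ
        τ hτ hinv hcolY hdih
      obtain ⟨x, hx, hx1⟩ : ∃ x ∈ (P : Subgroup G), x ≠ 1 := by
        by_contra hcon
        push Not at hcon
        exact hPne ((Subgroup.eq_bot_iff_forall _).2 hcon)
      have hcount := Cfsg.Agent.H40.BRG2.card_pairs_eq p hp2 P hPc hC τ hτ hinv x hx hx1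
      obtain ⟨hCτ, hs, hpl⟩ := Cfsg.Agent.H36.BR.card_centralizer_tau p hp2 P hPc e t X Y δ ε
        h hB Z hZ hsqZ τ hτ s hv hcolY x hx hx1 hcount
      have hcτ := Cfsg.Agent.H69.BR.card_pairs_tau p hp2 P hPc e t X Y δ ε h hB Z hZ hsqZ
        τ hτ s hv hs hpl
      obtain ⟨hRc, hRcyc⟩ := Cfsg.Agent.H40.BRG3.centralizer_inf_normalizer p hp2 P hPc hC τ hτ
        hinv e hNC.symm
      have hte : t * e = p - 1 := by rw [mul_comm]; exact het
      have hτ2 : τ * τ = 1 := by
        have := pow_orderOf_eq_one τ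
        rwa [hτ, pow_two] at this
      have hτinv : τ⁻¹ = τ := inv_eq_of_mul_eq_one_left hτ2
      have hτR : τ ∈ Subgroup.centralizer ({τ} : Set G) ⊓
          Subgroup.normalizer ((P : Subgroup G) : Set G) := by
        refine Subgroup.mem_inf.2 ⟨?_, ?_⟩
        · rw [Subgroup.mem_centralizer_singleton_iff]
        · rw [Subgroup.mem_normalizer_iff]
          intro y
          constructor
          · intro hy
            rw [hinv y hy]
            exact inv_mem hy
          · intro hy
            have h1 := hinv _ hy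
            have h2 : τ * (τ * y * τ⁻¹) * τ⁻¹ = y := by
              rw [hτinv]
              calc τ * (τ * y * τ) * τ = (τ * τ) * y * (τ * τ) := by group
                _ = y := by rw [hτ2]; group
            rw [h2] at h1
            rw [h1]
            exact inv_mem hy
      have hCτ' : Nat.card (Subgroup.centralizer ({τ} : Set G)) = t * e := by rw [hCτ, hte]
      have hcτ' : Nat.card {ab : G × G // ab.1 * τ * ab.1⁻¹ * (ab.2 * τ⁻¹ * ab.2⁻¹) = τ} =
          (t * e) ^ 2 * (t * e - e) := by rw [hcτ, hte]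
      obtain ⟨he2', hexp, hconj⟩ := Cfsg.Agent.H40.BRFin.tau_centralizer_structure τ hτ e t ht3
        hCτ' _ inf_le_left hτR hRc hRcyc hcτ'
      have hp5 : 5 ≤ p := by
        rw [he2'] at het
        omega
      have hcard2 : Nat.card G = p * (p - 1) * (p - 2) := by
        rw [hB.card_G, he2']
      obtain ⟨hn2S, hS⟩ := Cfsg.Agent.H8.BR.sylow_two_structure p hp hp5 hcard2 τ hτ hCτ
        hexp hconj
      haveI : FaithfulSMul G (Sylow 2 G) := by
        have hker : (MulAction.toPermHom G (Sylow 2 G)).ker = ⊥ := by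
          rcases (MonoidHom.normal_ker (MulAction.toPermHom G (Sylow 2 G))).eq_bot_or_eq_top
            with h0 | h0
          · exact h0
          · exfalso
            have hfixall : ∀ (g : G) (S : Sylow 2 G), g • S = S := by
              intro g S
              have hg : g ∈ (MulAction.toPermHom G (Sylow 2 G)).ker := h0 ▸ Subgroup.mem_top g
              rw [MonoidHom.mem_ker] at hg
              have := congrArg (fun σ : Equiv.Perm (Sylow 2 G) => σ S) hg
              simpa using this
            have hsub : Subsingleton (Sylow 2 G) := by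
              constructor
              intro S S'
              obtain ⟨g, hg⟩ := MulAction.exists_smul_eq G S S'
              rw [hfixall g S] at hg
              exact hg
            have h1 : Nat.card (Sylow 2 G) ≤ 1 := Finite.card_le_one_iff_subsingleton.2 hsub
            omega
        constructor
        intro g₁ g₂ hg
        have h1 : g₂⁻¹ * g₁ ∈ (MulAction.toPermHom G (Sylow 2 G)).ker := by
          rw [MonoidHom.mem_ker]
          ext S
          simp only [MulAction.toPermHom_apply, MulAction.toPerm_apply, Equiv.Perm.coe_one, id_eq]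
          rw [mul_smul, hg S, inv_smul_smul]
        rw [hker, Subgroup.mem_bot] at h1
        exact (inv_mul_eq_one.1 h1).symm
      letI : Fintype (Sylow 2 G) := Fintype.ofFinite _
      have hcardα : Fintype.card (Sylow 2 G) = p := by
        rw [← Nat.card_eq_fintype_card, hn2S]
      obtain ⟨a, ha1, hpa, F, instF, instFt, hF, ⟨iso⟩⟩ :=
        Cfsg.Agent.H8.BR.sl2_of_sharp (G := G) (α := Sylow 2 G) (by rw [hcardα]; omega)
          (by rw [hcardα]; exact hp.odd_of_ne_two hp2) (by rw [hcardα]; exact hcard2)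
          (fun g S₁ S₂ S₃ h12 h13 h23 h1 h2 h3 =>
            Cfsg.Agent.H62.BR.fix_three_sylow p hp5 hn2S hS g S₁ S₂ S₃ h12 h13 h23 h1 h2 h3)
      letI := instF
      letI := instFt
      obtain ⟨iso2⟩ := Cfsg.Agent.H62.BR.sl2_equiv_psl2 F a hF
      rw [hcardα] at hpa
      exact ⟨a, F, instF, instFt, hF, hpa, by omega, ⟨iso.trans iso2⟩⟩

end Cfsg.Agent.S0999
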