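import Cfsg.Statements.S1018
import Cfsg.Agent.H21.PrimeSylow

set_option autoImplicit false
open Cfsg

namespace Cfsg.Agent.S1018

open Cfsg.Agent.H21 Subgroup

theorem orderOf_conj_eq {G : Type*} [Group G] (g y : G) : orderOf (g * y * g⁻¹) = orderOf y := by
  have := orderOf_injective (MulAut.conj g).toMonoidHom (MulAut.conj g).injective y
  simpa using this

theorem exists_conj_mem_sylow' {G : Type*} [Group G] [Finite G] {p : ℕ} [Fact p.Prime]
    (P : Sylow p G) (s : G) (hs : orderOf s = p) : ∃ g : G, g * s * g⁻¹ ∈ (P : Subgroup G) := by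
  have hp : IsPGroup p (zpowers s) := by
    apply IsPGroup.of_card (n := 1)
    rw [Nat.card_zpowers, hs, pow_one]
  obtain ⟨Q, hQ⟩ := hp.exists_le_sylow
  obtain ⟨g, hg⟩ := MulAction.exists_smul_eq G Q P
  refine ⟨g, ?_⟩
  have hsQ : s ∈ (Q : Subgroup G) := hQ (mem_zpowers s)
  rw [← hg, Sylow.smul_def, Sylow.pointwise_smul_def]
  have := Subgroup.smul_mem_pointwise_smul s (MulAut.conj g) (Q : Subgroup G) hsQ
  simpa [MulAut.smul_def] using this

/-- If `P` has prime order and both `c P c⁻¹ ≤ P` and `c⁻¹ P c ≤ P`, then `c` normalizes `P`. -/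
theorem mem_normalizer_of_conj {G : Type*} [Group G] (P : Subgroup G) (c : G)
    (h1 : ∀ t ∈ P, c * t * c⁻¹ ∈ P) (h2 : ∀ t ∈ P, c⁻¹ * t * c ∈ P) :
    c ∈ normalizer (P : Set G) := by
  rw [mem_normalizer_iff]
  intro t
  refine ⟨h1 t, fun h => ?_⟩
  have := h2 _ h
  have e : c⁻¹ * (c * t * c⁻¹) * c = t := by group
  rwa [e] at this

/-- Let P be a Sylow p-subgroup of order p of a finite group G, and consider the action of G on the left cosets of the normalizer N of P. Then every element of order p fixes exactly one coset, and an element of N that does not centralize P fixes at most as many cosets as there are orbits of P. -/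
theorem result {G : Type*} [Group G] [Finite G] (p : ℕ) [Fact p.Prime] (P : Sylow p G) (hP : Nat.card ↥(P : Subgroup G) = p) : (∀ y : G, orderOf y = p → Nat.card (MulAction.fixedBy (G ⧸ Subgroup.normalizer ((P : Subgroup G) : Set G)) y) = 1) ∧ ∀ x : G, x ∈ Subgroup.normalizer ((P : Subgroup G) : Set G) → x ∉ Subgroup.centralizer ((P : Subgroup G) : Set G) → Nat.card (MulAction.fixedBy (G ⧸ Subgroup.normalizer ((P : Subgroup G) : Set G)) x) ≤ Nat.card (MulAction.orbitRel.Quotient ↥(P : Subgroup G) (G ⧸ Subgroup.normalizer ((P : Subgroup G) : Set G))) := by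
  have hp : p.Prime := Fact.out
  have hfix : ∀ (z g : G), z • (g : G ⧸ normalizer ((P : Subgroup G) : Set G)) = g ↔
      g⁻¹ * z * g ∈ normalizer ((P : Subgroup G) : Set G) := by
    intro z g
    rw [eq_comm]
    show (g : G ⧸ normalizer ((P : Subgroup G) : Set G)) = ((z * g : G) : G ⧸ _) ↔ _
    rw [QuotientGroup.eq]
    simp [mul_assoc]
  constructor
  · intro y hy
    rw [Nat.card_eq_one_iff_unique]
    constructor
    · constructor
      rintro ⟨a, ha⟩ ⟨b, hb⟩
      rw [Subtype.mk.injEq]
      induction a using QuotientGroup.induction_on with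
      | H g1 =>
      induction b using QuotientGroup.induction_on with
      | H g2 =>
      have h1 : g1⁻¹ * y * g1 ∈ (P : Subgroup G) := by
        apply mem_sylow_of_mem_normalizer P _ 1
        · have := orderOf_conj_eq g1⁻¹ y
          rw [inv_inv] at this
          rw [this, hy, pow_one]
        · exact (hfix y g1).1 ha
      have h2 : g2⁻¹ * y * g2 ∈ (P : Subgroup G) := by
        apply mem_sylow_of_mem_normalizer P _ 1
        · have := orderOf_conj_eq g2⁻¹ y
          rw [inv_inv] at this
          rw [this, hy, pow_one]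
        · exact (hfix y g2).1 hb
      have ho1 : orderOf (g1⁻¹ * y * g1) = p := by
        have := orderOf_conj_eq g1⁻¹ y
        rw [inv_inv] at this
        rw [this, hy]
      have ho2 : orderOf (g2⁻¹ * y * g2) = p := by
        have := orderOf_conj_eq g2⁻¹ y
        rw [inv_inv] at this
        rw [this, hy]
      rw [QuotientGroup.eq]
      apply mem_normalizer_of_conj
      · apply conj_mem_of_card_prime (P : Subgroup G) hP (g2⁻¹ * y * g2) _ h2 ho2
        have e : g1⁻¹ * g2 * (g2⁻¹ * y * g2) * (g1⁻¹ * g2)⁻¹ = g1⁻¹ * y * g1 := by group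
        rw [e]; exact h1
      · have h3 := conj_mem_of_card_prime (P : Subgroup G) hP (g1⁻¹ * y * g1) (g1⁻¹ * g2)⁻¹ h1 ho1
          (by
            have e : (g1⁻¹ * g2)⁻¹ * (g1⁻¹ * y * g1) * (g1⁻¹ * g2)⁻¹⁻¹ = g2⁻¹ * y * g2 := by group
            rw [e]; exact h2)
        intro t ht
        have h := h3 t ht
        rwa [inv_inv] at h
    · obtain ⟨g, hg⟩ := exists_conj_mem_sylow' P y hy
      refine ⟨⟨((g⁻¹ : G) : G ⧸ normalizer ((P : Subgroup G) : Set G)), ?_⟩⟩
      show y • ((g⁻¹ : G) : G ⧸ normalizer ((P : Subgroup G) : Set G)) = _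
      rw [hfix, inv_inv]
      exact le_normalizer hg
  · intro x hxN hxC
    apply Nat.card_le_card_of_injective
      (fun a : MulAction.fixedBy (G ⧸ normalizer ((P : Subgroup G) : Set G)) x =>
        (Quotient.mk'' a.1 : MulAction.orbitRel.Quotient (P : Subgroup G) (G ⧸ normalizer ((P : Subgroup G) : Set G))))
    rintro ⟨a, ha⟩ ⟨b, hb⟩ hab
    rw [Subtype.mk.injEq]
    have hab' : a ∈ MulAction.orbit (P : Subgroup G) b := by
      have := Quotient.exact' hab
      exact this
    obtain ⟨⟨u, hu⟩, rfl⟩ := hab'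
    induction b using QuotientGroup.induction_on with
    | H g =>
    show ((u * g : G) : G ⧸ normalizer ((P : Subgroup G) : Set G)) = g
    by_cases hu1 : u = 1
    · rw [hu1, one_mul]
    have hou : orderOf u = p := orderOf_eq_of_mem_card_prime hp (P : Subgroup G) hP u hu hu1
    have hb' : g⁻¹ * x * g ∈ normalizer ((P : Subgroup G) : Set G) := (hfix x g).1 hb
    have ha' : (u * g)⁻¹ * x * (u * g) ∈ normalizer ((P : Subgroup G) : Set G) :=
      (hfix x (u * g)).1 ha
    obtain ⟨w, hw⟩ : ∃ w : G, w = x⁻¹ * u⁻¹ * x * u := ⟨_, rfl⟩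
    have hwP : w ∈ (P : Subgroup G) := by
      rw [hw]
      have h1 : x⁻¹ * u⁻¹ * x⁻¹⁻¹ ∈ (P : Subgroup G) :=
        (mem_normalizer_iff.1 (inv_mem hxN) u⁻¹).1 (inv_mem hu)
      rw [inv_inv] at h1
      exact mul_mem h1 hu
    have hw1 : w ≠ 1 := by
      intro h1
      apply hxC
      have hxu : u * x = x * u := by
        have : x⁻¹ * u⁻¹ * x * u = 1 := by rw [← hw, h1]
        calc u * x = u * x * (x⁻¹ * u⁻¹ * x * u) := by rw [this, mul_one]
          _ = x * u := by group
      rw [mem_centralizer_iff]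
      intro t ht
      rw [SetLike.mem_coe, eq_zpowers_of_card_prime (P : Subgroup G) hP u hu hou] at ht
      obtain ⟨k, rfl⟩ := mem_zpowers_iff.1 ht
      exact ((Commute.zpow_left (show Commute u x from hxu) k).eq)
    have how : orderOf w = p := orderOf_eq_of_mem_card_prime hp (P : Subgroup G) hP w hwP hw1
    have hgw : g⁻¹ * w * g ∈ normalizer ((P : Subgroup G) : Set G) := by
      have e : g⁻¹ * w * g = (g⁻¹ * x * g)⁻¹ * ((u * g)⁻¹ * x * (u * g)) := by
        rw [hw]; group
      rw [e]
      exact mul_mem (inv_mem hb') ha'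
    have hgwP : g⁻¹ * w * g ∈ (P : Subgroup G) := by
      apply mem_sylow_of_mem_normalizer P _ 1 _ hgw
      have := orderOf_conj_eq g⁻¹ w
      rw [inv_inv] at this
      rw [this, how, pow_one]
    have hogw : orderOf (g⁻¹ * w * g) = p := by
      have := orderOf_conj_eq g⁻¹ w
      rw [inv_inv] at this
      rw [this, how]
    have hgN : g ∈ normalizer ((P : Subgroup G) : Set G) := by
      apply mem_normalizer_of_conj
      · apply conj_mem_of_card_prime (P : Subgroup G) hP (g⁻¹ * w * g) g hgwP hogw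
        have e : g * (g⁻¹ * w * g) * g⁻¹ = w := by group
        rw [e]; exact hwP
      · have := conj_mem_of_card_prime (P : Subgroup G) hP w g⁻¹ hwP how
          (by rw [inv_inv]; exact hgwP)
        intro t ht
        have h := this t ht
        rwa [inv_inv] at h
    rw [eq_comm, QuotientGroup.eq]
    have e : g⁻¹ * (u * g) = g⁻¹ * u * g⁻¹⁻¹ := by group
    rw [e]
    exact (mem_normalizer_iff.1 (inv_mem hgN) u).1 hu |> le_normalizer

end Cfsg.Agent.S1018
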