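import Cfsg.Statements.S1157
import Cfsg.Agent.H96.G2L.G2Facts
import Cfsg.Agent.H45.ReeLite
import Cfsg.Agent.H22.ReeCtx
import Cfsg.Agent.H22.ReeOrd
import Cfsg.Agent.H45.R2Asm
import Cfsg.Agent.H5.R2ConjInv
import Cfsg.Agent.H62.R2Transfer
import Cfsg.Agent.H62.R2KleinAct
import Cfsg.Agent.H62.R2ProdShape
import Cfsg.Agent.H13.R2Prod
import Cfsg.Agent.H13.R2Transport
import Cfsg.Agent.H5.R2Count
import Cfsg.Agent.H51.R2PSLNorm
import Cfsg.Agent.H51.R2PSLCent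
import Cfsg.Agent.H65.R2Arith

set_option autoImplicit false
open Cfsg

namespace Cfsg.Agent.S1157

/-- In the small Ree group ²G₂(q), q = 3^(2m+1) with m ≥ 1, realised as G¹ inside the Chevalley group G₂ over the field with q elements (θ the 3^m-th power map): a Sylow 2-subgroup `S` of `G¹` satisfies `C(S) = S` and `|N(S)| = 168`. -/
theorem result {K : Type*} [Field K] [Fintype K] {m : ℕ} (hm : 1 ≤ m) (hK : Fintype.card K = 3 ^ (2 * m + 1))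
    (S : Sylow 2 ↥(Cfsg.Lie.twistedG2 K (3 ^ m))) :
    Subgroup.centralizer ((S : Subgroup ↥(Cfsg.Lie.twistedG2 K (3 ^ m))) : Set ↥(Cfsg.Lie.twistedG2 K (3 ^ m))) = S ∧
      Nat.card (Subgroup.normalizer ((S : Subgroup ↥(Cfsg.Lie.twistedG2 K (3 ^ m))) : Set ↥(Cfsg.Lie.twistedG2 K (3 ^ m)))) = 168 := by
  have hc : CharP K 3 := Cfsg.Agent.H22.Ree.charP_three_of_card hK
  obtain ⟨C⟩ := Cfsg.Agent.H22.Ree.exists_ctx hK (Cfsg.Agent.H96.G2L.steinberg_G2 K)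
    (Cfsg.Agent.H96.G2L.factor_G2 (F := K)).1
  have hcan : Cfsg.Agent.H22.Ree.CanonG2 K := Cfsg.Agent.H96.G2L.canon_G2 K
  have hW : Cfsg.Agent.H22.Ree.WeylG2 K :=
    Cfsg.Agent.H96.G2L.weyl_G2 K
  exact Cfsg.Agent.H45.R2.s1157_of_pieces hm hK C hcan hW
    (fun a haH ha1 ha2 => Cfsg.Agent.H45.RL.l1152 hK a haH ha1 ha2)
    (fun G _ _ L _ S a₀ Φ h1 h2 => Cfsg.Agent.H5.R2.conjInv G L S a₀ Φ h1 h2)
    Cfsg.Agent.H62.R2.transfer
    (Cfsg.Agent.H13.R2.prod Cfsg.Agent.H62.R2.kleinAct Cfsg.Agent.H62.R2.prodShape)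
    Cfsg.Agent.H13.R2.transport Cfsg.Agent.H5.R2.count Cfsg.Agent.H51.R2.pslNorm
    Cfsg.Agent.H51.R2.pslCent Cfsg.Agent.H65.R2.arith S

end Cfsg.Agent.S1157
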