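-- Statement S1249: strong closure does not depend on the Sylow subgroup.
import Cfsg.Statements.S1249

set_option autoImplicit false
open Cfsg

namespace Cfsg.Agent.S1249

/-- Let P and Q be Sylow p-subgroups of the finite group G both containing the subgroup A. If A is strongly closed in P, then A is strongly closed in Q. -/
theorem result {G : Type*} [Group G] [Finite G] {p : ℕ} [Fact p.Prime] (P Q : Sylow p G) (A : Subgroup G) (hAQ : A ≤ Q) (hA : Cfsg.IsStronglyClosed A (P : Subgroup G)) : Cfsg.IsStronglyClosed A (Q : Subgroup G) := by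
  obtain ⟨hAP, hcl⟩ := hA
  refine ⟨hAQ, ?_⟩
  -- `Q = h • P`
  obtain ⟨h, hh⟩ := MulAction.exists_smul_eq G P Q
  have hQ : ∀ y : G, y ∈ (Q : Subgroup G) ↔ h⁻¹ * y * h ∈ (P : Subgroup G) := by
    intro y
    rw [← hh, Sylow.smul_def, Sylow.pointwise_smul_def, Subgroup.mem_pointwise_smul_iff_inv_smul_mem]
    simp [MulAut.smul_def, MulAut.conj_apply]
  -- conjugation by `h⁻¹` maps `A` into `A`
  have key : ∀ a ∈ A, h⁻¹ * a * h ∈ A := by
    intro a ha
    have h1 : h⁻¹ * a * h ∈ (P : Subgroup G) := (hQ a).1 (hAQ ha)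
    have := hcl a ha h⁻¹ (by simpa using h1)
    simpa using this
  -- hence (finiteness) conjugation by `h` maps `A` into `A`
  have key2 : ∀ a ∈ A, h * a * h⁻¹ ∈ A := by
    let f : A → A := fun a => ⟨h⁻¹ * a * h, key a a.2⟩
    have hf : Function.Injective f := by
      intro a b hab
      have : h⁻¹ * (a : G) * h = h⁻¹ * (b : G) * h := congrArg Subtype.val hab
      apply Subtype.ext
      simpa using this
    have hs : Function.Surjective f := Finite.surjective_of_injective hf
    intro a ha
    obtain ⟨b, hb⟩ := hs ⟨a, ha⟩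
    have : h⁻¹ * (b : G) * h = a := congrArg Subtype.val hb
    rw [← this]
    simpa [mul_assoc] using b.2
  intro x hx g hg
  have h1 : h⁻¹ * (g * x * g⁻¹) * h ∈ (P : Subgroup G) := (hQ _).1 hg
  have h2 : (h⁻¹ * g) * x * (h⁻¹ * g)⁻¹ ∈ A := by
    apply hcl x hx
    simpa [mul_assoc] using h1
  have h3 := key2 _ h2
  simpa [mul_assoc] using h3

end Cfsg.Agent.S1249
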