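-- Statement S1250: image of a strongly closed subgroup in a quotient.
import Cfsg.Statements.S1250

set_option autoImplicit false
open Cfsg

namespace Cfsg.Agent.S1250

/-- Let S be a Sylow p-subgroup of the finite group G, A ≤ S strongly closed in S, and N a normal subgroup. Then the image of A in G ⧸ N is strongly closed in the image of S (which is a Sylow p-subgroup of G ⧸ N). -/
theorem result {G : Type*} [Group G] [Finite G] {p : ℕ} [Fact p.Prime] (S : Sylow p G) (A : Subgroup G) (hA : Cfsg.IsStronglyClosed A (S : Subgroup G)) (N : Subgroup G) [N.Normal] : Cfsg.IsStronglyClosed (A.map (QuotientGroup.mk' N)) ((S : Subgroup G).map (QuotientGroup.mk' N)) := by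
  obtain ⟨hAS, hcl⟩ := hA
  refine ⟨Subgroup.map_mono hAS, ?_⟩
  rintro _ ⟨x, hx, rfl⟩ gbar hg
  obtain ⟨g, rfl⟩ := QuotientGroup.mk'_surjective N gbar
  obtain ⟨s, hs, hsg⟩ := hg
  -- `y = g x g⁻¹` lies in `S N`
  set y : G := g * x * g⁻¹ with hy
  have hsy : s⁻¹ * y ∈ N := by
    have : (QuotientGroup.mk' N) s = (QuotientGroup.mk' N) y := by
      rw [hsg, hy]; simp
    exact (QuotientGroup.eq).1 this
  let H : Subgroup G := (S : Subgroup G) ⊔ N
  have hSH : (S : Subgroup G) ≤ H := le_sup_left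
  have hNH : N ≤ H := le_sup_right
  have hyH : y ∈ H := by
    have : y = s * (s⁻¹ * y) := by group
    rw [this]
    exact H.mul_mem (hSH hs) (hNH hsy)
  -- `y` is a `p`-element
  obtain ⟨k, hk⟩ := (S.isPGroup') ⟨x, hAS hx⟩
  have hxk : x ^ p ^ k = 1 := by
    have := congrArg Subtype.val hk
    simpa using this
  have hyk : y ^ p ^ k = 1 := by
    rw [hy, conj_pow, hxk]; simp
  let S' : Sylow p H := S.subtype hSH
  have hZ : IsPGroup p (Subgroup.zpowers (⟨y, hyH⟩ : H)) := by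
    have hord : orderOf (⟨y, hyH⟩ : H) ∣ p ^ k := by
      apply orderOf_dvd_of_pow_eq_one
      apply Subtype.ext
      simpa using hyk
    obtain ⟨j, -, hj⟩ := (Nat.dvd_prime_pow (Fact.out : p.Prime)).1 hord
    exact IsPGroup.of_card (n := j) (by rw [Nat.card_zpowers, hj])
  obtain ⟨Q, hQ⟩ := hZ.exists_le_sylow
  obtain ⟨c, hc⟩ := MulAction.exists_smul_eq H Q S'
  -- `c y c⁻¹ ∈ S`
  have hcy : (c : G) * y * (c : G)⁻¹ ∈ (S : Subgroup G) := by
    have h1 : (⟨y, hyH⟩ : H) ∈ (Q : Subgroup H) := hQ (Subgroup.mem_zpowers _)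
    have h2 : c * ⟨y, hyH⟩ * c⁻¹ ∈ ((c • Q : Sylow p H) : Subgroup H) := by
      rw [Sylow.smul_def, Sylow.pointwise_smul_def, Subgroup.mem_pointwise_smul_iff_inv_smul_mem]
      have h4 : (MulAut.conj c)⁻¹ • (c * ⟨y, hyH⟩ * c⁻¹) = (⟨y, hyH⟩ : H) := by
        rw [MulAut.smul_def, ← map_inv, MulAut.conj_apply]; group
      rw [h4]; exact h1
    rw [hc] at h2
    have h3 : c * ⟨y, hyH⟩ * c⁻¹ ∈ (S : Subgroup G).subgroupOf H := by
      simpa [S', Sylow.coe_subtype] using h2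
    simpa [Subgroup.mem_subgroupOf] using h3
  -- write `c = s' n'`
  obtain ⟨s', hs', n', hn', hcs⟩ : ∃ s' ∈ (S : Subgroup G), ∃ n' ∈ N, (c : G) = s' * n' := by
    have hc' : (c : G) ∈ (S : Subgroup G) ⊔ N := c.2
    rw [Subgroup.mem_sup_of_normal_right] at hc'
    obtain ⟨a, ha, b, hb, hab⟩ := hc'
    exact ⟨a, ha, b, hb, hab.symm⟩
  have hny : n' * y * n'⁻¹ ∈ (S : Subgroup G) := by
    have : n' * y * n'⁻¹ = s'⁻¹ * ((c : G) * y * (c : G)⁻¹) * s' := by
      rw [hcs]; group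
    rw [this]
    exact (S : Subgroup G).mul_mem ((S : Subgroup G).mul_mem ((S : Subgroup G).inv_mem hs') hcy) hs'
  have hA' : (n' * g) * x * (n' * g)⁻¹ ∈ A := by
    apply hcl x hx
    have : (n' * g) * x * (n' * g)⁻¹ = n' * y * n'⁻¹ := by rw [hy]; group
    rw [this]; exact hny
  refine ⟨(n' * g) * x * (n' * g)⁻¹, hA', ?_⟩
  have hn1 : (QuotientGroup.mk' N) n' = 1 := by
    rw [QuotientGroup.mk'_apply, QuotientGroup.eq_one_iff]; exact hn'
  simp only [map_mul, map_inv, hn1, one_mul]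

end Cfsg.Agent.S1250
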