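import Cfsg.Statements.S1292
import Cfsg.Agent.H28.PLocal

namespace Cfsg.Agent.S1292

theorem result {G : Type*} [Group G] [Finite G] (h : ∀ t : G, orderOf t = 2 → Cfsg.generalizedFittingSubgroup ↥(Subgroup.centralizer ({t} : Set G)) = Cfsg.pCore 2 ↥(Subgroup.centralizer ({t} : Set G))) (T : Subgroup G) (hT : IsPGroup 2 ↥T) (hT1 : T ≠ ⊥) : Cfsg.generalizedFittingSubgroup ↥(Subgroup.normalizer (T : Set G)) = Cfsg.pCore 2 ↥(Subgroup.normalizer (T : Set G)) := by
  exact Cfsg.Agent.H28.genFitting_normalizer_of_involution_centralizers h T hT hT1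

end Cfsg.Agent.S1292
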