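import Cfsg.Statements.S1340
import Cfsg.Agent.H29.GLComp

set_option autoImplicit false
open Cfsg

namespace Cfsg.Agent.S1340

/-- Let F be a finite field of odd order and n ≥ 3 with (n, |F|) ≠ (3, 3). Then GL(n, F) has a non-central involution t such that C(t) / O(C(t)) has a component. -/
theorem result {F : Type*} [Field F] [Fintype F] [DecidableEq F] (hF : Odd (Fintype.card F)) (n : ℕ) (hn : 3 ≤ n) (h33 : ¬ (n = 3 ∧ Fintype.card F = 3)) : ∃ t : Matrix.GeneralLinearGroup (Fin n) F, orderOf t = 2 ∧ t ∉ Subgroup.center (Matrix.GeneralLinearGroup (Fin n) F) ∧ Cfsg.HasComponent (↥(Subgroup.centralizer ({t} : Set (Matrix.GeneralLinearGroup (Fin n) F))) ⧸ Cfsg.oddCore ↥(Subgroup.centralizer ({t} : Set (Matrix.GeneralLinearGroup (Fin n) F)))) := by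
  obtain ⟨m, rfl⟩ : ∃ m, n = m + 1 := ⟨n - 1, by omega⟩
  have h2 : (2 : F) ≠ 0 := by
    intro h
    have hc : ringChar F = 2 :=
      CharP.ringChar_of_prime_eq_zero Nat.prime_two (by exact_mod_cast h)
    have h3 := FiniteField.even_card_of_char_two hc
    have h4 := Nat.odd_iff.mp hF
    omega
  have hq : IsQuasisimple (Matrix.SpecialLinearGroup (Fin m) F) := by
    by_cases hm3 : 3 ≤ m
    · exact ⟨⟨Cfsg.Agent.H6.commutator_sl_eq_top m hm3⟩, Cfsg.Agent.H6.psl_isSimpleGroup m hm3⟩
    · have hm2 : m = 2 := by omega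
      subst hm2
      have hcard : 5 ≤ Fintype.card F := by
        have h1 : Fintype.card F ≠ 3 := fun h => h33 ⟨rfl, h⟩
        have h3 := Nat.odd_iff.mp hF
        have h4 : 1 < Fintype.card F := Fintype.one_lt_card
        omega
      obtain ⟨a, ha0, ha2⟩ : ∃ a : F, a ≠ 0 ∧ a ^ 2 ≠ 1 := by
        by_contra hcon
        push Not at hcon
        have hsub : (Finset.univ : Finset F) ⊆ {0, 1, -1} := by
          intro a _
          by_cases ha : a = 0
          · simp [ha]
          · have h5 := hcon a ha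
            rw [pow_two] at h5
            rcases mul_self_eq_one_iff.mp h5 with h | h <;> simp [h]
        have h6 := Finset.card_le_card hsub
        have h7 : ({0, 1, -1} : Finset F).card ≤ 3 := Finset.card_le_three
        rw [Finset.card_univ] at h6
        omega
      refine ⟨⟨Matrix.SL2.commutator_eq_top ha0 ha2⟩, ?_⟩
      exact Matrix.ProjectiveSpecialLinearGroup.rank_two_simple
        (by rw [Nat.card_eq_fintype_card]; omega)
  refine ⟨Cfsg.Agent.H29.tGL, Cfsg.Agent.H29.orderOf_tGL h2 (by omega),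
    Cfsg.Agent.H29.tGL_not_mem_center h2 (by omega), ?_⟩
  exact Cfsg.Agent.H29.hasComponent_centralizer_tGL h2 (by omega) hq

end Cfsg.Agent.S1340
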