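import Cfsg.Statements.S1360
import Cfsg.Agent.Helper55.BG151Asm
import Cfsg.Agent.H31.BG14UMain
import Cfsg.Agent.H60.BG151UScalar
import Cfsg.Agent.H32.BG151UCaseI
import Cfsg.Agent.H32.BG151Kappa
import Cfsg.Agent.H71.BG151ExpInf
import Cfsg.Agent.H54.BG161Tau
import Cfsg.Agent.H38.BG161AbS
import Cfsg.Agent.H38.BG161SingA
import Cfsg.Agent.H62.BG161HT2
import Cfsg.Agent.H62.BG161FixSc
import Cfsg.Agent.H62.BG161Orbit
import Cfsg.Agent.H69.BG161Basic
import Cfsg.Agent.H69.BG161WAb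
import Cfsg.Agent.H82.BG161Dec
import Cfsg.Agent.H82.BG161LineCnt
import Cfsg.Agent.H82.BG161InvCompl
import Cfsg.Agent.H20.BG161CaseR
import Cfsg.Agent.H18.BG161NormArg
import Cfsg.Agent.H29.BG161Alpha2n
import Cfsg.Agent.Helper55.BG161Alpha1
import Cfsg.Agent.Helper55.BG161Alpha2c
import Cfsg.Agent.H73.BG161AsmA
import Cfsg.Agent.H73.BG161AsmB
import Cfsg.Agent.H19.BG161NabStruct
import Cfsg.Agent.H57.BG1218Key
import Cfsg.Agent.H35.BG1218Coat
import Cfsg.Agent.H35.BG1218Gen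
import Cfsg.Agent.H92.BG1218Case1
import Cfsg.Agent.H37.BG1218NilConj
import Cfsg.Agent.H92.BG1218SylN
import Cfsg.Agent.H63.BG1218SylH
import Cfsg.Agent.H31.BG1218Nab
import Cfsg.Agent.H58.BG10All2
import Cfsg.Agent.H63.BG125Main
import Cfsg.Agent.H3.BG127PW
import Cfsg.Agent.H76.BG10x
import Cfsg.Agent.H29.BG117Main

set_option autoImplicit false
open Cfsg

namespace Cfsg.Agent.S1360

/-- Let G be a minimal simple group of odd order and M a maximal subgroup with standard factorisation M = K U M_σ. Then U contains a subgroup U₀ with the same exponent as U such that no non-identity element of U₀ centralizes a non-identity element of M_σ. -/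
theorem result {G : Type*} [Group G] [Finite G] (hG : Cfsg.IsMinSimpleOddOrder G)
    (M : Subgroup G) (hM : IsCoatom M) (K U : Subgroup G) (hKU : Cfsg.IsSigmaDecomposition M K U) :
    ∃ U₀ : Subgroup G, U₀ ≤ U ∧ Monoid.exponent U₀ = Monoid.exponent U ∧ ∀ u ∈ U₀, u ∈ Cfsg.sigmaHat M → u = 1 := by
  have H := Cfsg.Agent.H31.BG14U.hyps hG
  have h50 := H.h50
  have h03 := H.h03
  have h08 := H.h08
  have h16 := H.h16
  have h17 := H.h17
  have h18 := H.h18
  have h19 := H.h19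
  have h05 := Cfsg.Agent.H58.BG10.st1405 hG
  have h09 := Cfsg.Agent.H58.BG10.st1409 hG
  have h10 := Cfsg.Agent.H58.BG10.st1410 hG
  have hSC := Cfsg.Agent.H58.BG10.stSigComm hG
  have h14 : Cfsg.Agent.H58.BG10.St1414 G := Cfsg.Agent.H76.BG10.bg108 hG hSC h05 h10
  have hSylH := Cfsg.Agent.H63.BG1218.sylH hG h50 h16 h17 H.hN
  have hNab := Cfsg.Agent.H31.BG1218.case2Nab hG h08 h16 h17 H.hPW
  have hKey : Cfsg.Agent.H57.BG1218.StKey G :=
    Cfsg.Agent.H57.BG1218.key h09 h17 (Cfsg.Agent.H35.BG1218.coat hG h09)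
      (Cfsg.Agent.H92.BG1218.case1 hG h03 h05 h50 hSC)
      (Cfsg.Agent.H37.BG1218.nilConj hG h50) hSylH hNab Cfsg.Agent.H35.BG1218.invGen
  have hTau := Cfsg.Agent.H54.BG161.tauCases hG h50 h03
  have hExA := Cfsg.Agent.H54.BG161.exA (G := G) h50
  have hAbS := Cfsg.Agent.H38.BG161.abSExists h18 hExA hSylH
  have hHT2 := Cfsg.Agent.H62.BG161.ht2 hG
  have hBasic := Cfsg.Agent.H69.BG161.basic hG h17 h18
  have hWAb := Cfsg.Agent.H69.BG161.wab hG
  have hDec := Cfsg.Agent.H82.BG161.dec (G := G)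
  have hCaseR := Cfsg.Agent.H20.BG161.caseR hDec hWAb hBasic
  have hFix := Cfsg.Agent.H62.BG161.fixsc hG hWAb hBasic
  have hOrbit := Cfsg.Agent.H62.BG161.orbit hG h50 h17 h18
  have hLine := Cfsg.Agent.H82.BG161.lineCount (G := G)
  have hPow := Cfsg.Agent.H82.BG161.powOrder (G := G)
  have hNorm := Cfsg.Agent.H18.BG161.normArg (G := G)
  have hA1 := Cfsg.Agent.Helper55.BG161.alpha1 h50 h14
  have hA2c := Cfsg.Agent.Helper55.BG161.alpha2c h50 hKey hBasic
  have hA2n := Cfsg.Agent.H29.BG161.alpha2n hG h50 h03 h17 hBasic hFix hNorm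
  have hAlpha := Cfsg.Agent.H38.BG161.alpha_of hG hA1 hA2c hA2n
  have hUSc := Cfsg.Agent.H60.BG151.uScalar hG hTau hAlpha hOrbit hFix hLine hPow hBasic
  have hUCI := Cfsg.Agent.H32.BG151.uCaseI hDec hBasic
  have hUPP := Cfsg.Agent.Helper55.BG151.uPerPrime_of hBasic hCaseR hUSc hUCI
  have hAsmB := Cfsg.Agent.H73.BG161.asmB (G := G)
  have hSA := Cfsg.Agent.H38.BG161.singA h18 h19 hNab (Cfsg.Agent.H29.BG117.stSigNe hG)
  have hNS := Cfsg.Agent.H19.BG161.nabStruct hG h10 h17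
  have hIC := Cfsg.Agent.H82.BG161.invCompl (G := G)
  have hAA := Cfsg.Agent.H73.BG161.asmA (G := G)
  have hKap := Cfsg.Agent.H32.BG151.kappa (G := G)
  have hExp := Cfsg.Agent.H71.BG151.expInf (G := G)
  exact Cfsg.Agent.Helper55.BG151.st1360_of hG H hKap hExp hExA hAbS hHT2 hUPP hAsmB hSA hNS hIC
    hAA M hM K U hKU

end Cfsg.Agent.S1360
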