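import Cfsg.Statements.S1421
import Cfsg.Agent.H38.BG161Asm
import Cfsg.Agent.H38.BG161SingA
import Cfsg.Agent.H38.BG161AbS
import Cfsg.Agent.H18.BG161ConclFinal
import Cfsg.Agent.H54.BG161SingT2
import Cfsg.Agent.H62.BG161FixSc
import Cfsg.Agent.H62.BG161HT2
import Cfsg.Agent.H69.BG161Basic
import Cfsg.Agent.H70.BG161Scalar
import Cfsg.Agent.H73.BG161AsmA
import Cfsg.Agent.H82.BG161LineCnt
import Cfsg.Agent.Helper55.BG161Alpha1
import Cfsg.Agent.Helper55.BG161Alpha2c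
import Cfsg.Agent.H18.BG161NormArg
import Cfsg.Agent.H19.BG161NabStruct
import Cfsg.Agent.H20.BG161CaseI
import Cfsg.Agent.H20.BG161CaseR
import Cfsg.Agent.H29.BG161Alpha2n
import Cfsg.Agent.H54.BG161Tau
import Cfsg.Agent.H69.BG161WAb
import Cfsg.Agent.H73.BG161AsmB
import Cfsg.Agent.H82.BG161Dec
import Cfsg.Agent.H82.BG161InvCompl
import Cfsg.Agent.H57.BG1218Key
import Cfsg.Agent.H63.BG1218Red
import Cfsg.Agent.H35.BG1218Coat
import Cfsg.Agent.H35.BG1218Gen
import Cfsg.Agent.H92.BG1218Case1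
import Cfsg.Agent.H37.BG1218NilConj
import Cfsg.Agent.H92.BG1218SylN
import Cfsg.Agent.H63.BG1218SylH
import Cfsg.Agent.H31.BG1218Nab
import Cfsg.Agent.H58.BG10All2
import Cfsg.Agent.H63.BG125Main
import Cfsg.Agent.H3.BG127PW
import Cfsg.Agent.H58.BG127All
import Cfsg.Agent.H57.BG129Main
import Cfsg.Agent.H92.BG12Sig
import Cfsg.Agent.H76.BG10x
import Cfsg.Agent.H62.BG161Orbit

set_option autoImplicit false
open Cfsg

namespace Cfsg.Agent.S1421

open Cfsg.Agent.H38.BG161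

/-- Let G be a minimal simple group of odd order, M a maximal subgroup and E a complement to M_σ in M. Suppose that every non-identity element e of E all of whose order's prime divisors lie in τ₁(M) ∪ τ₃(M) has M_σ ∩ C_G(e) = 1. Then E has an abelian normal subgroup A₀ with E ∩ C_G(x) ≤ A₀ for every non-identity x ∈ M_σ, and E has a subgroup E₀ of the same exponent as E such that no non-identity element of E₀ centralizes a non-identity element of M_σ. -/
theorem result {G : Type*} [Group G] [Finite G] (hG : Cfsg.IsMinSimpleOddOrder G)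
    (M : Subgroup G) (hM : IsCoatom M) (E : Subgroup G) (hE : Cfsg.IsComplIn E (Cfsg.sigmaCore M) M)
    (h : ∀ e ∈ E, e ≠ 1 → (∀ p : ℕ, p.Prime → p ∣ orderOf e → p ∈ Cfsg.tau1 M ∪ Cfsg.tau3 M) →
      Cfsg.sigmaCore M ⊓ Subgroup.centralizer ({e} : Set G) = ⊥) :
    (∃ A₀ : Subgroup G, A₀ ≤ E ∧ E ≤ Subgroup.normalizer (A₀ : Set G) ∧ IsMulCommutative A₀ ∧
        ∀ x ∈ Cfsg.sigmaCore M, x ≠ 1 → E ⊓ Subgroup.centralizer ({x} : Set G) ≤ A₀) ∧
      ∃ E₀ : Subgroup G, E₀ ≤ E ∧ Monoid.exponent E₀ = Monoid.exponent E ∧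
        ∀ e ∈ E₀, e ≠ 1 → Cfsg.sigmaCore M ⊓ Subgroup.centralizer ({e} : Set G) = ⊥ := by
  have h50 := Cfsg.Agent.H58.BG10.st1350 hG
  have h03 := Cfsg.Agent.H58.BG10.st1403 hG
  have h05 := Cfsg.Agent.H58.BG10.st1405 hG
  have h08 := Cfsg.Agent.H58.BG10.st1408 hG
  have h09 := Cfsg.Agent.H58.BG10.st1409 hG
  have h10 := Cfsg.Agent.H58.BG10.st1410 hG
  have h11 := Cfsg.Agent.H58.BG10.st1411 hG
  have h12 := Cfsg.Agent.H58.BG10.st1412 hG
  have hSC := Cfsg.Agent.H58.BG10.stSigComm hG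
  have h14 : Cfsg.Agent.H58.BG10.St1414 G := Cfsg.Agent.H76.BG10.bg108 hG hSC h05 h10
  have h16 := Cfsg.Agent.H63.BG11.st1416 hG
  have h17 := Cfsg.Agent.H63.BG11.st1417 hG
  have h18 := Cfsg.Agent.H57.BG12.st1418_of hG h16 h17
  have h19 := Cfsg.Agent.H58.BG12.st1419_of hG h16 h17
  have hN := Cfsg.Agent.H92.BG1218.sylN hG h03 h50 h11 h16 h17
  have hSylH := Cfsg.Agent.H63.BG1218.sylH hG h50 h16 h17 hN
  have hNab := Cfsg.Agent.H31.BG1218.case2Nab hG h08 h16 h17 (Cfsg.Agent.H3.BG12.pw hG h12)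
  have hKey : Cfsg.Agent.H57.BG1218.StKey G :=
    Cfsg.Agent.H57.BG1218.key h09 h17 (Cfsg.Agent.H35.BG1218.coat hG h09)
      (Cfsg.Agent.H92.BG1218.case1 hG h03 h05 h50 hSC)
      (Cfsg.Agent.H37.BG1218.nilConj hG h50) hSylH hNab
      Cfsg.Agent.H35.BG1218.invGen
  have hSigNe := Cfsg.Agent.H92.BG12.sigNe hG h05 h50
  -- pieces
  have hBasic : StBasic G := Cfsg.Agent.H69.BG161.basic hG h17 h18
  have hTau : StTauCases G := Cfsg.Agent.H54.BG161.tauCases hG h50 h03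
  have hExA : StExA G := Cfsg.Agent.H54.BG161.exA h50
  have hDec : StDec G := Cfsg.Agent.H82.BG161.dec
  have hWAb : StWAb G := Cfsg.Agent.H69.BG161.wab hG
  have hCI : StCaseI G := Cfsg.Agent.H20.BG161.caseI hDec hBasic
  have hCR : StCaseR G := Cfsg.Agent.H20.BG161.caseR hDec hWAb hBasic
  have hNS : StNabStruct G := Cfsg.Agent.H19.BG161.nabStruct hG h10 h17
  have hIC : StInvCompl G := Cfsg.Agent.H82.BG161.invCompl
  have hAsmB : StAsmB G := Cfsg.Agent.H73.BG161.asmB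
  have hST : StSingTau2 G := Cfsg.Agent.H54.BG161.singTau2 hTau
  have hAbS : StAbSExists G := abSExists h18 hExA hSylH
  have hHT2 : StHT2 G := Cfsg.Agent.H62.BG161.ht2 hG
  have hFix : StFixScalar G := Cfsg.Agent.H62.BG161.fixsc hG hWAb hBasic
  have hOrbit : StOrbit G := Cfsg.Agent.H62.BG161.orbit hG h50 h17 h18
  have hA1 : StAlpha1 G := Cfsg.Agent.Helper55.BG161.alpha1 h50 h14
  have hA2c : StAlpha2c G := Cfsg.Agent.Helper55.BG161.alpha2c h50 hKey hBasic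
  have hA2n : StAlpha2n G :=
    Cfsg.Agent.H29.BG161.alpha2n hG h50 h03 h17 hBasic hFix Cfsg.Agent.H18.BG161.normArg
  have hAlpha : StAlpha G := alpha_of hG hA1 hA2c hA2n
  have hScalar : StScalar G :=
    Cfsg.Agent.H70.BG161.scalar hG hTau hAlpha hOrbit hFix
      Cfsg.Agent.H82.BG161.lineCount Cfsg.Agent.H82.BG161.powOrder hBasic
  have hPP : StPerPrime G := perPrime_of hBasic hCR hScalar hCI
  have hCaseB : StCaseB G := caseB_of hTau hST hAbS hHT2 hPP hAsmB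
  have hSA : StSingA G := singA h18 h19 hNab hSigNe
  have hCaseA : StCaseA G := caseA_of h18 h19 hST hSA hNS hIC Cfsg.Agent.H73.BG161.asmA
  exact st1421_of hExA hCaseA hCaseB Cfsg.Agent.H18.BG161.conclFinal M hM E hE h

end Cfsg.Agent.S1421
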