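import Cfsg.Statements.S1426
import Cfsg.Agent.H76.BG1216
import Cfsg.Agent.H58.BG10All2
import Cfsg.Agent.Lib.Helper30.BG129C
import Cfsg.Agent.H63.BG125Main
import Cfsg.Agent.Lib.Helper30.BG12TAsm23
import Cfsg.Agent.Lib.Helper30.BG12TMain
import Cfsg.Agent.H7.BG12TPS
import Cfsg.Agent.H7.BG12TR2
import Cfsg.Agent.H24.BG12TR3
import Cfsg.Agent.H69.BG12TDerU
import Cfsg.Agent.H69.BG12TFoc
import Cfsg.Agent.H12.BG12TR3U

set_option autoImplicit false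
open Cfsg

namespace Cfsg.Agent.S1426

/-- Let G be a minimal simple group of odd order, M a maximal subgroup and E a complement to M_σ in M. Then M_σ ∩ C_G(E) ≤ (M_σ)', the commutator subgroup [M_σ, E] equals M_σ, and for every g outside M the intersection M_σ ∩ gMg⁻¹ is cyclic, has no prime divisor in β(M), and meets (M_σ)' trivially. -/
theorem result {G : Type*} [Group G] [Finite G] (hG : Cfsg.IsMinSimpleOddOrder G)
    (M : Subgroup G) (hM : IsCoatom M) (E : Subgroup G) (hE : Cfsg.IsComplIn E (Cfsg.sigmaCore M) M) :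
    Cfsg.sigmaCore M ⊓ Subgroup.centralizer (E : Set G) ≤ ⁅Cfsg.sigmaCore M, Cfsg.sigmaCore M⁆ ∧
      ⁅Cfsg.sigmaCore M, E⁆ = Cfsg.sigmaCore M ∧
      ∀ g : G, g ∉ M → IsCyclic ↥(Cfsg.sigmaCore M ⊓ M.map (MulAut.conj g).toMonoidHom) ∧
        (∀ p : ℕ, p.Prime → p ∣ Nat.card ↥(Cfsg.sigmaCore M ⊓ M.map (MulAut.conj g).toMonoidHom) → p ∉ Cfsg.beta M) ∧
        Cfsg.sigmaCore M ⊓ M.map (MulAut.conj g).toMonoidHom ⊓ ⁅Cfsg.sigmaCore M, Cfsg.sigmaCore M⁆ = ⊥ := by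
  have h50 := Cfsg.Agent.H58.BG10.st1350 hG
  have h03 := Cfsg.Agent.H58.BG10.st1403 hG
  have h04 := Cfsg.Agent.H58.BG10.st1404 hG
  have h12 := Cfsg.Agent.H58.BG10.st1412 hG
  have hT := Cfsg.Agent.H58.BG10.stSigComm hG
  have h14 : Cfsg.Agent.H76.BG10.St1414 G :=
    Cfsg.Agent.H76.BG10.bg108 hG hT (Cfsg.Agent.H58.BG10.st1405 hG)
      (Cfsg.Agent.H58.BG10.st1410 hG)
  have h14' : Cfsg.Agent.H58.BG10.St1414 G := h14
  have h16 := Cfsg.Agent.H63.BG11.st1416 hG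
  have h17 := Cfsg.Agent.H63.BG11.st1417 hG
  have h20c := Cfsg.Agent.Lib.Helper30.BG12.bg129c hG h04 h16
  have h22 := Cfsg.Agent.Lib.Helper30.BG12T.st1422_core hG h16 h17
  have hFoc : Cfsg.Agent.Lib.Helper30.BG12T.StFoc G := Cfsg.Agent.H69.BG12T.foc
  have hDerU : Cfsg.Agent.Lib.Helper30.BG12T.StDerU G := Cfsg.Agent.H69.BG12T.derU
  have hR3U : Cfsg.Agent.Lib.Helper30.BG12T.StR3U G := Cfsg.Agent.H12.BG12T.r3u
  have hPS := Cfsg.Agent.H7.BG12T.ps hG h50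
  have hR3 := Cfsg.Agent.H24.BG12T.main23_r3 hG h03 h14' hR3U hDerU hFoc
  have hR2 := Cfsg.Agent.H7.BG12T.main23_r2 hG h12 h14' h22 hFoc
  have h23 := Cfsg.Agent.Lib.Helper30.BG12T.st1423_of hG hPS hR3 hR2
  exact Cfsg.Agent.H76.BG12.bg1216 hG hT h50 h04 h14 h20c h23 M hM E hE

end Cfsg.Agent.S1426
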