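import Cfsg.Statements.S1910
import Cfsg.Agent.H36.TightEmb

set_option autoImplicit false
open Cfsg

namespace Cfsg.Agent.S1910

open Cfsg.Agent.H36 in
/-- Let Q be a tightly embedded subgroup of a finite group G, g an element outside N_G(Q), T a nontrivial Sylow 2-subgroup of Q^g ∩ N_G(Q), and S a Sylow 2-subgroup of QT containing T. Then T ∩ Q = 1, and N_S(T) is the direct product of T and N_S(T) ∩ Q, with N_S(T) ∩ Q isomorphic to T. -/
theorem result {G : Type*} [Group G] [Finite G] (Q : Subgroup G) (hQ : Cfsg.IsTightlyEmbedded Q)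
    (g : G) (hg : g ∉ Subgroup.normalizer (Q : Set G))
    (T : Subgroup G) (hT1 : T ≠ ⊥) (hT : T ≤ Q.map (MulAut.conj g).toMonoidHom ⊓ Subgroup.normalizer (Q : Set G))
    (hTsyl : IsPGroup 2 T ∧ ¬ 2 ∣ T.relIndex (Q.map (MulAut.conj g).toMonoidHom ⊓ Subgroup.normalizer (Q : Set G)))
    (S : Subgroup G) (hTS : T ≤ S) (hS : S ≤ Q ⊔ T) (hSsyl : IsPGroup 2 S ∧ ¬ 2 ∣ S.relIndex (Q ⊔ T)) :
    T ⊓ Q = ⊥ ∧
      T ⊓ (S ⊓ Subgroup.normalizer (T : Set G) ⊓ Q) = ⊥ ∧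
      ⁅T, S ⊓ Subgroup.normalizer (T : Set G) ⊓ Q⁆ = ⊥ ∧
      T ⊔ (S ⊓ Subgroup.normalizer (T : Set G) ⊓ Q) = S ⊓ Subgroup.normalizer (T : Set G) ∧
      Nonempty (↥(S ⊓ Subgroup.normalizer (T : Set G) ⊓ Q) ≃* T) := by
  have : Fact (Nat.Prime 2) := ⟨Nat.prime_two⟩
  obtain ⟨Q₁, hQ₁⟩ : ∃ Q₁, Q₁ = Q.map (MulAut.conj g).toMonoidHom := ⟨_, rfl⟩
  rw [← hQ₁] at hT hTsyl
  have hte₁ : Cfsg.IsTightlyEmbedded Q₁ := by rw [hQ₁]; exact isTightlyEmbedded_conj Q hQ g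
  have hcard : Nat.card Q₁ = Nat.card Q := by
    rw [hQ₁]; exact Subgroup.card_map_of_injective (MulAut.conj g).injective
  have hodd : Odd (Nat.card ↥(Q ⊓ Q₁)) := by rw [hQ₁]; exact hQ.2 g hg
  have c : TEConf Q Q₁ T S :=
    ⟨hte₁, hcard, hodd, hT, hTsyl.1, hTsyl.2, hTS, hS, hSsyl.1, hSsyl.2⟩
  have hcU := c.card_U
  have hcle := c.card_le
  have hcRle := c.R_le hT1
  have hccomm := c.commute
  have hcsup := c.sup_eq
  have hcsyl := c.sylow_of_le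
  obtain ⟨R, hR⟩ : ∃ R, R = S ⊓ Subgroup.normalizer (T : Set G) ⊓ Q := ⟨_, rfl⟩
  rw [← hR] at hcU hcle hcRle hccomm hcsup hcsyl ⊢
  have hTQ := c.inf_eq_bot
  have hTR : T ⊓ R = ⊥ := by rw [eq_bot_iff, ← hTQ, hR]; exact inf_le_inf_left T inf_le_right
  refine ⟨hTQ, hTR, ?_, hcsup, ?_⟩
  · rw [Subgroup.commutator_eq_bot_iff_le_centralizer]
    intro t ht
    rw [Subgroup.mem_centralizer_iff]
    intro r hr
    exact (hccomm t ht r hr).symm
  -- the isomorphism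
  have hR2 : IsPGroup 2 R := hSsyl.1.to_le (by rw [hR]; exact inf_le_left.trans inf_le_left)
  obtain ⟨T', hRT', hT'K, hT'2, hT'syl⟩ := exists_sylow_rel_ge 2 _ R hR2 hcRle
  obtain ⟨S', hT'S', hS', hS'2, hS'syl⟩ := exists_sylow_rel_ge 2 (Q₁ ⊔ T') T' hT'2 le_sup_right
  have c' : TEConf Q₁ Q T' S' :=
    ⟨hQ, hcard.symm, by rw [inf_comm]; exact hodd, hT'K, hT'2, hT'syl, hT'S', hS', hS'2, hS'syl⟩
  have hT'1 : T' ≠ ⊥ := by
    intro h
    have hRbot : R = ⊥ := by rw [eq_bot_iff, ← h]; exact hRT'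
    have h1 : Nat.card T ≤ 1 := by
      rw [hRbot, Subgroup.card_bot] at hcle; exact hcle
    exact hT1 (Subgroup.eq_bot_of_card_le _ h1)
  have h1 : Nat.card T' ≤ Nat.card ↥(S' ⊓ Subgroup.normalizer (T' : Set G) ⊓ Q₁) := c'.card_le
  have h2 : S' ⊓ Subgroup.normalizer (T' : Set G) ⊓ Q₁ ≤ Q₁ ⊓ Subgroup.normalizer (Q : Set G) :=
    c'.R_le hT'1
  have h3 : Nat.card ↥(S' ⊓ Subgroup.normalizer (T' : Set G) ⊓ Q₁) ∣ Nat.card T :=
    card_dvd_of_sylow_rel 2 _ _ T (hS'2.to_le (inf_le_left.trans inf_le_left)) h2 hT hTsyl.2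
  have h4 : Nat.card R ≤ Nat.card T' := Nat.le_of_dvd Nat.card_pos (Subgroup.card_dvd_of_le hRT')
  have hcardRT : Nat.card R = Nat.card T :=
    le_antisymm (h4.trans (h1.trans (Nat.le_of_dvd Nat.card_pos h3))) hcle
  by_cases hSN : S ≤ Subgroup.normalizer (T : Set G)
  · have hRsyl : ¬ 2 ∣ R.relIndex Q := (hcsyl hSN).1
    have hRQ : R ≤ Q := by rw [hR]; exact inf_le_right
    have hT₀Q : T.map (MulAut.conj g⁻¹).toMonoidHom ≤ Q := by
      intro x hx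
      rw [mem_map_conj] at hx
      have : g⁻¹⁻¹ * x * g⁻¹ ∈ Q₁ := (hT hx).1
      rw [hQ₁, mem_map_conj] at this
      convert this using 1; group
    have hT₀card : Nat.card ↥(T.map (MulAut.conj g⁻¹).toMonoidHom) = Nat.card R := by
      rw [Subgroup.card_map_of_injective (MulAut.conj g⁻¹).injective, hcardRT]
    have hT₀syl : ¬ 2 ∣ (T.map (MulAut.conj g⁻¹).toMonoidHom).relIndex Q := by
      have e1 := card_mul_relIndex_le hT₀Q
      have e2 := card_mul_relIndex_le hRQ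
      rw [hT₀card, ← e2] at e1
      rw [Nat.eq_of_mul_eq_mul_left Nat.card_pos e1]; exact hRsyl
    obtain ⟨e⟩ := nonempty_mulEquiv_of_sylow_rel 2 Q R _ hRQ hT₀Q hR2 (hTsyl.1.map _) hRsyl hT₀syl
    exact ⟨e.trans (T.equivMapOfInjective _ (MulAut.conj g⁻¹).injective).symm⟩
  · obtain ⟨y, hy1, hy2⟩ := c.exists_conj hSN
    have hcU' : Nat.card R * Nat.card T = Nat.card ↥(S ⊓ Subgroup.normalizer (T : Set G)) := by
      rw [hcU, mul_comm]
    obtain ⟨e⟩ := nonempty_mulEquiv_of_complements T R (T.map (MulAut.conj y).toMonoidHom)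
      (S ⊓ Subgroup.normalizer (T : Set G))
      (le_inf hTS Subgroup.le_normalizer) (by rw [hR]; exact inf_le_left) hy1 inf_le_right
      (by rw [inf_comm]; exact hTR) hy2 hcU'
      (by rw [Subgroup.card_map_of_injective (MulAut.conj y).injective, hcardRT])
    exact ⟨e.trans (T.equivMapOfInjective _ (MulAut.conj y).injective).symm⟩

end Cfsg.Agent.S1910
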