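import Cfsg.Statements.S1921
import Cfsg.Agent.H27.Comp
import Cfsg.Agent.H38.FpfAction

set_option autoImplicit false
open Cfsg

namespace Cfsg.Agent.S1921

open Cfsg.Agent.H38 Cfsg.Agent.H27
open scoped commutatorElement

/-- Let a be an involution of a finite group H and L a component of H with a L a⁻¹ ≠ L; put M = ⟨L, aLa⁻¹⟩ and let J be the subgroup generated by the elements x · a x a⁻¹ with x ∈ L (the diagonal). Then every element of M outside J·Z(M) generates M together with J. -/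
theorem result {H : Type*} [Group H] [Finite H] (a : H) (ha : orderOf a = 2) (L : Subgroup H) (hL : Cfsg.IsComponent L)
    (hLa : L.map (MulAut.conj a).toMonoidHom ≠ L) (x : H) (hxM : x ∈ L ⊔ L.map (MulAut.conj a).toMonoidHom)
    (hxJ : x ∉ Subgroup.closure {y : H | ∃ l ∈ L, y = l * (a * l * a⁻¹)} ⊔
      ((L ⊔ L.map (MulAut.conj a).toMonoidHom) ⊓ Subgroup.centralizer ((L ⊔ L.map (MulAut.conj a).toMonoidHom : Subgroup H) : Set H))) :
    Subgroup.closure {y : H | ∃ l ∈ L, y = l * (a * l * a⁻¹)} ⊔ Subgroup.zpowers x = L ⊔ L.map (MulAut.conj a).toMonoidHom := by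
  set La := L.map (MulAut.conj a).toMonoidHom with hLadef
  set M := L ⊔ La with hM
  set J := Subgroup.closure {y : H | ∃ l ∈ L, y = l * (a * l * a⁻¹)} with hJ
  set Z := M ⊓ Subgroup.centralizer (M : Set H) with hZ
  have hLa_comp : IsComponent La := isComponent_map_equiv (MulAut.conj a) hL
  have hcommLLa : ⁅L, La⁆ = ⊥ := components_commute hL hLa_comp (Ne.symm hLa)
  have hc : ∀ l ∈ L, ∀ m ∈ La, l * m = m * l := fun l hl m hm => comm_of_comm_eq_bot hcommLLa hl hm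
  have hmemLa : ∀ l ∈ L, a * l * a⁻¹ ∈ La := fun l hl => ⟨l, hl, rfl⟩
  have hLM : L ≤ M := le_sup_left
  have hLaM : La ≤ M := le_sup_right
  -- J ≤ M
  have hJM : J ≤ M := by
    rw [hJ, Subgroup.closure_le]
    rintro y ⟨l, hl, rfl⟩
    exact M.mul_mem (hLM hl) (hLaM (hmemLa l hl))
  have hgenJ : ∀ l ∈ L, l * (a * l * a⁻¹) ∈ J := fun l hl => Subgroup.subset_closure ⟨l, hl, rfl⟩
  have hKM : J ⊔ Subgroup.zpowers x ≤ M := sup_le hJM (by rw [Subgroup.zpowers_le]; exact hxM)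
  -- Z commutes with M
  have hZc : ∀ z ∈ Z, ∀ m ∈ M, z * m = m * z := by
    intro z hz m hm
    have := (Subgroup.mem_inf.mp hz).2
    rw [Subgroup.mem_centralizer_iff] at this
    exact (this m hm).symm
  -- decompose x
  obtain ⟨u, hu, w, hw, hxuw⟩ := exists_mul_of_mem_sup_of_commute L La hc x hxM
  obtain ⟨v, hv, hvw⟩ := hw
  have hvw' : a * v * a⁻¹ = w := hvw
  set K := J ⊔ Subgroup.zpowers x with hK
  have hxK : x ∈ K := (le_sup_right : Subgroup.zpowers x ≤ K) (Subgroup.mem_zpowers x)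
  have hJK : J ≤ K := le_sup_left
  have huvK : u * v⁻¹ ∈ K := by
    have h1 : v * w ∈ K := hJK (hvw' ▸ hgenJ v hv)
    have h2 := K.mul_mem hxK (K.inv_mem h1)
    have e : x * (v * w)⁻¹ = u * v⁻¹ := by rw [hxuw]; group
    rwa [e] at h2
  -- the normal subgroup of L
  have hNnorm : (((K ⊔ Z) ⊓ L).subgroupOf L).Normal := by
    constructor
    rintro ⟨n, hnL⟩ hn ⟨l', hl'⟩
    rw [Subgroup.mem_subgroupOf] at hn ⊢
    have hn1 : n ∈ K ⊔ Z := (Subgroup.mem_inf.mp hn).1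
    refine Subgroup.mem_inf.mpr ⟨?_, L.mul_mem (L.mul_mem hl' hnL) (L.inv_mem hl')⟩
    have hj : l' * (a * l' * a⁻¹) ∈ K ⊔ Z := (le_sup_left : K ≤ K ⊔ Z) (hJK (hgenJ l' hl'))
    have h1 := (K ⊔ Z).mul_mem ((K ⊔ Z).mul_mem hj hn1) ((K ⊔ Z).inv_mem hj)
    have hcm : n * (a * l' * a⁻¹) = (a * l' * a⁻¹) * n := hc n hnL _ (hmemLa l' hl')
    have e : l' * (a * l' * a⁻¹) * n * (l' * (a * l' * a⁻¹))⁻¹ = l' * n * l'⁻¹ := by
      calc l' * (a * l' * a⁻¹) * n * (l' * (a * l' * a⁻¹))⁻¹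
          = l' * ((a * l' * a⁻¹) * n) * (a * l' * a⁻¹)⁻¹ * l'⁻¹ := by group
        _ = l' * (n * (a * l' * a⁻¹)) * (a * l' * a⁻¹)⁻¹ * l'⁻¹ := by rw [hcm]
        _ = l' * n * l'⁻¹ := by group
    rw [e] at h1
    exact h1
  rcases quasisimple_normal hL.2 (((K ⊔ Z) ⊓ L).subgroupOf L) with hcen | htop
  · -- u v⁻¹ is central in L, hence in Z: contradiction
    exfalso
    apply hxJ
    have huvL : u * v⁻¹ ∈ L := L.mul_mem hu (L.inv_mem hv)
    have hmemN : (⟨u * v⁻¹, huvL⟩ : L) ∈ ((K ⊔ Z) ⊓ L).subgroupOf L := by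
      rw [Subgroup.mem_subgroupOf]
      exact Subgroup.mem_inf.mpr ⟨(le_sup_left : K ≤ K ⊔ Z) huvK, huvL⟩
    have hcenter := hcen hmemN
    rw [Subgroup.mem_center_iff] at hcenter
    have hcL : ∀ l ∈ L, l * (u * v⁻¹) = (u * v⁻¹) * l := by
      intro l hl
      exact congrArg Subtype.val (hcenter ⟨l, hl⟩)
    have hzZ : u * v⁻¹ ∈ Z := by
      refine Subgroup.mem_inf.mpr ⟨hLM huvL, ?_⟩
      rw [Subgroup.mem_centralizer_iff]
      intro m hm
      have hle : M ≤ Subgroup.centralizer ({u * v⁻¹} : Set H) := by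
        apply sup_le
        · intro l hl
          rw [Subgroup.mem_centralizer_iff]
          intro y hy
          rw [Set.mem_singleton_iff] at hy
          rw [hy]; exact (hcL l hl).symm
        · intro m' hm'
          rw [Subgroup.mem_centralizer_iff]
          intro y hy
          rw [Set.mem_singleton_iff] at hy
          rw [hy]; exact hc _ huvL m' hm'
      have := hle hm
      rw [Subgroup.mem_centralizer_iff] at this
      exact (this _ rfl).symm
    have e : x = (u * v⁻¹) * (v * w) := by rw [hxuw]; group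
    rw [e]
    exact Subgroup.mul_mem _ ((le_sup_right : Z ≤ J ⊔ Z) hzZ)
      ((le_sup_left : J ≤ J ⊔ Z) (hvw' ▸ hgenJ v hv))
  · -- L ≤ K ⊔ Z
    have hLKZ : L ≤ K ⊔ Z := by
      intro l hl
      have : (⟨l, hl⟩ : L) ∈ ((K ⊔ Z) ⊓ L).subgroupOf L := by rw [htop]; exact Subgroup.mem_top _
      rw [Subgroup.mem_subgroupOf] at this
      exact (Subgroup.mem_inf.mp this).1
    have hLaKZ : La ≤ K ⊔ Z := by
      rintro _ ⟨l, hl, rfl⟩
      have h1 : l * (a * l * a⁻¹) ∈ K ⊔ Z := (le_sup_left : K ≤ K ⊔ Z) (hJK (hgenJ l hl))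
      have h2 := (K ⊔ Z).mul_mem ((K ⊔ Z).inv_mem (hLKZ hl)) h1
      rw [inv_mul_cancel_left] at h2
      exact h2
    -- commutators of K ⊔ Z lie in K
    have hKZc : ∀ k ∈ K, ∀ z ∈ Z, k * z = z * k := fun k hk z hz => (hZc z hz k (hKM hk)).symm
    have hdec := exists_mul_of_mem_sup_of_commute K Z hKZc
    have hcommKZ : ⁅K ⊔ Z, K ⊔ Z⁆ ≤ K := by
      rw [Subgroup.commutator_le]
      intro g₁ hg₁ g₂ hg₂
      obtain ⟨k₁, hk₁, z₁, hz₁, rfl⟩ := hdec g₁ hg₁
      obtain ⟨k₂, hk₂, z₂, hz₂, rfl⟩ := hdec g₂ hg₂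
      have hk₂z₂M : k₂ * z₂ ∈ M := M.mul_mem (hKM hk₂) (Subgroup.mem_inf.mp hz₂).1
      rw [commElem_mul_left_of_comm k₁ (k₂ * z₂) z₁ (hZc z₁ hz₁ _ hk₂z₂M),
        commElem_mul_right_of_comm k₁ k₂ z₂ (hZc z₂ hz₂ _ (hKM hk₁))]
      exact Subgroup.commutator_mem_commutator hk₁ hk₂ |> fun h => (commutator_self_le K) h
    apply le_antisymm hKM
    apply sup_le
    · have h1 : ⁅L, L⁆ = L := isComponent_perfect hL
      rw [← h1]
      exact (Subgroup.commutator_mono hLKZ hLKZ).trans hcommKZ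
    · have h1 : ⁅La, La⁆ = La := isComponent_perfect hLa_comp
      rw [← h1]
      exact (Subgroup.commutator_mono hLaKZ hLaKZ).trans hcommKZ

end Cfsg.Agent.S1921
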