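import Cfsg.Statements.S1922
import Cfsg.Agent.H38.Dihedral2
import Cfsg.Agent.H38.ConjFixed

set_option autoImplicit false
open Cfsg
open Cfsg.Agent.H38

namespace Cfsg.Agent.S1922

theorem isPGroup_zpowers_of_invol {G : Type*} [Group G] {x : G} (hx : x * x = 1) :
    IsPGroup 2 (Subgroup.zpowers x) := by
  rintro ⟨y, hy⟩
  obtain ⟨n, rfl⟩ := Subgroup.mem_zpowers_iff.mp hy
  refine ⟨1, Subtype.ext ?_⟩
  simp only [pow_one]
  change (x ^ n) ^ 2 = 1
  rw [← zpow_natCast, ← zpow_mul, mul_comm, zpow_mul, zpow_natCast, pow_two, hx, one_zpow]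

theorem conj_invol {G : Type*} [Group G] {z : G} (hz : z * z = 1) (c : G) :
    (c * z * c⁻¹) * (c * z * c⁻¹) = 1 := by
  calc (c * z * c⁻¹) * (c * z * c⁻¹) = c * (z * z) * c⁻¹ := by group
    _ = 1 := by rw [hz]; group

theorem invol_of_isConj {G : Type*} [Group G] {z t : G} (hz : z * z = 1) (h : IsConj z t) :
    t * t = 1 := by
  obtain ⟨c, rfl⟩ := isConj_iff.mp h
  exact conj_invol hz c

/-- (2) implies (1). -/
theorem part21 {G : Type*} [Group G] [Finite G] (z : G) (hzz : z * z = 1) (H : Subgroup G)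
    (Z1 : z ∈ H) (Z2 : ∀ g, g⁻¹ * z * g ∈ H ↔ g ∈ H) (Z3 : ∀ c, c * z = z * c → c ∈ H)
    (P : Sylow 2 G) (hP : z ∈ (Subgroup.center ↥(P : Subgroup G)).map (P : Subgroup G).subtype)
    (t : G) (ht : IsConj z t) (hcomm : t * z = z * t)
    (h2 : Subgroup.centralizer ({z * t} : Set G) ≤ H) (g : G) :
    g⁻¹ * (z * t) * g ∈ H ↔ g ∈ H := by
  obtain ⟨⟨z', hz'P⟩, hz'c, hz'z⟩ := hP
  have hz'z' : z' = z := hz'z
  subst hz'z'
  have hzc : ∀ x ∈ (P : Subgroup G), x * z' = z' * x := by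
    intro x hx
    have := Subgroup.mem_center_iff.mp hz'c ⟨x, hx⟩
    exact congrArg Subtype.val this
  have hPH : (P : Subgroup G) ≤ H := fun x hx => Z3 x (hzc x hx)
  have htH : t ∈ H := Z3 t hcomm
  have htt : t * t = 1 := invol_of_isConj hzz ht
  constructor
  · intro hw
    have hww : (g⁻¹ * (z' * t) * g) * (g⁻¹ * (z' * t) * g) = 1 := by
      have : (z' * t) * (z' * t) = 1 := by
        calc (z' * t) * (z' * t) = z' * (t * z') * t := by simp only [mul_assoc]
          _ = z' * (z' * t) * t := by rw [hcomm]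
          _ = (z' * z') * (t * t) := by simp only [mul_assoc]
          _ = 1 := by rw [hzz, htt, one_mul]
      have := conj_invol this g⁻¹
      rwa [inv_inv] at this
    obtain ⟨Q, hQ⟩ := (isPGroup_zpowers_of_invol
      (x := (⟨g⁻¹ * (z' * t) * g, hw⟩ : H)) (Subtype.ext hww)).exists_le_sylow
    obtain ⟨h, hh⟩ := MulAction.exists_smul_eq H Q (P.subtype hPH)
    have hwQ : (⟨g⁻¹ * (z' * t) * g, hw⟩ : H) ∈ Q := hQ (Subgroup.mem_zpowers _)
    have h3 : h * ⟨g⁻¹ * (z' * t) * g, hw⟩ * h⁻¹ ∈ (P.subtype hPH : Subgroup H) := by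
      rw [← hh, Sylow.coe_subgroup_smul]
      exact Subgroup.smul_mem_pointwise_smul _ (MulAut.conj h) _ hwQ
    rw [Sylow.coe_subtype, Subgroup.mem_subgroupOf] at h3
    have h4 : (h : G) * (g⁻¹ * (z' * t) * g) * (h : G)⁻¹ ∈ (P : Subgroup G) := h3
    have h5 := hzc _ h4
    have hy : ((h : G) * g⁻¹)⁻¹ * z' * ((h : G) * g⁻¹) ∈ Subgroup.centralizer ({z' * t} : Set G) := by
      rw [Subgroup.mem_centralizer_iff]
      intro x hx
      rw [Set.mem_singleton_iff] at hx
      subst hx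
      calc (z' * t) * (((h : G) * g⁻¹)⁻¹ * z' * ((h : G) * g⁻¹))
          = ((h : G) * g⁻¹)⁻¹ * (((h : G) * (g⁻¹ * (z' * t) * g) * (h : G)⁻¹) * z') * ((h : G) * g⁻¹) := by group
        _ = ((h : G) * g⁻¹)⁻¹ * (z' * ((h : G) * (g⁻¹ * (z' * t) * g) * (h : G)⁻¹)) * ((h : G) * g⁻¹) := by rw [h5]
        _ = (((h : G) * g⁻¹)⁻¹ * z' * ((h : G) * g⁻¹)) * (z' * t) := by group
    have h6 := (Z2 _).mp (h2 hy)
    have h7 : g⁻¹ ∈ H := by
      have := H.mul_mem (H.inv_mem h.2) h6
      rwa [inv_mul_cancel_left] at this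
    have := H.inv_mem h7
    rwa [inv_inv] at this
  · intro hg
    exact H.mul_mem (H.mul_mem (H.inv_mem hg) (H.mul_mem Z1 htH)) hg

/-- (1) implies the 2-centrality of `z`. -/
theorem part12 {G : Type*} [Group G] [Finite G] (z : G) (hzz : z * z = 1) (H : Subgroup G)
    (hH : H ≠ ⊤)
    (Z1 : z ∈ H) (Z2 : ∀ g, g⁻¹ * z * g ∈ H ↔ g ∈ H)
    (h1 : ∀ t : G, IsConj z t → t ≠ z → t * z = z * t → ∀ g : G, g⁻¹ * (z * t) * g ∈ H ↔ g ∈ H) :
    ∃ P : Sylow 2 G, z ∈ (Subgroup.center ↥(P : Subgroup G)).map (P : Subgroup G).subtype := by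
  -- (A)
  have A : ∀ a i g : G, i = a * z * a⁻¹ → (g⁻¹ * i * g ∈ H ↔ a⁻¹ * g ∈ H) := by
    intro a i g hi
    rw [← Z2 (a⁻¹ * g), hi]
    have : (a⁻¹ * g)⁻¹ * z * (a⁻¹ * g) = g⁻¹ * (a * z * a⁻¹) * g := by group
    rw [this]
  -- (B)
  have B : ∀ a i j g : G, i = a * z * a⁻¹ → IsConj z j → j ≠ i → j * i = i * j →
      (g⁻¹ * (i * j) * g ∈ H ↔ a⁻¹ * g ∈ H) := by
    intro a i j g hi hj hne hc
    have ht : IsConj z (a⁻¹ * j * a) :=
      hj.trans (isConj_iff.mpr ⟨a⁻¹, by rw [inv_inv]⟩)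
    have hne' : a⁻¹ * j * a ≠ z := by
      intro h; apply hne; rw [hi, ← h]; group
    have hc' : a⁻¹ * j * a * z = z * (a⁻¹ * j * a) := by
      calc a⁻¹ * j * a * z = a⁻¹ * (j * (a * z * a⁻¹)) * a := by group
        _ = a⁻¹ * ((a * z * a⁻¹) * j) * a := by rw [← hi, hc]
        _ = z * (a⁻¹ * j * a) := by group
    have := h1 _ ht hne' hc' (a⁻¹ * g)
    rw [← this, hi]
    have e : (a⁻¹ * g)⁻¹ * (z * (a⁻¹ * j * a)) * (a⁻¹ * g) = g⁻¹ * ((a * z * a⁻¹) * j) * g := by
      group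
    rw [e]
  -- F2
  have F2 : ∀ a b i j : G, i = a * z * a⁻¹ → j = b * z * b⁻¹ → a⁻¹ * b ∉ H →
      Odd (orderOf (i * j)) := by
    intro a b i j hi hj hab
    by_contra hodd
    rw [Nat.not_odd_iff_even] at hodd
    have hii : i * i = 1 := by rw [hi]; exact conj_invol hzz a
    have hjj : j * j = 1 := by rw [hj]; exact conj_invol hzz b
    have hci : IsConj z i := isConj_iff.mpr ⟨a, hi.symm⟩
    have hcj : IsConj z j := isConj_iff.mpr ⟨b, hj.symm⟩
    obtain ⟨n, hn⟩ := hodd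
    have hpos : 0 < orderOf (i * j) := orderOf_pos _
    obtain ⟨k, hk⟩ : ∃ k, k = (i * j) ^ n := ⟨_, rfl⟩
    have hk1 : k ≠ 1 := by
      intro h
      rw [hk] at h
      have h' := orderOf_dvd_of_pow_eq_one h
      have := Nat.le_of_dvd (by omega) h'
      omega
    have hkk : k * k = 1 := by rw [hk, ← pow_add, ← hn, pow_orderOf_eq_one]
    have hik : i * k = k * i := by
      have := invol_mul_pow hii hjj n
      rw [← hk] at this; rw [this, invol_inv hkk]
    have hjk : j * k = k * j := by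
      have := invol_mul_pow' hii hjj n
      rw [← hk] at this; rw [this, invol_inv hkk]
    obtain ⟨c1, c2⟩ := central_invol_mul_conj hii hjj n
    rw [← hk] at c1 c2
    have hcik : IsConj z (i * k) := by
      rcases c1 with c | c
      · exact hci.trans c
      · exact hcj.trans c
    have hcjk : IsConj z (j * k) := by
      rcases c2 with c | c
      · exact hcj.trans c
      · exact hci.trans c
    have e1 : i * (i * k) = k := by rw [← mul_assoc, hii, one_mul]
    have e2 : j * (j * k) = k := by rw [← mul_assoc, hjj, one_mul]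
    have B1 := B a i (i * k) a hi hcik
      (by intro h; apply hk1; exact mul_left_cancel (h.trans (mul_one i).symm))
      (by rw [mul_assoc, ← hik])
    have B2 := B b j (j * k) a hj hcjk
      (by intro h; apply hk1; exact mul_left_cancel (h.trans (mul_one j).symm))
      (by rw [mul_assoc, ← hjk])
    rw [e1] at B1
    rw [e2] at B2
    have h3 : a⁻¹ * k * a ∈ H := B1.mpr (by rw [inv_mul_cancel]; exact H.one_mem)
    have h4 := H.inv_mem (B2.mp h3)
    apply hab
    rwa [mul_inv_rev, inv_inv] at h4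
  -- pick b ∉ H
  obtain ⟨b, hb⟩ : ∃ b, b ∉ H := by
    by_contra hcon
    push Not at hcon
    exact hH ((Subgroup.eq_top_iff' H).mpr hcon)
  obtain ⟨j, hj⟩ : ∃ j, j = b * z * b⁻¹ := ⟨_, rfl⟩
  have hjj : j * j = 1 := by rw [hj]; exact conj_invol hzz b
  have hcj : IsConj z j := isConj_iff.mpr ⟨b, hj.symm⟩
  -- the sets
  obtain ⟨Iα, hIα⟩ : ∃ Iα : Set G, Iα = {u | IsConj z u ∧ u ∈ H} := ⟨_, rfl⟩
  obtain ⟨W, hW⟩ : ∃ W : Set G, W = {w | IsConj z w ∧ b⁻¹ * w ∈ H} := ⟨_, rfl⟩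
  have memI : ∀ u, u ∈ Iα ↔ IsConj z u ∧ u ∈ H := fun u => by rw [hIα]; exact Iff.rfl
  have memW : ∀ w, w ∈ W ↔ IsConj z w ∧ b⁻¹ * w ∈ H := fun u => by rw [hW]; exact Iff.rfl
  -- Claim 1
  have C1 : ∀ u ∈ Iα, swapElt u j ∈ W ∧ swapElt u j * j * (swapElt u j)⁻¹ = u := by
    intro u hu
    obtain ⟨hcu, huH⟩ := (memI u).mp hu
    obtain ⟨a, ha⟩ := isConj_iff.mp hcu
    have huu : u * u = 1 := invol_of_isConj hzz hcu
    have haH : a ∈ H := by
      have := (A a u 1 ha.symm).mp (by simpa using huH)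
      have := H.inv_mem this
      simpa using this
    have hab : a⁻¹ * b ∉ H := by
      intro h
      apply hb
      have := H.mul_mem haH h
      rwa [mul_inv_cancel_left] at this
    have hodd := F2 a b u j ha.symm hj hab
    obtain ⟨hss, hsu, hsj, hcs⟩ := swapElt_spec huu hjj hodd
    refine ⟨(memW _).mpr ⟨hcu.trans hcs, ?_⟩, hsj⟩
    have := (A b j (swapElt u j) hj).mp (by
      rw [invol_inv hss]
      have e : swapElt u j * j * swapElt u j = swapElt u j * j * (swapElt u j)⁻¹ := by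
        rw [invol_inv hss]
      rw [e, hsj]; exact huH)
    exact this
  -- Claim 2
  have C2 : ∀ w ∈ W, w * j * w⁻¹ ∈ Iα ∧ swapElt (w * j * w⁻¹) j = w := by
    intro w hw
    obtain ⟨hcw, hwH⟩ := (memW w).mp hw
    obtain ⟨c, hc⟩ := isConj_iff.mp hcw
    have hww : w * w = 1 := invol_of_isConj hzz hcw
    have hmemH : w * j * w⁻¹ ∈ H := by
      have := (A b j w hj).mpr hwH
      rw [invol_inv hww] at this ⊢
      exact this
    have hcb : c⁻¹ * b ∉ H := by
      intro h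
      have h' := (A c w b hc.symm).mpr h
      apply hb
      have := H.mul_mem (H.inv_mem hwH) h'
      have e : (b⁻¹ * w)⁻¹ * (b⁻¹ * w * b) = b := by group
      rwa [e] at this
    have hodd := F2 c b w j hc.symm hj hcb
    refine ⟨(memI _).mpr ⟨hcj.trans (isConj_iff.mpr ⟨w, rfl⟩), hmemH⟩, swapElt_conj hww hjj hodd⟩
  -- |Iα| = |W|
  have hcardIW : Iα.ncard = W.ncard := by
    have himg : Iα = (fun w => w * j * w⁻¹) '' W := by
      ext u
      constructor
      · intro hu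
        exact ⟨swapElt u j, (C1 u hu).1, (C1 u hu).2⟩
      · rintro ⟨w, hw, rfl⟩
        exact (C2 w hw).1
    rw [himg]
    apply Set.InjOn.ncard_image
    intro w1 hw1 w2 hw2 h
    have h' : w1 * j * w1⁻¹ = w2 * j * w2⁻¹ := h
    rw [← (C2 w1 hw1).2, ← (C2 w2 hw2).2, h']
  -- z ∈ Iα
  have hzI : z ∈ Iα := (memI z).mpr ⟨IsConj.refl z, Z1⟩
  obtain ⟨s, hs⟩ : ∃ s, s = swapElt z j := ⟨_, rfl⟩
  have hsW : s ∈ W := by rw [hs]; exact (C1 z hzI).1
  obtain ⟨hcs, hsH⟩ := (memW s).mp hsW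
  have hss : s * s = 1 := invol_of_isConj hzz hcs
  -- |W| odd
  have hWodd : Odd W.ncard := by
    have hinvW : ∀ w ∈ W, s * w * s⁻¹ ∈ W := by
      intro w hw
      obtain ⟨hcw, hwH⟩ := (memW w).mp hw
      have hww : w * w = 1 := invol_of_isConj hzz hcw
      refine (memW _).mpr ⟨hcw.trans (isConj_iff.mpr ⟨s, rfl⟩), ?_⟩
      have h1' : w * b ∈ H := by
        have := H.inv_mem hwH
        rwa [mul_inv_rev, inv_inv, invol_inv hww] at this
      have := H.mul_mem (H.mul_mem hsH h1') hsH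
      have e : b⁻¹ * s * (w * b) * (b⁻¹ * s) = b⁻¹ * (s * w * s⁻¹) := by
        rw [invol_inv hss]; group
      rwa [e] at this
    have := odd_card_of_invol_unique_fixed (X := W)
      (fun w => ⟨s * w.1 * s⁻¹, hinvW w.1 w.2⟩)
      (fun w => Subtype.ext (by
        change s * (s * w.1 * s⁻¹) * s⁻¹ = w.1
        rw [invol_inv hss]
        calc s * (s * w.1 * s) * s = (s * s) * w.1 * (s * s) := by simp only [mul_assoc]
          _ = w.1 := by rw [hss, one_mul, mul_one]))
      ⟨s, hsW⟩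
      (Subtype.ext (by
        change s * s * s⁻¹ = s
        rw [mul_inv_cancel_right]))
      (by
        rintro ⟨w, hw⟩ hfix
        apply Subtype.ext
        change w = s
        have hfix' : s * w * s⁻¹ = w := congrArg Subtype.val hfix
        by_contra hne
        obtain ⟨hcw, hwH⟩ := (memW w).mp hw
        obtain ⟨c, hc⟩ := isConj_iff.mp hcs
        have hcomm : w * s = s * w := by
          rw [← hfix', inv_mul_cancel_right, hfix']
        have hB := B c s w 1 hc.symm hcw hne hcomm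
        have hswH : s * w ∈ H := by
          have := H.mul_mem (H.inv_mem hsH) hwH
          have e : (b⁻¹ * s)⁻¹ * (b⁻¹ * w) = s * w := by
            rw [mul_inv_rev, inv_inv, invol_inv hss]; group
          rwa [e] at this
        have hcH : c ∈ H := by
          have := hB.mp (by simpa using hswH)
          have := H.inv_mem this
          simpa using this
        have hsH' : s ∈ H := by
          rw [← hc]
          exact H.mul_mem (H.mul_mem hcH Z1) (H.inv_mem hcH)
        apply hb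
        have := H.mul_mem hsH' (H.inv_mem hsH)
        have e : s * (b⁻¹ * s)⁻¹ = b := by
          rw [mul_inv_rev, inv_inv, invol_inv hss, ← mul_assoc, hss, one_mul]
        rwa [e] at this)
    rwa [Nat.card_coe_set_eq] at this
  have hIodd : Odd Iα.ncard := hcardIW ▸ hWodd
  -- |G/H| odd
  have hGHodd : Odd (Nat.card (G ⧸ H)) := by
    apply odd_card_of_invol_unique_fixed (X := G ⧸ H) (fun q => z • q) ?_ ((1 : G) : G ⧸ H) ?_ ?_
    · intro q
      rw [smul_smul, hzz, one_smul]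
    · rw [MulAction.Quotient.smul_coe, QuotientGroup.eq]
      simpa using H.inv_mem Z1
    · intro q hq
      obtain ⟨g, rfl⟩ := QuotientGroup.mk_surjective q
      have hq' : z • (g : G ⧸ H) = (g : G ⧸ H) := hq
      rw [MulAction.Quotient.smul_coe, QuotientGroup.eq] at hq'
      have h3 : g⁻¹ * z * g ∈ H := by
        have := H.inv_mem hq'
        have e : ((z • g)⁻¹ * g)⁻¹ = g⁻¹ * z * g := by
          rw [smul_eq_mul]; group
        rwa [e] at this
      have hgH := (Z2 g).mp h3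
      rw [QuotientGroup.eq]
      simpa using hgH
  -- Sylow
  obtain ⟨P₁⟩ : Nonempty (Sylow 2 G) := inferInstance
  have h2ndvd : ¬ 2 ∣ Nat.card (G ⧸ H) := by
    intro h
    exact (Nat.not_even_iff_odd.mpr hGHodd) (even_iff_two_dvd.mpr h)
  obtain ⟨q, hq⟩ := P₁.2.nonempty_fixed_point_of_prime_not_dvd_card (G ⧸ H) h2ndvd
  obtain ⟨g, rfl⟩ := QuotientGroup.mk_surjective q
  have hgP : ∀ x ∈ (P₁ : Subgroup G), g⁻¹ * x * g ∈ H := by
    intro x hx
    have h' : (⟨x, hx⟩ : (P₁ : Subgroup G)) • (g : G ⧸ H) = (g : G ⧸ H) := hq ⟨x, hx⟩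
    have h'' : x • (g : G ⧸ H) = (g : G ⧸ H) := h'
    rw [MulAction.Quotient.smul_coe, QuotientGroup.eq] at h''
    have := H.inv_mem h''
    have e : ((x • g)⁻¹ * g)⁻¹ = g⁻¹ * x * g := by
      rw [smul_eq_mul]; group
    rwa [e] at this
  obtain ⟨T, hT⟩ : ∃ T : Set G, T = (fun u => g * u * g⁻¹) '' Iα := ⟨_, rfl⟩
  have hTcard : T.ncard = Iα.ncard := by
    rw [hT]
    apply Set.ncard_image_of_injective
    intro u1 u2 h
    have h' : g * u1 * g⁻¹ = g * u2 * g⁻¹ := h
    exact mul_left_cancel (mul_right_cancel h')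
  have hTndvd : ¬ 2 ∣ Nat.card T := by
    rw [Nat.card_coe_set_eq, hTcard]
    intro h
    exact (Nat.not_even_iff_odd.mpr hIodd) (even_iff_two_dvd.mpr h)
  have hTinv : ∀ a ∈ (P₁ : Subgroup G), ∀ t ∈ T, a * t * a⁻¹ ∈ T := by
    intro a ha t ht
    rw [hT] at ht ⊢
    obtain ⟨u, hu, rfl⟩ := ht
    obtain ⟨hcu, huH⟩ := (memI u).mp hu
    refine ⟨(g⁻¹ * a * g) * u * (g⁻¹ * a * g)⁻¹, (memI _).mpr ⟨hcu.trans (isConj_iff.mpr ⟨_, rfl⟩), ?_⟩, ?_⟩
    · exact H.mul_mem (H.mul_mem (hgP a ha) huH) (H.inv_mem (hgP a ha))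
    · change g * ((g⁻¹ * a * g) * u * (g⁻¹ * a * g)⁻¹) * g⁻¹ = a * (g * u * g⁻¹) * a⁻¹
      group
  obtain ⟨u, huT, hufix⟩ := exists_conj_fixed (P₁ : Subgroup G) P₁.2 T hTinv hTndvd
  have hcu : IsConj z u := by
    rw [hT] at huT
    obtain ⟨v, hv, rfl⟩ := huT
    exact ((memI v).mp hv).1.trans (isConj_iff.mpr ⟨g, rfl⟩)
  have huu : u * u = 1 := invol_of_isConj hzz hcu
  exact exists_sylow_center_of_centralizes P₁ u (isPGroup_zpowers_of_invol huu)
    (fun x hx => by
      have := hufix x hx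
      rw [← this, inv_mul_cancel_right, this]) z hcu.symm


/-- Let z be an involution of a finite group G and H a proper subgroup such that z lies in gHg⁻¹ exactly when g ∈ H. Then the following are equivalent: (1) for every conjugate t ≠ z of z commuting with z, the product zt lies in gHg⁻¹ exactly when g ∈ H; (2) z lies in the centre of some Sylow 2-subgroup of G, and for every conjugate t ≠ z of z commuting with z, the centralizer of zt is contained in H. -/
theorem result {G : Type*} [Group G] [Finite G] (z : G) (hz : orderOf z = 2) (H : Subgroup G) (hH : H ≠ ⊤)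
    (h0 : ∀ g : G, z ∈ H.map (MulAut.conj g).toMonoidHom ↔ g ∈ H) :
    (∀ t : G, IsConj z t → t ≠ z → t * z = z * t → ∀ g : G, z * t ∈ H.map (MulAut.conj g).toMonoidHom ↔ g ∈ H) ↔
      ((∃ P : Sylow 2 G, z ∈ (Subgroup.center ↥(P : Subgroup G)).map (P : Subgroup G).subtype) ∧
        ∀ t : G, IsConj z t → t ≠ z → t * z = z * t → Subgroup.centralizer ({z * t} : Set G) ≤ H) := by
  have hmem : ∀ (g x : G), x ∈ H.map (MulAut.conj g).toMonoidHom ↔ g⁻¹ * x * g ∈ H := by
    intro g x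
    constructor
    · rintro ⟨h, hh, rfl⟩
      have e : g⁻¹ * ((MulAut.conj g).toMonoidHom h) * g = h := by
        change g⁻¹ * (g * h * g⁻¹) * g = h
        group
      rw [e]; exact hh
    · intro hx
      refine ⟨g⁻¹ * x * g, hx, ?_⟩
      change g * (g⁻¹ * x * g) * g⁻¹ = x
      group
  have hzz : z * z = 1 := invol_of_orderOf hz
  have Z2 : ∀ g, g⁻¹ * z * g ∈ H ↔ g ∈ H := fun g => by rw [← hmem]; exact h0 g
  have Z1 : z ∈ H := by
    have := (Z2 1).mpr H.one_mem
    simpa using this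
  have Z3 : ∀ c, c * z = z * c → c ∈ H := by
    intro c hc
    rw [← Z2]
    have : c⁻¹ * z * c = z := by rw [mul_assoc, ← hc, inv_mul_cancel_left]
    rw [this]; exact Z1
  constructor
  · intro h1
    have h1' : ∀ t : G, IsConj z t → t ≠ z → t * z = z * t →
        ∀ g : G, g⁻¹ * (z * t) * g ∈ H ↔ g ∈ H := by
      intro t ht hne hc g
      rw [← hmem]; exact h1 t ht hne hc g
    refine ⟨part12 z hzz H hH Z1 Z2 h1', ?_⟩
    intro t ht hne hcomm c hc
    rw [Subgroup.mem_centralizer_iff] at hc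
    have hc' := hc (z * t) rfl
    have h2 := h1' t ht hne hcomm c⁻¹
    have h3 : z * t ∈ H := by
      have := (h1' t ht hne hcomm 1).mpr H.one_mem
      simpa using this
    have h4 : c⁻¹⁻¹ * (z * t) * c⁻¹ = z * t := by
      rw [inv_inv, ← hc', mul_inv_cancel_right]
    rw [h4] at h2
    have := H.inv_mem (h2.mp h3)
    rwa [inv_inv] at this
  · rintro ⟨⟨P, hP⟩, h2⟩ t ht hne hcomm g
    rw [hmem]
    exact part21 z hzz H Z1 Z2 Z3 P hP t ht hcomm (h2 t ht hne hcomm) g

end Cfsg.Agent.S1922
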