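import Cfsg.Statements.S2060
import Cfsg.Agent.H34.M11Out
import Cfsg.Prelude.Def_Spor_Mathieu

set_option autoImplicit false
open Cfsg

namespace Cfsg.Agent.S2060

open Cfsg.Agent.H9 Cfsg.Agent.H34
open scoped Pointwise

theorem sqDod_eq : Spor.squareDodecad = fs 0x5335f := by
  unfold Spor.squareDodecad
  have h : qrWord 0 = dec 0x5335f := by
    funext p
    rw [qrWord_eq]
    rfl
  rw [h, support₂_dec]

theorem sqDod_mem : Spor.squareDodecad ∈ dodecads := by
  refine ⟨⟨qrWord 0, Submodule.subset_span (Or.inl ⟨0, rfl⟩), rfl⟩, ?_⟩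
  rw [sqDod_eq, card_fs']
  decide

theorem some0_eq : (some 0 : GolayPt) = gPt 0 := by decide

theorem some0_mem : (some 0 : GolayPt) ∈ Spor.squareDodecad := by
  rw [sqDod_eq, some0_eq, mem_fs, gIdx_gPt (by norm_num)]
  decide

/-- Conjugate subgroups are isomorphic. -/
def conjIso {G : Type*} [Group G] {A B : Subgroup G} (g : G)
    (h : ∀ k : G, k ∈ A ↔ g⁻¹ * k * g ∈ B) : ↥A ≃* ↥B where
  toFun k := ⟨g⁻¹ * (k : G) * g, (h k.1).mp k.2⟩
  invFun x := ⟨g * (x : G) * g⁻¹, (h _).mpr (by
      have e : g⁻¹ * (g * (x : G) * g⁻¹) * g = x := by group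
      rw [e]
      exact x.2)⟩
  left_inv k := by
    apply Subtype.ext
    show g * (g⁻¹ * (k : G) * g) * g⁻¹ = _
    group
  right_inv x := by
    apply Subtype.ext
    show g⁻¹ * (g * (x : G) * g⁻¹) * g = _
    group
  map_mul' k l := by
    apply Subtype.ext
    show g⁻¹ * ((k : G) * (l : G)) * g = (g⁻¹ * (k : G) * g) * (g⁻¹ * (l : G) * g)
    group

/-- The group `Spor.M11` is isomorphic to `SF [1, D0]`. -/
theorem sporM11_iso : Nonempty (↥Spor.M11 ≃* ↥(SF [1, D0])) := by
  obtain ⟨g, hg, hd0, hp0⟩ := dod_pt_trans sqDod_mem some0_mem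
  refine ⟨conjIso g ?_⟩
  intro k
  have e0 := conj_fix_set g k (fs D0)
  have e1 := conj_fix_pt g k (j := 0) (by norm_num)
  rw [hd0] at e0
  rw [hp0] at e1
  have hk : k ∈ Spor.M11 ↔ (k ∈ M24 ∧ k • Spor.squareDodecad = Spor.squareDodecad) ∧
      k (some 0 : GolayPt) = some 0 := Iff.rfl
  rw [hk, mem_SF]
  constructor
  · rintro ⟨⟨h0, h1⟩, h2⟩
    refine ⟨mul_mem (mul_mem (inv_mem hg) h0) hg, ?_⟩
    intro a ha
    simp only [List.mem_cons, List.not_mem_nil, or_false] at ha
    rcases ha with rfl | rfl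
    · exact e1.mpr h2
    · exact e0.mpr h1
  · rintro ⟨hm, h⟩
    refine ⟨⟨?_, e0.mp (h D0 (by simp))⟩, e1.mp (h 1 (by simp))⟩
    have e : k = g * (g⁻¹ * k * g) * g⁻¹ := by group
    rw [e]
    exact mul_mem (mul_mem hg hm) (inv_mem hg)

/-- Innerness of all automorphisms is transported along an isomorphism. -/
theorem inner_transport {G H : Type*} [Group G] [Group H] (e : G ≃* H)
    (h : ∀ α : MulAut H, ∃ g : H, α = MulAut.conj g) (α : MulAut G) :
    ∃ g : G, α = MulAut.conj g := by
  obtain ⟨g, hg⟩ := h ((e.symm.trans α).trans e)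
  refine ⟨e.symm g, ?_⟩
  ext x
  have h1 := DFunLike.congr_fun hg (e x)
  simp only [MulEquiv.trans_apply, MulEquiv.symm_apply_apply, MulAut.conj_apply] at h1
  rw [MulAut.conj_apply]
  apply e.injective
  rw [h1, map_mul, map_mul, map_inv, MulEquiv.apply_symm_apply]

/-- If every automorphism is inner, the outer automorphism group is trivial. -/
theorem out_card_one {G : Type*} [Group G] (h : ∀ α : MulAut G, ∃ g : G, α = MulAut.conj g) :
    Nat.card (Cfsg.Out G) = 1 := by
  have h1 : Cfsg.Inn G = ⊤ := by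
    rw [eq_top_iff]
    intro α _
    obtain ⟨g, hg⟩ := h α
    exact ⟨g, hg.symm⟩
  have h2 : (Cfsg.Inn G).index = 1 := Subgroup.index_eq_one.mpr h1
  exact h2

/-- The outer automorphism group of the Mathieu group M₁₁ (the stabiliser of a dodecad and one of its points in the automorphism group of the length-24 binary code) is trivial: every automorphism is inner. -/
theorem result : Nat.card (Cfsg.Out ↥Cfsg.Spor.M11) = 1 := by
  obtain ⟨e⟩ := sporM11_iso
  exact out_card_one (inner_transport e aut_inner)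

end Cfsg.Agent.S2060
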