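import Cfsg.Statements.S2061
import Cfsg.Agent.H34.M12Out
import Cfsg.Prelude.Def_Spor_Mathieu

set_option autoImplicit false
open Cfsg

namespace Cfsg.Agent.S2061

open Cfsg.Agent.H9 Cfsg.Agent.H34
open scoped Pointwise

theorem sqDod_eq : Spor.squareDodecad = fs 0x5335f := by
  unfold Spor.squareDodecad
  have h : qrWord 0 = dec 0x5335f := by
    funext p
    rw [qrWord_eq]
    rfl
  rw [h, support₂_dec]

theorem sqDod_mem : Spor.squareDodecad ∈ dodecads := by
  refine ⟨⟨qrWord 0, Submodule.subset_span (Or.inl ⟨0, rfl⟩), rfl⟩, ?_⟩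
  rw [sqDod_eq, card_fs']
  decide

/-- The group `Spor.M12` is isomorphic to `SF [D0]`. -/
theorem sporM12_iso : Nonempty (↥Spor.M12 ≃* ↥(SF [D0])) := by
  obtain ⟨g, hg, hd0⟩ := dod_trans sqDod_mem
  refine ⟨conjIsoG g ?_⟩
  intro k
  have e0 := conj_fix_set g k (fs D0)
  rw [hd0] at e0
  have hk : k ∈ Spor.M12 ↔ k ∈ M24 ∧ k • Spor.squareDodecad = Spor.squareDodecad := Iff.rfl
  rw [hk, mem_SF]
  constructor
  · rintro ⟨h0, h1⟩
    refine ⟨mul_mem (mul_mem (inv_mem hg) h0) hg, ?_⟩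
    intro a ha
    simp only [List.mem_cons, List.not_mem_nil, or_false] at ha
    rw [ha]
    exact e0.mpr h1
  · rintro ⟨hm, h⟩
    refine ⟨?_, e0.mp (h D0 (by simp))⟩
    have e : k = g * (g⁻¹ * k * g) * g⁻¹ := by group
    rw [e]
    exact mul_mem (mul_mem hg hm) (inv_mem hg)

/-- The outer automorphism group of the Mathieu group M₁₂ (the stabiliser of a dodecad in the automorphism group of the length-24 binary code) has order 2. -/
theorem result : Nat.card (Cfsg.Out ↥Cfsg.Spor.M12) = 2 := by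
  obtain ⟨e⟩ := sporM12_iso
  rw [out_card_transport e]
  exact out12

end Cfsg.Agent.S2061
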