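import Cfsg.Statements.S2066
import Cfsg.Agent.H10.J2S.OutNorm
import Cfsg.Agent.H10.J2S.OutCInv
import Cfsg.Agent.H70.Out2
import Cfsg.Agent.H70.J2SLP
import Cfsg.Agent.H10.J2S.OutNu
import Cfsg.Agent.H86.J2NotInn

set_option autoImplicit false
open Cfsg

namespace Cfsg.Agent.S2066

/-- The outer automorphism group of the Hall–Janko group J₂ (the icosian reflection group modulo its centre) has order 2. -/
theorem result : Nat.card (Cfsg.Out Cfsg.Spor.J2) = 2 := by
  obtain ⟨φ, h1, h2⟩ := Cfsg.Agent.H10.J2S.exists_outer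
  exact Cfsg.Agent.H70.Out2.card_out_eq_two φ (Cfsg.Agent.H86.J2Out.not_inner h1)
    (Cfsg.Agent.H10.J2S.inner_or Cfsg.Agent.H10.J2S.exists_Ind
      (fun _ _ h a b => Cfsg.Agent.H70.J2SLP.relOK1_of_ind h a b)
      (fun _ _ h a b c => Cfsg.Agent.H70.J2SLP.relOK2_of_ind h a b c)
      (fun _ _ h a b c d => Cfsg.Agent.H70.J2SLP.fix_all_of_ind h a b c d) h2)

end Cfsg.Agent.S2066
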