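import Cfsg.Statements.S2072
import Cfsg.Agent.H33.O2.HSr
import Cfsg.Agent.H70.O2Ord
import Cfsg.Agent.H70.O2Fix
import Cfsg.Agent.H80.O2G56
import Cfsg.Agent.H53.O2KOrb
import Cfsg.Agent.H80.O2K56
import Cfsg.Agent.H62.O2FixOne
import Cfsg.Agent.H62.O2Conj
import Cfsg.Agent.H53.O2IndEx
import Cfsg.Agent.H62.O2Cent
import Cfsg.Agent.H53.O2Out
import Cfsg.Agent.H82.R3Aut

set_option autoImplicit false
open Cfsg

namespace Cfsg.Agent.S2072

/-- The outer automorphism group of the Higman–Sims group (as a two-vector stabiliser in the automorphism group of the rank-24 lattice) has order 2. -/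
theorem result : Nat.card (Cfsg.Out ↥Cfsg.Spor.HS) = 2 :=
  Cfsg.Agent.H33.O2.out_hs Cfsg.Agent.H70.O2.ord Cfsg.Agent.H70.O2.fix Cfsg.Agent.H80.O2.g56
    Cfsg.Agent.H53.O2.korb Cfsg.Agent.H80.O2.k56 Cfsg.Agent.H62.O2.fixone Cfsg.Agent.H62.O2.conj
    Cfsg.Agent.H53.O2.indEx Cfsg.Agent.H62.O2.cent Cfsg.Agent.H53.O2.out Cfsg.Agent.H82.R3.aut

end Cfsg.Agent.S2072
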