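-- Statement S2123: |Out(E₆(q))| = 2 · gcd(3, q − 1) · f  (team project led by helper78).
-- Steinberg's automorphism theorem for E₆ (inner ∘ graph ∘ diagonal ∘ field) on helper23's Chevalley engine
-- (Cfsg/Agent/H23, E₆ tables only), assembled in Cfsg/Agent/H78/StbE6Asm.lean from the team pieces.
import Cfsg.Statements.S2123
import Cfsg.Agent.H78.StbE6Asm
import Cfsg.Agent.H18.StbSyl
import Cfsg.Agent.H18.StbW0
import Cfsg.Agent.H13.StbOpp
import Cfsg.Agent.H13.StbPV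
import Cfsg.Agent.H13.StbRootMap
import Cfsg.Agent.H13.StbMult
import Cfsg.Agent.H13.StbHatEx
import Cfsg.Agent.H13.StbHatCard
import Cfsg.Agent.H61.StbNormU
import Cfsg.Agent.H61.StbPar
import Cfsg.Agent.H70.StbNeg
import Cfsg.Agent.H70.StbField
import Cfsg.Agent.H70.StbInnH
import Cfsg.Agent.H70.StbHatAut
import Cfsg.Agent.H78.StbPsi
import Cfsg.Agent.H27.StbGal
import Cfsg.Agent.H57.StbAsm2H
import Cfsg.Agent.H73.StbGPosG
import Cfsg.Agent.H73.StbGMatchG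
import Cfsg.Agent.H35.StbGAsm1G
import Cfsg.Agent.H35.StbGFinalG
import Cfsg.Agent.H13.StbGNUV
import Cfsg.Agent.H13.StbGTorusPres
import Cfsg.Agent.H13.StbGFieldPres
import Cfsg.Agent.H13.StbGNotGamma
import Cfsg.Agent.H56.StbGE6Graph
import Cfsg.Agent.H56.StbGE6Coord
import Cfsg.Agent.H13.StbGE6W0
import Cfsg.Agent.H13.StbGE6Conn
import Cfsg.Agent.H13.StbGE6Diag
import Cfsg.Agent.H13.StbGE6C2
import Cfsg.Agent.H13.StbGE6Adj
import Cfsg.Agent.H36.StbGE6Syl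
import Cfsg.Agent.H36.StbGE6CardH

set_option autoImplicit false
open Cfsg

namespace Cfsg.Agent.S2123

/-- Outer automorphisms of the (adjoint, simple) Chevalley groups of type E₆: over a field with q = p^f (p prime) elements, the outer automorphism group of E₆(q) has order 2 · gcd(3, q − 1) · f (diagonal, field and graph automorphisms). -/
theorem result {F : Type*} [Field F] [Fintype F] (p f : ℕ) [Fact p.Prime] [CharP F p] (hF : Fintype.card F = p ^ f) : Nat.card (Cfsg.Out ↥(Cfsg.Lie.chevE6.group F)) = 2 * Nat.gcd 3 (p ^ f - 1) * f := by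
  have hW0 := Cfsg.Agent.H18.Stb.w0
  have hNormU := Cfsg.Agent.H61.Stb.normU
  have hNeg := Cfsg.Agent.H70.Stb.neg hNormU Cfsg.Agent.H61.Stb.par (Cfsg.Agent.H13.Stb.pv hW0)
  have hNUV := Cfsg.Agent.H13.StbG.nuv hNormU hW0
  exact Cfsg.Agent.H78.StbG.e6_out_of_pieces
    (Cfsg.Agent.H35.StbG.asm1G Cfsg.Agent.H18.Stb.syl (Cfsg.Agent.H13.Stb.opp hW0) hNeg
      (Cfsg.Agent.H73.StbG.posG hNeg hW0) Cfsg.Agent.H73.StbG.matchG Cfsg.Agent.H13.Stb.rootMap)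
    (Cfsg.Agent.H57.Stb.asm2H Cfsg.Agent.H13.Stb.hatEx Cfsg.Agent.H70.Stb.hatAut
      (Cfsg.Agent.H78.Stb.psi Cfsg.Agent.H78.Stb.rank1) Cfsg.Agent.H13.Stb.mult)
    (Cfsg.Agent.H35.StbG.finalG (Cfsg.Agent.H70.Stb.innH hNormU hW0) Cfsg.Agent.H70.Stb.field
      Cfsg.Agent.H70.Stb.hatAut (Cfsg.Agent.H13.StbG.notGamma hNUV) Cfsg.Agent.H13.StbG.torusPres
      Cfsg.Agent.H13.StbG.fieldPres)
    (Cfsg.Agent.H13.Stb.hatCard Cfsg.Agent.H13.Stb.hatEx)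
    Cfsg.Agent.H27.Stb.gal
    Cfsg.Agent.H56.StbG.e6Graph Cfsg.Agent.H13.StbG.e6W0 Cfsg.Agent.H13.StbG.e6C2
    Cfsg.Agent.H13.StbG.e6Adj Cfsg.Agent.H13.StbG.e6Diag Cfsg.Agent.H56.StbG.e6Coord
    Cfsg.Agent.H13.StbG.e6Conn Cfsg.Agent.H36.StbG.e6Syl Cfsg.Agent.H36.StbG.e6CardH p f hF

end Cfsg.Agent.S2123
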