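import Cfsg.Statements.S2149
import Cfsg.Agent.H77.UfMain
import Cfsg.Agent.H25.UfElem
import Cfsg.Agent.H25.UfNoInv
import Cfsg.Agent.H25.UfOrd
import Cfsg.Agent.H25.UfOrders
import Cfsg.Agent.H25.UfSimple
import Cfsg.Agent.H45.UfCount
import Cfsg.Agent.H63.UfSylT
import Cfsg.Agent.H63.UfXfer
import Cfsg.Agent.H63.UfXferIdx
import Cfsg.Agent.H69.UfAbsN
import Cfsg.Agent.H69.UfSyl7
import Cfsg.Agent.H75.UfCard126
import Cfsg.Agent.H75.UfTwoTrans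
import Cfsg.Agent.H79.UfIso3
import Cfsg.Agent.H80.UfCent
import Cfsg.Agent.H80.UfCyc
import Cfsg.Agent.H84.UfArith
import Cfsg.Agent.H84.UfTransDvd
import Cfsg.Agent.Lib.Helper30.UfSimpleDeg
import Cfsg.Agent.H77.UfExtra
import Cfsg.Agent.H18.UfSubgrp
import Cfsg.Agent.H28.UfExAsm
import Cfsg.Agent.H40.UfPres
import Cfsg.Agent.H40.UfRel
import Cfsg.Agent.H71.UfMem
import Cfsg.Agent.H71.UfSt8
import Cfsg.Agent.H75.UfCenterPres
import Cfsg.Agent.H75.UfSt27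

set_option autoImplicit false
open Cfsg

namespace Cfsg.Agent.S2149

open Cfsg.Agent.H77.Uf in
theorem lower35_closed : StLower35 := by
  have hG : StOrderG := Cfsg.Agent.H25.Uf.orderG
  have hZ3 : StCenter3 := Cfsg.Agent.H25.Uf.center3
  have hOrd : StOrd := Cfsg.Agent.H25.Uf.ord
  have hCent : StCent := Cfsg.Agent.H80.Uf.cent Cfsg.Agent.H80.Uf.cyc Cfsg.Agent.H45.UfC.count
  have hN7 : StN7 := n7 Cfsg.Agent.H25.Uf.elem hOrd hCent (Cfsg.Agent.H25.Uf.noInv hOrd) hZ3 hG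
    Cfsg.Agent.H69.Uf.absN Cfsg.Agent.H63.Uf.sylT
  have hLower : StLower.{0, 0} := lower Cfsg.Agent.H84.Uf.transDvd
    Cfsg.Agent.Lib.Helper30.Uf.simpleDeg Cfsg.Agent.H69.Uf.syl7 Cfsg.Agent.H84.Uf.arith
  exact lower35 hLower (Cfsg.Agent.H75.Uf.twoTrans Cfsg.Agent.H79.Uf.iso3)
    Cfsg.Agent.H75.Uf.card126 Cfsg.Agent.H25.Uf.simple hG hN7

open Cfsg.Agent.H77.Uf in
theorem exists35_closed : StExists35 := by
  have hMem : StMem := Cfsg.Agent.H71.Uf.mem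
  have hRel : StRel := Cfsg.Agent.H40.Uf.rel
  have hPres : StPresAll := Cfsg.Agent.H40.Uf.presAll
  have hZ3 : StCenter3 := Cfsg.Agent.H25.Uf.center3
  exact Cfsg.Agent.H28.Uf.exAsm hMem hPres notPres77 hRel Cfsg.Agent.H18.Uf.subgrp
    (Cfsg.Agent.H75.Uf.centerPres hMem hRel hPres hZ3) Cfsg.Agent.H71.Uf.st8
    Cfsg.Agent.H75.Uf.st27 mapCard77 hZ3

theorem result {F : Type*} [Field F] [Fintype F] (hF : Fintype.card F = 25) : (∀ H : Subgroup (Cfsg.PSU 3 F 5), H ≠ ⊤ → 50 ≤ H.index) ∧ (∃ H : Subgroup (Cfsg.PSU 3 F 5), H.index = 50) := by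
  obtain ⟨e⟩ := Cfsg.Agent.H63.Uf.xfer.{u_1} hF
  exact Cfsg.Agent.H63.Uf.xferIdx.{0, u_1} e
    (Cfsg.Agent.H77.Uf.main35 lower35_closed exists35_closed Cfsg.Agent.H25.Uf.orderG)

end Cfsg.Agent.S2149
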