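import Cfsg.Statements.S2159
import Cfsg.Agent.S2156
import Cfsg.Agent.H46.OSMain
import Cfsg.Agent.H46.OSTab
import Cfsg.Agent.H43.OSDComm
import Cfsg.Agent.H43.OSFEx
import Cfsg.Agent.H12.OSFCyc
import Cfsg.Agent.H46.OSConj
import Cfsg.Agent.H46.OSGraph2W
import Cfsg.Agent.H22.OSGraph6
import Cfsg.Agent.H56.OSD4T
import Cfsg.Agent.H15.OSD4C
import Cfsg.Agent.H84.OSAbsN
import Cfsg.Agent.H84.OSAbsI
import Cfsg.Agent.H13.StbHatEx
import Cfsg.Agent.H70.StbHatAut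
import Cfsg.Agent.H27.StbDRootChar
-- import your own Cfsg.Agent.* helpers here

set_option autoImplicit false
open Cfsg

namespace Cfsg.Agent.S2159

/-- Structure of the outer automorphism group of the Chevalley group `G` of type G₂, B₂, D₄, F₄, E₆, E₇ or E₈ over a finite field. Let `D̄` be the image in `Out(G)` of the subgroup generated by the diagonal automorphisms and `F̄` the image of the subgroup generated by the field automorphisms. Then `D̄` is a normal abelian subgroup of `Out(G)`, `F̄` is cyclic, `D̄F̄` is a normal subgroup, and the quotient of `Out(G)` by `D̄F̄` is trivial, of order 2, or non-abelian of order 6 (so isomorphic to the symmetric group on three letters): its index is 1 or 2, or it is 6 with the commutator subgroup of `Out(G)` not inside `D̄F̄`. -/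
theorem result {F : Type*} [Field F] [Finite F] (D : Cfsg.Lie.ChevalleyDatum) (hD : D ∈ [Cfsg.Lie.chevG2, Cfsg.Lie.chevB2, Cfsg.Lie.chevD4, Cfsg.Lie.chevF4, Cfsg.Lie.chevE6, Cfsg.Lie.chevE7, Cfsg.Lie.chevE8])
    (Dbar Fbar : Subgroup (Cfsg.Out ↥(D.group F)))
    (hDbar : Dbar = (Subgroup.closure {φ : MulAut ↥(D.group F) | D.IsDiagonalAut φ}).map (QuotientGroup.mk' (Cfsg.Inn ↥(D.group F))))
    (hFbar : Fbar = (Subgroup.closure {φ : MulAut ↥(D.group F) | D.IsFieldAut φ}).map (QuotientGroup.mk' (Cfsg.Inn ↥(D.group F)))) :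
    Dbar.Normal ∧ IsMulCommutative ↥Dbar ∧ IsCyclic ↥Fbar ∧ (Dbar ⊔ Fbar).Normal ∧
      ((Dbar ⊔ Fbar).index = 1 ∨ (Dbar ⊔ Fbar).index = 2 ∨
        ((Dbar ⊔ Fbar).index = 6 ∧ ¬ commutator (Cfsg.Out ↥(D.group F)) ≤ Dbar ⊔ Fbar)) := by
  exact Cfsg.Agent.H46.OS.main
    (fun F _ _ D hD θ => Cfsg.Agent.S2156.result D hD θ)
    Cfsg.Agent.H43.OS.dComm
    (Cfsg.Agent.H12.OS.fCyc Cfsg.Agent.H43.OS.fEx)
    Cfsg.Agent.H46.OS.dNF
    (fun F _ _ D hD g d hg hd => by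
      obtain ⟨m, hm, hch⟩ := Cfsg.Agent.H46.OS.coordChain_all D hD
      exact Cfsg.Agent.H46.OS.dNG Cfsg.Agent.H13.Stb.hatEx Cfsg.Agent.H70.Stb.hatAut
        Cfsg.Agent.H27.StbD.rootChar F D hD m hm hch g d hg hd)
    (Cfsg.Agent.H46.OS.graph2 Cfsg.Agent.H43.OS.fEx)
    (Cfsg.Agent.H22.OS.graph6 Cfsg.Agent.H56.OS.d4T Cfsg.Agent.H15.OS.d4C)
    Cfsg.Agent.H84.OS.absN
    Cfsg.Agent.H84.OS.absI
    Cfsg.Agent.H46.OS.sym_all
    D hD Dbar Fbar hDbar hFbar

end Cfsg.Agent.S2159
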