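import Cfsg.Statements.S2271
-- import your own Cfsg.Agent.* helpers here
import Cfsg.Agent.H43.FixMoves

set_option autoImplicit false
open Cfsg

namespace Cfsg.Agent.S2271

/-- Let n ≥ 5 and let a, b be non-identity permutations in the symmetric group S_n. Then the number of fixed points is not constant on the set of products a′b′ with a′ conjugate to a and b′ conjugate to b under the alternating group: there are even permutations g₁, h₁, g₂, h₂ such that (g₁ a g₁⁻¹)(h₁ b h₁⁻¹) and (g₂ a g₂⁻¹)(h₂ b h₂⁻¹) have different numbers of fixed points. -/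
theorem result (n : ℕ) (hn : 5 ≤ n) (a b : Equiv.Perm (Fin n)) (ha : a ≠ 1) (hb : b ≠ 1) :
    ∃ g₁ h₁ g₂ h₂ : Equiv.Perm (Fin n), g₁ ∈ alternatingGroup (Fin n) ∧ h₁ ∈ alternatingGroup (Fin n) ∧ g₂ ∈ alternatingGroup (Fin n) ∧ h₂ ∈ alternatingGroup (Fin n) ∧
      Nat.card (Function.fixedPoints ⇑(g₁ * a * g₁⁻¹ * (h₁ * b * h₁⁻¹))) ≠
        Nat.card (Function.fixedPoints ⇑(g₂ * a * g₂⁻¹ * (h₂ * b * h₂⁻¹))) := by
  obtain ⟨j, hj⟩ : ∃ j, a j ≠ j := by
    by_contra hcon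
    push Not at hcon
    exact ha (Equiv.Perm.ext hcon)
  obtain ⟨i, hi⟩ : ∃ i, i = a j := ⟨_, rfl⟩
  have hij : i ≠ j := by rw [hi]; exact hj
  have haj : a j = i := hi.symm
  by_cases hlong : ∃ u, b u ≠ u ∧ b (b u) ≠ u ∧ b (b (b u)) ≠ u
  · obtain ⟨u, h1, h2, h3⟩ := hlong
    obtain ⟨k, hk⟩ := H43.exists_notMem ({i, j, a i} : Finset (Fin n)) (by
      have := Finset.card_le_three (a := i) (b := j) (c := a i); omega)
    simp only [Finset.mem_insert, Finset.mem_singleton, not_or] at hk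
    obtain ⟨hki, hkj, hkai⟩ := hk
    have d12 : b u ≠ b (b u) := fun h => h1 (b.injective h).symm
    have d13 : b u ≠ b (b (b u)) := fun h => h2 (b.injective h).symm
    have d23 : b (b u) ≠ b (b (b u)) := fun h => d12 (b.injective h)
    obtain ⟨h, hh, e1, e2, e3⟩ := H43.exists_alt_three hn (b u) (b (b u)) (b (b (b u))) i j k
      d12 d13 d23 hij (Ne.symm hki) (Ne.symm hkj)
    obtain ⟨t, htA, ht1, ht2, ht3, ht⟩ :=
      H43.exists_three_cycle i j k hij (Ne.symm hki) (Ne.symm hkj)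
    have hb' : ∀ x, (h * b * h⁻¹) (h x) = h (b x) := by intro x; simp
    have key := H43.move3 a (h * b * h⁻¹) t i j k (h u) (h (b (b (b (b u))))) hij
      (by rw [← e1]; exact fun hc => h1 (h.injective hc).symm)
      (by rw [← e2]; exact fun hc => h2 (b.injective (b.injective (h.injective hc))))
      (by rw [← e1]; exact fun hc => h3 (b.injective (h.injective hc)))
      (by rw [← e3]; exact fun hc => h1 (b.injective (b.injective (b.injective (h.injective hc)))))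
      (by rw [hb', e1]) (by rw [← e1, hb', e2]) (by rw [← e2, hb', e3]) (by rw [← e3, hb'])
      haj (Ne.symm hkai) ht1 ht2 ht3 ht
    refine ⟨1, h, 1, t * h, Subgroup.one_mem _, hh, Subgroup.one_mem _,
      Subgroup.mul_mem _ htA hh, ?_⟩
    have e : t * h * b * (t * h)⁻¹ = t * (h * b * h⁻¹) * t⁻¹ := by group
    rw [e, one_mul, inv_one, mul_one]
    exact ne_of_gt key
  · push Not at hlong
    obtain ⟨σ, hσ, hσb⟩ := H43.exists_odd_commute hn b hb hlong
    obtain ⟨u, hu⟩ : ∃ u, b u ≠ u := by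
      by_contra hcon
      push Not at hcon
      exact hb (Equiv.Perm.ext hcon)
    obtain ⟨h₀, e1, e2⟩ := H43.exists_perm_two u (b u) i j (Ne.symm hu) hij
    have hb' : ∀ x, (h₀ * b * h₀⁻¹) (h₀ x) = h₀ (b x) := by intro x; simp
    have hbi : (h₀ * b * h₀⁻¹) i = j := by rw [← e1, hb', e2]
    obtain ⟨k, hk⟩ := H43.exists_notMem
      ({i, j, a ((h₀ * b * h₀⁻¹) j), (h₀ * b * h₀⁻¹)⁻¹ (a⁻¹ j)} : Finset (Fin n)) (by
        have := Finset.card_le_four (a := i) (b := j) (c := a ((h₀ * b * h₀⁻¹) j))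
          (d := (h₀ * b * h₀⁻¹)⁻¹ (a⁻¹ j))
        omega)
    simp only [Finset.mem_insert, Finset.mem_singleton, not_or] at hk
    obtain ⟨hki, hkj, hk1, hk2⟩ := hk
    have hT1 : a ((h₀ * b * h₀⁻¹) k) ≠ j := by
      intro hc
      apply hk2
      rw [Equiv.Perm.eq_inv_iff_eq, Equiv.Perm.eq_inv_iff_eq]
      exact hc
    have hT2 : a ((h₀ * b * h₀⁻¹) j) ≠ k := fun hc => hk1 hc.symm
    have key := H43.moveT a (h₀ * b * h₀⁻¹) i j k hij hki hkj hbi haj hT1 hT2
    obtain ⟨g₁, hg₁, eg₁⟩ := H43.exists_even_conj b σ hσ hσb h₀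
    obtain ⟨g₂, hg₂, eg₂⟩ := H43.exists_even_conj b σ hσ hσb (Equiv.swap j k * h₀)
    refine ⟨1, g₁, 1, g₂, Subgroup.one_mem _, hg₁, Subgroup.one_mem _, hg₂, ?_⟩
    have e : Equiv.swap j k * h₀ * b * (Equiv.swap j k * h₀)⁻¹
        = Equiv.swap j k * (h₀ * b * h₀⁻¹) * (Equiv.swap j k)⁻¹ := by group
    rw [eg₁, eg₂, e, one_mul, inv_one, mul_one]
    exact ne_of_gt key

end Cfsg.Agent.S2271
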