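import Cfsg.Statements.S2272
-- import your own Cfsg.Agent.* helpers here
import Cfsg.Agent.H43.ClassProd

set_option autoImplicit false
open Cfsg

namespace Cfsg.Agent.S2272

/-- Let F be a finite field and d ≥ 3, and let a, b be non-identity elements of PSL_d(F). Then the product of the conjugacy classes of a and b is not a single conjugacy class: there are conjugates a′ of a and b′ of b such that a′b′ is not conjugate to ab. -/
theorem result {F : Type*} [Field F] [Fintype F] (d : ℕ) (hd : 3 ≤ d)
    (a b : Matrix.ProjectiveSpecialLinearGroup (Fin d) F) (ha : a ≠ 1) (hb : b ≠ 1) :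
    ∃ g h : Matrix.ProjectiveSpecialLinearGroup (Fin d) F, ¬ IsConj (a * b) (g * a * g⁻¹ * (h * b * h⁻¹)) := by
  by_contra H
  push Not at H
  obtain ⟨A, rfl⟩ := QuotientGroup.mk_surjective a
  obtain ⟨B, rfl⟩ := QuotientGroup.mk_surjective b
  have hA := Cfsg.Agent.H43.not_scalar_of_psl_ne_one A ha
  have hB := Cfsg.Agent.H43.not_scalar_of_psl_ne_one B hb
  refine Cfsg.Agent.H43.classprod_main hd A B hA hB
    (Cfsg.Agent.H43.nfix (Projectivization F (Fin d → F))
      ((A : Matrix.ProjectiveSpecialLinearGroup (Fin d) F) * B)) ?_ ?_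
  · intro G
    have h1 := H (G : Matrix.ProjectiveSpecialLinearGroup (Fin d) F) 1
    rw [one_mul, inv_one, mul_one] at h1
    exact (Cfsg.Agent.H43.nfix_isConj (Projectivization F (Fin d → F)) h1).symm
  · intro G
    have h1 := H 1 (G : Matrix.ProjectiveSpecialLinearGroup (Fin d) F)
    rw [one_mul, inv_one, mul_one] at h1
    rw [Cfsg.Agent.H43.nfix_isConj (Projectivization F (Fin d → F)) h1]
    exact Cfsg.Agent.H43.nfix_mul_comm (Projectivization F (Fin d → F))
      ((G : Matrix.ProjectiveSpecialLinearGroup (Fin d) F) * B *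
        (G : Matrix.ProjectiveSpecialLinearGroup (Fin d) F)⁻¹)
      (A : Matrix.ProjectiveSpecialLinearGroup (Fin d) F)

end Cfsg.Agent.S2272
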