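import Cfsg.Statements.S2343
import Cfsg.Agent.H96.G2L.G2Facts
import Cfsg.Agent.H22.ReeCtx
import Cfsg.Agent.H45.ReeLite
import Cfsg.Agent.H45.S43Fin

set_option autoImplicit false
open Cfsg

namespace Cfsg.Agent.S2343

/-- For the Ree group ²G₂(q), q = 3^(2m+1) with m ≥ 1 (realised over the field with q elements), every irreducible complex representation of degree at least 2 has degree at least q² − q + 1. -/
theorem result {K : Type*} [Field K] [Fintype K] (m : ℕ) (hm : 1 ≤ m) (hK : Fintype.card K = 3 ^ (2 * m + 1)) :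
    (∀ (k : ℕ) (ρ : Representation ℂ (Cfsg.Lie.twistedG2 K (3 ^ m)) (Fin k → ℂ)), ρ.IsIrreducible → 2 ≤ k → (3 ^ (2 * m + 1)) ^ 2 - 3 ^ (2 * m + 1) + 1 ≤ k) := by
  have hc : CharP K 3 := Cfsg.Agent.H22.Ree.charP_three_of_card hK
  obtain ⟨C⟩ := Cfsg.Agent.H22.Ree.exists_ctx hK (Cfsg.Agent.H96.G2L.steinberg_G2 K)
    (Cfsg.Agent.H96.G2L.factor_G2 (F := K)).1
  have hcan : Cfsg.Agent.H22.Ree.CanonG2 K := Cfsg.Agent.H96.G2L.canon_G2 K
  have hW : Cfsg.Agent.H22.Ree.WeylG2 K :=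
    Cfsg.Agent.H96.G2L.weyl_G2 K
  intro k ρ hirr hk
  exact Cfsg.Agent.H45.S43.s2343_final C hK hm hcan hW
    (fun a haH ha1 ha2 => Cfsg.Agent.H45.RL.l1152 hK a haH ha1 ha2)
    (fun S => Cfsg.Agent.H45.RL.l1157 hm hK S)
    (fun {p} _ hp P => Cfsg.Agent.H45.RL.l1156 hm hK hp P)
    (fun H hH hc => (Cfsg.Agent.H45.RL.l2359 hm hK H hH).1 hc)
    (fun H hH hc => by
      obtain ⟨h1, h2, h3, h4⟩ := (Cfsg.Agent.H45.RL.l2359 hm hK H hH).2 hc
      exact ⟨fun x hx y hy => congrArg Subtype.val (h1.is_comm.comm ⟨x, hx⟩ ⟨y, hy⟩), h2, h3, h4⟩)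
    k ρ hirr hk

end Cfsg.Agent.S2343
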