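import Cfsg.Statements.S2470
-- import your own Cfsg.Agent.* helpers here
import Cfsg.Agent.H45.PSLGraphQ

set_option autoImplicit false
open Cfsg

namespace Cfsg.Agent.S2470

/-- Adjacency of an odd prime and the characteristic in the prime graph of PSL(n,q): let F be a finite field of characteristic p with q elements, n ≥ 2 with PSL(n,F) simple, and let r ≠ p be an odd prime dividing the order of PSL(n,F), with k the multiplicative order of q modulo r. Then PSL(n,F) has NO element of order r·p if and only if either k > n − 2, or n = 3, r = 3 and 3 divides q − 1 exactly once. -/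
theorem result {F : Type*} [Field F] [Fintype F] (p : ℕ) [Fact p.Prime] [CharP F p] (n : ℕ) (hn : 2 ≤ n) (hsmall : n = 2 → 4 ≤ Fintype.card F)
    (r : ℕ) (hr : r.Prime) (hr2 : r ≠ 2) (hrp : r ≠ p) (hrG : r ∣ Nat.card (Matrix.ProjectiveSpecialLinearGroup (Fin n) F))
    (k : ℕ) (hk : k = orderOf ((Fintype.card F : ℕ) : ZMod r)) :
    (r * p ∉ Set.range (orderOf : Matrix.ProjectiveSpecialLinearGroup (Fin n) F → ℕ)) ↔
      (n - 2 < k ∨ (n = 3 ∧ r = 3 ∧ 3 ∣ Fintype.card F - 1 ∧ ¬ 9 ∣ Fintype.card F - 1)) := by
  have hkpos : 0 < k := (Cfsg.Agent.H45.ord_props (F := F) p r hr hrp k hk).1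
  rcases Nat.lt_or_ge n 3 with hn3 | hn3
  · have hn2 : n = 2 := by omega
    subst hn2
    constructor
    · intro _
      left
      omega
    · intro _
      exact Cfsg.Agent.H45.psl2_no_rp p (hsmall rfl) r hr
  rcases Nat.lt_or_ge n 4 with hn4 | hn4
  · have hn3' : n = 3 := by omega
    subst hn3'
    rw [Cfsg.Agent.H45.psl3_rp_iff p r hr hr2 hrp k hk]
    constructor
    · rintro (h | h)
      · left
        omega
      · right
        exact ⟨rfl, h⟩
    · rintro (h | ⟨-, h⟩)
      · left
        omega
      · right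
        exact h
  · constructor
    · intro hnot
      left
      by_contra hcon
      apply hnot
      obtain ⟨x, hx⟩ := Cfsg.Agent.H45.psl_exists_rp p n hn4 r hr hrp k hk (by omega)
      exact ⟨x, hx⟩
    · rintro (h | ⟨h, -⟩) ⟨x, hx⟩
      · exact Cfsg.Agent.H45.psl_no_rp p n hn3 r hr hrp k hk h x hx
      · omega

end Cfsg.Agent.S2470
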