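import Cfsg.Statements.S2477
import Cfsg.Agent.H46.AltCycle

set_option autoImplicit false
open Cfsg

namespace Cfsg.Agent.S2477

/-- The set of element orders of the alternating group of degree 10 is {1, 2, 3, 4, 5, 6, 7, 8, 9, 10, 12, 15, 21}. -/
theorem result : Set.range (orderOf : alternatingGroup (Fin 10) → ℕ) = {1, 2, 3, 4, 5, 6, 7, 8, 9, 10, 12, 15, 21} := by
  ext d
  constructor
  · rintro ⟨g, rfl⟩
    obtain ⟨m, hsum, h2, hpar, hord⟩ := Cfsg.Agent.H46.alt_cycleType_props g
    have hchk : Cfsg.Agent.H46.chkOrders [1, 2, 3, 4, 5, 6, 7, 8, 9, 10, 12, 15, 21] 30 10 10 1 true = true := by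
      decide
    have key := Cfsg.Agent.H46.chkOrders_sound _ 30 10 10 1 true hchk m
      (fun a ha => ⟨h2 a ha, le_trans (Multiset.single_le_sum (fun _ _ => Nat.zero_le _) a ha) hsum⟩)
      hsum (by simpa using hpar)
    rw [Nat.lcm_one_left, ← hord] at key
    simpa using key
  · intro hd
    have mk : ∀ m : Multiset ℕ, m.sum ≤ 10 → (∀ a ∈ m, 2 ≤ a) → Even (m.sum + m.card) → m.lcm = d →
        d ∈ Set.range (orderOf : alternatingGroup (Fin 10) → ℕ) := by
      intro m h1 h2 h3 h4
      obtain ⟨g, hg⟩ := Cfsg.Agent.H46.exists_alt_of_cycleType (n := 10) m h1 h2 h3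
      exact ⟨g, hg.trans h4⟩
    simp only [Set.mem_insert_iff, Set.mem_singleton_iff] at hd
    rcases hd with rfl | rfl | rfl | rfl | rfl | rfl | rfl | rfl | rfl | rfl | rfl | rfl | rfl
    · exact mk 0 (by decide) (by decide) (by decide) (by decide)
    · exact mk {2, 2} (by decide) (by decide) (by decide) (by decide)
    · exact mk {3} (by decide) (by decide) (by decide) (by decide)
    · exact mk {4, 2} (by decide) (by decide) (by decide) (by decide)
    · exact mk {5} (by decide) (by decide) (by decide) (by decide)
    · exact mk {3, 2, 2} (by decide) (by decide) (by decide) (by decide)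
    · exact mk {7} (by decide) (by decide) (by decide) (by decide)
    · exact mk {8, 2} (by decide) (by decide) (by decide) (by decide)
    · exact mk {9} (by decide) (by decide) (by decide) (by decide)
    · exact mk {5, 2, 2} (by decide) (by decide) (by decide) (by decide)
    · exact mk {4, 3, 2} (by decide) (by decide) (by decide) (by decide)
    · exact mk {5, 3} (by decide) (by decide) (by decide) (by decide)
    · exact mk {7, 3} (by decide) (by decide) (by decide) (by decide)

end Cfsg.Agent.S2477
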