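import Cfsg.Statements.S2495
-- import your own Cfsg.Agent.* helpers here
import Cfsg.Agent.H45.Singer

set_option autoImplicit false
open Cfsg

namespace Cfsg.Agent.S2495

/-- Let q be an odd prime power, n ≥ 4 even, and L = PSL(n,q). Then L has an element of order q^(n/2) + 1 if and only if the 2-part of n exceeds the 2-part of q − 1. -/
theorem result {F : Type*} [Field F] [Fintype F] {q : ℕ} (hF : Fintype.card F = q) (hodd : Odd q)
    {n : ℕ} (hn : 4 ≤ n) (heven : Even n) :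
    (∃ g : Matrix.ProjectiveSpecialLinearGroup (Fin n) F, orderOf g = q ^ (n / 2) + 1) ↔
      padicValNat 2 (q - 1) < padicValNat 2 n := by
  classical
  subst hF
  obtain ⟨q, hq⟩ : ∃ q, q = Fintype.card F := ⟨_, rfl⟩
  rw [← hq] at hodd ⊢
  have hq2 : 2 ≤ q := by rw [hq]; exact Fintype.one_lt_card
  have hq3 : 3 ≤ q := by obtain ⟨t, ht⟩ := hodd; omega
  obtain ⟨p, hpc⟩ := CharP.exists F
  have := hpc
  have hpfact : Fact p.Prime := ⟨CharP.char_is_prime F p⟩
  obtain ⟨m, hm⟩ := heven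
  have hm2 : n / 2 = m := by omega
  have hn2m : n = 2 * m := by omega
  obtain ⟨d, hd⟩ : ∃ d, d = Nat.gcd n (q - 1) := ⟨_, rfl⟩
  have hdq : d ∣ q - 1 := by rw [hd]; exact Nat.gcd_dvd_right _ _
  have hdn : d ∣ n := by rw [hd]; exact Nat.gcd_dvd_left _ _
  have hd0 : 0 < d := by rw [hd]; exact Nat.gcd_pos_of_pos_left _ (by omega)
  have hGn : (∑ i ∈ Finset.range n, q ^ i) = (q ^ m + 1) * ∑ i ∈ Finset.range m, q ^ i := by
    rw [hn2m]; exact H45.geom_double q m
  have hcrit := H45.two_adic_crit q n hq3 hn ⟨m, hm⟩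
  rw [← hd, hm2] at hcrit
  rw [hm2, ← hcrit, ← H45.geom_dvd_iff q m d (by omega) hdq]
  have hqm1 : 1 ≤ q ^ m := Nat.one_le_pow _ _ (by omega)
  constructor
  · rintro ⟨x, hx⟩
    obtain ⟨r, hr, hrn, hppd⟩ := Cfsg.Agent.S2904.result q n (by omega) (by omega) (by omega)
      (by omega)
    have hr1 : ¬ r ∣ q - 1 := by
      have h := hppd 1 (by omega) (by omega)
      rwa [pow_one] at h
    have hrm : r ∣ q ^ m + 1 := by
      have h1 : q ^ n - 1 = (q ^ m - 1) * (q ^ m + 1) := by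
        rw [hn2m, mul_comm 2 m, pow_mul]
        obtain ⟨a, ha⟩ : ∃ a, q ^ m = a + 1 := ⟨q ^ m - 1, by omega⟩
        rw [ha, Nat.add_sub_cancel]
        have h2 : (a + 1) ^ 2 = a * (a + 1 + 1) + 1 := by ring
        rw [h2, Nat.add_sub_cancel]
      rw [h1] at hrn
      rcases (Nat.Prime.dvd_mul hr).mp hrn with h | h
      · exact absurd h (hppd m (by omega) (by omega))
      · exact h
    obtain ⟨A, rfl⟩ := QuotientGroup.mk_surjective x
    obtain ⟨e₁, he₁⟩ := hrm
    have he₁0 : 0 < e₁ := by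
      rcases Nat.eq_zero_or_pos e₁ with h0 | h0
      · rw [h0, mul_zero] at he₁; omega
      · exact h0
    have hx1 := pow_orderOf_eq_one
      (QuotientGroup.mk A : Matrix.ProjectiveSpecialLinearGroup (Fin n) F)
    rw [hx, ← QuotientGroup.mk_pow, H45.psl_mk_eq_one_iff] at hx1
    obtain ⟨c, hc, hAc⟩ := hx1
    have hAr : (A ^ (e₁ * (q - 1))) ^ r = 1 := by
      have h1 := H45.sl_pow_eq_one_of_scalar n (by omega) A (q ^ m + 1) c hc hAc 1
      rw [← hq, mul_one, he₁] at h1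
      rw [← pow_mul, ← h1]
      congr 1
      ring
    have hA1 : A ^ (e₁ * (q - 1)) ≠ 1 := by
      intro h
      have h1 : (QuotientGroup.mk A : Matrix.ProjectiveSpecialLinearGroup (Fin n) F) ^
          (e₁ * (q - 1)) = 1 := by
        rw [← QuotientGroup.mk_pow, h]
        rfl
      have h2 := orderOf_dvd_of_pow_eq_one h1
      rw [hx, he₁, mul_comm r e₁] at h2
      exact hr1 (Nat.dvd_of_mul_dvd_mul_left he₁0 h2)
    have hirr := H45.singer_irreducible p n (by omega) r hr (by rw [← hq]; exact hrn)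
      (by rw [← hq]; exact hppd) A _ hAr hA1
    obtain ⟨e, he⟩ : d ∣ ∑ i ∈ Finset.range n, q ^ i :=
      (H45.geom_dvd_iff q n d (by omega) hdq).mpr hdn
    have hxe := H45.singer_pow_eq_one n (by omega) A hirr e (by rw [← hq, ← hd]; exact he)
    have h3 := orderOf_dvd_of_pow_eq_one hxe
    rw [hx] at h3
    obtain ⟨e', he'⟩ := h3
    refine ⟨e', ?_⟩
    have h4 : (q ^ m + 1) * ∑ i ∈ Finset.range m, q ^ i = (q ^ m + 1) * (d * e') := by
      rw [← hGn, he, he']
      ring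
    exact Nat.eq_of_mul_eq_mul_left (by omega) h4
  · rintro ⟨e', he'⟩
    obtain ⟨B, hB⟩ := H45.singer_sl (F := F) p n (by omega)
    obtain ⟨J, hJ⟩ : ∃ J, J = orderOf
      (QuotientGroup.mk B : Matrix.ProjectiveSpecialLinearGroup (Fin n) F) := ⟨_, rfl⟩
    have hJ0 : J ≠ 0 := by
      rw [hJ]
      exact (orderOf_pos _).ne'
    have h1 := hB J (by rw [hJ]; exact pow_orderOf_eq_one _)
    rw [← hq, ← hd, hGn, he'] at h1
    have h2 : (q ^ m + 1) ∣ J := by
      have h3 : d * (q ^ m + 1) ∣ d * J := by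
        have h4 : d * (q ^ m + 1) ∣ (q ^ m + 1) * (d * e') := ⟨e', by ring⟩
        have h5 := dvd_trans h4 h1
        rwa [mul_comm J d] at h5
      exact Nat.dvd_of_mul_dvd_mul_left hd0 h3
    refine ⟨(QuotientGroup.mk B) ^ (J / (q ^ m + 1)), ?_⟩
    rw [hJ] at h2 hJ0 ⊢
    exact orderOf_pow_orderOf_div hJ0 h2

end Cfsg.Agent.S2495
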