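import Cfsg.Statements.S2496
-- import your own Cfsg.Agent.* helpers here
import Cfsg.Agent.H45.SingerU

set_option autoImplicit false
open Cfsg

namespace Cfsg.Agent.S2496

/-- Let q be an odd prime power, n ≥ 4 even, and U = PSU(n,q) (realised over the field with q² elements). Then U has an element of order q^(n/2) + (−1)^(n/2) — that is, q^(n/2) + 1 when n/2 is even and q^(n/2) − 1 when n/2 is odd — if and only if the 2-part of n exceeds the 2-part of q + 1. -/
theorem result {F : Type*} [Field F] [Fintype F] {q : ℕ} (hF : Fintype.card F = q ^ 2) (hodd : Odd q)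
    {n : ℕ} (hn : 4 ≤ n) (heven : Even n) :
    (∃ g : Cfsg.PSU n F q, orderOf g = if Even (n / 2) then q ^ (n / 2) + 1 else q ^ (n / 2) - 1) ↔
      padicValNat 2 (q + 1) < padicValNat 2 n := by
  have hq2 := Cfsg.Agent.H7.two_le_of_card_sq hF
  have hq3 : 3 ≤ q := by obtain ⟨t, ht⟩ := hodd; omega
  obtain ⟨p, hpc⟩ := CharP.exists F
  have := hpc
  have hpfact : Fact p.Prime := ⟨CharP.char_is_prime F p⟩
  obtain ⟨m, hm⟩ := heven
  have hm2 : n / 2 = m := by omega
  have hn2m : n = 2 * m := by omega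
  obtain ⟨d, hd⟩ : ∃ d, d = Nat.gcd n (q + 1) := ⟨_, rfl⟩
  have hdq : d ∣ q + 1 := by rw [hd]; exact Nat.gcd_dvd_right _ _
  have hdn : d ∣ n := by rw [hd]; exact Nat.gcd_dvd_left _ _
  have hd0 : 0 < d := by rw [hd]; exact Nat.gcd_pos_of_pos_left _ (by omega)
  have hcrit := H45.two_adic_crit (q + 2) n (by omega) hn ⟨m, hm⟩
  have e2 : q + 2 - 1 = q + 1 := rfl
  rw [e2, ← hd, hm2] at hcrit
  rw [hm2, ← hcrit]
  obtain ⟨M', hM', hM'd⟩ := H45.su_arith q m d hq2 hdq
  rw [← hM'd]
  generalize hN : (if Even m then q ^ m + 1 else q ^ m - 1) = N at hM' ⊢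
  have hqm : 3 ≤ q ^ m := by
    calc 3 ≤ q := hq3
      _ = q ^ 1 := (pow_one q).symm
      _ ≤ q ^ m := Nat.pow_le_pow_right (by omega) (by omega)
  have hN0 : 0 < N := by
    rw [← hN]
    split_ifs <;> omega
  have hNdvd : N ∣ (q ^ m - 1) * (q ^ m + 1) := by
    rw [← hN]
    split_ifs
    · exact dvd_mul_left _ _
    · exact dvd_mul_right _ _
  have hsq : ∀ j : ℕ, q ^ (2 * j) - 1 = (q ^ j - 1) * (q ^ j + 1) := by
    intro j
    rw [mul_comm 2 j, pow_mul]
    obtain ⟨a, ha⟩ : ∃ a, q ^ j = a + 1 := ⟨q ^ j - 1, by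
      have : 1 ≤ q ^ j := Nat.one_le_pow _ _ (by omega)
      omega⟩
    rw [ha, Nat.add_sub_cancel]
    have h2 : (a + 1) ^ 2 = a * (a + 1 + 1) + 1 := by ring
    rw [h2, Nat.add_sub_cancel]
  obtain ⟨G, hG⟩ : ∃ G, G = (∑ i ∈ Finset.range m, (q ^ 2) ^ i) * (q - 1) := ⟨_, rfl⟩
  rw [← hG] at hM'
  classical
  constructor
  · rintro ⟨x, hx⟩
    have hr : ∃ r : ℕ, r.Prime ∧ r ∣ N ∧ (∀ k : ℕ, r ∣ (q ^ 2) ^ k - 1 → m ∣ k) ∧
        (∀ j : ℕ, Odd j → ¬ r ∣ q ^ j + 1) := by
      by_cases hme : Even m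
      · obtain ⟨r, hr, hrn, hppd⟩ := Cfsg.Agent.S2904.result q n (by omega) (by omega)
          (by omega) (by omega)
        have hdvd := H45.ppd_dvd r q n (by omega) (by omega) hrn hppd
        refine ⟨r, hr, ?_, ?_, ?_⟩
        · rw [← hN, if_pos hme]
          rw [hn2m, hsq] at hrn
          rcases (Nat.Prime.dvd_mul hr).mp hrn with h | h
          · exact absurd h (hppd m (by omega) (by omega))
          · exact h
        · intro k hk
          rw [← pow_mul] at hk
          have h2 := hdvd (2 * k) hk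
          rw [hn2m] at h2
          exact Nat.dvd_of_mul_dvd_mul_left (by omega) h2
        · intro j hj hrj
          have h1 : r ∣ q ^ (2 * j) - 1 := by
            rw [hsq]
            exact dvd_mul_of_dvd_right hrj _
          have h2 := hdvd _ h1
          rw [hn2m] at h2
          have h3 : m ∣ j := Nat.dvd_of_mul_dvd_mul_left (by omega) h2
          obtain ⟨s, hs⟩ := hme
          obtain ⟨c, hc⟩ := h3
          obtain ⟨b, hb⟩ := hj
          have h4 : j = 2 * (s * c) := by rw [hc, hs]; ring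
          omega
      · have hmodd : Odd m := Nat.not_even_iff_odd.mp hme
        have hm3 : 3 ≤ m := by obtain ⟨b, hb⟩ := hmodd; omega
        obtain ⟨r, hr, hrn, hppd⟩ := Cfsg.Agent.S2904.result q m (by omega) (by omega)
          (by omega) (by omega)
        have hdvd := H45.ppd_dvd r q m (by omega) (by omega) hrn hppd
        have hr1 : ¬ r ∣ q - 1 := by
          have h := hppd 1 (by omega) (by omega)
          rwa [pow_one] at h
        have hr2 : r ≠ 2 := by
          rintro rfl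
          apply hr1
          obtain ⟨b, hb⟩ := hodd
          exact ⟨b, by omega⟩
        have hcop2 : Nat.Coprime m 2 := Nat.Coprime.symm (Nat.coprime_two_left.mpr hmodd)
        refine ⟨r, hr, ?_, ?_, ?_⟩
        · rw [← hN, if_neg hme]
          exact hrn
        · intro k hk
          rw [← pow_mul] at hk
          exact hcop2.dvd_of_dvd_mul_left (hdvd (2 * k) hk)
        · intro j hj hrj
          have h1 : r ∣ q ^ (2 * j) - 1 := by
            rw [hsq]
            exact dvd_mul_of_dvd_right hrj _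
          have h3 : m ∣ j := hcop2.dvd_of_dvd_mul_left (hdvd _ h1)
          have h4 : r ∣ q ^ j - 1 := by
            obtain ⟨c, hc⟩ := h3
            rw [hc, pow_mul]
            have h5 := Nat.sub_dvd_pow_sub_pow (q ^ m) 1 c
            rw [one_pow] at h5
            exact dvd_trans hrn h5
          have h5 : r ∣ 2 := by
            have h6 := Nat.dvd_sub hrj h4
            have e : q ^ j + 1 - (q ^ j - 1) = 2 := by
              have : 1 ≤ q ^ j := Nat.one_le_pow _ _ (by omega)
              omega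
            rwa [e] at h6
          exact hr2 ((Nat.prime_dvd_prime_iff_eq hr Nat.prime_two).mp h5)
    obtain ⟨r, hr, hrN, hrm, hrodd⟩ := hr
    have hrp : r ≠ p := by
      rintro rfl
      obtain ⟨a, -, ha⟩ := FiniteField.card F r
      have h1 : r ∣ q := by
        have h2 : r ∣ q ^ 2 := by
          rw [← hF, ha]
          exact dvd_pow_self r a.pos.ne'
        exact hr.dvd_of_dvd_pow h2
      have h3 : r ∣ q ^ (2 * m) := dvd_pow h1 (by omega)
      have h4 : r ∣ q ^ (2 * m) - 1 := by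
        rw [hsq]
        exact dvd_trans hrN hNdvd
      have h5 : r ∣ 1 := by
        have h6 := Nat.dvd_sub h3 h4
        rwa [Nat.sub_sub_self (Nat.one_le_pow _ _ (by omega))] at h6
      exact hr.one_lt.ne' (Nat.dvd_one.mp h5)
    obtain ⟨A, rfl⟩ := QuotientGroup.mk_surjective x
    obtain ⟨e₁, he₁⟩ := hrN
    have he₁0 : 0 < e₁ := by
      rcases Nat.eq_zero_or_pos e₁ with h0 | h0
      · rw [h0, mul_zero] at he₁; omega
      · exact h0
    have hcenter : ∀ j : ℕ, (QuotientGroup.mk A : Cfsg.PSU n F q) ^ j = 1 → A ^ (j * d) = 1 := by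
      intro j hj
      rw [← QuotientGroup.mk_pow, QuotientGroup.eq_one_iff] at hj
      have h1 : (⟨A ^ j, hj⟩ : ↥(Subgroup.center ↥(Cfsg.SU n F q))) ^
          Nat.card ↥(Subgroup.center ↥(Cfsg.SU n F q)) = 1 := pow_card_eq_one'
      rw [Cfsg.Agent.H7.card_center_SU hF n (by omega), ← hd] at h1
      have h3 := congrArg (Subtype.val : ↥(Subgroup.center ↥(Cfsg.SU n F q)) →
        ↥(Cfsg.SU n F q)) h1
      rw [Subgroup.coe_pow] at h3
      rw [pow_mul]
      exact h3
    have hAr : (A ^ (e₁ * d)) ^ r = 1 := by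
      have h1 := hcenter N (by rw [← hx]; exact pow_orderOf_eq_one _)
      rw [← pow_mul, ← h1]
      congr 1
      rw [he₁]
      ring
    have hA1 : A ^ (e₁ * d) ≠ 1 := by
      intro h
      have h1 : (QuotientGroup.mk A : Cfsg.PSU n F q) ^ (e₁ * d) = 1 := by
        rw [← QuotientGroup.mk_pow, h]
        rfl
      have h2 := orderOf_dvd_of_pow_eq_one h1
      rw [hx, he₁, mul_comm r e₁] at h2
      have h3 : r ∣ d := Nat.dvd_of_mul_dvd_mul_left he₁0 h2
      exact hrodd 1 odd_one (by rw [pow_one]; exact dvd_trans h3 hdq)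
    obtain ⟨A₀, hA₀⟩ : ∃ A₀ : Matrix.SpecialLinearGroup (Fin n) F, A₀ = A.1 := ⟨_, rfl⟩
    have hA₀mem : ∀ u v, hermForm n F q (A₀.1.mulVec u) (A₀.1.mulVec v) = hermForm n F q u v := by
      rw [hA₀]
      exact (Cfsg.Agent.H7.mem_SU_iff n q A.1).mp A.2
    have hAr₀ : (A₀ ^ (e₁ * d)) ^ r = 1 := by
      have h1 := congrArg (Subtype.val : ↥(Cfsg.SU n F q) →
        Matrix.SpecialLinearGroup (Fin n) F) hAr
      rw [Subgroup.coe_pow, Subgroup.coe_pow] at h1
      rw [hA₀]
      exact h1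
    have hA1₀ : A₀ ^ (e₁ * d) ≠ 1 := by
      intro h
      apply hA1
      apply Subtype.ext
      rw [Subgroup.coe_pow, ← hA₀, h]
      rfl
    obtain ⟨σ, hσq⟩ := Cfsg.Agent.H7.exists_frobQ hF
    obtain ⟨h, hhm, hh, hhd, hh0, hnsd, hχ⟩ := H45.su_singer_charpoly hF σ hσq p n m hn2m r hr
      hrp (by rw [hF]; exact hrm) hrodd A₀ hA₀mem _ hAr₀ hA1₀
    obtain ⟨e, he⟩ : d ∣ G := by
      rw [hG]
      exact H45.su_arith_dvd q m d (by omega) hdq (by rw [← hn2m]; exact hdn)
    obtain ⟨c, hc, hAe⟩ := H45.su_singer_pow hF σ hσq n m hn2m A₀ h hhm hh hhd hh0 hnsd hχ e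
      (by rw [← hd, ← hG]; exact he)
    have hxe : (QuotientGroup.mk A : Cfsg.PSU n F q) ^ e = 1 := by
      rw [← QuotientGroup.mk_pow, QuotientGroup.eq_one_iff, Subgroup.mem_center_iff]
      intro g
      apply Subtype.ext
      apply Subtype.ext
      rw [Subgroup.coe_mul, Subgroup.coe_mul, Matrix.SpecialLinearGroup.coe_mul,
        Matrix.SpecialLinearGroup.coe_mul, Subgroup.coe_pow, Matrix.SpecialLinearGroup.coe_pow,
        ← hA₀, hAe]
      exact (Algebra.commutes c (g.1.1 : Matrix (Fin n) (Fin n) F)).symm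
    have h3 := orderOf_dvd_of_pow_eq_one hxe
    rw [hx] at h3
    obtain ⟨e', he'⟩ := h3
    refine ⟨e', ?_⟩
    have h4 : N * M' = N * (d * e') := by
      rw [← hM', he, he']
      ring
    exact Nat.eq_of_mul_eq_mul_left hN0 h4
  · rintro ⟨e', he'⟩
    obtain ⟨B, hB⟩ := H45.su_singer_exists hF p n m (by omega) hn2m
    obtain ⟨J, hJ⟩ : ∃ J, J = orderOf (QuotientGroup.mk B : Cfsg.PSU n F q) := ⟨_, rfl⟩
    have hJ0 : J ≠ 0 := by
      rw [hJ]
      exact (orderOf_pos _).ne'
    have h1 := hB J (by rw [hJ]; exact pow_orderOf_eq_one _)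
    rw [← hd, ← hG, hM', he'] at h1
    have h2 : N ∣ J := by
      have h3 : d * N ∣ d * J := by
        have h4 : d * N ∣ N * (d * e') := ⟨e', by ring⟩
        have h5 := dvd_trans h4 h1
        rwa [mul_comm J d] at h5
      exact Nat.dvd_of_mul_dvd_mul_left hd0 h3
    refine ⟨(QuotientGroup.mk B) ^ (J / N), ?_⟩
    rw [hJ] at h2 hJ0 ⊢
    exact orderOf_pow_orderOf_div hJ0 h2

end Cfsg.Agent.S2496
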