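import Cfsg.Statements.S2756
import Cfsg.Agent.H57.RFTwo

set_option autoImplicit false
set_option linter.unusedVariables false
open Cfsg

namespace Cfsg.Agent.S2756

open Cfsg.Agent.H57.RF Cfsg.Agent.H29

/-- If for every odd prime `q` no nontrivial element of a Sylow `q`-subgroup `T` is inverted
inside `N(Z(J(T)))`, then the Sylow `2`-subgroups are normal. -/
theorem normal_of_HN_all {G : Type*} [Group G] [Finite G]
    (h : ∀ (q : ℕ) [Fact q.Prime], q ≠ 2 → ∀ T : Sylow q G, HN (T : Subgroup G))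
    (P : Sylow 2 G) : (P : Subgroup G).Normal := by
  apply normal_sylow_two_of_rf
  intro q hq hq2
  obtain ⟨T⟩ : Nonempty (Sylow q G) := inferInstance
  exact rf_of_HN hq2 _ G rfl T (h q hq2 T)

/-- For a finite group G the following are equivalent: (a) G has a normal Sylow 2-subgroup; (b) for every odd prime q dividing the order of G and every Sylow q-subgroup T, the normalizer of Z(J(T)) has a normal Sylow 2-subgroup; (c) for every odd prime q and every Sylow q-subgroup T, no nonidentity element of T is inverted by an element of the normalizer of Z(J(T)). Here J(T) is the Thompson subgroup generated by the abelian subgroups of T of largest order. Stated as the two equivalences (a) ⇔ (b) and (a) ⇔ (c). -/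
theorem result {G : Type*} [Group G] [Finite G] : ((∀ P : Sylow 2 G, (P : Subgroup G).Normal) ↔ ∀ (q : ℕ) [Fact q.Prime], q ≠ 2 → q ∣ Nat.card G → ∀ T : Sylow q G, ∀ P : Sylow 2 ↥(Subgroup.normalizer (Cfsg.centerThompsonAOf (T : Subgroup G) : Set G)), (P : Subgroup ↥(Subgroup.normalizer (Cfsg.centerThompsonAOf (T : Subgroup G) : Set G))).Normal) ∧ ((∀ P : Sylow 2 G, (P : Subgroup G).Normal) ↔ ∀ (q : ℕ) [Fact q.Prime], q ≠ 2 → ∀ T : Sylow q G, ∀ x ∈ (T : Subgroup G), x ≠ 1 → ∀ g ∈ Subgroup.normalizer (Cfsg.centerThompsonAOf (T : Subgroup G) : Set G), g * x * g⁻¹ ≠ x⁻¹) := by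
  refine ⟨⟨fun ha q hq hq2 hqd T P => sylow_normal_subgroup ha _ P, fun hb => ?_⟩,
    ⟨fun ha => ?_, fun hc => ?_⟩⟩
  · -- (b) ⇒ (a)
    apply normal_of_HN_all
    intro q hq hq2 T x hx g hg hinv
    by_contra hx1
    obtain ⟨k, hk⟩ := T.isPGroup' ⟨x, hx⟩
    have hk' : x ^ q ^ k = 1 := congrArg Subtype.val hk
    have hqd : q ∣ Nat.card G := by
      obtain ⟨i, -, hi⟩ := (Nat.dvd_prime_pow hq.out).mp (orderOf_dvd_of_pow_eq_one hk')
      have hi0 : i ≠ 0 := by
        rintro rfl
        rw [pow_zero] at hi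
        exact hx1 (orderOf_eq_one_iff.mp hi)
      have h1 : q ∣ orderOf x := by rw [hi]; exact dvd_pow_self q hi0
      exact h1.trans (orderOf_dvd_natCard x)
    rw [← centerThompsonAOf_eq] at hg
    have hb' := hb q hq2 hqd T
    have hrf : RF q ↥(Subgroup.normalizer (Cfsg.centerThompsonAOf (T : Subgroup G) : Set G)) :=
      rf_of_normal_sylow_two hb' hq2
    have hxN : x ∈ Subgroup.normalizer (Cfsg.centerThompsonAOf (T : Subgroup G) : Set G) := by
      rw [centerThompsonAOf_eq]
      exact (normalizer_le_normalizer_nZ 0 _) (Subgroup.le_normalizer hx)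
    have h1 := hrf ⟨x, hxN⟩ ⟨g, hg⟩ ⟨k, Subtype.ext hk'⟩ (Subtype.ext hinv)
    exact hx1 (congrArg Subtype.val h1)
  · -- (a) ⇒ (c)
    intro q hq hq2 T x hx hx1 g hg hinv
    obtain ⟨k, hk⟩ := T.isPGroup' ⟨x, hx⟩
    have hk' : x ^ q ^ k = 1 := congrArg Subtype.val hk
    exact hx1 (rf_of_normal_sylow_two ha hq2 x g ⟨k, hk'⟩ hinv)
  · -- (c) ⇒ (a)
    apply normal_of_HN_all
    intro q hq hq2 T x hx g hg hinv
    by_contra hx1
    rw [← centerThompsonAOf_eq] at hg
    exact hc q hq2 T x hx hx1 g hg hinv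

end Cfsg.Agent.S2756
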