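import Cfsg.Statements.S2802
import Cfsg.Agent.H52.PReduced

set_option autoImplicit false
open Cfsg

namespace Cfsg.Agent.S2802

/-- Let L be a finite group and p a prime with C_L(O_p(L)) ≤ O_p(L), T a Sylow p-subgroup of L and R a subgroup with T ≤ R. If X is a p-reduced normal subgroup of R (normal in R, elementary abelian, O_p(R/C_R(X)) = 1), then the normal closure of X in L is a p-reduced normal subgroup of L. -/
theorem result {L : Type*} [Group L] [Finite L] {p : ℕ} [Fact p.Prime] (hchar : Subgroup.centralizer (Cfsg.pCore p L : Set L) ≤ Cfsg.pCore p L) (T : Sylow p L) (R : Subgroup L) (hTR : (T : Subgroup L) ≤ R) (X : Subgroup ↥R) (hX : Cfsg.IsPReducedNormal p X) : Cfsg.IsPReducedNormal p (Subgroup.normalClosure ((X.map R.subtype : Subgroup L) : Set L)) := by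
  have hQT : Cfsg.pCore p L ≤ T := (Cfsg.Agent.H52.pCore_isPGroup p L).le_sylow_of_normal T
  have hQR : Cfsg.pCore p L ≤ R := hQT.trans hTR
  have h1 : (Cfsg.pCore p L).subgroupOf R ≤ Subgroup.centralizer (X : Set ↥R) :=
    (Cfsg.Agent.H52.le_pCore (Subgroup.Normal.subgroupOf (Cfsg.pCore_normal p L) R)
      ((Cfsg.Agent.H52.pCore_isPGroup p L).comap_subtype)).trans
      (Cfsg.Agent.H52.pReduced_pCore_le_centralizer hX)
  have hX'Q : X.map R.subtype ≤ Subgroup.centralizer (Cfsg.pCore p L : Set L) := by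
    rintro _ ⟨x, hx, rfl⟩
    rw [Subgroup.mem_centralizer_iff]
    intro q hq
    have h2 := h1 (show (⟨q, hQR hq⟩ : ↥R) ∈ (Cfsg.pCore p L).subgroupOf R from
      Subgroup.mem_subgroupOf.mpr hq)
    have h3 := (Subgroup.mem_centralizer_iff.mp h2) x hx
    have h4 := congrArg Subtype.val h3
    exact h4.symm
  have hX'leQ : X.map R.subtype ≤ Cfsg.pCore p L := hX'Q.trans hchar
  have hX'Ω : X.map R.subtype ≤ Cfsg.omegaOne p (Cfsg.pCore p L ⊓
      Subgroup.centralizer (Cfsg.pCore p L : Set L)) := by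
    intro x' hx'
    apply Subgroup.subset_closure
    refine ⟨⟨hX'leQ hx', hX'Q hx'⟩, ?_⟩
    obtain ⟨x, hx, rfl⟩ := hx'
    have h5 := hX.2.1.2 x hx
    have h6 := congrArg Subtype.val h5
    simpa using h6
  have hVΩ : Subgroup.normalClosure ((X.map R.subtype : Subgroup L) : Set L) ≤
      Cfsg.omegaOne p (Cfsg.pCore p L ⊓ Subgroup.centralizer (Cfsg.pCore p L : Set L)) :=
    Subgroup.normalClosure_le_normal hX'Ω
  rw [Cfsg.Agent.H52.isPReducedNormal_iff]
  refine ⟨Subgroup.normalClosure_normal, Cfsg.Agent.H52.isElementaryAbelian_of_le hVΩ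
    (Cfsg.Agent.H52.omegaOne_center_elementary p (Cfsg.pCore p L)), ?_⟩
  intro D hD hDp
  suffices hDX : D ≤ Subgroup.centralizer ((X.map R.subtype : Subgroup L) : Set L) by
    rw [Subgroup.le_centralizer_iff]
    haveI := hD
    exact Subgroup.normalClosure_le_normal (Subgroup.le_centralizer_iff.mp hDX)
  haveI hVn : (Subgroup.normalClosure ((X.map R.subtype : Subgroup L) : Set L)).Normal :=
    Subgroup.normalClosure_normal
  haveI hCn : (Subgroup.centralizer
      ((Subgroup.normalClosure ((X.map R.subtype : Subgroup L) : Set L) : Subgroup L) : Set L)).Normal :=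
    Subgroup.normal_centralizer
  have hCX' : Subgroup.centralizer
      ((Subgroup.normalClosure ((X.map R.subtype : Subgroup L) : Set L) : Subgroup L) : Set L) ≤
      Subgroup.centralizer ((X.map R.subtype : Subgroup L) : Set L) :=
    Subgroup.centralizer_le Subgroup.subset_normalClosure
  haveI := hD
  have hD'n : (D ⊔ Subgroup.centralizer
      ((Subgroup.normalClosure ((X.map R.subtype : Subgroup L) : Set L) : Subgroup L) : Set L)).Normal :=
    inferInstance
  have hD'p : ∀ d ∈ D ⊔ Subgroup.centralizer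
      ((Subgroup.normalClosure ((X.map R.subtype : Subgroup L) : Set L) : Subgroup L) : Set L),
      ∃ k : ℕ, d ^ p ^ k ∈ Subgroup.centralizer
      ((Subgroup.normalClosure ((X.map R.subtype : Subgroup L) : Set L) : Subgroup L) : Set L) := by
    intro d hd
    obtain ⟨a, ha, c, hc, rfl⟩ := Subgroup.mem_sup_of_normal_right.mp hd
    obtain ⟨k, hk⟩ := hDp a ha
    exact ⟨k, Cfsg.Agent.H52.mul_pow_mem_of_normal hk hc⟩
  obtain ⟨-, -, hXred⟩ := (Cfsg.Agent.H52.isPReducedNormal_iff X).mp hX
  have hDR : (D ⊔ Subgroup.centralizer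
      ((Subgroup.normalClosure ((X.map R.subtype : Subgroup L) : Set L) : Subgroup L) : Set L)).subgroupOf R ≤
      Subgroup.centralizer (X : Set ↥R) := by
    apply hXred _ (hD'n.subgroupOf R)
    intro d hd
    obtain ⟨k, hk⟩ := hD'p d (Subgroup.mem_subgroupOf.mp hd)
    refine ⟨k, ?_⟩
    rw [Subgroup.mem_centralizer_iff]
    intro x hx
    have h7 := (Subgroup.mem_centralizer_iff.mp (hCX' hk)) (x : L) (Subgroup.mem_map_of_mem _ hx)
    apply Subtype.ext
    push_cast
    exact h7
  intro d hd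
  obtain ⟨t, ht, htd⟩ := Cfsg.Agent.H52.exists_sylow_rep _ _ hD'n hD'p T d
    (Subgroup.mem_sup_left hd)
  have htD' : t ∈ D ⊔ Subgroup.centralizer
      ((Subgroup.normalClosure ((X.map R.subtype : Subgroup L) : Set L) : Subgroup L) : Set L) := by
    have e : t = d * (t⁻¹ * d)⁻¹ := by group
    rw [e]
    exact Subgroup.mul_mem _ (Subgroup.mem_sup_left hd)
      (Subgroup.mem_sup_right (Subgroup.inv_mem _ htd))
  have htX : t ∈ Subgroup.centralizer ((X.map R.subtype : Subgroup L) : Set L) := by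
    have h := hDR (show (⟨t, hTR ht⟩ : ↥R) ∈ _ from Subgroup.mem_subgroupOf.mpr htD')
    rw [Subgroup.mem_centralizer_iff] at h ⊢
    rintro _ ⟨x, hx, rfl⟩
    exact congrArg Subtype.val (h x hx)
  have e : d = t * (t⁻¹ * d) := by group
  rw [e]
  exact Subgroup.mul_mem _ htX (hCX' htd)

end Cfsg.Agent.S2802
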