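import Cfsg.Statements.S2803
import Cfsg.Agent.H52.PReduced
import Cfsg.Agent.S2802

set_option autoImplicit false
open Cfsg

namespace Cfsg.Agent.S2803

/-- Let L be a finite group and p a prime with C_L(O_p(L)) ≤ O_p(L), T a Sylow p-subgroup, and Y the largest p-reduced normal subgroup of L. Put T_L = C_T(Y) and L_T = N_L(T_L). Then L = L_T · C_L(Y) (elementwise), T_L = O_p(L_T), and Y = Ω₁(Z(T_L)). -/
theorem result {L : Type*} [Group L] [Finite L] {p : ℕ} [Fact p.Prime] (hchar : Subgroup.centralizer (Cfsg.pCore p L : Set L) ≤ Cfsg.pCore p L) (T : Sylow p L) (Y : Subgroup L) (hY : (Cfsg.IsPReducedNormal p Y ∧ ∀ V : Subgroup L, Cfsg.IsPReducedNormal p V → V ≤ Y)) (TL : Subgroup L) (hTL : TL = (T : Subgroup L) ⊓ Subgroup.centralizer (Y : Set L)) : (∀ g : L, ∃ a ∈ Subgroup.normalizer (TL : Set L), ∃ c ∈ Subgroup.centralizer (Y : Set L), g = a * c) ∧ (Cfsg.pCore p ↥(Subgroup.normalizer (TL : Set L))).map (Subgroup.normalizer (TL : Set L)).subtype = TL ∧ Y = Cfsg.omegaOne p (TL ⊓ Subgroup.centralizer (TL : Set L)) := by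
  obtain ⟨hYred, hYmax⟩ := hY
  haveI hYn : Y.Normal := hYred.1
  haveI hCn : (Subgroup.centralizer (Y : Set L)).Normal := Subgroup.normal_centralizer
  obtain ⟨-, -, hYprop⟩ := (Cfsg.Agent.H52.isPReducedNormal_iff Y).mp hYred
  -- Sylow of C
  obtain ⟨P, hP⟩ := Cfsg.Agent.H52.sylow_inf_of_normalized T ⊤ (Subgroup.centralizer (Y : Set L))
    le_top le_top (fun m _ c hc => hCn.conj_mem c hc m)
  have hPmap : (P : Subgroup ↥(Subgroup.centralizer (Y : Set L))).map
      (Subgroup.centralizer (Y : Set L)).subtype = TL := by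
    rw [hP, Subgroup.subgroupOf_map_subtype, hTL]
  have hfrat : Subgroup.normalizer (TL : Set L) ⊔ Subgroup.centralizer (Y : Set L) = ⊤ := by
    have h := Sylow.normalizer_sup_eq_top P
    rw [hPmap] at h
    exact h
  have hTLT : TL ≤ T := by rw [hTL]; exact inf_le_left
  have hTLC : TL ≤ Subgroup.centralizer (Y : Set L) := by rw [hTL]; exact inf_le_right
  have hTLp : IsPGroup p TL := T.2.to_le hTLT
  have hTLge : (T : Subgroup L) ⊓ Subgroup.centralizer (Y : Set L) ≤ TL := by rw [hTL]
  have hTN : (T : Subgroup L) ≤ Subgroup.normalizer (TL : Set L) := by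
    apply Cfsg.Agent.H52.le_normalizer_of_conj_mem
    intro t ht x hx
    rw [hTL] at hx ⊢
    exact ⟨(T : Subgroup L).mul_mem ((T : Subgroup L).mul_mem ht hx.1) ((T : Subgroup L).inv_mem ht),
      hCn.conj_mem x hx.2 t⟩
  -- Y ≤ Ω₁(Z(TL))
  have hYT : Y ≤ T := (Cfsg.Agent.H52.pReduced_le_pCore hYred).trans
    ((Cfsg.Agent.H52.pCore_isPGroup p L).le_sylow_of_normal T)
  have hYab : Y ≤ Subgroup.centralizer (Y : Set L) := by
    intro y hy
    rw [Subgroup.mem_centralizer_iff]
    intro y' hy'
    have := hYred.2.1.1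
    have h2 : ((⟨y', hy'⟩ : ↥Y) * ⟨y, hy⟩ : ↥Y) = ⟨y, hy⟩ * ⟨y', hy'⟩ := mul_comm' _ _
    exact congrArg Subtype.val h2
  have hYTL : Y ≤ TL := by
    rw [hTL]; exact le_inf hYT hYab
  have hYΩ : Y ≤ Cfsg.omegaOne p (TL ⊓ Subgroup.centralizer (TL : Set L)) := by
    intro y hy
    apply Subgroup.subset_closure
    exact ⟨⟨hYTL hy, (Subgroup.le_centralizer_iff.mp hTLC) hy⟩, hYred.2.1.2 y hy⟩
  -- key: normal subgroups of N acting as p-groups mod C lie in C
  have keyC : ∀ D0 : Subgroup ↥(Subgroup.normalizer (TL : Set L)), D0.Normal →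
      (∀ d ∈ D0, ∃ k : ℕ, (d : L) ^ p ^ k ∈ Subgroup.centralizer (Y : Set L)) →
      D0.map (Subgroup.normalizer (TL : Set L)).subtype ≤ Subgroup.centralizer (Y : Set L) := by
    intro D0 hD0 hD0p
    have hnorm : (D0.map (Subgroup.normalizer (TL : Set L)).subtype ⊔
        Subgroup.centralizer (Y : Set L)).Normal := by
      rw [← Subgroup.normalizer_eq_top_iff, eq_top_iff, ← hfrat]
      apply sup_le
      · apply Cfsg.Agent.H52.le_normalizer_of_conj_mem
        intro n hn w hw
        refine Cfsg.Agent.H52.conj_mem_sup ?_ ?_ hw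
        · rintro _ ⟨q, hq, rfl⟩
          exact ⟨⟨n, hn⟩ * q * ⟨n, hn⟩⁻¹, hD0.conj_mem q hq ⟨n, hn⟩, rfl⟩
        · intro c hc
          exact hCn.conj_mem c hc n
      · exact le_sup_right.trans Subgroup.le_normalizer
    have hle := hYprop _ hnorm (by
      intro d hd
      obtain ⟨a, ha, c, hc, rfl⟩ := Subgroup.mem_sup_of_normal_right.mp hd
      obtain ⟨q, hq, rfl⟩ := ha
      obtain ⟨k, hk⟩ := hD0p q hq
      exact ⟨k, Cfsg.Agent.H52.mul_pow_mem_of_normal hk hc⟩)
    exact le_sup_left.trans hle
  refine ⟨?_, ?_, ?_⟩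
  · intro g
    have hg : g ∈ Subgroup.normalizer (TL : Set L) ⊔ Subgroup.centralizer (Y : Set L) := by
      rw [hfrat]; exact Subgroup.mem_top g
    obtain ⟨a, ha, c, hc, rfl⟩ := Subgroup.mem_sup_of_normal_right.mp hg
    exact ⟨a, ha, c, hc, rfl⟩
  · apply le_antisymm
    · -- Q1 ≤ TL
      have hQ1C : (Cfsg.pCore p ↥(Subgroup.normalizer (TL : Set L))).map
          (Subgroup.normalizer (TL : Set L)).subtype ≤ Subgroup.centralizer (Y : Set L) := by
        apply keyC _ (Cfsg.pCore_normal p _)
        intro d hd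
        obtain ⟨k, hk⟩ := Cfsg.Agent.H52.pCore_isPGroup p _ ⟨d, hd⟩
        refine ⟨k, ?_⟩
        have h2 : (d : L) ^ p ^ k = 1 := by
          have := congrArg Subtype.val (congrArg Subtype.val hk)
          simpa using this
        rw [h2]; exact one_mem _
      have hsupp : IsPGroup p ↥((Cfsg.pCore p ↥(Subgroup.normalizer (TL : Set L))).map
          (Subgroup.normalizer (TL : Set L)).subtype ⊔ TL) := by
        have h1 : (Cfsg.pCore p ↥(Subgroup.normalizer (TL : Set L))).map
            (Subgroup.normalizer (TL : Set L)).subtype ⊔ TL =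
            (Cfsg.pCore p ↥(Subgroup.normalizer (TL : Set L)) ⊔
              TL.subgroupOf (Subgroup.normalizer (TL : Set L))).map
              (Subgroup.normalizer (TL : Set L)).subtype := by
          rw [Subgroup.map_sup, Subgroup.map_subgroupOf_eq_of_le Subgroup.le_normalizer]
        rw [h1]
        apply IsPGroup.map
        exact (Cfsg.Agent.H52.pCore_isPGroup p _).to_sup_of_normal_left hTLp.comap_subtype
      have hsupC : (Cfsg.pCore p ↥(Subgroup.normalizer (TL : Set L))).map
          (Subgroup.normalizer (TL : Set L)).subtype ⊔ TL ≤ Subgroup.centralizer (Y : Set L) :=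
        sup_le hQ1C hTLC
      have hmax := P.is_maximal' (Q := ((Cfsg.pCore p ↥(Subgroup.normalizer (TL : Set L))).map
          (Subgroup.normalizer (TL : Set L)).subtype ⊔ TL).subgroupOf
          (Subgroup.centralizer (Y : Set L))) hsupp.comap_subtype (by
            rw [hP]
            intro x hx
            rw [Subgroup.mem_subgroupOf] at hx ⊢
            exact Subgroup.mem_sup_right (by rw [hTL]; exact ⟨hx, x.2⟩))
      intro q hq
      have hqC := hQ1C hq
      have h3 : (⟨q, hqC⟩ : ↥(Subgroup.centralizer (Y : Set L))) ∈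
          ((Cfsg.pCore p ↥(Subgroup.normalizer (TL : Set L))).map
          (Subgroup.normalizer (TL : Set L)).subtype ⊔ TL).subgroupOf
          (Subgroup.centralizer (Y : Set L)) :=
        Subgroup.mem_subgroupOf.mpr (Subgroup.mem_sup_left hq)
      rw [hmax, hP, Subgroup.mem_subgroupOf] at h3
      rw [hTL]
      exact ⟨h3, hqC⟩
    · intro x hx
      have hxN : x ∈ Subgroup.normalizer (TL : Set L) := Subgroup.le_normalizer hx
      haveI : (TL.subgroupOf (Subgroup.normalizer (TL : Set L))).Normal :=
        Subgroup.normal_in_normalizer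
      have h1 := Cfsg.Agent.H52.le_pCore (p := p)
        (inferInstance : (TL.subgroupOf (Subgroup.normalizer (TL : Set L))).Normal)
        hTLp.comap_subtype
      exact ⟨⟨x, hxN⟩, h1 (Subgroup.mem_subgroupOf.mpr hx), rfl⟩
  · apply le_antisymm hYΩ
    -- X' = Ω₁(Z(TL)) gives a p-reduced normal subgroup of N
    have hX'TL : Cfsg.omegaOne p (TL ⊓ Subgroup.centralizer (TL : Set L)) ≤ TL := by
      intro x hx
      exact (Cfsg.Agent.H52.omegaOne_center_spec TL hx).1
    have hX'N : Cfsg.omegaOne p (TL ⊓ Subgroup.centralizer (TL : Set L)) ≤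
        Subgroup.normalizer (TL : Set L) := hX'TL.trans Subgroup.le_normalizer
    have hXred : Cfsg.IsPReducedNormal p
        ((Cfsg.omegaOne p (TL ⊓ Subgroup.centralizer (TL : Set L))).subgroupOf
          (Subgroup.normalizer (TL : Set L))) := by
      have hXn : ((Cfsg.omegaOne p (TL ⊓ Subgroup.centralizer (TL : Set L))).subgroupOf
          (Subgroup.normalizer (TL : Set L))).Normal := by
        constructor
        intro x hx n
        rw [Subgroup.mem_subgroupOf] at hx ⊢
        exact Cfsg.Agent.H52.conj_mem_omegaOne_center n.2 hx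
      rw [Cfsg.Agent.H52.isPReducedNormal_iff]
      refine ⟨hXn, ?_, ?_⟩
      · exact Cfsg.Agent.H52.isElementaryAbelian_subgroupOf
          (Cfsg.Agent.H52.omegaOne_center_elementary p TL) _
      · intro D hD hDp
        haveI := hXn
        have hDC : D.map (Subgroup.normalizer (TL : Set L)).subtype ≤
            Subgroup.centralizer (Y : Set L) := by
          apply keyC D hD
          intro d hd
          obtain ⟨k, hk⟩ := hDp d hd
          refine ⟨k, ?_⟩
          rw [Subgroup.mem_centralizer_iff]
          intro y hy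
          have hyX : (⟨y, hX'N (hYΩ hy)⟩ : ↥(Subgroup.normalizer (TL : Set L))) ∈
              (Cfsg.omegaOne p (TL ⊓ Subgroup.centralizer (TL : Set L))).subgroupOf
              (Subgroup.normalizer (TL : Set L)) := Subgroup.mem_subgroupOf.mpr (hYΩ hy)
          have h5 := (Subgroup.mem_centralizer_iff.mp hk) _ hyX
          have h6 := congrArg Subtype.val h5
          simpa using h6
        -- centralizer of X in N maps into C
        have hCXC : ∀ c : ↥(Subgroup.normalizer (TL : Set L)),
            c ∈ Subgroup.centralizer (((Cfsg.omegaOne p (TL ⊓ Subgroup.centralizer (TL : Set L))).subgroupOf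
              (Subgroup.normalizer (TL : Set L)) : Subgroup _) : Set _) →
            (c : L) ∈ Subgroup.centralizer (Y : Set L) := by
          intro c hc
          rw [Subgroup.mem_centralizer_iff]
          intro y hy
          have hyX : (⟨y, hX'N (hYΩ hy)⟩ : ↥(Subgroup.normalizer (TL : Set L))) ∈
              (Cfsg.omegaOne p (TL ⊓ Subgroup.centralizer (TL : Set L))).subgroupOf
              (Subgroup.normalizer (TL : Set L)) := Subgroup.mem_subgroupOf.mpr (hYΩ hy)
          have h5 := (Subgroup.mem_centralizer_iff.mp hc) _ hyX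
          exact congrArg Subtype.val h5
        intro d hd
        obtain ⟨t, ht, htd⟩ := Cfsg.Agent.H52.exists_sylow_rep
          (Subgroup.centralizer (((Cfsg.omegaOne p (TL ⊓ Subgroup.centralizer (TL : Set L))).subgroupOf
              (Subgroup.normalizer (TL : Set L)) : Subgroup _) : Set _)) D hD hDp (T.subtype hTN) d hd
        have htT : (t : L) ∈ (T : Subgroup L) := by
          have h7 : t ∈ ((T.subtype hTN : Sylow p _) : Subgroup _) := ht
          rw [Sylow.coe_subtype, Subgroup.mem_subgroupOf] at h7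
          exact h7
        have htC : (t : L) ∈ Subgroup.centralizer (Y : Set L) := by
          have e : (t : L) = (d : L) * ((t⁻¹ * d : ↥(Subgroup.normalizer (TL : Set L))) : L)⁻¹ := by
            push_cast; group
          rw [e]
          exact Subgroup.mul_mem _ (hDC (Subgroup.mem_map_of_mem _ hd))
            (Subgroup.inv_mem _ (hCXC _ htd))
        have htTL : (t : L) ∈ TL := hTLge ⟨htT, htC⟩
        have htX : t ∈ Subgroup.centralizer (((Cfsg.omegaOne p (TL ⊓ Subgroup.centralizer (TL : Set L))).subgroupOf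
              (Subgroup.normalizer (TL : Set L)) : Subgroup _) : Set _) := by
          rw [Subgroup.mem_centralizer_iff]
          intro x hx
          have hx' : (x : L) ∈ Cfsg.omegaOne p (TL ⊓ Subgroup.centralizer (TL : Set L)) := hx
          have h8 := (Cfsg.Agent.H52.omegaOne_center_spec TL hx').2.1
          have h9 := (Subgroup.mem_centralizer_iff.mp h8) (t : L) htTL
          apply Subtype.ext
          push_cast
          exact h9.symm
        have e : d = t * (t⁻¹ * d) := by group
        rw [e]
        exact Subgroup.mul_mem _ htX htd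
    have hres := Cfsg.Agent.S2802.result hchar T (Subgroup.normalizer (TL : Set L)) hTN _ hXred
    have hle := hYmax _ hres
    refine le_trans ?_ hle
    refine le_trans ?_ Subgroup.le_normalClosure
    rw [Subgroup.map_subgroupOf_eq_of_le hX'N]

end Cfsg.Agent.S2803
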