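import Cfsg.Statements.S2804
import Cfsg.Agent.H52.PReduced
import Cfsg.Agent.H52.Subnormal
import Cfsg.Agent.H52.SubnormalQuot

set_option autoImplicit false
open Cfsg
open scoped commutatorElement

namespace Cfsg.Agent.S2804

/-- Let L be a finite group and p a prime with C_L(O_p(L)) ≤ O_p(L), V a p-reduced normal subgroup of L and K a subnormal subgroup of L. Then [V, O^p(K)] is contained in K and is a p-reduced normal subgroup of K, where O^p(K) is the subgroup of K generated by its elements of order prime to p. -/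
theorem result {L : Type*} [Group L] [Finite L] {p : ℕ} [Fact p.Prime] (hchar : Subgroup.centralizer (Cfsg.pCore p L : Set L) ≤ Cfsg.pCore p L) (V : Subgroup L) (hV : Cfsg.IsPReducedNormal p V) (K : Subgroup L) (hK : K.IsSubnormal) : ⁅V, (Cfsg.pResidual p ↥K).map K.subtype⁆ ≤ K ∧ Cfsg.IsPReducedNormal p ((⁅V, (Cfsg.pResidual p ↥K).map K.subtype⁆).subgroupOf K) := by
  have hRcl : (Cfsg.pResidual p ↥K).map K.subtype =
      Subgroup.closure {x : L | x ∈ K ∧ (orderOf x).Coprime p} :=
    Cfsg.Agent.H52.map_pResidual_eq p K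
  generalize (Cfsg.pResidual p ↥K).map K.subtype = R at hRcl ⊢
  have hRK : R ≤ K := by
    rw [hRcl, Subgroup.closure_le]
    intro x hx
    exact hx.1
  obtain ⟨hVn, hVel, hVprop⟩ := (Cfsg.Agent.H52.isPReducedNormal_iff V).mp hV
  haveI := hVn
  have hKR : ∀ k ∈ K, ∀ b ∈ R, k * b * k⁻¹ ∈ R := by
    intro k hk b hb
    have h : R ≤ R.comap (MulAut.conj k).toMonoidHom := by
      conv_lhs => rw [hRcl]
      rw [Subgroup.closure_le]
      intro x hx
      have h2 : k * x * k⁻¹ ∈ R := by
        rw [hRcl]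
        apply Subgroup.subset_closure
        exact ⟨K.mul_mem (K.mul_mem hk hx.1) (K.inv_mem hk), by
          rw [Cfsg.Agent.H52.orderOf_conj']; exact hx.2⟩
      exact h2
    exact h hb
  have hRgen : R ≤ Subgroup.closure {x : L | x ∈ R ∧ (orderOf x).Coprime p} := by
    conv_lhs => rw [hRcl]
    apply Subgroup.closure_mono
    intro x hx
    refine ⟨?_, hx.2⟩
    rw [hRcl]
    exact Subgroup.subset_closure hx
  have hON : Cfsg.pCore p L ≤ Subgroup.normalizer (R : Set L) :=
    Cfsg.Agent.H52.pCore_le_normalizer_of_subnormal_aux hK R hRK hKR hRgen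
  have hVN : V ≤ Subgroup.normalizer (R : Set L) := (Cfsg.Agent.H52.pReduced_le_pCore hV).trans hON
  have hWR : ⁅V, R⁆ ≤ R := by
    rw [Subgroup.commutator_le]
    intro v hv r hr
    have h1 := Cfsg.Agent.H52.conj_mem_of_mem_normalizer (hVN hv) hr
    have e : ⁅v, r⁆ = (v * r * v⁻¹) * r⁻¹ := by simp [commutatorElement_def]
    rw [e]; exact R.mul_mem h1 (R.inv_mem hr)
  have hWV : ⁅V, R⁆ ≤ V := Subgroup.commutator_le_left V R
  have hWK := hWR.trans hRK
  refine ⟨hWK, ?_⟩
  rw [Cfsg.Agent.H52.isPReducedNormal_iff]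
  refine ⟨?_, ?_, ?_⟩
  · constructor
    intro x hx k
    rw [Subgroup.mem_subgroupOf] at hx ⊢
    have hkV : (k : L) ∈ Subgroup.normalizer (V : Set L) := by
      rw [Subgroup.normalizer_eq_top_iff.mpr hVn]; exact Subgroup.mem_top _
    have hkR : (k : L) ∈ Subgroup.normalizer (R : Set L) :=
      Cfsg.Agent.H52.le_normalizer_of_conj_mem hKR k.2
    exact Cfsg.Agent.H52.conj_mem_commutator_of_mem_normalizer hkV hkR hx
  · exact Cfsg.Agent.H52.isElementaryAbelian_subgroupOf
      (Cfsg.Agent.H52.isElementaryAbelian_of_le hWV hVel) K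
  · intro D hD hDp
    obtain ⟨hCn, hCbot⟩ := hV.2.2
    haveI := hCn
    -- p'-elements of D centralize V
    have hp' : ∀ x : ↥K, x ∈ D → (orderOf (x : L)).Coprime p →
        (x : L) ∈ Subgroup.centralizer (V : Set L) := by
      intro x hxD hxp
      obtain ⟨k, hk⟩ := hDp x hxD
      have hxp' : (orderOf x).Coprime p := by
        rw [← Subgroup.orderOf_coe]; exact hxp
      have hxC := Cfsg.Agent.H52.mem_of_pow_mem_of_coprime hxp' hk
      have hxR : (x : L) ∈ R := by
        rw [hRcl]; exact Subgroup.subset_closure ⟨x.2, hxp⟩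
      rw [Subgroup.mem_centralizer_iff]
      intro v hv
      have hc : ⁅v⁻¹, (x : L)⁆ ∈ ⁅V, R⁆ :=
        Subgroup.commutator_mem_commutator (V.inv_mem hv) hxR
      have hcomm : (x : L) * ⁅v⁻¹, (x : L)⁆ = ⁅v⁻¹, (x : L)⁆ * (x : L) := by
        have h5 := (Subgroup.mem_centralizer_iff.mp hxC) ⟨⁅v⁻¹, (x : L)⁆, hWK hc⟩
          (Subgroup.mem_subgroupOf.mpr hc)
        have h6 := congrArg Subtype.val h5
        exact h6.symm
      have hconj : (x : L) * v * (x : L)⁻¹ = v * ⁅v⁻¹, (x : L)⁆ := by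
        simp [commutatorElement_def, mul_assoc]
      have hc1 : ⁅v⁻¹, (x : L)⁆ ^ p ^ 1 = 1 := by
        rw [pow_one]; exact hVel.2 _ (hWV hc)
      have h7 := Cfsg.Agent.H52.eq_one_of_conj_eq_mul hxp hconj hcomm hc1
      rw [h7, mul_one] at hconj
      have : (x : L) * v = v * (x : L) := by
        calc (x : L) * v = (x : L) * v * (x : L)⁻¹ * (x : L) := by group
          _ = v * (x : L) := by rw [hconj]
      exact this.symm
    have hDsub : (D.map K.subtype).IsSubnormal := hD.isSubnormal.trans' hK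
    have hDC : D.map K.subtype ≤ Subgroup.centralizer (V : Set L) := by
      apply Cfsg.Agent.H52.subnormal_le_of_pow_mem hCbot hDsub
      rintro _ ⟨d, hd, rfl⟩
      obtain ⟨k, hk⟩ := Cfsg.Agent.H52.exists_pow_coprime (p := p) (d : L)
      refine ⟨k, ?_⟩
      have h8 := hp' (d ^ p ^ k) (D.pow_mem hd _) (by simpa using hk)
      simpa using h8
    intro d hd
    rw [Subgroup.mem_centralizer_iff]
    intro w hw
    have hw' : (w : L) ∈ ⁅V, R⁆ := hw
    have h9 := (Subgroup.mem_centralizer_iff.mp (hDC (Subgroup.mem_map_of_mem _ hd))) (w : L) (hWV hw')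
    apply Subtype.ext
    exact h9

end Cfsg.Agent.S2804
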