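import Cfsg.Statements.S2809
import Cfsg.Agent.H52.Basic

set_option autoImplicit false
open Cfsg
open scoped commutatorElement

namespace Cfsg.Agent.S2809

/-- Let H be a finite group, p a prime, R a p-subgroup of H with C_H(R) ≤ R, and L a subgroup of N_H(R) acting nilpotently on R (some iterated commutator [R, L, …, L] is trivial). Then L is a p-group. -/
theorem result {H : Type*} [Group H] [Finite H] {p : ℕ} [Fact p.Prime] (R : Subgroup H) (hR : IsPGroup p ↥R) (hC : Subgroup.centralizer (R : Set H) ≤ R) (L : Subgroup H) (hL : L ≤ Subgroup.normalizer (R : Set H)) (hnil : ∃ n : ℕ, Cfsg.iterCommutator R L n = ⊥) : IsPGroup p ↥L := by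
  obtain ⟨n, hn⟩ := hnil
  -- all terms of the chain lie in R
  have hle : ∀ i, Cfsg.iterCommutator R L i ≤ R := by
    intro i
    induction i with
    | zero => exact le_rfl
    | succ i ih =>
      show ⁅Cfsg.iterCommutator R L i, L⁆ ≤ R
      rw [Subgroup.commutator_le]
      intro r hr x hx
      have hr' := ih hr
      have hx' := hL hx
      rw [commutatorElement_def]
      have h1 : x * r⁻¹ * x⁻¹ ∈ R := (hx' r⁻¹).mp (R.inv_mem hr')
      have h2 := R.mul_mem hr' h1
      convert h2 using 1; group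
  apply Cfsg.Agent.H52.isPGroup_of_coprime_elts_trivial
  intro x hxL hx
  -- x centralizes every term of the chain
  have hcent : ∀ j, j ≤ n → ∀ r ∈ Cfsg.iterCommutator R L (n - j), x * r * x⁻¹ = r := by
    intro j
    induction j with
    | zero =>
      intro _ r hr
      rw [Nat.sub_zero, hn, Subgroup.mem_bot] at hr
      subst hr; simp
    | succ j ih =>
      intro hj r hr
      have hj' : j ≤ n := Nat.le_of_succ_le hj
      have e : n - j = (n - (j+1)) + 1 := by omega
      have hcmem : ⁅r⁻¹, x⁆ ∈ Cfsg.iterCommutator R L (n - j) := by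
        rw [e]
        exact Subgroup.commutator_mem_commutator (inv_mem hr) hxL
      have hconj : x * r * x⁻¹ = r * ⁅r⁻¹, x⁆ := by rw [commutatorElement_def]; group
      have hcomm : x * ⁅r⁻¹, x⁆ = ⁅r⁻¹, x⁆ * x := by
        have h3 := ih hj' _ hcmem
        calc x * ⁅r⁻¹, x⁆ = x * ⁅r⁻¹, x⁆ * x⁻¹ * x := by group
          _ = ⁅r⁻¹, x⁆ * x := by rw [h3]
      obtain ⟨k, hk⟩ := hR ⟨⁅r⁻¹, x⁆, hle _ hcmem⟩
      have hk' : ⁅r⁻¹, x⁆ ^ p ^ k = 1 := by simpa using congrArg Subtype.val hk
      have h4 := Cfsg.Agent.H52.eq_one_of_conj_eq_mul hx hconj hcomm hk'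
      rw [hconj, h4, mul_one]
  have hxC : x ∈ Subgroup.centralizer (R : Set H) := by
    rw [Subgroup.mem_centralizer_iff]
    intro r hr
    have h5 := hcent n le_rfl r (by rw [Nat.sub_self]; exact hr)
    calc r * x = x * r * x⁻¹ * x := by rw [h5]
      _ = x * r := by group
  obtain ⟨k, hk⟩ := hR ⟨x, hC hxC⟩
  exact Cfsg.Agent.H52.eq_one_of_coprime_of_pow hx (by simpa using congrArg Subtype.val hk)

end Cfsg.Agent.S2809
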