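import Cfsg.Statements.S2810
import Cfsg.Agent.H52.Basic

set_option autoImplicit false
open Cfsg
open scoped commutatorElement

namespace Cfsg.Agent.S2810

/-- Let H be a finite group of characteristic p and L a subgroup of H centralizing every factor of some H-invariant chain 1 = A₀ ≤ A₁ ≤ … ≤ Aₙ = O_p(H) of normal subgroups (that is, [A_{i+1}, L] ≤ Aᵢ for each i). Then L ≤ O_p(H). -/
theorem result {H : Type*} [Group H] [Finite H] {p : ℕ} [Fact p.Prime] (hchar : Subgroup.centralizer (Cfsg.pCore p H : Set H) ≤ Cfsg.pCore p H) (L : Subgroup H) (n : ℕ) (A : Fin (n + 1) → Subgroup H) (h0 : A 0 = ⊥) (hn : A (Fin.last n) = Cfsg.pCore p H) (hmono : Monotone A) (hnorm : ∀ i, (A i).Normal) (hcent : ∀ i : Fin n, ⁅A i.succ, L⁆ ≤ A i.castSucc) : L ≤ Cfsg.pCore p H := by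
  have hcentN : ∀ i : Fin n, ⁅A i.succ, Subgroup.normalClosure (L : Set H)⁆ ≤ A i.castSucc := by
    intro i
    haveI := hnorm i.succ
    haveI := hnorm i.castSucc
    exact Cfsg.Agent.H52.commutator_normalClosure_le (hcent i)
  have hNp : IsPGroup p (Subgroup.normalClosure (L : Set H)) := by
    apply Cfsg.Agent.H52.isPGroup_of_coprime_elts_trivial
    intro x hxN hx
    have hall : ∀ i : Fin (n + 1), ∀ r ∈ A i, x * r * x⁻¹ = r := by
      intro i
      induction i using Fin.induction with
      | zero =>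
        intro r hr
        rw [h0, Subgroup.mem_bot] at hr
        subst hr; simp
      | succ i ih =>
        intro r hr
        have hcmem : ⁅r⁻¹, x⁆ ∈ A i.castSucc :=
          hcentN i (Subgroup.commutator_mem_commutator (inv_mem hr) hxN)
        have hconj : x * r * x⁻¹ = r * ⁅r⁻¹, x⁆ := by rw [commutatorElement_def]; group
        have hcomm : x * ⁅r⁻¹, x⁆ = ⁅r⁻¹, x⁆ * x := by
          have h3 := ih _ hcmem
          calc x * ⁅r⁻¹, x⁆ = x * ⁅r⁻¹, x⁆ * x⁻¹ * x := by group
            _ = ⁅r⁻¹, x⁆ * x := by rw [h3]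
        have hcp : ⁅r⁻¹, x⁆ ∈ Cfsg.pCore p H := by
          rw [← hn]
          exact hmono (Fin.le_last _) hcmem
        obtain ⟨k, hk⟩ := Cfsg.Agent.H52.pCore_isPGroup p H ⟨_, hcp⟩
        have hk' : ⁅r⁻¹, x⁆ ^ p ^ k = 1 := by simpa using congrArg Subtype.val hk
        have h4 := Cfsg.Agent.H52.eq_one_of_conj_eq_mul hx hconj hcomm hk'
        rw [hconj, h4, mul_one]
    have hxC : x ∈ Subgroup.centralizer (Cfsg.pCore p H : Set H) := by
      rw [Subgroup.mem_centralizer_iff]
      intro r hr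
      have h5 := hall (Fin.last n) r (by rw [hn]; exact hr)
      calc r * x = x * r * x⁻¹ * x := by rw [h5]
        _ = x * r := by group
    obtain ⟨k, hk⟩ := Cfsg.Agent.H52.pCore_isPGroup p H ⟨x, hchar hxC⟩
    exact Cfsg.Agent.H52.eq_one_of_coprime_of_pow hx (by simpa using congrArg Subtype.val hk)
  exact (Subgroup.le_normalClosure).trans
    (Cfsg.Agent.H52.le_pCore Subgroup.normalClosure_normal hNp)

end Cfsg.Agent.S2810
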