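import Cfsg.Statements.S2812
import Cfsg.Agent.H52.FStarAct3

set_option autoImplicit false
open Cfsg
open scoped commutatorElement

namespace Cfsg.Agent.S2812

/-- Let H be a subgroup of the finite group G with O_p(H) = 1, Y a p-subgroup of G normalizing H, and L a subgroup of the generalized Fitting subgroup F*(H) that is subnormal in H and normalized by Y. Then L = [L, Y]·C_L(Y) and [L, Y] = [L, Y, Y]. -/
theorem result {G : Type*} [Group G] [Finite G] {p : ℕ} [Fact p.Prime] (H : Subgroup G) (hO : Cfsg.pCore p ↥H = ⊥) (Y : Subgroup G) (hY : IsPGroup p ↥Y) (hYH : Y ≤ Subgroup.normalizer (H : Set G)) (L : Subgroup G) (hLF : L ≤ (Cfsg.generalizedFittingSubgroup ↥H).map H.subtype) (hLsn : (L.subgroupOf H).IsSubnormal) (hYL : Y ≤ Subgroup.normalizer (L : Set G)) : ⁅L, Y⁆ ⊔ (L ⊓ Subgroup.centralizer (Y : Set G)) = L ∧ ⁅L, Y⁆ = ⁅⁅L, Y⁆, Y⁆ := by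
  have hLH : L ≤ H := by
    intro l hl
    obtain ⟨x, -, rfl⟩ := hLF hl
    exact x.2
  have hL'F : L.subgroupOf H ≤ Cfsg.generalizedFittingSubgroup ↥H := by
    intro x hx
    obtain ⟨z, hz, hzx⟩ := hLF (Subgroup.mem_subgroupOf.mp hx)
    have e : z = x := Subtype.ext hzx
    rw [← e]
    exact hz
  have hdec := Cfsg.Agent.H52.subnormal_le_genFitting_decomp hLsn hL'F
  obtain ⟨𝒞, h𝒞⟩ : ∃ 𝒞 : Set (Subgroup G), 𝒞 = {C | ∃ C' : Subgroup ↥H, Cfsg.IsComponent C' ∧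
      C' ≤ L.subgroupOf H ∧ C = C'.map H.subtype} := ⟨_, rfl⟩
  have hmem : ∀ C, C ∈ 𝒞 ↔ ∃ C' : Subgroup ↥H, Cfsg.IsComponent C' ∧
      C' ≤ L.subgroupOf H ∧ C = C'.map H.subtype := by
    intro C
    rw [h𝒞]
    exact Iff.rfl
  have hperf : ∀ C ∈ 𝒞, ⁅C, C⁆ = C := by
    intro C hC
    obtain ⟨C', hC', -, rfl⟩ := (hmem C).mp hC
    rw [← Subgroup.map_commutator, Cfsg.Agent.H52.V27.isComponent_perfect hC']
  have hcomm : ∀ C ∈ 𝒞, ∀ D ∈ 𝒞, C ≠ D → ⁅C, D⁆ = ⊥ := by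
    intro C hC D hD hne
    obtain ⟨C', hC', -, rfl⟩ := (hmem C).mp hC
    obtain ⟨D', hD', -, rfl⟩ := (hmem D).mp hD
    have hne' : C' ≠ D' := fun h => hne (by rw [h])
    rw [← Subgroup.map_commutator, Cfsg.Agent.H52.V27.components_commute hC' hD' hne',
      Subgroup.map_bot]
  have hsimp : ∀ C ∈ 𝒞, ∀ N : Subgroup G, N ≤ C → C ≤ Subgroup.normalizer (N : Set G) →
      C ≤ N ∨ ⁅N, C⁆ = ⊥ := by
    intro C hC N hNC hnorm
    obtain ⟨C', hC', -, rfl⟩ := (hmem C).mp hC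
    have hNH : N ≤ H := by
      intro n hn
      obtain ⟨x, -, rfl⟩ := hNC hn
      exact x.2
    have hN' : N.subgroupOf H ≤ C' := by
      intro x hx
      obtain ⟨c, hc, hcx⟩ := hNC (Subgroup.mem_subgroupOf.mp hx)
      have e : c = x := Subtype.ext hcx
      rw [← e]
      exact hc
    have hnorm' : C' ≤ Subgroup.normalizer ((N.subgroupOf H : Subgroup ↥H) : Set ↥H) := by
      apply Cfsg.Agent.H52.le_normalizer_of_conj_mem
      intro c hc x hx
      rw [Subgroup.mem_subgroupOf] at hx ⊢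
      exact Cfsg.Agent.H52.conj_mem_of_mem_normalizer
        (hnorm (Subgroup.mem_map_of_mem H.subtype hc)) hx
    rcases Cfsg.Agent.H52.component_simple hC' (N.subgroupOf H) hN' hnorm' with h | h
    · left
      have h1 := Subgroup.map_mono (f := H.subtype) h
      rwa [Subgroup.map_subgroupOf_eq_of_le hNH] at h1
    · right
      have h1 := congrArg (Subgroup.map H.subtype) h
      rwa [Subgroup.map_commutator, Subgroup.map_subgroupOf_eq_of_le hNH, Subgroup.map_bot] at h1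
  have hinv : ∀ y ∈ Y, ∀ C ∈ 𝒞, C.map (MulAut.conj y).toMonoidHom ∈ 𝒞 := by
    intro y hy C hC
    obtain ⟨C', hC', hC'L, rfl⟩ := (hmem C).mp hC
    rw [hmem]
    refine ⟨C'.map (H.normalizerMonoidHom ⟨y, hYH hy⟩).toMonoidHom,
      Cfsg.Agent.H52.V27.isComponent_map_equiv _ hC', ?_, ?_⟩
    · rintro _ ⟨c, hc, rfl⟩
      rw [Subgroup.mem_subgroupOf]
      show y * (c : G) * y⁻¹ ∈ L
      exact Cfsg.Agent.H52.conj_mem_of_mem_normalizer (hYL hy)
        (Subgroup.mem_subgroupOf.mp (hC'L hc))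
    · ext x
      constructor
      · rintro ⟨_, ⟨c, hc, rfl⟩, rfl⟩
        exact ⟨_, ⟨c, hc, rfl⟩, rfl⟩
      · rintro ⟨_, ⟨c, hc, rfl⟩, rfl⟩
        exact ⟨_, ⟨c, hc, rfl⟩, rfl⟩
  have hEL : sSup 𝒞 ≤ L := by
    apply sSup_le
    intro C hC
    obtain ⟨C', -, hC'L, rfl⟩ := (hmem C).mp hC
    rintro _ ⟨c, hc, rfl⟩
    exact Subgroup.mem_subgroupOf.mp (hC'L hc)
  have hElayer : sSup 𝒞 ≤ (Cfsg.layer ↥H).map H.subtype := by
    apply sSup_le
    intro C hC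
    obtain ⟨C', hC', -, rfl⟩ := (hmem C).mp hC
    exact Subgroup.map_mono (Cfsg.Agent.H52.V27.isComponent_le_layer hC')
  have hLdec : L ≤ sSup 𝒞 ⊔ (L ⊓ (Cfsg.fittingSubgroup ↥H).map H.subtype) := by
    intro l hl
    have h1 := hdec (Subgroup.mem_subgroupOf.mpr (show ((⟨l, hLH hl⟩ : ↥H) : G) ∈ L from hl))
    have h2 : l ∈ (sSup {C : Subgroup ↥H | Cfsg.IsComponent C ∧ C ≤ L.subgroupOf H} ⊔
        (Cfsg.fittingSubgroup ↥H ⊓ L.subgroupOf H)).map H.subtype := ⟨_, h1, rfl⟩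
    rw [Subgroup.map_sup] at h2
    have h3 : ∀ A B : Subgroup G, A ≤ sSup 𝒞 →
        B ≤ L ⊓ (Cfsg.fittingSubgroup ↥H).map H.subtype →
        A ⊔ B ≤ sSup 𝒞 ⊔ (L ⊓ (Cfsg.fittingSubgroup ↥H).map H.subtype) :=
      fun A B hA hB => sup_le_sup hA hB
    refine h3 _ _ ?_ ?_ h2
    · rw [Subgroup.map_le_iff_le_comap]
      apply sSup_le
      rintro C' ⟨hC', hC'L⟩
      rw [← Subgroup.map_le_iff_le_comap]
      exact le_sSup ((hmem _).mpr ⟨C', hC', hC'L, rfl⟩)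
    · rintro _ ⟨x, ⟨hxF, hxL⟩, rfl⟩
      exact ⟨Subgroup.mem_subgroupOf.mp hxL, ⟨x, hxF, rfl⟩⟩
  have hLeq : sSup 𝒞 ⊔ (L ⊓ (Cfsg.fittingSubgroup ↥H).map H.subtype) = L :=
    le_antisymm (sup_le hEL inf_le_left) hLdec
  have hNcop : (Nat.card ↥(L ⊓ (Cfsg.fittingSubgroup ↥H).map H.subtype)).Coprime p := by
    have h1 : (Nat.card ↥((Cfsg.fittingSubgroup ↥H).map H.subtype)).Coprime p :=
      Nat.Coprime.coprime_dvd_left (Subgroup.card_map_dvd _ _) (Cfsg.Agent.H52.fitting_coprime hO)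
    exact Nat.Coprime.coprime_dvd_left (Subgroup.card_dvd_of_le inf_le_right) h1
  have hYN : Y ≤ Subgroup.normalizer
      ((L ⊓ (Cfsg.fittingSubgroup ↥H).map H.subtype : Subgroup G) : Set G) := by
    apply Cfsg.Agent.H52.le_normalizer_of_conj_mem
    intro y hy x hx
    exact ⟨Cfsg.Agent.H52.conj_mem_of_mem_normalizer (hYL hy) hx.1,
      Cfsg.Agent.H52.conj_mem_map_of_characteristic (Cfsg.fittingSubgroup ↥H) (hYH hy) hx.2⟩
  have hEN : ∀ e ∈ sSup 𝒞, ∀ n ∈ L ⊓ (Cfsg.fittingSubgroup ↥H).map H.subtype, e * n = n * e := by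
    intro e he n hn
    obtain ⟨e', he', rfl⟩ := hElayer he
    obtain ⟨n', hn', rfl⟩ := hn.2
    have h1 := Cfsg.Agent.H52.V27.comm_of_comm_eq_bot Cfsg.Agent.H52.V27.layer_comm_fitting he' hn'
    exact congrArg Subtype.val h1
  obtain ⟨hE1, hE2⟩ := Cfsg.Agent.H52.commutator_sSup_eq hperf hcomm hsimp hinv
  have hcomm_eq : ⁅L, Y⁆ = ⁅sSup 𝒞, Y⁆ ⊔ ⁅L ⊓ (Cfsg.fittingSubgroup ↥H).map H.subtype, Y⁆ := by
    apply le_antisymm
    · conv_lhs => rw [← hLeq]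
      exact Cfsg.Agent.H52.commutator_sup_le_of_comm hEN hYN
    · exact sup_le (Subgroup.commutator_mono hEL le_rfl)
        (Subgroup.commutator_mono inf_le_left le_rfl)
  have hLY : ⁅L, Y⁆ ≤ L := Cfsg.Agent.H52.V27.commutator_le_of_le_normalizer' hYL
  refine ⟨?_, ?_⟩
  · apply le_antisymm (sup_le hLY inf_le_left)
    conv_lhs => rw [← hLeq]
    apply sup_le
    · apply sSup_le
      intro C hC
      by_cases hCY : ⁅C, Y⁆ = ⊥
      · refine le_sup_of_le_right (le_inf (le_trans (le_sSup hC) hEL) ?_)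
        exact Subgroup.commutator_eq_bot_iff_le_centralizer.mp hCY
      · refine le_sup_of_le_left ?_
        have h1 : C ≤ sSup {L | L ∈ 𝒞 ∧ ⁅L, Y⁆ ≠ ⊥} :=
          le_sSup (show C ∈ {L | L ∈ 𝒞 ∧ ⁅L, Y⁆ ≠ ⊥} from ⟨hC, hCY⟩)
        rw [← hE1] at h1
        exact h1.trans (Subgroup.commutator_mono hEL le_rfl)
    · have h1 := Cfsg.Agent.H52.coprime_sup_centralizer hY hNcop hYN
      conv_lhs => rw [← h1]
      exact sup_le_sup (Subgroup.commutator_mono inf_le_left le_rfl)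
        (inf_le_inf_right _ inf_le_left)
  · have hYn : Y ≤ Subgroup.normalizer ((⁅L, Y⁆ : Subgroup G) : Set G) :=
      Cfsg.Agent.H52.le_normalizer_of_conj_mem
        (fun y hy x hx => Cfsg.Agent.H52.conj_mem_commutator_right hy hx)
    apply le_antisymm _ (Cfsg.Agent.H52.V27.commutator_le_of_le_normalizer' hYn)
    conv_lhs => rw [hcomm_eq]
    apply sup_le
    · rw [← hE2]
      exact Subgroup.commutator_mono (Subgroup.commutator_mono hEL le_rfl) le_rfl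
    · rw [← Cfsg.Agent.H52.coprime_commutator_eq hY hNcop hYN]
      exact Subgroup.commutator_mono (Subgroup.commutator_mono inf_le_left le_rfl) le_rfl

end Cfsg.Agent.S2812
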