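import Cfsg.Statements.S2813
import Cfsg.Agent.H52.Basic

set_option autoImplicit false
open Cfsg
open scoped commutatorElement

namespace Cfsg.Agent.S2813

/-- Let K be a subgroup of the finite group H with O_p(K) = 1 and Y a p-subgroup of N_H(K) with [K, Y, Y] = 1. Then [K, Y] = 1. -/
theorem result {H : Type*} [Group H] [Finite H] {p : ℕ} [Fact p.Prime] (K : Subgroup H) (hO : Cfsg.pCore p ↥K = ⊥) (Y : Subgroup H) (hY : IsPGroup p ↥Y) (hYK : Y ≤ Subgroup.normalizer (K : Set H)) (hq : ⁅⁅K, Y⁆, Y⁆ = ⊥) : ⁅K, Y⁆ = ⊥ := by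
  -- X = [K, Y] ≤ K
  have hXK : ⁅K, Y⁆ ≤ K := by
    rw [Subgroup.commutator_le]
    intro k hk y hy
    rw [commutatorElement_def]
    have h1 : y * k⁻¹ * y⁻¹ ∈ K := (hYK hy k⁻¹).mp (K.inv_mem hk)
    have h2 := K.mul_mem hk h1
    convert h2 using 1; group
  -- Y centralizes X
  have hcent : ∀ x ∈ ⁅K, Y⁆, ∀ y ∈ Y, y * x = x * y := by
    intro x hx y hy
    have h1 : ⁅x, y⁆ ∈ ⁅⁅K, Y⁆, Y⁆ := Subgroup.commutator_mem_commutator hx hy
    rw [hq, Subgroup.mem_bot, commutatorElement_eq_one_iff_mul_comm] at h1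
    exact h1.symm
  -- X commutes with generators
  have hgen : ∀ x ∈ ⁅K, Y⁆, ∀ k ∈ K, ∀ y ∈ Y, x * ⁅k, y⁆ = ⁅k, y⁆ * x := by
    intro x hx k hk y hy
    have h1 : k⁻¹ * x * k⁻¹⁻¹ ∈ ⁅K, Y⁆ :=
      Cfsg.Agent.H52.conj_mem_commutator_left (K.inv_mem hk) hx
    have h2 := hcent x hx y hy
    have h3 := hcent _ h1 y hy
    have h2' : y⁻¹ * x = x * y⁻¹ := by
      calc y⁻¹ * x = y⁻¹ * (x * y) * y⁻¹ := by group
        _ = y⁻¹ * (y * x) * y⁻¹ := by rw [h2]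
        _ = x * y⁻¹ := by group
    rw [commutatorElement_def]
    calc x * (k * y * k⁻¹ * y⁻¹) = k * ((k⁻¹ * x * k⁻¹⁻¹) * y) * k⁻¹ * y⁻¹ := by group
      _ = k * (y * (k⁻¹ * x * k⁻¹⁻¹)) * k⁻¹ * y⁻¹ := by rw [h3]
      _ = k * y * k⁻¹ * (x * y⁻¹) := by group
      _ = k * y * k⁻¹ * (y⁻¹ * x) := by rw [h2']
      _ = k * y * k⁻¹ * y⁻¹ * x := by group
  -- X is abelian
  have hab : ∀ x ∈ ⁅K, Y⁆, ∀ x' ∈ ⁅K, Y⁆, x * x' = x' * x := by
    intro x hx x' hx'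
    rw [Subgroup.commutator_def] at hx'
    induction hx' using Subgroup.closure_induction with
    | mem z hz =>
      obtain ⟨k, hk, y, hy, rfl⟩ := hz
      exact hgen x hx k hk y hy
    | one => simp
    | mul a b _ _ ha hb => rw [← mul_assoc, ha, mul_assoc, hb, mul_assoc]
    | inv a _ ha =>
      calc x * a⁻¹ = a⁻¹ * (a * x) * a⁻¹ := by group
        _ = a⁻¹ * (x * a) * a⁻¹ := by rw [ha]
        _ = a⁻¹ * x := by group
  -- generators are p-elements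
  have hpow : ∀ k ∈ K, ∀ y ∈ Y, ∀ m : ℕ, ⁅k, y ^ m⁆ = ⁅k, y⁆ ^ m := by
    intro k hk y hy m
    induction m with
    | zero => simp [commutatorElement_def]
    | succ m ih =>
      have hm : ⁅k, y ^ m⁆ ∈ ⁅K, Y⁆ := Subgroup.commutator_mem_commutator hk (Y.pow_mem hy m)
      have e : ⁅k, y ^ (m + 1)⁆ = ⁅k, y⁆ * (y * ⁅k, y ^ m⁆ * y⁻¹) := by
        rw [pow_succ']; simp only [commutatorElement_def]; group
      rw [e, hcent _ hm y hy, mul_assoc, mul_inv_cancel, mul_one, ih, pow_succ']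
  have hXp : ∀ x ∈ ⁅K, Y⁆, ∃ j : ℕ, x ^ p ^ j = 1 := by
    intro x hx
    have hx0 := hx
    rw [Subgroup.commutator_def] at hx
    induction hx using Subgroup.closure_induction with
    | mem z hz =>
      obtain ⟨k, hk, y, hy, rfl⟩ := hz
      obtain ⟨j, hj⟩ := hY ⟨y, hy⟩
      have hj' : y ^ p ^ j = 1 := by simpa using congrArg Subtype.val hj
      refine ⟨j, ?_⟩
      rw [← hpow k hk y hy, hj']
      simp [commutatorElement_def]
    | one => exact ⟨0, by simp⟩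
    | mul a b ha' hb' ha hb =>
      rw [← Subgroup.commutator_def] at ha' hb'
      obtain ⟨i, hi⟩ := ha ha'
      obtain ⟨j, hj⟩ := hb hb'
      refine ⟨i + j, ?_⟩
      have hc : Commute a b := hab a ha' b hb'
      rw [hc.mul_pow, pow_add, pow_mul, hi, one_pow, one_mul, mul_comm (p ^ i), pow_mul, hj, one_pow]
    | inv a ha' ha =>
      rw [← Subgroup.commutator_def] at ha'
      obtain ⟨i, hi⟩ := ha ha'
      exact ⟨i, by rw [inv_pow, hi, inv_one]⟩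
  -- X.subgroupOf K is a normal p-subgroup of K
  have hnorm : (⁅K, Y⁆.subgroupOf K).Normal := by
    constructor
    intro x hx k
    rw [Subgroup.mem_subgroupOf] at hx ⊢
    exact Cfsg.Agent.H52.conj_mem_commutator_left k.2 hx
  have hpg : IsPGroup p (⁅K, Y⁆.subgroupOf K) := by
    rintro ⟨x, hx⟩
    rw [Subgroup.mem_subgroupOf] at hx
    obtain ⟨j, hj⟩ := hXp _ hx
    refine ⟨j, ?_⟩
    apply Subtype.ext
    apply Subtype.ext
    simpa using hj
  have hle := Cfsg.Agent.H52.le_pCore hnorm hpg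
  rw [hO, le_bot_iff, Subgroup.subgroupOf_eq_bot] at hle
  rw [eq_bot_iff]
  intro x hx
  have : x ∈ ⁅K, Y⁆ ⊓ K := ⟨hx, hXK hx⟩
  rw [hle.eq_bot] at this
  exact this

end Cfsg.Agent.S2813
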