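import Cfsg.Statements.S2814
import Cfsg.Agent.H52.SubnormalClosure

set_option autoImplicit false
open Cfsg
open scoped commutatorElement

namespace Cfsg.Agent.S2814

/-- Let A be a subgroup of the finite group H and K the subnormal closure of A (intersection of the subnormal subgroups containing A). Then K is the normal closure of A inside K and N_H(A) ≤ N_H(K); K = A·O^p(K), O^p(K) being generated by the elements of K of order prime to p; and if A is a p-group, O^p(K) = [O^p(K), A]. -/
theorem result {H : Type*} [Group H] [Finite H] {p : ℕ} [Fact p.Prime] (A : Subgroup H) (K : Subgroup H) (hK : K = Cfsg.subnormalClosure A) : (Subgroup.normalClosure ((A.subgroupOf K : Subgroup ↥K) : Set ↥K)).map K.subtype = K ∧ Subgroup.normalizer (A : Set H) ≤ Subgroup.normalizer (K : Set H) ∧ A ⊔ (Cfsg.pResidual p ↥K).map K.subtype = K ∧ (IsPGroup p ↥A → ⁅(Cfsg.pResidual p ↥K).map K.subtype, A⁆ = (Cfsg.pResidual p ↥K).map K.subtype) := by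
  have hAK : A ≤ K := by rw [hK]; exact Cfsg.Agent.H52.le_subnormalClosure A
  have hKsub : K.IsSubnormal := by rw [hK]; exact Cfsg.Agent.H52.subnormalClosure_isSubnormal A
  have hKmin : ∀ K' : Subgroup H, A ≤ K' → K'.IsSubnormal → K ≤ K' := by
    intro K' h1 h2
    rw [hK]
    exact Cfsg.Agent.H52.subnormalClosure_le h1 h2
  have h1 : (Subgroup.normalClosure ((A.subgroupOf K : Subgroup ↥K) : Set ↥K)).map K.subtype = K := by
    apply le_antisymm
    · rintro _ ⟨x, -, rfl⟩
      exact x.2
    · apply hKmin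
      · intro a ha
        exact ⟨⟨a, hAK ha⟩, Subgroup.subset_normalClosure (Subgroup.mem_subgroupOf.mpr ha), rfl⟩
      · exact (Subgroup.normalClosure_normal.isSubnormal).trans' hKsub
  have hRcl : (Cfsg.pResidual p ↥K).map K.subtype =
      Subgroup.closure {x : H | x ∈ K ∧ (orderOf x).Coprime p} :=
    Cfsg.Agent.H52.map_pResidual_eq p K
  have h3 : A ⊔ (Cfsg.pResidual p ↥K).map K.subtype = K := by
    apply le_antisymm
    · apply sup_le hAK
      rintro _ ⟨x, -, rfl⟩
      exact x.2
    · apply hKmin _ le_sup_left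
      have h := (Cfsg.Agent.H52.isSubnormal_sup_pResidual (H := ↥K) (p := p)
        (A.subgroupOf K)).trans' hKsub
      rw [Subgroup.map_sup, Subgroup.map_subgroupOf_eq_of_le hAK, sup_comm] at h
      exact h
  refine ⟨h1, ?_, h3, ?_⟩
  · apply Cfsg.Agent.H52.le_normalizer_of_conj_mem
    intro g hg k hk
    have hsub : (K.map (MulAut.conj g⁻¹).toMonoidHom).IsSubnormal :=
      hKsub.map (MulAut.conj g⁻¹).surjective
    have hA' : A ≤ K.map (MulAut.conj g⁻¹).toMonoidHom := by
      intro a ha
      rw [Cfsg.Agent.H52.mem_map_conj, inv_inv]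
      exact hAK (Cfsg.Agent.H52.conj_mem_of_mem_normalizer hg ha)
    have h5 := hKmin _ hA' hsub hk
    rw [Cfsg.Agent.H52.mem_map_conj, inv_inv] at h5
    exact h5
  · intro hAp
    generalize (Cfsg.pResidual p ↥K).map K.subtype = R at hRcl h3 ⊢
    have hKR : ∀ k ∈ K, ∀ b ∈ R, k * b * k⁻¹ ∈ R := by
      intro k hk b hb
      have h : R ≤ R.comap (MulAut.conj k).toMonoidHom := by
        conv_lhs => rw [hRcl]
        rw [Subgroup.closure_le]
        intro x hx
        have h2 : k * x * k⁻¹ ∈ R := by
          rw [hRcl]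
          apply Subgroup.subset_closure
          exact ⟨K.mul_mem (K.mul_mem hk hx.1) (K.inv_mem hk), by
            rw [Cfsg.Agent.H52.orderOf_conj']; exact hx.2⟩
        exact h2
      exact h hb
    have hDR : ⁅R, A⁆ ≤ R := by
      rw [Subgroup.commutator_le]
      intro r hr a ha
      have h5 := hKR a (hAK ha) r⁻¹ (R.inv_mem hr)
      have e : ⁅r, a⁆ = r * (a * r⁻¹ * a⁻¹) := by simp [commutatorElement_def, mul_assoc]
      rw [e]
      exact R.mul_mem hr h5
    apply le_antisymm hDR
    have hnorm : A ⊔ R ≤ Subgroup.normalizer ((A ⊔ ⁅R, A⁆ : Subgroup H) : Set H) := by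
      apply sup_le
      · apply Cfsg.Agent.H52.le_normalizer_of_conj_mem
        intro a ha x hx
        exact Cfsg.Agent.H52.conj_mem_sup
          (fun a' ha' => A.mul_mem (A.mul_mem ha ha') (A.inv_mem ha))
          (fun d hd => Cfsg.Agent.H52.conj_mem_commutator_right ha hd) hx
      · apply Cfsg.Agent.H52.le_normalizer_of_conj_mem
        intro r hr x hx
        have h : A ⊔ ⁅R, A⁆ ≤ (A ⊔ ⁅R, A⁆).comap (MulAut.conj r).toMonoidHom := by
          apply sup_le
          · intro a ha
            show r * a * r⁻¹ ∈ A ⊔ ⁅R, A⁆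
            have e : r * a * r⁻¹ = ⁅r, a⁆ * a := by simp [commutatorElement_def]
            rw [e]
            exact Subgroup.mul_mem _
              (Subgroup.mem_sup_right (Subgroup.commutator_mem_commutator hr ha))
              (Subgroup.mem_sup_left ha)
          · intro d hd
            exact Subgroup.mem_sup_right (Cfsg.Agent.H52.conj_mem_commutator_left hr hd)
        exact h hx
    rw [h3] at hnorm
    have hKAD : K ≤ A ⊔ ⁅R, A⁆ := by
      haveI : ((A ⊔ ⁅R, A⁆).subgroupOf K).Normal := ⟨fun x hx k => by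
        rw [Subgroup.mem_subgroupOf] at hx ⊢
        exact Cfsg.Agent.H52.conj_mem_of_mem_normalizer (hnorm k.2) hx⟩
      have h6 : Subgroup.normalClosure ((A.subgroupOf K : Subgroup ↥K) : Set ↥K) ≤
          (A ⊔ ⁅R, A⁆).subgroupOf K := by
        apply Subgroup.normalClosure_le_normal
        intro x hx
        exact Subgroup.mem_subgroupOf.mpr (Subgroup.mem_sup_left (Subgroup.mem_subgroupOf.mp hx))
      intro k hk
      have hk' : k ∈ (Subgroup.normalClosure ((A.subgroupOf K : Subgroup ↥K) : Set ↥K)).map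
          K.subtype := by rw [h1]; exact hk
      obtain ⟨x, hx, rfl⟩ := hk'
      exact Subgroup.mem_subgroupOf.mp (h6 hx)
    conv_lhs => rw [hRcl]
    rw [Subgroup.closure_le]
    intro x hx
    apply Cfsg.Agent.H52.mem_of_coprime_of_mem_sup hAp ?_ (hKAD hx.1) hx.2
    apply Cfsg.Agent.H52.le_normalizer_of_conj_mem
    intro a ha d hd
    exact Cfsg.Agent.H52.conj_mem_commutator_right ha hd

end Cfsg.Agent.S2814
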