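import Cfsg.Statements.S2815
import Cfsg.Agent.H52.FStar

set_option autoImplicit false
open Cfsg
open scoped commutatorElement

namespace Cfsg.Agent.S2815

/-- Let H be a finite group and p a prime dividing its order with O_p(H) = 1, and suppose K = O^p(H) (generated by the elements of order prime to p) is quasisimple. Then K = F*(H); for every nontrivial p-subgroup Y of H, K = [K, Y] and K lies in the subgroup generated by the K-conjugates of Y; every normal subgroup of H not containing K has order prime to p; and H is p-irreducible. -/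
theorem result {H : Type*} [Group H] [Finite H] {p : ℕ} [Fact p.Prime] (hp : p ∣ Nat.card H) (hO : Cfsg.pCore p H = ⊥) (hq : Cfsg.IsQuasisimple ↥(Cfsg.pResidual p H)) : Cfsg.pResidual p H = Cfsg.generalizedFittingSubgroup H ∧ (∀ Y : Subgroup H, IsPGroup p ↥Y → Y ≠ ⊥ → ⁅Cfsg.pResidual p H, Y⁆ = Cfsg.pResidual p H ∧ Cfsg.pResidual p H ≤ ⨆ k : ↥(Cfsg.pResidual p H), Y.map (MulAut.conj (k : H)).toMonoidHom) ∧ (∀ C : Subgroup H, C.Normal → ¬ Cfsg.pResidual p H ≤ C → (Nat.card ↥C).Coprime p) ∧ Cfsg.IsPIrreducible p H := by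
  have hpp : p.Prime := Fact.out
  haveI hKn : (Cfsg.pResidual p H).Normal := Subgroup.normal_of_characteristic _
  have hKcomp : Cfsg.IsComponent (Cfsg.pResidual p H) := ⟨hKn.isSubnormal, hq⟩
  have hKperf : ⁅Cfsg.pResidual p H, Cfsg.pResidual p H⁆ = Cfsg.pResidual p H :=
    Cfsg.Agent.H52.V27.isComponent_perfect hKcomp
  -- (1) K = F*(H)
  have h1 : Cfsg.pResidual p H = Cfsg.generalizedFittingSubgroup H := by
    apply le_antisymm
    · exact (Cfsg.Agent.H52.V27.isComponent_le_layer hKcomp).trans
        Cfsg.Agent.H52.V27.layer_le_genFitting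
    · unfold Cfsg.generalizedFittingSubgroup
      apply sup_le
      · unfold Cfsg.layer
        apply sSup_le
        intro C hC
        exact Cfsg.Agent.H52.perfect_le_pResidual C (Cfsg.Agent.H52.V27.isComponent_perfect hC)
      · exact Cfsg.Agent.H52.le_pResidual_of_coprime _
          (Cfsg.Agent.H52.coprime_card_of_nilpotent hO _ Cfsg.Agent.H52.V27.fitting_nilpotent)
  -- (A) the centralizer of K is a p'-group
  haveI hDn : (Subgroup.centralizer (Cfsg.pResidual p H : Set H)).Normal :=
    Subgroup.normal_centralizer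
  have hDK : Subgroup.centralizer (Cfsg.pResidual p H : Set H) ≤ Cfsg.pResidual p H := by
    have h := Cfsg.Agent.H52.V27.centralizer_genFitting_le (G := H)
    rw [← h1] at h
    exact h
  have hDcop : (Nat.card (Subgroup.centralizer (Cfsg.pResidual p H : Set H))).Coprime p := by
    obtain ⟨P⟩ : Nonempty (Sylow p ↥(Subgroup.centralizer (Cfsg.pResidual p H : Set H))) :=
      inferInstance
    apply Cfsg.Agent.H52.coprime_card_of_normal_sylow hO _ P
    constructor
    intro x hx d
    have hcomm : d * x = x * d := by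
      apply Subtype.ext
      have h2 := (Subgroup.mem_centralizer_iff.mp d.2) (x : H) (hDK x.2)
      exact h2.symm
    rw [hcomm, mul_inv_cancel_right]
    exact hx
  have hYtriv : ∀ Y : Subgroup H, IsPGroup p ↥Y →
      Y ≤ Subgroup.centralizer (Cfsg.pResidual p H : Set H) → Y = ⊥ := by
    intro Y hY hYD
    rcases hY.card_eq_or_dvd with h | h
    · exact Subgroup.card_eq_one.mp h
    · exfalso
      have h2 := h.trans (Subgroup.card_dvd_of_le hYD)
      exact (Nat.Prime.coprime_iff_not_dvd hpp).mp hDcop.symm h2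
  have h3 : ∀ C : Subgroup H, C.Normal → ¬ Cfsg.pResidual p H ≤ C → (Nat.card ↥C).Coprime p := by
    intro C hC hKC
    haveI := hC
    rcases Cfsg.Agent.H52.V27.component_normal_le_or_comm (Cfsg.pResidual p H) C hKcomp with h | h
    · exact absurd h hKC
    · rw [Subgroup.commutator_comm, Subgroup.commutator_eq_bot_iff_le_centralizer] at h
      exact Nat.Coprime.coprime_dvd_left (Subgroup.card_dvd_of_le h) hDcop
  refine ⟨h1, ?_, h3, ?_⟩
  · intro Y hY hY1
    have hMK : ⁅Cfsg.pResidual p H, Y⁆ ≤ Cfsg.pResidual p H := Subgroup.commutator_le_left _ _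
    have hKM : Cfsg.pResidual p H ≤ ⁅Cfsg.pResidual p H, Y⁆ := by
      haveI : ((⁅Cfsg.pResidual p H, Y⁆).subgroupOf (Cfsg.pResidual p H)).Normal := by
        constructor
        intro x hx k
        rw [Subgroup.mem_subgroupOf] at hx ⊢
        exact Cfsg.Agent.H52.conj_mem_commutator_left k.2 hx
      rcases Cfsg.Agent.H52.V27.quasisimple_normal hq
        ((⁅Cfsg.pResidual p H, Y⁆).subgroupOf (Cfsg.pResidual p H)) with h | h
      · exfalso
        apply hY1
        apply hYtriv Y hY
        rw [← Subgroup.commutator_eq_bot_iff_le_centralizer, Subgroup.commutator_comm]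
        apply Cfsg.Agent.H52.V27.comm_eq_bot_of_perfect _ _ hKperf
        rw [Subgroup.commutator_comm Y]
        apply Cfsg.Agent.H52.V27.comm_eq_bot_of_forall
        intro m hm k hk
        have h5 := (Subgroup.mem_center_iff.mp (h (Subgroup.mem_subgroupOf.mpr
          (show ((⟨m, hMK hm⟩ : ↥(Cfsg.pResidual p H)) : H) ∈ ⁅Cfsg.pResidual p H, Y⁆ from hm))))
          ⟨k, hk⟩
        exact (congrArg Subtype.val h5).symm
      · exact Subgroup.subgroupOf_eq_top.mp h
    refine ⟨le_antisymm hMK hKM, ?_⟩
    refine hKM.trans ?_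
    rw [Subgroup.commutator_le]
    intro k hk y hy
    have h6 : k * y * k⁻¹ ∈ ⨆ k : ↥(Cfsg.pResidual p H), Y.map (MulAut.conj (k : H)).toMonoidHom :=
      (le_iSup (fun k : ↥(Cfsg.pResidual p H) => Y.map (MulAut.conj (k : H)).toMonoidHom) ⟨k, hk⟩)
        ⟨y, hy, rfl⟩
    have h7 : y ∈ ⨆ k : ↥(Cfsg.pResidual p H), Y.map (MulAut.conj (k : H)).toMonoidHom :=
      (le_iSup (fun k : ↥(Cfsg.pResidual p H) => Y.map (MulAut.conj (k : H)).toMonoidHom) 1)
        ⟨y, hy, by simp⟩
    rw [commutatorElement_def]
    exact Subgroup.mul_mem _ h6 (Subgroup.inv_mem _ h7)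
  · refine ⟨?_, ?_⟩
    · intro hcl
      obtain ⟨P⟩ : Nonempty (Sylow p H) := inferInstance
      have hPn := hcl P
      have hle : (P : Subgroup H) ≤ Cfsg.pCore p H := Cfsg.Agent.H52.le_pCore hPn P.2
      rw [hO] at hle
      exact P.ne_bot_of_dvd_card hp (le_bot_iff.mp hle)
    · intro N hN hNcl
      by_contra hKN
      apply hNcl
      intro P
      have hcop := h3 N hN hKN
      have hPbot : (P : Subgroup ↥N) = ⊥ := by
        by_contra hne
        rcases P.2.card_eq_or_dvd with h | h
        · exact hne (Subgroup.card_eq_one.mp h)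
        · have h2 := h.trans (Subgroup.card_subgroup_dvd_card (P : Subgroup ↥N))
          exact (Nat.Prime.coprime_iff_not_dvd hpp).mp hcop.symm h2
      rw [hPbot]
      infer_instance

end Cfsg.Agent.S2815
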