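import Cfsg.Statements.S2816
import Cfsg.Agent.H52.FStarAct2

set_option autoImplicit false
open Cfsg
open scoped commutatorElement

namespace Cfsg.Agent.S2816

/-- Let H be a finite group and p a prime with O_p(H) = 1, and Y a p-subgroup of H. Then for every subnormal subgroup K of H containing Y, [F*(H), Y] = [F*(K), Y] = [F*(K), Y, Y]; and if Y₀ ≤ Y with [F*(H), Y, Y₀] = 1 then Y₀ = 1 (in particular [F*(H), Y] = 1 forces Y = 1). -/
theorem result {H : Type*} [Group H] [Finite H] {p : ℕ} [Fact p.Prime] (hO : Cfsg.pCore p H = ⊥) (Y : Subgroup H) (hY : IsPGroup p ↥Y) : (∀ K : Subgroup H, K.IsSubnormal → Y ≤ K → ⁅Cfsg.generalizedFittingSubgroup H, Y⁆ = ⁅(Cfsg.generalizedFittingSubgroup ↥K).map K.subtype, Y⁆ ∧ ⁅(Cfsg.generalizedFittingSubgroup ↥K).map K.subtype, Y⁆ = ⁅⁅(Cfsg.generalizedFittingSubgroup ↥K).map K.subtype, Y⁆, Y⁆) ∧ (∀ Y₀ : Subgroup H, Y₀ ≤ Y → ⁅⁅Cfsg.generalizedFittingSubgroup H, Y⁆, Y₀⁆ = ⊥ → Y₀ =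 ⊥) := by
  refine ⟨?_, ?_⟩
  · intro K hK hYK
    refine ⟨Cfsg.Agent.H52.genFitting_commutator_subnormal hO hK hY hYK, ?_⟩
    have hOK : Cfsg.pCore p ↥K = ⊥ := Cfsg.Agent.H52.pCore_eq_bot_of_subnormal hO hK
    have h1 := (Cfsg.Agent.H52.genFitting_commutator hOK (Y := Y.subgroupOf K)
      hY.comap_subtype).2
    have h2 := congrArg (Subgroup.map K.subtype) h1
    rw [Subgroup.map_commutator, Subgroup.map_commutator,
      Subgroup.map_subgroupOf_eq_of_le hYK] at h2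
    exact h2.symm
  · intro Y₀ hY₀ h
    have hY₀p : IsPGroup p ↥Y₀ := hY.to_le hY₀
    have h1 : ⁅⁅Cfsg.generalizedFittingSubgroup H, Y₀⁆, Y₀⁆ = ⊥ := by
      rw [eq_bot_iff, ← h]
      exact Subgroup.commutator_mono (Subgroup.commutator_mono le_rfl hY₀) le_rfl
    have h2 : ⁅Cfsg.generalizedFittingSubgroup H, Y₀⁆ = ⊥ := by
      rw [← (Cfsg.Agent.H52.genFitting_commutator hO hY₀p).2]
      exact h1
    apply Cfsg.Agent.H52.eq_bot_of_le_centralizer_genFitting hO hY₀p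
    rw [← Subgroup.commutator_eq_bot_iff_le_centralizer, Subgroup.commutator_comm]
    exact h2

end Cfsg.Agent.S2816
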