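import Cfsg.Statements.S2817
import Cfsg.Agent.H52.FStarAct4

set_option autoImplicit false
open Cfsg

namespace Cfsg.Agent.S2817

open scoped commutatorElement

/-- Let H be a finite group and p a prime with O_p(H) = 1, Q a p-subgroup of H, L = [F*(H), Q], and F the largest normal subgroup of F*(H) centralized by Q (a normal subgroup of F*(H) centralized by Q and containing every such). Then F = C_{F*(H)}(LQ); L = [L, Q]; L ∩ F ≤ Φ(L); every p-subgroup B of N_H(Q) with [L, B] ≤ F satisfies [L, B] = 1; and C_H(FL) has order prime to p. -/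
theorem result {H : Type*} [Group H] [Finite H] {p : ℕ} [Fact p.Prime] (hO : Cfsg.pCore p H = ⊥) (Q : Subgroup H) (hQ : IsPGroup p ↥Q) (L : Subgroup H) (hL : L = ⁅Cfsg.generalizedFittingSubgroup H, Q⁆) (F : Subgroup H) (hF : F ≤ Cfsg.generalizedFittingSubgroup H ∧ Cfsg.generalizedFittingSubgroup H ≤ Subgroup.normalizer (F : Set H) ∧ Q ≤ Subgroup.centralizer (F : Set H) ∧ ∀ N : Subgroup H, N ≤ Cfsg.generalizedFittingSubgroup H → Cfsg.generalizedFittingSubgroup H ≤ Subgroup.normalizer (N : Set H) → Q ≤ Subgroup.centralizer (N : Set H) → N ≤ F) : F = Cfsg.generalizedFittingSubgroup H ⊓ Subgroup.centralizer ((L ⊔ Q : Subgroup H) : Set H) ∧ ⁅L, Q⁆ = L ∧ L ⊓ F ≤ (frattini ↥L).map L.subtype ∧ (∀ B : Subgroup H, IsPGroup p ↥B → B ≤ Subgroup.normalizer (Q : Set H) → ⁅L, B⁆ ≤ F → ⁅L, B⁆ = ⊥) ∧ (Nat.card ↥(Subgroup.centralizer ((F ⊔ L : Subgroup H) : Set H))).Coprime p := by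
  have hFeq := Cfsg.Agent.H52.largest_fixed_eq hL hF
  have hLQ : ⁅L, Q⁆ = L := by
    rw [hL]
    exact (Cfsg.Agent.H52.genFitting_commutator hO hQ).2
  have hfrat : L ⊓ F ≤ (frattini ↥L).map L.subtype := by
    intro x hx
    have hxF : x ∈ Cfsg.generalizedFittingSubgroup H ⊓
        Subgroup.centralizer ((L ⊔ Q : Subgroup H) : Set H) := by
      rw [← hFeq]; exact hx.2
    have hxc := Subgroup.mem_centralizer_iff.mp hxF.2
    apply Cfsg.Agent.H52.central_fixed_mem_frattini hO hQ hL hx.1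
    · exact Subgroup.mem_centralizer_iff.mpr (fun q hq => hxc q (Subgroup.mem_sup_right hq))
    · exact Subgroup.mem_centralizer_iff.mpr (fun l hl => hxc l (Subgroup.mem_sup_left hl))
  refine ⟨hFeq, hLQ, hfrat, ?_, Cfsg.Agent.H52.centralizer_sup_coprime hO hQ hL hF⟩
  intro B hB hBQ hLBF
  have hsup := Cfsg.Agent.H52.genFitting_commutator_sup_centralizer hO hQ hB hBQ hL
  have hBF : B ≤ Subgroup.normalizer ((Cfsg.generalizedFittingSubgroup H : Subgroup H) : Set H) :=
    Cfsg.Agent.H52.V27.le_normalizer_of_normal _ _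
  have hBL : B ≤ Subgroup.normalizer (L : Set H) := by
    rw [hL]
    exact Cfsg.Agent.H52.le_normalizer_of_conj_mem (fun b hb x hx =>
      Cfsg.Agent.H52.conj_mem_commutator_of_mem_normalizer (hBF hb) (hBQ hb) hx)
  have hLBL : ⁅L, B⁆ ≤ L := Cfsg.Agent.H52.V27.commutator_le_of_le_normalizer' hBL
  have hLBfrat : ⁅L, B⁆ ≤ (frattini ↥L).map L.subtype := (le_inf hLBL hLBF).trans hfrat
  have htop : frattini ↥L ⊔ (L ⊓ Subgroup.centralizer (B : Set H)).subgroupOf L = ⊤ := by
    rw [eq_top_iff]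
    intro x _
    have hx : (x : H) ∈ ⁅L, B⁆ ⊔ (L ⊓ Subgroup.centralizer (B : Set H)) := by
      rw [hsup]; exact x.2
    have h3 : ∀ A C : Subgroup H, A ≤ (frattini ↥L).map L.subtype →
        C ≤ ((L ⊓ Subgroup.centralizer (B : Set H)).subgroupOf L).map L.subtype →
        A ⊔ C ≤ (frattini ↥L ⊔ (L ⊓ Subgroup.centralizer (B : Set H)).subgroupOf L).map
          L.subtype := by
      intro A C hA hC
      rw [Subgroup.map_sup]
      exact sup_le_sup hA hC
    have hx2 := h3 _ _ hLBfrat (by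
      rw [Subgroup.map_subgroupOf_eq_of_le inf_le_left]) hx
    obtain ⟨y, hy, hyx⟩ := hx2
    have e : y = x := Subtype.ext hyx
    rw [← e]
    exact hy
  rw [sup_comm] at htop
  have h4 := frattini_nongenerating htop
  have h5 : L ≤ L ⊓ Subgroup.centralizer (B : Set H) := Subgroup.subgroupOf_eq_top.mp h4
  exact Subgroup.commutator_eq_bot_iff_le_centralizer.mpr (h5.trans inf_le_right)

end Cfsg.Agent.S2817
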