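import Cfsg.Statements.S2818
import Cfsg.Agent.H52.Frattini

set_option autoImplicit false
open Cfsg
open scoped commutatorElement

namespace Cfsg.Agent.S2818

theorem comm_central_mul {G : Type*} [Group G] {z z' a b : G} (hza : Commute z a) (hzb : Commute z b)
    (hzz' : Commute z z') (hz'a : Commute z' a) (hz'b : Commute z' b) :
    ⁅z * a, z' * b⁆ = ⁅a, b⁆ := by
  have h1 : Commute z (a * z' * b * a⁻¹) :=
    ((hza.mul_right hzz').mul_right hzb).mul_right hza.inv_right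
  have h2 : Commute z' (a * b * a⁻¹ * b⁻¹) :=
    ((hz'a.mul_right hz'b).mul_right hz'a.inv_right).mul_right hz'b.inv_right
  calc ⁅z * a, z' * b⁆ = (z * (a * z' * b * a⁻¹) * z⁻¹) * b⁻¹ * z'⁻¹ := by
        simp only [commutatorElement_def]; group
    _ = (a * z' * b * a⁻¹) * b⁻¹ * z'⁻¹ := by rw [h1.eq, mul_inv_cancel_right]
    _ = (z' * a) * b * a⁻¹ * b⁻¹ * z'⁻¹ := by rw [hz'a.eq]
    _ = z' * (a * b * a⁻¹ * b⁻¹) * z'⁻¹ := by group
    _ = a * b * a⁻¹ * b⁻¹ := by rw [h2.eq, mul_inv_cancel_right]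
    _ = ⁅a, b⁆ := rfl

/-- Let P be a finite p-subgroup of a group G and H a subgroup of N_G(P) with [P, H] ≤ Ω₁(Z(P)) (the elements of order dividing p in the centre of P). Then H centralizes the Frattini subgroup of P. -/
theorem result {G : Type*} [Group G] [Finite G] {p : ℕ} [Fact p.Prime] (P : Subgroup G) (hP : IsPGroup p ↥P) (H : Subgroup G) (hH : H ≤ Subgroup.normalizer (P : Set G)) (h : ⁅P, H⁆ ≤ Cfsg.omegaOne p (P ⊓ Subgroup.centralizer (P : Set G))) : ⁅(frattini ↥P).map P.subtype, H⁆ = ⊥ := by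
  -- conjugation by g ∈ H multiplies a ∈ P by a central element of order dividing p
  have key : ∀ a ∈ P, ∀ g ∈ H, ∃ z, z ∈ P ∧ (∀ y ∈ P, Commute z y) ∧ z ^ p = 1 ∧
      g * a * g⁻¹ = z * a := by
    intro a ha g hg
    have h1 : (⁅a, g⁆)⁻¹ ∈ Cfsg.omegaOne p (P ⊓ Subgroup.centralizer (P : Set G)) :=
      inv_mem (h (Subgroup.commutator_mem_commutator ha hg))
    obtain ⟨h2, h3, h4⟩ := Cfsg.Agent.H52.omegaOne_center_spec P h1
    refine ⟨(⁅a, g⁆)⁻¹, h2, ?_, h4, ?_⟩
    · intro y hy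
      exact ((Subgroup.mem_centralizer_iff.mp h3) y hy).symm
    · rw [commutatorElement_def]; group
  let N : Subgroup ↥P := (Subgroup.centralizer (H : Set G)).subgroupOf P
  have hNmem : ∀ x : ↥P, x ∈ N ↔ ∀ g ∈ H, g * (x : G) * g⁻¹ = (x : G) := by
    intro x
    show (x : G) ∈ Subgroup.centralizer (H : Set G) ↔ _
    rw [Subgroup.mem_centralizer_iff]
    constructor
    · intro hx g hg
      rw [hx g hg, mul_inv_cancel_right]
    · intro hx g hg
      have := hx g hg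
      calc g * (x : G) = g * (x : G) * g⁻¹ * g := by group
        _ = (x : G) * g := by rw [this]
  haveI hNn : N.Normal := by
    constructor
    intro x hx a
    rw [hNmem] at hx ⊢
    intro g hg
    obtain ⟨z, hzP, hzc, -, hza⟩ := key a a.2 g hg
    have hxg := hx g hg
    have hmem : (a : G) * (x : G) * (a : G)⁻¹ ∈ P := P.mul_mem (P.mul_mem a.2 x.2) (P.inv_mem a.2)
    have hc := hzc _ hmem
    calc g * ((a * x * a⁻¹ : ↥P) : G) * g⁻¹
        = (g * (a : G) * g⁻¹) * (g * (x : G) * g⁻¹) * (g * (a : G) * g⁻¹)⁻¹ := by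
          push_cast; group
      _ = (z * (a : G)) * (x : G) * (z * (a : G))⁻¹ := by rw [hza, hxg]
      _ = z * ((a : G) * (x : G) * (a : G)⁻¹) * z⁻¹ := by group
      _ = (a : G) * (x : G) * (a : G)⁻¹ := by rw [hc.eq, mul_inv_cancel_right]
      _ = ((a * x * a⁻¹ : ↥P) : G) := by push_cast; rfl
  have hfr : frattini ↥P ≤ N := by
    apply Cfsg.Agent.H52.frattini_le_of_comm_pow (p := p) N
    · intro a b
      rw [hNmem]
      intro g hg
      obtain ⟨z, hzP, hzc, -, hza⟩ := key a a.2 g hg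
      obtain ⟨z', hz'P, hz'c, -, hz'b⟩ := key b b.2 g hg
      calc g * ((⁅a, b⁆ : ↥P) : G) * g⁻¹ = ⁅g * (a : G) * g⁻¹, g * (b : G) * g⁻¹⁆ := by
            simp only [commutatorElement_def]; push_cast; group
        _ = ⁅z * (a : G), z' * (b : G)⁆ := by rw [hza, hz'b]
        _ = ⁅(a : G), (b : G)⁆ :=
            comm_central_mul (hzc _ a.2) (hzc _ b.2) (hzc _ hz'P) (hz'c _ a.2) (hz'c _ b.2)
        _ = ((⁅a, b⁆ : ↥P) : G) := by simp only [commutatorElement_def]; push_cast; rfl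
    · intro a
      rw [hNmem]
      intro g hg
      obtain ⟨z, hzP, hzc, hzp, hza⟩ := key a a.2 g hg
      calc g * ((a ^ p : ↥P) : G) * g⁻¹ = (g * (a : G) * g⁻¹) ^ p := by
            rw [conj_pow]; push_cast; rfl
        _ = (z * (a : G)) ^ p := by rw [hza]
        _ = (a : G) ^ p := by rw [(hzc _ a.2).mul_pow, hzp, one_mul]
        _ = ((a ^ p : ↥P) : G) := by push_cast; rfl
  rw [eq_bot_iff, Subgroup.commutator_le]
  intro u hu g hg
  obtain ⟨x, hx, rfl⟩ := Subgroup.mem_map.mp hu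
  have hxN := (hNmem x).mp (hfr hx) g hg
  rw [Subgroup.mem_bot, commutatorElement_def]
  show (x : G) * g * (x : G)⁻¹ * g⁻¹ = 1
  calc (x : G) * g * (x : G)⁻¹ * g⁻¹ = (x : G) * (g * (x : G) * g⁻¹)⁻¹ := by group
    _ = 1 := by rw [hxN, mul_inv_cancel]

end Cfsg.Agent.S2818
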