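import Cfsg.Statements.S2819
import Cfsg.Agent.H52.Frattini

set_option autoImplicit false
open Cfsg
open scoped commutatorElement

namespace Cfsg.Agent.S2819

/-- Let P be a finite p-subgroup of a group G, H a subgroup of N_G(P), and Y a subgroup of H centralizing the derived subgroup P' such that [P, Y] is elementary abelian. Then O^p(⟨Y^H⟩), the subgroup of the normal closure of Y in H generated by its elements of order prime to p, centralizes the Frattini subgroup of P. -/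
theorem result {G : Type*} [Group G] [Finite G] {p : ℕ} [Fact p.Prime] (P : Subgroup G) (hP : IsPGroup p ↥P) (H : Subgroup G) (hH : H ≤ Subgroup.normalizer (P : Set G)) (Y : Subgroup G) (hYH : Y ≤ H) (hYc : Y ≤ Subgroup.centralizer ((⁅P, P⁆ : Subgroup G) : Set G)) (hel : Cfsg.IsElementaryAbelian p ⁅P, Y⁆) (NY : Subgroup G) (hNY : NY = (Subgroup.normalClosure ((Y.subgroupOf H : Subgroup ↥H) : Set ↥H)).map H.subtype) : (Cfsg.pResidual p ↥NY).map NY.subtype ≤ Subgroup.centralizer (((frattini ↥P).map P.subtype : Subgroup G) : Set G) := by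
  have hDP : ⁅P, P⁆ ≤ P := by
    rw [Subgroup.commutator_le]
    intro a ha b hb
    exact P.mul_mem (P.mul_mem (P.mul_mem ha hb) (P.inv_mem ha)) (P.inv_mem hb)
  have hDnorm : ∀ g ∈ Subgroup.normalizer (P : Set G), ∀ d ∈ ⁅P, P⁆, g * d * g⁻¹ ∈ ⁅P, P⁆ :=
    fun g hg d hd => Cfsg.Agent.H52.conj_mem_commutator_of_mem_normalizer hg hg hd
  have hFnorm : ∀ g ∈ Subgroup.normalizer (P : Set G), ∀ u ∈ (frattini ↥P).map P.subtype,
      g * u * g⁻¹ ∈ (frattini ↥P).map P.subtype :=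
    fun g hg u hu => Cfsg.Agent.H52.conj_mem_map_of_characteristic _ hg hu
  -- the chain stabilizer
  let K : Subgroup G :=
    { carrier := {g | (∀ d ∈ ⁅P, P⁆, g * d * g⁻¹ = d) ∧
        (∀ u ∈ (frattini ↥P).map P.subtype, ⁅u, g⁆ ∈ ⁅P, P⁆)}
      one_mem' := by
        refine ⟨fun d _ => by simp, fun u _ => ?_⟩
        simp [commutatorElement_def]
      mul_mem' := by
        rintro g h ⟨hg1, hg2⟩ ⟨hh1, hh2⟩
        refine ⟨fun d hd => ?_, fun u hu => ?_⟩
        · calc g * h * d * (g * h)⁻¹ = g * (h * d * h⁻¹) * g⁻¹ := by group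
            _ = d := by rw [hh1 d hd, hg1 d hd]
        · have e : ⁅u, g * h⁆ = ⁅u, g⁆ * (g * ⁅u, h⁆ * g⁻¹) := by
            simp only [commutatorElement_def]; group
          rw [e, hg1 _ (hh2 u hu)]
          exact Subgroup.mul_mem _ (hg2 u hu) (hh2 u hu)
      inv_mem' := by
        rintro g ⟨hg1, hg2⟩
        have hinv : ∀ d ∈ ⁅P, P⁆, g⁻¹ * d * g⁻¹⁻¹ = d := by
          intro d hd
          calc g⁻¹ * d * g⁻¹⁻¹ = g⁻¹ * (g * d * g⁻¹) * g := by rw [hg1 d hd, inv_inv]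
            _ = d := by group
        refine ⟨hinv, fun u hu => ?_⟩
        have e : ⁅u, g⁻¹⁆ = g⁻¹ * (⁅u, g⁆)⁻¹ * g⁻¹⁻¹ := by
          simp only [commutatorElement_def]; group
        rw [e, hinv _ (Subgroup.inv_mem _ (hg2 u hu))]
        exact Subgroup.inv_mem _ (hg2 u hu) }
  have hKmem : ∀ g : G, g ∈ K ↔ (∀ d ∈ ⁅P, P⁆, g * d * g⁻¹ = d) ∧
        (∀ u ∈ (frattini ↥P).map P.subtype, ⁅u, g⁆ ∈ ⁅P, P⁆) := fun g => Iff.rfl
  -- Y centralizes D
  have hYD : ∀ y ∈ Y, ∀ d ∈ ⁅P, P⁆, y * d * y⁻¹ = d := by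
    intro y hy d hd
    have := (Subgroup.mem_centralizer_iff.mp (hYc hy)) d hd
    rw [← this, mul_inv_cancel_right]
  -- the subgroup of P of elements u with [u, Y] ⊆ D
  let N' : Subgroup ↥P :=
    { carrier := {u | ∀ y ∈ Y, ⁅(u : G), y⁆ ∈ ⁅P, P⁆}
      one_mem' := by
        intro y _
        simp [commutatorElement_def]
      mul_mem' := by
        intro u v hu hv y hy
        have e : ⁅((u * v : ↥P) : G), y⁆ = ((u : G) * ⁅(v : G), y⁆ * (u : G)⁻¹) * ⁅(u : G), y⁆ := by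
          simp only [commutatorElement_def]; push_cast; group
        rw [e]
        exact Subgroup.mul_mem _ (Cfsg.Agent.H52.conj_mem_commutator_left u.2 (hv y hy)) (hu y hy)
      inv_mem' := by
        intro u hu y hy
        have e : ⁅((u⁻¹ : ↥P) : G), y⁆ = (u : G)⁻¹ * (⁅(u : G), y⁆)⁻¹ * (u : G)⁻¹⁻¹ := by
          simp only [commutatorElement_def]; push_cast; group
        rw [e]
        exact Cfsg.Agent.H52.conj_mem_commutator_left (P.inv_mem u.2)
          (Subgroup.inv_mem _ (hu y hy)) }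
  have hN'mem : ∀ u : ↥P, u ∈ N' ↔ ∀ y ∈ Y, ⁅(u : G), y⁆ ∈ ⁅P, P⁆ := fun u => Iff.rfl
  have hDN' : ∀ u : ↥P, (u : G) ∈ ⁅P, P⁆ → u ∈ N' := by
    intro u hu y hy
    have h1 := hYD y hy _ (Subgroup.inv_mem _ hu)
    have e : ⁅(u : G), y⁆ = (u : G) * (y * (u : G)⁻¹ * y⁻¹) := by
      simp only [commutatorElement_def]; group
    rw [e, h1, mul_inv_cancel]
    exact one_mem _
  haveI hN'n : N'.Normal := by
    constructor
    intro u hu a
    have e : a * u * a⁻¹ = ⁅a, u⁆ * u := by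
      simp only [commutatorElement_def]; group
    rw [e]
    refine N'.mul_mem (hDN' _ ?_) hu
    have : ((⁅a, u⁆ : ↥P) : G) = ⁅(a : G), (u : G)⁆ := by
      simp only [commutatorElement_def]; push_cast; rfl
    rw [this]
    exact Subgroup.commutator_mem_commutator a.2 u.2
  have hfr : frattini ↥P ≤ N' := by
    apply Cfsg.Agent.H52.frattini_le_of_comm_pow (p := p) N'
    · intro a b
      apply hDN'
      have : ((⁅a, b⁆ : ↥P) : G) = ⁅(a : G), (b : G)⁆ := by
        simp only [commutatorElement_def]; push_cast; rfl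
      rw [this]
      exact Subgroup.commutator_mem_commutator a.2 b.2
    · intro a
      rw [hN'mem]
      intro y hy
      have hyN : y ∈ Subgroup.normalizer (P : Set G) := hH (hYH hy)
      have hcP : y * (a : G) * y⁻¹ * (a : G)⁻¹ ∈ P :=
        P.mul_mem ((hyN a).mp a.2) (P.inv_mem a.2)
      have hcE : y * (a : G) * y⁻¹ * (a : G)⁻¹ ∈ ⁅P, Y⁆ := by
        have h1 : (⁅(a : G), y⁆)⁻¹ ∈ ⁅P, Y⁆ :=
          Subgroup.inv_mem _ (Subgroup.commutator_mem_commutator a.2 hy)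
        convert h1 using 1
        simp only [commutatorElement_def]; group
      have hcp : (y * (a : G) * y⁻¹ * (a : G)⁻¹) ^ p = 1 := hel.2 _ hcE
      have h2 := Cfsg.Agent.H52.mul_pow_mod_commutator (⟨_, hcP⟩ : ↥P) a p
      have h3 : (((⟨_, hcP⟩ : ↥P) * a) ^ p * (a ^ p)⁻¹ * ((⟨_, hcP⟩ : ↥P) ^ p)⁻¹ : ↥P).1 ∈
          ⁅P, P⁆ := by
        rw [← Subgroup.map_subtype_commutator]
        exact Subgroup.mem_map_of_mem _ h2
      have h4 : (((⟨_, hcP⟩ : ↥P) * a) ^ p * (a ^ p)⁻¹ * ((⟨_, hcP⟩ : ↥P) ^ p)⁻¹ : ↥P).1 =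
          y * (a : G) ^ p * y⁻¹ * ((a : G) ^ p)⁻¹ := by
        push_cast
        rw [hcp, inv_one, mul_one]
        have : y * (a : G) * y⁻¹ * (a : G)⁻¹ * (a : G) = y * (a : G) * y⁻¹ := by group
        rw [this, conj_pow]
      rw [h4] at h3
      have h5 := Subgroup.inv_mem _ h3
      convert h5 using 1
      simp only [commutatorElement_def]; push_cast; group
  -- Y ≤ K
  have hYK : Y ≤ K := by
    intro y hy
    rw [hKmem]
    refine ⟨hYD y hy, ?_⟩
    intro u hu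
    obtain ⟨x, hx, rfl⟩ := Subgroup.mem_map.mp hu
    exact (hN'mem x).mp (hfr hx) y hy
  -- K ∩ H is normal in H
  haveI hKn : (K.subgroupOf H).Normal := by
    constructor
    intro n hn h
    rw [Subgroup.mem_subgroupOf] at hn ⊢
    rw [hKmem] at hn ⊢
    obtain ⟨hn1, hn2⟩ := hn
    have hhN : (h : G) ∈ Subgroup.normalizer (P : Set G) := hH h.2
    have hhN' : (h : G)⁻¹ ∈ Subgroup.normalizer (P : Set G) := Subgroup.inv_mem _ hhN
    refine ⟨fun d hd => ?_, fun u hu => ?_⟩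
    · have h1 := hDnorm _ hhN' d hd
      have h2 := hn1 _ h1
      calc ((h * n * h⁻¹ : ↥H) : G) * d * ((h * n * h⁻¹ : ↥H) : G)⁻¹
          = (h : G) * ((n : G) * ((h : G)⁻¹ * d * (h : G)⁻¹⁻¹) * (n : G)⁻¹) * (h : G)⁻¹ := by
            push_cast; group
        _ = d := by rw [h2]; group
    · have h1 := hFnorm _ hhN' u hu
      have h2 := hn2 _ h1
      have h3 := hDnorm _ hhN _ h2
      convert h3 using 1
      simp only [commutatorElement_def]; push_cast; group
  have hNYK : NY ≤ K := by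
    rw [hNY]
    have h1 : Subgroup.normalClosure ((Y.subgroupOf H : Subgroup ↥H) : Set ↥H) ≤ K.subgroupOf H := by
      apply Subgroup.normalClosure_le_normal
      intro y hy
      exact hYK hy
    intro x hx
    obtain ⟨x', hx', rfl⟩ := Subgroup.mem_map.mp hx
    exact h1 hx'
  -- p'-elements of K centralize F
  have hcent : ∀ x ∈ K, (orderOf x).Coprime p → ∀ u ∈ (frattini ↥P).map P.subtype,
      x * u * x⁻¹ = u := by
    intro x hx hxp u hu
    rw [hKmem] at hx
    obtain ⟨hx1, hx2⟩ := hx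
    have hc := hx2 _ (Subgroup.inv_mem _ hu)
    have hconj : x * u * x⁻¹ = u * ⁅u⁻¹, x⁆ := by rw [commutatorElement_def]; group
    have hcomm : x * ⁅u⁻¹, x⁆ = ⁅u⁻¹, x⁆ * x := by
      calc x * ⁅u⁻¹, x⁆ = x * ⁅u⁻¹, x⁆ * x⁻¹ * x := by group
        _ = ⁅u⁻¹, x⁆ * x := by rw [hx1 _ hc]
    obtain ⟨k, hk⟩ := hP ⟨⁅u⁻¹, x⁆, hDP hc⟩
    have hk' : ⁅u⁻¹, x⁆ ^ p ^ k = 1 := by simpa using congrArg Subtype.val hk
    have h4 := Cfsg.Agent.H52.eq_one_of_conj_eq_mul hxp hconj hcomm hk'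
    rw [hconj, h4, mul_one]
  -- conclusion
  unfold Cfsg.pResidual
  rw [MonoidHom.map_closure, Subgroup.closure_le]
  rintro _ ⟨g, hg, rfl⟩
  have hg' : (orderOf (g : G)).Coprime p := by
    rw [Subgroup.orderOf_coe]; exact hg
  rw [SetLike.mem_coe, Subgroup.mem_centralizer_iff]
  intro u hu
  have h1 := hcent _ (hNYK g.2) hg' u hu
  show u * (g : G) = (g : G) * u
  calc u * (g : G) = (g : G) * u * (g : G)⁻¹ * (g : G) := by rw [h1]
    _ = (g : G) * u := by group

end Cfsg.Agent.S2819
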