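import Cfsg.Statements.S2820
import Cfsg.Agent.H52.Subnormal

set_option autoImplicit false
open Cfsg

namespace Cfsg.Agent.S2820

/-- Let A and B be subnormal subgroups of the finite group H with A a p-group and B = O^p(B) (B generated by its elements of order prime to p). Then A normalizes B and B = O^p(AB), the subgroup of ⟨A, B⟩ generated by its elements of order prime to p. -/
theorem result {H : Type*} [Group H] [Finite H] {p : ℕ} [Fact p.Prime] (A B : Subgroup H) (hA : A.IsSubnormal) (hB : B.IsSubnormal) (hAp : IsPGroup p ↥A) (hBres : (Cfsg.pResidual p ↥B).map B.subtype = B) : A ≤ Subgroup.normalizer (B : Set H) ∧ (Cfsg.pResidual p ↥(A ⊔ B)).map (A ⊔ B).subtype = B := by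
  have hAN : A ≤ Subgroup.normalizer (B : Set H) :=
    (Cfsg.Agent.H52.subnormal_pgroup_le_pCore hA hAp).trans
      (Cfsg.Agent.H52.pCore_le_normalizer_of_subnormal hB hBres)
  refine ⟨hAN, ?_⟩
  rw [Cfsg.Agent.H52.map_pResidual_eq]
  apply le_antisymm
  · rw [Subgroup.closure_le]
    rintro x ⟨hx, hxp⟩
    exact Cfsg.Agent.H52.mem_of_coprime_of_mem_sup hAp hAN hx hxp
  · have h1 : B ≤ Subgroup.closure {x : H | x ∈ B ∧ (orderOf x).Coprime p} := by
      rw [← Cfsg.Agent.H52.map_pResidual_eq, hBres]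
    refine h1.trans (Subgroup.closure_mono ?_)
    rintro x ⟨hx, hxp⟩
    exact ⟨Subgroup.mem_sup_right hx, hxp⟩

end Cfsg.Agent.S2820
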