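import Cfsg.Statements.S2821
import Cfsg.Agent.H52.PReduced
import Cfsg.Agent.S2802

set_option autoImplicit false
open Cfsg

namespace Cfsg.Agent.S2821

/-- Let H be a finite group, p a prime, T a Sylow p-subgroup and L a subgroup of characteristic p containing T; let Y_L be the largest p-reduced normal subgroup of L (the join of the normal elementary abelian p-subgroups V of L with O_p(L/C_L(V)) = 1). Then T₀ := C_T(Y_L) is a Sylow p-subgroup of C_H(Y_L); moreover O_p(L) ≤ T₀ ≤ C_L(Y_L) and Ω₁(Z(T)) ≤ Z_L ≤ Y_L ≤ Ω₁(Z(O_p(L))), where Z_L is generated by the Ω₁(Z(S)) over the Sylow p-subgroups S of L. -/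
theorem result {H : Type*} [Group H] [Finite H] {p : ℕ} [Fact p.Prime] (T : Sylow p H) (L : Subgroup H) (hTL : (T : Subgroup H) ≤ L) (hL : Subgroup.centralizer (Cfsg.pCore p ↥L : Set ↥L) ≤ Cfsg.pCore p ↥L) (T₀ : Subgroup H) (hT₀ : T₀ = (T : Subgroup H) ⊓ Subgroup.centralizer (((Cfsg.largestPReducedOf p L) : Subgroup H) : Set H)) : (∃ P : Sylow p ↥(Subgroup.centralizer (((Cfsg.largestPReducedOf p L) : Subgroup H) : Set H)), (P : Subgroup ↥(Subgroup.centralizer (((Cfsg.largestPReducedOf p L) : Subgroup H) : Set H))) = T₀.subgroupOf (Subgroup.centralizer (((Cfsg.largestPReducedOf p L) : Subgroup H) : Set H))) ∧ (Cfsg.pCoreOf p L) ≤ T₀ ∧ T₀ ≤ L ⊓ Subgroup.centralizer (((Cfsg.largestPReducedOf p L) : Subgroup H) : Set H) ∧ (Cfsg.omegaOne p ((T : Subgroup H) ⊓ Subgroup.centralizer (((T : Subgroup H) : Subgroup H) : Set H))) ≤ Cfsg.sylowCenterClosure p L ∧ Cfsg.sylowCenterClosure p L ≤ (Cfsg.largestPReducedOf p L) ∧ (Cfsg.largestPReducedOf p L) ≤ (Cfsg.omegaOne p ((Cfsg.pCoreOf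 p L) ⊓ Subgroup.centralizer (((Cfsg.pCoreOf p L) : Subgroup H) : Set H))) := by
  have hYLred := Cfsg.Agent.H52.largestPReduced_isPReducedNormal p ↥L
  haveI hYLn : (Cfsg.largestPReduced p ↥L).Normal := hYLred.1
  have hLY : L ≤ Subgroup.normalizer ((Cfsg.largestPReducedOf p L : Subgroup H) : Set H) := by
    apply Cfsg.Agent.H52.le_normalizer_of_conj_mem
    rintro l hl _ ⟨y, hy, rfl⟩
    exact ⟨⟨l, hl⟩ * y * ⟨l, hl⟩⁻¹, hYLn.conj_mem y hy ⟨l, hl⟩, rfl⟩
  refine ⟨?_, ?_, ?_, ?_, ?_, ?_⟩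
  · obtain ⟨P, hP⟩ := Cfsg.Agent.H52.sylow_inf_of_normalized T
      (Subgroup.normalizer ((Cfsg.largestPReducedOf p L : Subgroup H) : Set H))
      (Subgroup.centralizer ((Cfsg.largestPReducedOf p L : Subgroup H) : Set H))
      (hTL.trans hLY) (Subgroup.centralizer_le_normalizer _)
      (fun m hm c hc => Cfsg.Agent.H52.conj_mem_centralizer hm hc)
    refine ⟨P, ?_⟩
    rw [hP, hT₀]
    ext x
    rw [Subgroup.mem_subgroupOf, Subgroup.mem_subgroupOf]
    exact ⟨fun h => ⟨h, x.2⟩, fun h => h.1⟩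
  · rw [hT₀]
    rintro _ ⟨q, hq, rfl⟩
    refine ⟨?_, ?_⟩
    · have h1 := (Cfsg.Agent.H52.pCore_isPGroup p ↥L).le_sylow_of_normal (T.subtype hTL) hq
      have h2 : q ∈ ((T.subtype hTL : Sylow p ↥L) : Subgroup ↥L) := h1
      rw [Sylow.coe_subtype, Subgroup.mem_subgroupOf] at h2
      exact h2
    · have h1 := Cfsg.Agent.H52.pReduced_pCore_le_centralizer hYLred hq
      refine Subgroup.mem_centralizer_iff.mpr ?_
      rintro _ ⟨y, hy, rfl⟩
      exact congrArg Subtype.val ((Subgroup.mem_centralizer_iff.mp h1) y hy)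
  · rw [hT₀]
    exact le_inf (inf_le_left.trans hTL) inf_le_right
  · unfold Cfsg.sylowCenterClosure
    have h1 : ((T.subtype hTL : Sylow p ↥L) : Subgroup ↥L).map L.subtype = (T : Subgroup H) := by
      rw [Sylow.coe_subtype, Subgroup.map_subgroupOf_eq_of_le hTL]
    have h2 := le_iSup (fun S : Sylow p ↥L => Cfsg.omegaOne p (((S : Subgroup ↥L).map L.subtype) ⊓
      Subgroup.centralizer (((S : Subgroup ↥L).map L.subtype : Subgroup H) : Set H)))
      (T.subtype hTL)
    rw [h1] at h2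
    exact h2
  · unfold Cfsg.sylowCenterClosure
    apply iSup_le
    intro S
    rw [← Cfsg.Agent.H52.map_omegaOne_center]
    unfold Cfsg.largestPReducedOf
    apply Subgroup.map_mono
    -- Ω₁(Z(S)) is p-reduced normal in S
    have hΩS : Cfsg.omegaOne p ((S : Subgroup ↥L) ⊓ Subgroup.centralizer ((S : Subgroup ↥L) : Set ↥L)) ≤
        (S : Subgroup ↥L) := fun x hx => (Cfsg.Agent.H52.omegaOne_center_spec _ hx).1
    have hXred : Cfsg.IsPReducedNormal p
        ((Cfsg.omegaOne p ((S : Subgroup ↥L) ⊓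
          Subgroup.centralizer ((S : Subgroup ↥L) : Set ↥L))).subgroupOf (S : Subgroup ↥L)) := by
      have hcentral : ∀ x ∈ (Cfsg.omegaOne p ((S : Subgroup ↥L) ⊓
          Subgroup.centralizer ((S : Subgroup ↥L) : Set ↥L))).subgroupOf (S : Subgroup ↥L),
          ∀ s : ↥(S : Subgroup ↥L), s * x = x * s := by
        intro x hx s
        rw [Subgroup.mem_subgroupOf] at hx
        have h3 := (Cfsg.Agent.H52.omegaOne_center_spec _ hx).2.1
        apply Subtype.ext
        exact (Subgroup.mem_centralizer_iff.mp h3) (s : ↥L) s.2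
      rw [Cfsg.Agent.H52.isPReducedNormal_iff]
      refine ⟨?_, Cfsg.Agent.H52.isElementaryAbelian_subgroupOf
          (Cfsg.Agent.H52.omegaOne_center_elementary p _) _, ?_⟩
      · constructor
        intro x hx s
        rw [hcentral x hx s, mul_inv_cancel_right]
        exact hx
      · intro D _ _ d _
        rw [Subgroup.mem_centralizer_iff]
        intro x hx
        exact (hcentral x hx d).symm
    have hres := Cfsg.Agent.S2802.result hL S (S : Subgroup ↥L) le_rfl _ hXred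
    have hle : Subgroup.normalClosure _ ≤ Cfsg.largestPReduced p ↥L := le_sSup hres
    refine le_trans ?_ hle
    refine le_trans ?_ Subgroup.le_normalClosure
    rw [Subgroup.map_subgroupOf_eq_of_le hΩS]
  · unfold Cfsg.pCoreOf
    rw [← Cfsg.Agent.H52.map_omegaOne_center]
    unfold Cfsg.largestPReducedOf
    exact Subgroup.map_mono (Cfsg.Agent.H52.pReduced_le_omega hYLred)

end Cfsg.Agent.S2821
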