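import Cfsg.Statements.S2822
import Cfsg.Agent.H53.PRed

set_option autoImplicit false
open Cfsg

namespace Cfsg.Agent.S2822

/-- Let H be a finite group, p a prime, T a Sylow p-subgroup, and L, M subgroups of characteristic p containing T, with largest p-reduced normal subgroups Y_L, Y_M. If L·C_H(Y_M) = M·C_H(Y_M), then Y_M ≤ Y_L. -/
theorem result {H : Type*} [Group H] [Finite H] {p : ℕ} [Fact p.Prime] (T : Sylow p H) (L M : Subgroup H) (hTL : (T : Subgroup H) ≤ L) (hTM : (T : Subgroup H) ≤ M) (hL : Subgroup.centralizer (Cfsg.pCore p ↥L : Set ↥L) ≤ Cfsg.pCore p ↥L) (hM : Subgroup.centralizer (Cfsg.pCore p ↥M : Set ↥M) ≤ Cfsg.pCore p ↥M) : L ⊔ Subgroup.centralizer (((Cfsg.largestPReducedOf p M) : Subgroup H) : Set H) = M ⊔ Subgroup.centralizer (((Cfsg.largestPReducedOf p M) : Subgroup H) : Set H) → (Cfsg.largestPReducedOf p M) ≤ (Cfsg.largestPReducedOf p L) := by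
  intro h
  have hPM := Cfsg.Agent.H53.pRedIn_largestPReducedOf p M
  have hMY := Cfsg.Agent.H53.le_normalizer_largestPReducedOf p M
  have hPL := hPM.transfer hMY h
  have hLY : L ≤ Subgroup.normalizer ((Cfsg.largestPReducedOf p M : Subgroup H) : Set H) := by
    refine le_trans le_sup_left (h.le.trans (sup_le hMY (Subgroup.centralizer_le_normalizer _)))
  have hYL : Cfsg.largestPReducedOf p M ≤ L := by
    refine le_trans (Cfsg.Agent.H53.largestPReducedOf_le_pCoreOf p M) (le_trans ?_ hTL)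
    have h1 : Cfsg.pCoreOf p M ≤ ((T.subtype hTM : Sylow p ↥M) : Subgroup ↥M).map M.subtype :=
      Subgroup.map_mono (Cfsg.Agent.H53.pCore_le_sylow (T.subtype hTM))
    refine le_trans h1 ?_
    rw [Sylow.coe_subtype, Subgroup.map_subgroupOf_eq_of_le hTM]
  exact Cfsg.Agent.H53.le_largestPReducedOf hYL hLY
    (Cfsg.Agent.H53.largestPReducedOf_isElementaryAbelian p M) hPL

end Cfsg.Agent.S2822
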