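import Cfsg.Statements.S2829
import Cfsg.Agent.H53.Basic

set_option autoImplicit false
open Cfsg
open scoped commutatorElement

namespace Cfsg.Agent.S2829

/-- Every strongly p-irreducible finite group is p-irreducible. -/
theorem result {H : Type*} [Group H] [Finite H] {p : ℕ} [Fact p.Prime] (hH : Cfsg.IsStronglyPIrreducible p H) : Cfsg.IsPIrreducible p H := by
  refine ⟨hH.1, fun N hN hNc => hH.2 N hN fun hle => hNc ?_⟩
  intro P
  apply Subgroup.Normal.of_commutator_le
  have h1 : ((Cfsg.pCore p H).subgroupOf N) ≤ (P : Subgroup ↥N) := by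
    have hn : ((Cfsg.pCore p H).subgroupOf N).Normal := Subgroup.Normal.subgroupOf (H53.pCore_normal p H) N
    have hp : IsPGroup p ↥((Cfsg.pCore p H).subgroupOf N) :=
      (H53.pCore_isPGroup p H).comap_subtype
    exact hp.le_sylow_of_normal P
  refine le_trans ?_ h1
  rw [commutator_def, Subgroup.commutator_le]
  intro a _ b _
  rw [Subgroup.mem_subgroupOf]
  apply hle
  have : ((⁅a, b⁆ : ↥N) : H) = ⁅(a : H), (b : H)⁆ := rfl
  rw [this]
  exact Subgroup.commutator_mem_commutator a.2 (Subgroup.mem_top _)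

end Cfsg.Agent.S2829
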