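import Cfsg.Statements.S2830
import Cfsg.Agent.H53.Closed

set_option autoImplicit false
open Cfsg

namespace Cfsg.Agent.S2830

/-- Let H act by conjugation on the elementary abelian p-subgroup V of a finite group G (H ≤ N(V)), with H p-irreducible and O^p(H) not centralizing V. Then C_H(V) is p-closed and C_T(V) ≤ O_p(H) for every p-subgroup T of H. If in addition O_p(H) centralizes V, then C_T(V) = T ∩ O_p(H) for every p-subgroup T of H, and V is p-reduced for H: O_p(H/C_H(V)) = 1. -/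
theorem result {G : Type*} [Group G] [Finite G] {p : ℕ} [Fact p.Prime] (V H : Subgroup G) (hV : Cfsg.IsElementaryAbelian p V) (hHV : H ≤ Subgroup.normalizer (V : Set G)) (hH : Cfsg.IsPIrreducible p ↥H) (hnc : ¬ (Cfsg.pResidual p ↥H).map H.subtype ≤ Subgroup.centralizer (V : Set G)) [hn : ((Subgroup.centralizer (V : Set G)).subgroupOf H).Normal] : Cfsg.IsPClosed p ↥(H ⊓ Subgroup.centralizer (V : Set G)) ∧ (∀ T : Subgroup G, T ≤ H → IsPGroup p ↥T → T ⊓ Subgroup.centralizer (V : Set G) ≤ Cfsg.pCoreOf p H) ∧ (Cfsg.pCoreOf p H ≤ Subgroup.centralizer (V : Set G) → (∀ T : Subgroup G, T ≤ H → IsPGroup p ↥T → T ⊓ Subgroup.centralizer (V : Set G) = T ⊓ Cfsg.pCoreOf p H) ∧ Cfsg.pCore p (↥H ⧸ (Subgroup.centralizer (V : Set G)).subgroupOf H) = ⊥) := by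
  have hres : ¬ Cfsg.pResidual p ↥H ≤ (Subgroup.centralizer (V : Set G)).subgroupOf H := by
    intro hle
    apply hnc
    rintro _ ⟨x, hx, rfl⟩
    exact Subgroup.mem_subgroupOf.mp (hle hx)
  have hCcl : Cfsg.IsPClosed p ↥((Subgroup.centralizer (V : Set G)).subgroupOf H) := by
    by_contra hncl
    exact hres (hH.2 _ hn hncl)
  have hb : ∀ T : Subgroup G, T ≤ H → IsPGroup p ↥T →
      T ⊓ Subgroup.centralizer (V : Set G) ≤ Cfsg.pCoreOf p H := by
    intro T hTH hTp x hx
    have hxH : x ∈ H := hTH hx.1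
    have hQ : ((T ⊓ Subgroup.centralizer (V : Set G)).subgroupOf H) ≤
        (Subgroup.centralizer (V : Set G)).subgroupOf H := by
      intro y hy
      rw [Subgroup.mem_subgroupOf] at hy ⊢
      exact hy.2
    have hQp : IsPGroup p ↥((T ⊓ Subgroup.centralizer (V : Set G)).subgroupOf H) :=
      (hTp.to_le inf_le_left).comap_subtype
    have := H53.le_pCore_of_le_normal_isPClosed hCcl hQ hQp
    exact ⟨⟨x, hxH⟩, this (Subgroup.mem_subgroupOf.mpr hx), rfl⟩
  refine ⟨H53.isPClosed_inf_of_subgroupOf H _ hCcl, hb, ?_⟩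
  intro hO
  refine ⟨fun T hTH hTp => le_antisymm (le_inf inf_le_left (hb T hTH hTp)) (inf_le_inf_left T hO), ?_⟩
  apply H53.pCore_quotient_eq_bot_of_isPIrreducible hH _ hres
  intro x hx
  rw [Subgroup.mem_subgroupOf]
  exact hO ⟨x, hx, rfl⟩

end Cfsg.Agent.S2830
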