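import Cfsg.Statements.S2833
import Mathlib

set_option autoImplicit false
open Cfsg
open scoped commutatorElement Pointwise

namespace Cfsg.Agent.S2833

/-- Let V be a subgroup of a finite group G normalized by the subgroup L, let X ≤ L and g ∈ L with [V, X, X] = 1 and L generated by X and gXg⁻¹. Put W = [V, L]. Then W = [V, X]·[V, gXg⁻¹], C_W(X) = [V, X], and C_W(L) = [V, X] ∩ [V, gXg⁻¹]. -/
theorem result {G : Type*} [Group G] [Finite G] (V L : Subgroup G) (hLV : L ≤ Subgroup.normalizer (V : Set G)) (X : Subgroup G) (hX : X ≤ L) (g : G) (hg : g ∈ L) (hq : ⁅⁅V, X⁆, X⁆ = ⊥) (hgen : X ⊔ X.map (MulAut.conj g).toMonoidHom = L) (W : Subgroup G) (hW : W = ⁅V, L⁆) : ⁅V, X⁆ ⊔ ⁅V, X.map (MulAut.conj g).toMonoidHom⁆ = W ∧ W ⊓ Subgroup.centralizer (X : Set G) = ⁅V, X⁆ ∧ W ⊓ Subgroup.centralizer (L : Set G) = ⁅V, X⁆ ⊓ ⁅V, X.map (MulAut.conj g).toMonoidHom⁆ := by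
  subst hW
  set Y := X.map (MulAut.conj g).toMonoidHom with hY
  have hXL : X ≤ L := hX
  have hYL : Y ≤ L := by rw [← hgen]; exact le_sup_right
  have hXV : X ≤ Subgroup.normalizer (V : Set G) := hXL.trans hLV
  have hYV : Y ≤ Subgroup.normalizer (V : Set G) := hYL.trans hLV
  have hAV : ⁅V, X⁆ ≤ V := Subgroup.le_normalizer_iff_commutator_le_left.mp hXV
  have hBV : ⁅V, Y⁆ ≤ V := Subgroup.le_normalizer_iff_commutator_le_left.mp hYV
  -- the conjugate of [V,X] by g is [V,Y]
  have hgV : V.map (MulAut.conj g).toMonoidHom = V :=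
    Subgroup.mem_normalizer_iff_map_conj_eq.mp (hLV hg)
  have hB : ⁅V, Y⁆ = (⁅V, X⁆).map (MulAut.conj g).toMonoidHom := by
    rw [Subgroup.map_commutator, hgV]
  set A := ⁅V, X⁆ with hA
  set B := ⁅V, Y⁆ with hBdef
  set U := A ⊔ B with hU
  have hUV : U ≤ V := sup_le hAV hBV
  have hXU : X ≤ Subgroup.normalizer (U : Set G) := by
    rw [Subgroup.le_normalizer_iff_commutator_le_left]
    exact (Subgroup.commutator_mono hUV le_rfl).trans le_sup_left
  have hYU : Y ≤ Subgroup.normalizer (U : Set G) := by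
    rw [Subgroup.le_normalizer_iff_commutator_le_left]
    exact (Subgroup.commutator_mono hUV le_rfl).trans le_sup_right
  have hLU : L ≤ Subgroup.normalizer (U : Set G) := by
    rw [← hgen]; exact sup_le hXU hYU
  -- [V, L] ≤ U
  have hWU : ⁅V, L⁆ ≤ U := by
    rw [Subgroup.commutator_le]
    intro v hv l hl
    have hl' : l ∈ Subgroup.closure ((X : Set G) ∪ (Y : Set G)) := by
      rw [Subgroup.closure_union, Subgroup.closure_eq, Subgroup.closure_eq, hgen]; exact hl
    have key : ∀ l ∈ Subgroup.closure ((X : Set G) ∪ (Y : Set G)),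
        l ∈ Subgroup.normalizer (U : Set G) ∧ ∀ v ∈ V, ⁅v, l⁆ ∈ U := by
      intro l hl
      induction hl using Subgroup.closure_induction with
      | mem x hx =>
        rcases hx with hx | hx
        · exact ⟨hXU hx, fun v hv => (le_sup_left : A ≤ U) (Subgroup.commutator_mem_commutator hv hx)⟩
        · exact ⟨hYU hx, fun v hv => (le_sup_right : B ≤ U) (Subgroup.commutator_mem_commutator hv hx)⟩
      | one => exact ⟨one_mem _, fun v _ => by simp⟩
      | mul a b _ _ ha hb =>
        refine ⟨mul_mem ha.1 hb.1, fun v hv => ?_⟩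
        have h1 : ⁅v, a * b⁆ = ⁅v, a⁆ * (a * ⁅v, b⁆ * a⁻¹) := by
          simp only [commutatorElement_def]; group
        rw [h1]
        exact mul_mem (ha.2 v hv) ((Subgroup.mem_normalizer_iff.mp ha.1 _).mp (hb.2 v hv))
      | inv a _ ha =>
        refine ⟨inv_mem ha.1, fun v hv => ?_⟩
        have h1 : ⁅v, a⁻¹⁆ = a⁻¹ * (⁅v, a⁆)⁻¹ * a⁻¹⁻¹ := by
          simp only [commutatorElement_def]; group
        rw [h1]
        exact (Subgroup.mem_normalizer_iff.mp (inv_mem ha.1) _).mp (inv_mem (ha.2 v hv))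
    exact (key l hl').2 v hv
  have hUW : U ≤ ⁅V, L⁆ := sup_le (Subgroup.commutator_mono le_rfl hXL) (Subgroup.commutator_mono le_rfl hYL)
  have hUeq : U = ⁅V, L⁆ := le_antisymm hUW hWU
  -- A centralizes X, B centralizes Y
  have hAX : A ≤ Subgroup.centralizer (X : Set G) := Subgroup.commutator_eq_bot_iff_le_centralizer.mp hq
  have hBY : B ≤ Subgroup.centralizer (Y : Set G) := by
    intro b hb
    rw [hB] at hb
    obtain ⟨a, ha, rfl⟩ := Subgroup.mem_map.mp hb
    rw [Subgroup.mem_centralizer_iff]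
    intro y hy
    obtain ⟨x, hx, rfl⟩ := Subgroup.mem_map.mp hy
    have := (Subgroup.mem_centralizer_iff.mp (hAX ha)) x hx
    simp only [MulEquiv.coe_toMonoidHom, MulAut.conj_apply]
    calc g * x * g⁻¹ * (g * a * g⁻¹) = g * (x * a) * g⁻¹ := by group
      _ = g * (a * x) * g⁻¹ := by rw [this]
      _ = g * a * g⁻¹ * (g * x * g⁻¹) := by group
  -- an element of B centralizing X is central in L, hence lies in A
  have hLcent : ∀ b, b ∈ Subgroup.centralizer (X : Set G) → b ∈ Subgroup.centralizer (Y : Set G) →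
      b ∈ Subgroup.centralizer (L : Set G) := by
    intro b hbX hbY
    have : L ≤ Subgroup.centralizer ({b} : Set G) := by
      rw [← hgen]
      refine sup_le ?_ ?_
      · intro x hx
        rw [Subgroup.mem_centralizer_iff]
        intro z hz
        rw [Set.mem_singleton_iff] at hz; subst hz
        exact ((Subgroup.mem_centralizer_iff.mp hbX) x hx).symm
      · intro y hy
        rw [Subgroup.mem_centralizer_iff]
        intro z hz
        rw [Set.mem_singleton_iff] at hz; subst hz
        exact ((Subgroup.mem_centralizer_iff.mp hbY) y hy).symm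
    rw [Subgroup.mem_centralizer_iff]
    intro l hl
    exact ((Subgroup.mem_centralizer_iff.mp (this hl)) b rfl).symm
  have hBA : ∀ b ∈ B, b ∈ Subgroup.centralizer (L : Set G) → b ∈ A := by
    intro b hb hbL
    rw [hB] at hb
    obtain ⟨a, ha, hab⟩ := Subgroup.mem_map.mp hb
    simp only [MulEquiv.coe_toMonoidHom, MulAut.conj_apply] at hab
    have hgb : g * b = b * g := (Subgroup.mem_centralizer_iff.mp hbL) g hg
    have : a = b := by
      have h2 : a = g⁻¹ * b * g := by rw [← hab]; group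
      rw [h2, mul_assoc, ← hgb]; group
    rw [← this]; exact ha
  have hAB : ∀ a ∈ A, a ∈ Subgroup.centralizer (L : Set G) → a ∈ B := by
    intro a ha haL
    rw [hB]
    refine Subgroup.mem_map.mpr ⟨a, ha, ?_⟩
    simp only [MulEquiv.coe_toMonoidHom, MulAut.conj_apply]
    have hga : g * a = a * g := (Subgroup.mem_centralizer_iff.mp haL) g hg
    rw [hga]; group
  have hC2 : ⁅V, L⁆ ⊓ Subgroup.centralizer (X : Set G) = A := by
    apply le_antisymm
    · intro w hw
      obtain ⟨hw1, hw2⟩ := Subgroup.mem_inf.mp hw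
      rw [← hUeq] at hw1
      have hVA : B ≤ Subgroup.normalizer (A : Set G) :=
        hBV.trans (Subgroup.normalizer_commutator_ge_left V X)
      have hset : ((A ⊔ B : Subgroup G) : Set G) = (A : Set G) * (B : Set G) :=
        Subgroup.coe_mul_of_right_le_normalizer_left A B hVA
      have hw' : w ∈ ((A ⊔ B : Subgroup G) : Set G) := hw1
      rw [hset] at hw'
      obtain ⟨a, ha, b, hb, rfl⟩ := hw'
      have hbX : b ∈ Subgroup.centralizer (X : Set G) := by
        have : b = a⁻¹ * (a * b) := by group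
        rw [this]
        exact mul_mem (inv_mem (hAX ha)) hw2
      have hbL := hLcent b hbX (hBY hb)
      exact mul_mem ha (hBA b hb hbL)
    · exact le_inf (le_sup_left.trans hUW) hAX
  refine ⟨hUeq, hC2, ?_⟩
  apply le_antisymm
  · intro w hw
    obtain ⟨hw1, hw2⟩ := Subgroup.mem_inf.mp hw
    have hwX : w ∈ Subgroup.centralizer (X : Set G) :=
      Subgroup.centralizer_le (show (X : Set G) ⊆ L from hXL) hw2
    have hwA : w ∈ A := by rw [← hC2]; exact Subgroup.mem_inf.mpr ⟨hw1, hwX⟩
    exact Subgroup.mem_inf.mpr ⟨hwA, hAB w hwA hw2⟩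
  · intro w hw
    obtain ⟨hw1, hw2⟩ := Subgroup.mem_inf.mp hw
    exact Subgroup.mem_inf.mpr ⟨(le_sup_left.trans hUW) hw1, hLcent w (hAX hw1) (hBY hw2)⟩

end Cfsg.Agent.S2833
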