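import Cfsg.Statements.S2836
import Cfsg.Agent.H53.Min2

set_option autoImplicit false
open Cfsg

namespace Cfsg.Agent.S2836

/-- Let L be a finite group, L₀ a maximal subgroup, T a Sylow p-subgroup of L₀, Y ≤ T, and suppose L is Y-minimal. Let D be the intersection of the conjugates of L₀ (the core of L₀). Then D contains O_p(L) and D/O_p(L) is the Frattini subgroup of L/O_p(L), so D is p-closed; and every normal subgroup N of L contained in L₀ is p-closed with N/O_p(N) a nilpotent group of order prime to p. -/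
theorem result {L : Type*} [Group L] [Finite L] {p : ℕ} [Fact p.Prime] (L₀ : Subgroup L) (hL₀ : IsCoatom L₀) (T : Sylow p ↥L₀) (Y : Subgroup L) (hYT : Y ≤ (T : Subgroup ↥L₀).map L₀.subtype) (hmin : Cfsg.IsMinimalOver Y) : (Cfsg.pCore p L ≤ L₀.normalCore ∧ (L₀.normalCore).map (QuotientGroup.mk' (Cfsg.pCore p L)) = frattini (L ⧸ Cfsg.pCore p L) ∧ Cfsg.IsPClosed p ↥(L₀.normalCore)) ∧ ∀ (N : Subgroup L) [N.Normal], N ≤ L₀ → Cfsg.IsPClosed p ↥N ∧ Group.IsNilpotent (↥N ⧸ Cfsg.pCore p ↥N) ∧ (Nat.card (↥N ⧸ Cfsg.pCore p ↥N)).Coprime p := by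
  have hT'L₀ : (T : Subgroup ↥L₀).map L₀.subtype ≤ L₀ := Subgroup.map_subtype_le _
  have hY : Y ≤ L₀ := hYT.trans hT'L₀
  have huniq := H53.minimalOver_unique hL₀ hY hmin
  have hN : Subgroup.normalizer (((T : Subgroup ↥L₀).map L₀.subtype : Subgroup L) : Set L) ≤ L₀ := by
    apply H53.le_coatom_of_unique huniq
    · intro htop
      have hn : ((T : Subgroup ↥L₀).map L₀.subtype).Normal := Subgroup.normalizer_eq_top_iff.mp htop
      have := H53.minimalOver_eq_top_of_normal hmin hn hYT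
      exact hL₀.1 (top_le_iff.mp (this ▸ hT'L₀))
    · exact hYT.trans Subgroup.le_normalizer
  obtain ⟨P, hP⟩ := H53.sylow_of_coatom_normalizer_le L₀ T hN
  have hYP : Y ≤ (P : Subgroup L) := hP ▸ hYT
  have hPL₀ : (P : Subgroup L) ≤ L₀ := hP ▸ hT'L₀
  refine ⟨⟨Subgroup.normal_le_normalCore.mpr ((H53.pCore_le_sylow P).trans hPL₀),
    H53.minimalOver_normalCore_map hL₀ hY hmin P hYP hPL₀, ?_⟩, ?_⟩
  · obtain ⟨Q, hQ, hcore, hcl⟩ :=
      H53.minimalOver_normal_sylow hL₀ hY hmin P hYP L₀.normalCore (Subgroup.normalCore_le L₀)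
    exact hcl
  · intro N hNn hNL₀
    obtain ⟨Q, hQ, hcore, hcl⟩ := H53.minimalOver_normal_sylow hL₀ hY hmin P hYP N hNL₀
    exact ⟨hcl, H53.minimalOver_normal_nilpotent hL₀ hY hmin P hYP hPL₀ N hNL₀,
      H53.coprime_card_quotient_pCore_of_isPClosed hcl⟩

end Cfsg.Agent.S2836
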