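import Cfsg.Statements.S2839
import Cfsg.Agent.H53.WC5

set_option autoImplicit false
open Cfsg

namespace Cfsg.Agent.S2839

/-- Let Q be a nontrivial p-subgroup of the finite group H that is a weakly closed subgroup, K a subgroup containing Q and N a normal subgroup of H. Then Q is a weakly closed subgroup of K; every H-conjugate of Q contained in K is a K-conjugate of Q; N_K(Q) contains a Sylow p-subgroup of K; N = N_N(Q)·O^p(N); and QN/N is a weakly closed subgroup of H/N. -/
theorem result {H : Type*} [Group H] [Finite H] {p : ℕ} [Fact p.Prime] (Q : Subgroup H) (hQp : IsPGroup p ↥Q) (hQ1 : Q ≠ ⊥) (hwc : Cfsg.IsWeaklyClosedSubgroup p Q) (K : Subgroup H) (hQK : Q ≤ K) (N' : Subgroup H) [N'.Normal] : Cfsg.IsWeaklyClosedSubgroup p (Q.subgroupOf K) ∧ (∀ g : H, ((Q : Subgroup H).map (MulAut.conj (g : H)).toMonoidHom) ≤ K → ∃ k ∈ K, ((Q : Subgroup H).map (MulAut.conj (g : H)).toMonoidHom) = ((Q : Subgroup H).map (MulAut.conj (k : H)).toMonoidHom)) ∧ Cfsg.IsParabolic p ((Subgroup.normalizer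 ((Q : Subgroup H) : Set H)).subgroupOf K) ∧ (N' ⊓ Subgroup.normalizer ((Q : Subgroup H) : Set H)) ⊔ (Cfsg.pResidual p ↥N').map N'.subtype = N' ∧ Cfsg.IsWeaklyClosedSubgroup p (Q.map (QuotientGroup.mk' N')) := by
  have huc := H53.uniqConj_of_isWeaklyClosedSubgroup hwc
  exact ⟨H53.isWeaklyClosedSubgroup_of_uniqConj hQp.comap_subtype (H53.UniqConj.subgroupOf huc hQK),
    fun g hg => H53.UniqConj.exists_conj_mem huc hQp hQK hg,
    H53.UniqConj.isParabolic_normalizer huc hQp hQK,
    H53.UniqConj.normal_inf_normalizer_sup_pResidual huc hQp N',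
    H53.isWeaklyClosedSubgroup_of_uniqConj (hQp.map _) (H53.UniqConj.map_mk huc hQp N')⟩

end Cfsg.Agent.S2839
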