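import Cfsg.Statements.S2842
import Cfsg.Agent.H53.WC4

set_option autoImplicit false
open Cfsg

namespace Cfsg.Agent.S2842

/-- Let Q be a nontrivial p-subgroup of the finite group H that is a weakly closed subgroup with C_H(Q) ≤ Q, and Q ≤ L ≤ H. Suppose H has characteristic p, or more generally that C_H(y) has characteristic p for some nonidentity y ∈ C_{O_p(L)}(Q). Then [Q, C_H(O_p(L))] ≤ Q ∩ O_p(L), C_H(O_p(L)) is a p-group, and L has characteristic p. -/
theorem result {H : Type*} [Group H] [Finite H] {p : ℕ} [Fact p.Prime] (Q : Subgroup H) (hQp : IsPGroup p ↥Q) (hQ1 : Q ≠ ⊥) (hwc : Cfsg.IsWeaklyClosedSubgroup p Q) (hCQ : Subgroup.centralizer ((Q : Subgroup H) : Set H) ≤ Q) (L : Subgroup H) (hQL : Q ≤ L) (hyp : Subgroup.centralizer (Cfsg.pCore p H : Set H) ≤ Cfsg.pCore p H ∨ ∃ y : H, y ≠ 1 ∧ y ∈ (Cfsg.pCoreOf p L) ⊓ Subgroup.centralizer ((Q : Subgroup H) : Set H) ∧ Subgroup.centralizer (Cfsg.pCore p ↥(Subgroup.centralizer ({y} : Set H)) : Set ↥(Subgroup.centralizer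 ({y} : Set H))) ≤ Cfsg.pCore p ↥(Subgroup.centralizer ({y} : Set H))) : ⁅Q, Subgroup.centralizer (((Cfsg.pCoreOf p L) : Subgroup H) : Set H)⁆ ≤ Q ⊓ (Cfsg.pCoreOf p L) ∧ IsPGroup p ↥(Subgroup.centralizer (((Cfsg.pCoreOf p L) : Subgroup H) : Set H)) ∧ Subgroup.centralizer (Cfsg.pCore p ↥L : Set ↥L) ≤ Cfsg.pCore p ↥L := by
  have huc := H53.uniqConj_of_isWeaklyClosedSubgroup hwc
  have hXQ : Subgroup.centralizer ((Cfsg.pCoreOf p L : Subgroup H) : Set H) ≤
      Subgroup.normalizer (Q : Set H) := by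
    rcases hyp with h | ⟨y, hy1, hy, hchar⟩
    · exact H53.centralizer_pCoreOf_le_normalizer (H₁ := ⊤) (P₁ := Cfsg.pCore p H) huc hQp hQL
        (H53.pCore_isPGroup p H)
        (by rw [Subgroup.normalizer_eq_top_iff.mpr (H53.pCore_normal p H)])
        (inf_le_right.trans h) le_top le_top
    · have hyc : Subgroup.centralizer ((Cfsg.pCoreOf p L : Subgroup H) : Set H) ≤
          Subgroup.centralizer ({y} : Set H) := by
        apply Subgroup.centralizer_le
        intro z hz
        rw [Set.mem_singleton_iff] at hz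
        rw [hz]
        exact hy.1
      have hQy : Q ≤ Subgroup.centralizer ({y} : Set H) := by
        intro q hq
        rw [Subgroup.mem_centralizer_iff]
        intro z hz
        rw [Set.mem_singleton_iff] at hz
        rw [hz]
        exact ((Subgroup.mem_centralizer_iff.mp hy.2) q hq).symm
      exact H53.centralizer_pCoreOf_le_normalizer (H₁ := Subgroup.centralizer ({y} : Set H))
        (P₁ := Cfsg.pCoreOf p (Subgroup.centralizer ({y} : Set H))) huc hQp hQL
        (H53.pCoreOf_isPGroup p _) (H53.le_normalizer_pCoreOf p _)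
        (H53.charP_ambient_of_subtype hchar) hQy hyc
  obtain ⟨h1, h2, h3⟩ := H53.charP_of_centralizer_le_normalizer hQp hCQ hQL hXQ
  exact ⟨h1, h2, H53.charP_subtype_of_ambient h3⟩

end Cfsg.Agent.S2842
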