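import Cfsg.Statements.S2853
import Cfsg.Agent.H53.Asym8

set_option autoImplicit false
open Cfsg

namespace Cfsg.Agent.S2853

/-- Standing hypotheses: G a finite group, S a Sylow p-subgroup, Q a nontrivial large p-subgroup of G contained in S, M a subgroup containing S with the basic property (M ∈ 𝔐_G(S)); Y_M the largest p-reduced normal subgroup of M and M† = M·C_G(Y_M). Suppose Y_M is char-p-tall and asymmetric in G and H ∈ ℌ_G(O_p(M)). Then every Sylow p-subgroup of H ∩ M† is a Sylow p-subgroup of H; O_p(H) normalizes O_p(M) and Y_M; O^p(H) = [O^p(H), Y_M] and H = O^p(H)·O_p(M); O^p(H)·Y_M is the normal closure of Y_M in H; and H is the normal closure of O_p(M) in H. Here O^p(H) is the subgroup generated by the elements of H of order prime to p. -/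
theorem result {G : Type*} [Group G] [Finite G] {p : ℕ} [Fact p.Prime] (S : Sylow p G) (Q : Subgroup G) (hQp : IsPGroup p ↥Q) (hQ1 : Q ≠ ⊥) (hQS : Q ≤ (S : Subgroup G)) (hQ : Cfsg.IsLarge Q) (M : Subgroup G) (hSM : (S : Subgroup G) ≤ M) (hM : Cfsg.IsInFrakM p M) (htall : Cfsg.IsCharPTall p (Cfsg.largestPReducedOf p M)) (hasym : ¬ Cfsg.IsSymmetricIn (Cfsg.largestPReducedOf p M)) (H : Subgroup G) (hH : Cfsg.IsInFrakH p M H) (R : Subgroup G) (hR : R = (Cfsg.pResidual p ↥H).map H.subtype) : (∀ T : Sylow p ↥(H ⊓ (M ⊔ Subgroup.centralizer (((Cfsg.largestPReducedOf p M) : Subgroup G) : Set G))), ∃ P : Sylow p ↥H, ((P : Subgroup ↥H).map H.subtype) = (T : Subgroup ↥(H ⊓ (M ⊔ Subgroup.centralizer (((Cfsg.largestPReducedOf p M) : Subgroup G) : Set G)))).map (H ⊓ (M ⊔ Subgroup.centralizer (((Cfsg.largestPReducedOf p M) : Subgroup G) : Set G))).subtype) ∧ Cfsg.pCoreOf p H ≤ Subgroup.normalizer (((Cfsg.pCoreOf p M) : Subgroup G) : Set G) ⊓ Subgroup.normalizer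 (((Cfsg.largestPReducedOf p M) : Subgroup G) : Set G) ∧ ⁅R, (Cfsg.largestPReducedOf p M)⁆ = R ∧ R ⊔ (Cfsg.pCoreOf p M) = H ∧ R ⊔ (Cfsg.largestPReducedOf p M) = (Subgroup.normalClosure ((((Cfsg.largestPReducedOf p M)).subgroupOf H : Subgroup ↥H) : Set ↥H)).map H.subtype ∧ (Subgroup.normalClosure ((((Cfsg.pCoreOf p M)).subgroupOf H : Subgroup ↥H) : Set ↥H)).map H.subtype = H := by
  subst hR
  have huc := Cfsg.Agent.H53.frakM_uniqConj S hQp hQ1 hQS hQ hSM hM hasym
  have hPp := Cfsg.Agent.H53.pCoreOf_isPGroup p M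
  have hYP := Cfsg.Agent.H53.largestPReducedOf_le_pCoreOf p M
  have hPY := Cfsg.Agent.H53.pCoreOf_le_centralizer_largestPReducedOf p M
  have hm := Cfsg.Agent.H53.hMin_of_isInFrakH hH
  have hN := Cfsg.Agent.H53.frakM_normalizer_pCoreOf_le hQp hQ hSM hM
  refine ⟨fun T => Cfsg.Agent.H53.sylow_of_parabolic_inf
      (Cfsg.Agent.H53.frakM_isParabolic_dagger S hQp hQ1 hQS hQ hSM hM hasym H hm.hPH) T,
    ?_, hm.commutator_residual huc hYP hPY hPp, hm.residual_sup huc hPp,
    hm.residual_sup_eq_normalClosure huc hYP hPY hPp, hm.normalClosure_eq⟩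
  have h1 := huc.pCoreOf_le_normalizer hPp hm.hPH
  exact le_inf h1 (h1.trans (hN.trans (Cfsg.Agent.H53.dagger_le_normalizer p M)))

end Cfsg.Agent.S2853
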