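import Cfsg.Statements.S2855
import Cfsg.Agent.H53.Prod5

set_option autoImplicit false
open Cfsg

namespace Cfsg.Agent.S2855

/-- Let H be a finite group, p a prime, and 𝒦 a nonempty set of subgroups of H permuted transitively by conjugation, with R the subgroup generated by the members of 𝒦. Suppose O^p(H) ≤ R, each E ∈ 𝒦 has E·O_p(H) normal in R·O_p(H), and each E ∈ 𝒦 is p-minimal (generated by the conjugates of a Sylow p-subgroup T_E of E, with T_E in exactly one maximal subgroup of E). Then H is p-minimal in the same sense. If instead each E ∈ 𝒦 is strongly p-irreducible, then H is p-irreducible and, for E, K ∈ 𝒦, either O^p(E·O_p(H)) = O^p(K·O_p(H)) or [E, K] ≤ O_p(H). -/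
theorem result {H : Type*} [Group H] [Finite H] {p : ℕ} [Fact p.Prime] (𝒦 : Set (Subgroup H)) (hne : 𝒦.Nonempty) (hinv : ∀ h : H, ∀ E ∈ 𝒦, E.map (MulAut.conj h).toMonoidHom ∈ 𝒦) (htr : ∀ E ∈ 𝒦, ∀ K ∈ 𝒦, ∃ h : H, K = E.map (MulAut.conj h).toMonoidHom) (hres : Cfsg.pResidual p H ≤ sSup 𝒦) (hnorm : ∀ E ∈ 𝒦, sSup 𝒦 ⊔ Cfsg.pCore p H ≤ Subgroup.normalizer ((E ⊔ Cfsg.pCore p H : Subgroup H) : Set H)) : ((∀ E ∈ 𝒦, ∀ T : Sylow p ↥E, Cfsg.IsMinimalOver (T : Subgroup ↥E)) → ∀ T : Sylow p H, Cfsg.IsMinimalOver (T : Subgroup H)) ∧ ((∀ E ∈ 𝒦, Cfsg.IsStronglyPIrreducible p ↥E) → Cfsg.IsPIrreducible p H ∧ ∀ E ∈ 𝒦, ∀ K ∈ 𝒦, (Cfsg.pResidual p ↥(E ⊔ Cfsg.pCore p H)).map (E ⊔ Cfsg.pCore p H).subtype = (Cfsg.pResidual p ↥(K ⊔ Cfsg.pCore p H)).map (K ⊔ Cfsg.pCore p H).subtype ∨ ⁅E, K⁆ ≤ Cfsg.pCore p H) := by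
  open Cfsg.Agent.H53 in
  refine ⟨fun hmin => prod_isMinimalOver 𝒦 hne hinv htr hres hnorm hmin, fun hspi => ?_⟩
  haveI hQn : (Cfsg.pCore p H).Normal := H53.pCore_normal p H
  have hQp := H53.pCore_isPGroup p H
  obtain ⟨hcoreR, hcoreE, hcoreE'⟩ := prod_core_facts 𝒦 hinv hnorm
  refine ⟨⟨?_, fun N hN hNc => prod_pResidual_le 𝒦 hinv htr hres hnorm hspi N hN hNc⟩, ?_⟩
  · obtain ⟨E, hE⟩ := hne
    exact fun hcl => (hspi E hE).1 (isPClosed_subgroup hcl E)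
  · intro E hE K hK
    by_cases h : ⁅E, K⁆ ≤ Cfsg.pCore p H
    · exact Or.inr h
    · left
      have h' : ¬ ⁅K, E⁆ ≤ Cfsg.pCore p H := by
        rwa [Subgroup.commutator_comm]
      exact le_antisymm
        (map_pResidual_le_of_le p
          (prod_dichotomy_le 𝒦 (Cfsg.pCore p H) hQp hnorm hcoreE hcoreE' hspi E hE K hK h))
        (map_pResidual_le_of_le p
          (prod_dichotomy_le 𝒦 (Cfsg.pCore p H) hQp hnorm hcoreE hcoreE' hspi K hK E hE h'))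

end Cfsg.Agent.S2855
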