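import Cfsg.Statements.S2872
import Cfsg.Agent.H54.TransferZ
import Cfsg.Agent.H2.Transfer
import Cfsg.Agent.H3.PGroup

set_option autoImplicit false
open Cfsg

namespace Cfsg.Agent.S2872

/-- Let S be a Sylow 2-subgroup of the finite group G. Then G has a proper normal subgroup of 2-power index (O²(G) ≠ G), or Ω₁(Z(S)) is contained in the Frattini subgroup of S, or N_G(S) acts nontrivially on Ω₁(Z(S)) by conjugation. -/
theorem result {G : Type*} [Group G] [Finite G] (S : Sylow 2 G) : Cfsg.pResidual 2 G ≠ ⊤ ∨ Cfsg.omegaOne 2 ((S : Subgroup G) ⊓ Subgroup.centralizer ((S : Subgroup G) : Set G)) ≤ (frattini ↥(S : Subgroup G)).map (S : Subgroup G).subtype ∨ ∃ g ∈ Subgroup.normalizer ((S : Subgroup G) : Set G), ∃ z ∈ Cfsg.omegaOne 2 ((S : Subgroup G) ⊓ Subgroup.centralizer ((S : Subgroup G) : Set G)), g * z * g⁻¹ ≠ z := by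
  classical
  have : Fact (Nat.Prime 2) := ⟨Nat.prime_two⟩
  by_cases h3 : ∃ g ∈ Subgroup.normalizer ((S : Subgroup G) : Set G), ∃ z ∈ Cfsg.omegaOne 2
      ((S : Subgroup G) ⊓ Subgroup.centralizer ((S : Subgroup G) : Set G)), g * z * g⁻¹ ≠ z
  · exact Or.inr (Or.inr h3)
  push Not at h3
  by_cases h2 : Cfsg.omegaOne 2 ((S : Subgroup G) ⊓ Subgroup.centralizer ((S : Subgroup G) : Set G))
      ≤ (frattini ↥(S : Subgroup G)).map (S : Subgroup G).subtype
  · exact Or.inr (Or.inl h2)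
  left
  have hz : ∃ z : G, (z ∈ (S : Subgroup G) ⊓ Subgroup.centralizer ((S : Subgroup G) : Set G) ∧
      z ^ 2 = 1) ∧ z ∉ (frattini ↥(S : Subgroup G)).map (S : Subgroup G).subtype := by
    by_contra hcon
    push Not at hcon
    apply h2
    unfold Cfsg.omegaOne
    rw [Subgroup.closure_le]
    intro x hx
    exact hcon x hx
  obtain ⟨z, ⟨⟨hzS, hzC⟩, hz2⟩, hzF⟩ := hz
  have hzΩ : z ∈ Cfsg.omegaOne 2
      ((S : Subgroup G) ⊓ Subgroup.centralizer ((S : Subgroup G) : Set G)) :=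
    Subgroup.subset_closure ⟨⟨hzS, hzC⟩, hz2⟩
  have hz' : (⟨z, hzS⟩ : ↥(S : Subgroup G)) ∉ frattini ↥(S : Subgroup G) :=
    fun h => hzF ⟨_, h, rfl⟩
  obtain ⟨M, hM, hzM⟩ : ∃ M : Subgroup ↥(S : Subgroup G), IsCoatom M ∧
      (⟨z, hzS⟩ : ↥(S : Subgroup G)) ∉ M := by
    by_contra hcon
    push Not at hcon
    apply hz'
    show _ ∈ ⨅ a ∈ {H : Subgroup ↥(S : Subgroup G) | IsCoatom H}, a
    simp only [Subgroup.mem_iInf]
    intro M hM
    exact hcon M hM
  have hS2 : IsPGroup 2 ↥(S : Subgroup G) := S.isPGroup'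
  have hMn : M.Normal := Cfsg.Agent.H3.coatom_normal hS2 hM
  have hidx : M.index = 2 := Cfsg.Agent.H3.coatom_index hS2 hM
  have hcard : Nat.card (↥(S : Subgroup G) ⧸ M) = 2 := by
    rw [← Subgroup.index_eq_card]; exact hidx
  have hcyc : IsCyclic (↥(S : Subgroup G) ⧸ M) := isCyclic_of_prime_card hcard
  let _ : CommGroup (↥(S : Subgroup G) ⧸ M) := IsCyclic.commGroup
  obtain ⟨K, hKn, hKi, hzK⟩ := Cfsg.Agent.H54.exists_index_two_of_central_involution S hcard
    (QuotientGroup.mk' M) z hzS (by rw [← pow_two]; exact hz2)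
    (fun s hs => Subgroup.mem_centralizer_iff.mp hzC s hs) (fun g hg => h3 g hg z hzΩ)
    (by rw [QuotientGroup.mk'_apply, Ne, QuotientGroup.eq_one_iff]; exact hzM)
  have hK2 : IsPGroup 2 (G ⧸ K) :=
    IsPGroup.of_card (n := 1) (by rw [← Subgroup.index_eq_card, hKi, pow_one])
  have hle := Cfsg.Agent.H2.pResidual_le_of_isPGroup_quotient 2 K hK2
  intro htop
  rw [htop] at hle
  exact hzK (hle (Subgroup.mem_top z))

end Cfsg.Agent.S2872
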