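import Cfsg.Statements.S2873
import Mathlib
import Cfsg.Agent.H13.PCore
import Cfsg.Agent.H13.DihAct

set_option autoImplicit false
set_option linter.style.haveILetI false
open Cfsg

namespace Cfsg.Agent.S2873

/-- Let G be a finite group and r an odd prime such that G ⧸ O₂(G) is dihedral of order 2r, and let R be a Sylow r-subgroup of G with C_{O₂(G)}(R) = 1. Then N_G(R) is dihedral of order 2r; for any involution a of N_G(R), every involution of G outside O₂(G) is conjugate to a; and |C_{O₂(G)}(a)|² = |O₂(G)|. -/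
theorem result {G : Type*} [Group G] [Finite G] {r : ℕ} [Fact r.Prime] (hr : r ≠ 2) [hN : (Cfsg.pCore 2 G).Normal] (hquot : Nonempty (G ⧸ Cfsg.pCore 2 G ≃* DihedralGroup r)) (R : Sylow r G) (hC : Cfsg.pCore 2 G ⊓ Subgroup.centralizer ((R : Subgroup G) : Set G) = ⊥) : Nonempty (↥(Subgroup.normalizer ((R : Subgroup G) : Set G)) ≃* DihedralGroup r) ∧ ∀ a : G, a ∈ Subgroup.normalizer ((R : Subgroup G) : Set G) → orderOf a = 2 → (∀ b : G, orderOf b = 2 → b ∉ Cfsg.pCore 2 G → ∃ g : G, g * a * g⁻¹ = b) ∧ Nat.card ↥(Cfsg.pCore 2 G ⊓ Subgroup.centralizer ({a} : Set G)) ^ 2 = Nat.card ↥(Cfsg.pCore 2 G) := by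
  classical
  obtain ⟨ψ⟩ := hquot
  have hrp : r.Prime := Fact.out
  have hrodd : Odd r := hrp.odd_of_ne_two hr
  haveI : NeZero r := ⟨hrp.ne_zero⟩
  haveI : Fact (Nat.Prime 2) := ⟨Nat.prime_two⟩
  have hQ2 : IsPGroup 2 (Cfsg.pCore 2 G) := Cfsg.Agent.H13.pCore_isPGroup 2 G
  set Q := Cfsg.pCore 2 G with hQdef
  set π := QuotientGroup.mk' Q with hπ
  have htwo : (2 : ZMod r) ≠ 0 := by
    intro h
    have h1 : ((2 : ℕ) : ZMod r) = 0 := by exact_mod_cast h
    have h2 : r ∣ 2 := (ZMod.natCast_eq_zero_iff 2 r).mp h1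
    exact hr ((Nat.prime_dvd_prime_iff_eq hrp Nat.prime_two).mp h2)
  -- `R ∩ Q` is trivial
  have hRQ : ∀ x, x ∈ (R : Subgroup G) → x ∈ Q → x = 1 := by
    intro x hx hxQ
    have hd := IsPGroup.disjoint_of_ne r 2 hr (R : Subgroup G) Q R.2 hQ2
    exact Subgroup.disjoint_def.mp hd hx hxQ
  have hπR : ∀ x y, x ∈ (R : Subgroup G) → y ∈ (R : Subgroup G) → π x = π y → x = y := by
    intro x y hx hy h
    have h1 : x⁻¹ * y ∈ Q := QuotientGroup.eq.mp h
    have h2 := hRQ _ (Subgroup.mul_mem _ (Subgroup.inv_mem _ hx) hy) h1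
    have h3 : y = x * (x⁻¹ * y) := by group
    rw [h2, mul_one] at h3
    exact h3.symm
  have hcardq : Nat.card (G ⧸ Q) = 2 * r := by
    rw [Nat.card_congr ψ.toEquiv, DihedralGroup.nat_card]
  -- elements of `R` map to rotations
  have hrot : ∀ x ∈ (R : Subgroup G), ∃ j, ψ (π x) = DihedralGroup.r j := by
    intro x hx
    rcases hψ : ψ (π x) with j | j
    · exact ⟨j, rfl⟩
    · exfalso
      have h1 : orderOf (ψ (π x)) = 2 := by rw [hψ]; exact DihedralGroup.orderOf_sr j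
      have h2 : orderOf (ψ (π x)) ∣ orderOf x := by
        have h3 : orderOf (ψ (π x)) = orderOf (π x) := MulEquiv.orderOf_eq ψ (π x)
        rw [h3]; exact orderOf_map_dvd π x
      obtain ⟨k, hk⟩ := R.2 ⟨x, hx⟩
      have h3 : orderOf x ∣ r ^ k :=
        orderOf_dvd_of_pow_eq_one (by simpa using congrArg Subtype.val hk)
      have h4 : 2 ∣ r ^ k := h1 ▸ (h2.trans h3)
      have h5 : 2 ∣ r := Nat.Prime.dvd_of_dvd_pow Nat.prime_two h4
      exact hr ((Nat.prime_dvd_prime_iff_eq Nat.prime_two hrp).mp h5).symm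
  -- involutions outside `Q` map to reflections
  have hrefl : ∀ a : G, a * a = 1 → a ∉ Q → ∃ i, ψ (π a) = DihedralGroup.sr i := by
    intro a ha haQ
    rcases hψ : ψ (π a) with j | j
    · exfalso
      have h1 : ψ (π a) * ψ (π a) = 1 := by
        rw [← map_mul, ← map_mul, ha, map_one, map_one]
      rw [hψ, DihedralGroup.r_mul_r, DihedralGroup.one_def] at h1
      have h2 : j + j = 0 := DihedralGroup.r.inj h1
      have h3 : j = 0 := by
        have h4 : (2 : ZMod r) * j = 0 := by rw [two_mul]; exact h2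
        exact (mul_eq_zero.mp h4).resolve_left htwo
      rw [h3, ← DihedralGroup.one_def] at hψ
      have h6 : π a = 1 := ψ.injective (hψ.trans (map_one ψ).symm)
      exact haQ ((QuotientGroup.eq_one_iff a).mp h6)
    · exact ⟨j, rfl⟩
  -- involutions of `N_G(R)` outside `Q` invert `R`
  have hinvR : ∀ a : G, a ∈ Subgroup.normalizer ((R : Subgroup G) : Set G) → a * a = 1 → a ∉ Q →
      ∀ x ∈ (R : Subgroup G), a * x * a⁻¹ = x⁻¹ := by
    intro a haN ha haQ x hx
    obtain ⟨i, hi⟩ := hrefl a ha haQ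
    obtain ⟨j, hj⟩ := hrot x hx
    have hmem : a * x * a⁻¹ ∈ (R : Subgroup G) := (Subgroup.mem_normalizer_iff.mp haN x).mp hx
    apply hπR _ _ hmem (Subgroup.inv_mem _ hx)
    apply ψ.injective
    rw [map_mul, map_mul, map_inv, map_inv, map_mul, map_mul, map_inv, map_inv, hi, hj,
      DihedralGroup.inv_sr, DihedralGroup.inv_r, DihedralGroup.sr_mul_r, DihedralGroup.sr_mul_sr]
    congr 1; ring
  -- `|R| = r`
  have hcardG : Nat.card G = 2 * r * Nat.card Q := by
    rw [← hcardq]; exact Subgroup.card_eq_card_quotient_mul_card_subgroup Q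
  have hcardR : Nat.card (R : Subgroup G) = r := by
    obtain ⟨k, hk⟩ := IsPGroup.iff_card.mp hQ2
    have h1 := Sylow.card_eq_multiplicity R
    rw [hcardG, hk] at h1
    have h2 : (2 * r * 2 ^ k).factorization r = 1 := by
      have hne : ¬ r ∣ 2 := fun h => hr ((Nat.prime_dvd_prime_iff_eq hrp Nat.prime_two).mp h)
      rw [Nat.factorization_mul (Nat.mul_ne_zero two_ne_zero hrp.ne_zero)
          (pow_ne_zero k two_ne_zero),
        Nat.factorization_mul (by norm_num) hrp.ne_zero, Nat.factorization_pow]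
      simp [hrp.factorization_self, Nat.factorization_eq_zero_of_not_dvd hne]
    rw [h2, pow_one] at h1
    exact h1
  -- Frattini
  set M := (R : Subgroup G).map π with hM
  have hMcard : Nat.card M = r := by
    have h1 : Nat.card M = Nat.card (R : Subgroup G) := by
      apply Nat.card_congr
      refine (Equiv.ofBijective (fun x : (R : Subgroup G) =>
        (⟨π x, Subgroup.mem_map_of_mem π x.2⟩ : M)) ⟨?_, ?_⟩).symm
      · intro x y hxy
        have h2 : π x = π y := congrArg Subtype.val hxy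
        exact Subtype.ext (hπR _ _ x.2 y.2 h2)
      · rintro ⟨q, hq⟩
        obtain ⟨x, hx, rfl⟩ := Subgroup.mem_map.mp hq
        exact ⟨⟨x, hx⟩, rfl⟩
    rw [h1, hcardR]
  have hMidx : M.index = 2 := by
    have h1 := Subgroup.card_mul_index M
    rw [hMcard, hcardq] at h1
    exact Nat.eq_of_mul_eq_mul_left hrp.pos (by rw [h1]; ring)
  haveI hMn : M.Normal := Subgroup.normal_of_index_eq_two hMidx
  set N := M.comap π with hN'
  haveI hNn : N.Normal := hMn.comap π
  have hRN : (R : Subgroup G) ≤ N := by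
    intro x hx
    exact Subgroup.mem_comap.mpr (Subgroup.mem_map_of_mem π hx)
  have hfrat : Subgroup.normalizer ((R : Subgroup G) : Set G) ⊔ N = ⊤ :=
    Sylow.normalizer_sup_eq_top' R hRN
  have hdecomp : ∀ g : G, ∃ n ∈ Subgroup.normalizer ((R : Subgroup G) : Set G), ∃ u ∈ Q,
      g = n * u := by
    intro g
    have hg : g ∈ Subgroup.normalizer ((R : Subgroup G) : Set G) ⊔ N := by rw [hfrat]; trivial
    obtain ⟨n, hn, m, hm, rfl⟩ := Subgroup.mem_sup_of_normal_right.mp hg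
    obtain ⟨ρ, hρ, hρm⟩ := Subgroup.mem_map.mp (Subgroup.mem_comap.mp hm)
    refine ⟨n * ρ, Subgroup.mul_mem _ hn (Subgroup.le_normalizer hρ), ρ⁻¹ * m, ?_, by group⟩
    exact QuotientGroup.eq.mp hρm
  have hNQ : ∀ u, u ∈ Subgroup.normalizer ((R : Subgroup G) : Set G) → u ∈ Q → u = 1 := by
    intro u huN huQ
    have hmem : u ∈ Q ⊓ Subgroup.centralizer ((R : Subgroup G) : Set G) := by
      refine Subgroup.mem_inf.mpr ⟨huQ, ?_⟩
      rw [Subgroup.mem_centralizer_iff]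
      intro x hx
      have h1 : u * x * u⁻¹ ∈ (R : Subgroup G) := (Subgroup.mem_normalizer_iff.mp huN x).mp hx
      have h2 : u * x * u⁻¹ * x⁻¹ ∈ (R : Subgroup G) :=
        Subgroup.mul_mem _ h1 (Subgroup.inv_mem _ hx)
      have h3 : u * x * u⁻¹ * x⁻¹ ∈ Q := by
        have h4 := hN.conj_mem u⁻¹ (Q.inv_mem huQ) x
        have h5 := Q.mul_mem huQ h4
        have h6 : u * (x * u⁻¹ * x⁻¹) = u * x * u⁻¹ * x⁻¹ := by group
        rw [h6] at h5
        exact h5
      have h5 := hRQ _ h2 h3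
      calc x * u = (u * x * u⁻¹ * x⁻¹)⁻¹ * (u * x) := by group
        _ = u * x := by rw [h5, inv_one, one_mul]
    rw [hC] at hmem
    exact Subgroup.mem_bot.mp hmem
  have hiso : Nonempty (↥(Subgroup.normalizer ((R : Subgroup G) : Set G)) ≃* DihedralGroup r) := by
    let φ : ↥(Subgroup.normalizer ((R : Subgroup G) : Set G)) →* G ⧸ Q :=
      π.comp (Subgroup.subtype _)
    have hinj : Function.Injective φ := by
      rw [injective_iff_map_eq_one]
      intro n hn
      have h1 : (n : G) ∈ Q := (QuotientGroup.eq_one_iff (n : G)).mp hn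
      exact Subtype.ext (hNQ _ n.2 h1)
    have hsurj : Function.Surjective φ := by
      intro q
      obtain ⟨g, rfl⟩ := QuotientGroup.mk'_surjective Q q
      obtain ⟨n, hn, u, hu, rfl⟩ := hdecomp g
      refine ⟨⟨n, hn⟩, ?_⟩
      show π n = π (n * u)
      have hu1 : π u = 1 := (QuotientGroup.eq_one_iff u).mpr hu
      rw [map_mul, hu1, mul_one]
    exact ⟨(MulEquiv.ofBijective φ ⟨hinj, hsurj⟩).trans ψ⟩
  refine ⟨hiso, ?_⟩
  intro a haN ha2
  have ha : a * a = 1 := by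
    have h1 := pow_orderOf_eq_one a
    rw [ha2, pow_two] at h1; exact h1
  have ha1 : a ≠ 1 := by
    intro h; rw [h, orderOf_one] at ha2; omega
  have haQ : a ∉ Q := fun h => ha1 (hNQ a haN h)
  have hRne : ∃ ρ ∈ (R : Subgroup G), ρ ≠ 1 := by
    by_contra hcon
    push Not at hcon
    have h1 : (R : Subgroup G) = ⊥ := (Subgroup.eq_bot_iff_forall _).mpr hcon
    rw [h1, Subgroup.card_bot] at hcardR
    exact hrp.one_lt.ne hcardR
  obtain ⟨ρ, hρR, hρ1⟩ := hRne
  have hρr : ρ ^ r = 1 := by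
    have h1 : orderOf (⟨ρ, hρR⟩ : (R : Subgroup G)) ∣ r := by
      have := orderOf_dvd_natCard (⟨ρ, hρR⟩ : (R : Subgroup G))
      rwa [hcardR] at this
    have h2 : (⟨ρ, hρR⟩ : (R : Subgroup G)) ^ r = 1 := orderOf_dvd_iff_pow_eq_one.mp h1
    simpa using congrArg Subtype.val h2
  have hgen : ∀ x ∈ (R : Subgroup G), x ∈ Subgroup.zpowers ρ := by
    intro x hx
    have h1 : Subgroup.zpowers (⟨ρ, hρR⟩ : (R : Subgroup G)) = ⊤ :=
      zpowers_eq_top_of_prime_card hcardR (fun h => hρ1 (congrArg Subtype.val h))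
    have h2 : (⟨x, hx⟩ : (R : Subgroup G)) ∈ Subgroup.zpowers (⟨ρ, hρR⟩ : (R : Subgroup G)) := by
      rw [h1]; trivial
    obtain ⟨k, hk⟩ := Subgroup.mem_zpowers_iff.mp h2
    exact Subgroup.mem_zpowers_iff.mpr ⟨k, by simpa using congrArg Subtype.val hk⟩
  have hρQ : ∀ u ∈ Q, u * ρ = ρ * u → u = 1 := by
    intro u hu hcomm
    have hmem : u ∈ Q ⊓ Subgroup.centralizer ((R : Subgroup G) : Set G) := by
      refine Subgroup.mem_inf.mpr ⟨hu, ?_⟩
      rw [Subgroup.mem_centralizer_iff]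
      intro x hx
      obtain ⟨k, rfl⟩ := Subgroup.mem_zpowers_iff.mp (hgen x hx)
      exact ((Commute.zpow_right (show Commute u ρ from hcomm) k).eq).symm
    rw [hC] at hmem
    exact Subgroup.mem_bot.mp hmem
  obtain ⟨t, ht⟩ := hrodd
  set σ := ρ ^ (t + 1) with hσdef
  have hσR : σ ∈ (R : Subgroup G) := Subgroup.pow_mem _ hρR _
  have hσ : σ * σ = ρ := by
    rw [hσdef, ← pow_add]
    have h1 : t + 1 + (t + 1) = r + 1 := by omega
    rw [h1, pow_succ, hρr, one_mul]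
  have hσ' : a * σ * a⁻¹ = σ⁻¹ := hinvR a haN ha haQ σ hσR
  obtain ⟨hsq, hconj⟩ := Cfsg.Agent.H13.dih_core Q ρ σ a hρQ ha hσ hσ'
  refine ⟨?_, hsq⟩
  intro b hb2 hbQ
  have hb : b * b = 1 := by
    have h1 := pow_orderOf_eq_one b
    rw [hb2, pow_two] at h1; exact h1
  obtain ⟨i, hi⟩ := hrefl a ha haQ
  obtain ⟨j, hj⟩ := hrefl b hb hbQ
  obtain ⟨g₀, hg₀⟩ : ∃ g₀ : G, ψ (π g₀) = DihedralGroup.r ((i - j) * (2 : ZMod r)⁻¹) := by
    obtain ⟨q, hq⟩ := ψ.surjective (DihedralGroup.r ((i - j) * (2 : ZMod r)⁻¹))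
    obtain ⟨g₀, rfl⟩ := QuotientGroup.mk'_surjective Q q
    exact ⟨g₀, hq⟩
  have h1 : π b = π g₀ * π a * (π g₀)⁻¹ := by
    apply ψ.injective
    rw [map_mul, map_mul, map_inv, hg₀, hi, hj, DihedralGroup.inv_r, DihedralGroup.r_mul_sr,
      DihedralGroup.sr_mul_r]
    congr 1
    have h2 : (i - j) * (2 : ZMod r)⁻¹ * 2 = i - j := by
      rw [mul_assoc, inv_mul_cancel₀ htwo, mul_one]
    have h3 : i - (i - j) * (2 : ZMod r)⁻¹ + -((i - j) * (2 : ZMod r)⁻¹)
        = i - (i - j) * (2 : ZMod r)⁻¹ * 2 := by ring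
    rw [h3, h2]; ring
  set u := a⁻¹ * (g₀⁻¹ * b * g₀) with hu
  have huQ : u ∈ Q := by
    rw [← QuotientGroup.eq_one_iff]
    show π (a⁻¹ * (g₀⁻¹ * b * g₀)) = 1
    rw [map_mul, map_mul, map_mul, map_inv, map_inv, h1]
    group
  have hau : a * u = g₀⁻¹ * b * g₀ := by rw [hu]; group
  have huinv : a * u * a⁻¹ = u⁻¹ := by
    have hb' : (a * u) * (a * u) = 1 := by
      rw [hau]
      calc g₀⁻¹ * b * g₀ * (g₀⁻¹ * b * g₀) = g₀⁻¹ * (b * b) * g₀ := by group
        _ = 1 := by rw [hb]; group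
    have hainv : a⁻¹ = a := inv_eq_of_mul_eq_one_left ha
    rw [hainv]
    calc a * u * a = (a * u * (a * u)) * u⁻¹ := by group
      _ = u⁻¹ := by rw [hb', one_mul]
  obtain ⟨w, hwQ, hw⟩ := hconj u huQ huinv
  refine ⟨g₀ * w, ?_⟩
  calc g₀ * w * a * (g₀ * w)⁻¹ = g₀ * (w * a * w⁻¹) * g₀⁻¹ := by group
    _ = g₀ * (a * u) * g₀⁻¹ := by rw [hw]
    _ = b := by rw [hau]; group

end Cfsg.Agent.S2873
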