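import Cfsg.Statements.S2874
import Cfsg.Agent.H11.A4GL2

set_option autoImplicit false
open Cfsg

namespace Cfsg.Agent.S2874

open Cfsg.Agent.H11.A4GL2

/-- For k ≥ 2, any two subgroups of GL₂(ℤ/2ᵏℤ) (the automorphism group of the homocyclic group ℤ/2ᵏ × ℤ/2ᵏ) that are isomorphic to the alternating group of degree 4 are conjugate. -/
theorem result (k : ℕ) (hk : 2 ≤ k) (H₁ H₂ : Subgroup (GL (Fin 2) (ZMod (2 ^ k)))) (h₁ : Nonempty (↥H₁ ≃* ↥(alternatingGroup (Fin 4)))) (h₂ : Nonempty (↥H₂ ≃* ↥(alternatingGroup (Fin 4)))) : ∃ g : GL (Fin 2) (ZMod (2 ^ k)), H₂ = H₁.map (MulAut.conj g).toMonoidHom := by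
  obtain ⟨e₁⟩ := h₁
  obtain ⟨e₂⟩ := h₂
  obtain ⟨g₁, hg₁⟩ := a4_normal_form k hk H₁ e₁
  obtain ⟨g₂, hg₂⟩ := a4_normal_form k hk H₂ e₂
  refine ⟨g₂ * g₁⁻¹, ?_⟩
  ext y
  rw [Subgroup.mem_map]
  constructor
  · intro hy
    refine ⟨g₁ * g₂⁻¹ * y * g₂ * g₁⁻¹, ?_, ?_⟩
    · rw [hg₁]
      have : g₁⁻¹ * (g₁ * g₂⁻¹ * y * g₂ * g₁⁻¹) * g₁ = g₂⁻¹ * y * g₂ := by group
      rw [this]; exact (hg₂ y).mp hy
    · simp only [MulEquiv.coe_toMonoidHom, MulAut.conj_apply]; group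
  · rintro ⟨z, hz, rfl⟩
    rw [hg₂]
    have : g₂⁻¹ * ((MulAut.conj (g₂ * g₁⁻¹)).toMonoidHom z) * g₂ = g₁⁻¹ * z * g₁ := by
      simp only [MulEquiv.coe_toMonoidHom, MulAut.conj_apply]; group
    rw [this]; exact (hg₁ z).mp hz

end Cfsg.Agent.S2874
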