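import Cfsg.Statements.S3116
import Cfsg.Agent.H25.AutP
import Cfsg.Agent.H25.QD5

set_option autoImplicit false
open Cfsg

namespace Cfsg.Agent.S3116

theorem result {X : Type*} [Group X] [Finite X] (h2 : IsPGroup 2 X)
    (h : (∃ n : ℕ, 4 ≤ n ∧ Nonempty (X ≃* DihedralGroup n)) ∨ Cfsg.IsQuasiDihedral X) : IsPGroup 2 (MulAut X) := by
  rcases h with ⟨n, hn4, ⟨e⟩⟩ | hQD
  · have : NeZero n := ⟨by omega⟩
    obtain ⟨N, hN⟩ : ∃ N, orderOf (e.symm (DihedralGroup.r 1)) = 2 ^ N := by
      obtain ⟨k, hk⟩ := h2 (e.symm (DihedralGroup.r 1))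
      have h3 := orderOf_dvd_of_pow_eq_one hk
      obtain ⟨j, -, hj⟩ := (Nat.dvd_prime_pow Nat.prime_two).mp h3
      exact ⟨j, hj⟩
    have hord : orderOf (e.symm (DihedralGroup.r 1)) = n := by
      rw [MulEquiv.orderOf_eq, DihedralGroup.orderOf_r_one]
    have hmem : ∀ (g : X) (i : ZMod n), e g = DihedralGroup.r i →
        g ∈ Subgroup.zpowers (e.symm (DihedralGroup.r 1)) := by
      intro g i hg
      have hgi : g = (e.symm (DihedralGroup.r 1)) ^ (i.val) := by
        apply e.injective
        rw [map_pow, e.apply_symm_apply, DihedralGroup.r_one_pow, hg, ZMod.natCast_zmod_val]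
      rw [hgi]; exact Subgroup.pow_mem _ (Subgroup.mem_zpowers _) _
    have hnot : ∀ (g : X) (i : ZMod n), e g = DihedralGroup.sr i →
        g ∉ Subgroup.zpowers (e.symm (DihedralGroup.r 1)) := by
      intro g i hg hmemg
      obtain ⟨k, hk⟩ := Subgroup.mem_zpowers_iff.mp hmemg
      have h4 : e g = DihedralGroup.r (k : ZMod n) := by
        rw [← hk, map_zpow, e.apply_symm_apply, DihedralGroup.r_one_zpow]
      rw [hg] at h4
      cases h4
    apply H25.aut_isPGroup_two (e.symm (DihedralGroup.r 1)) (e.symm (DihedralGroup.sr 0)) N hN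
    · intro α
      rcases hcase : e (α (e.symm (DihedralGroup.r 1))) with i | i
      · obtain ⟨k, hk⟩ := Subgroup.mem_zpowers_iff.mp (hmem _ i hcase)
        exact ⟨k, hk.symm⟩
      · exfalso
        have h1 : orderOf (e (α (e.symm (DihedralGroup.r 1)))) = n := by
          rw [MulEquiv.orderOf_eq, MulEquiv.orderOf_eq, hord]
        rw [hcase, DihedralGroup.orderOf_sr] at h1
        omega
    · exact hnot _ 0 (e.apply_symm_apply _)
    · intro g
      rcases hcase : e g with i | i
      · left; exact hmem g i hcase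
      · right
        apply hmem _ (0 - i)
        have hinv : (DihedralGroup.sr (0 : ZMod n))⁻¹ = DihedralGroup.sr 0 :=
          inv_eq_of_mul_eq_one_left (DihedralGroup.sr_mul_self 0)
        rw [map_mul, map_inv, e.apply_symm_apply, hcase, hinv, DihedralGroup.sr_mul_sr]
  · obtain ⟨n, m, x, y, hn, hm, hcard, h⟩ := H25.qd_of_isQuasiDihedral hQD
    have hmpos := h.m_pos
    have hox : orderOf x = 2 ^ n := by
      rw [h.orderOf_x, hm]
      obtain ⟨k, rfl⟩ : ∃ k, n = k + 3 := ⟨n - 3, by omega⟩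
      simp only [Nat.add_sub_cancel]; ring
    apply H25.aut_isPGroup_two x y n hox
    · intro α
      have ho : orderOf (α x) = 8 * m := by rw [MulEquiv.orderOf_eq, h.orderOf_x]
      obtain ⟨i, hi | hi⟩ := h.cases (α x)
      · exact ⟨i, hi⟩
      · exfalso
        rw [hi] at ho
        obtain ⟨k, rfl | rfl⟩ := Int.even_or_odd' i
        · rw [h.orderOf_xy_even] at ho; omega
        · rw [h.orderOf_xy_odd] at ho; omega
    · intro hmem
      obtain ⟨k, hk⟩ := Subgroup.mem_zpowers_iff.mp hmem
      apply h.zpow_ne k 0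
      rw [hk]; simp
    · intro g
      obtain ⟨i, rfl | rfl⟩ := h.cases g
      · left; exact Subgroup.zpow_mem_zpowers x i
      · right
        rw [mul_assoc, mul_inv_cancel, mul_one]; exact Subgroup.zpow_mem_zpowers x i

end Cfsg.Agent.S3116
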