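import Cfsg.Statements.S2879
import Cfsg.Agent.H25.DQInst
import Cfsg.Agent.H25.Q8Aut
import Cfsg.Agent.H1.HallHigman
import Cfsg.Agent.S3116

set_option autoImplicit false
open Cfsg

namespace Cfsg.Agent.S2879

theorem commute_of_sq {G : Type*} [Group G] {g t : G} (hgo : (orderOf g).Coprime 2)
    (ht : Commute (g ^ 2) t) : Commute g t := by
  obtain ⟨k, hk⟩ : ∃ k, orderOf g + 1 = 2 * k := by
    have h1 : orderOf g % 2 = 1 := by
      rcases Nat.mod_two_eq_zero_or_one (orderOf g) with h | h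
      · exfalso
        have h2 : 2 ∣ orderOf g := Nat.dvd_of_mod_eq_zero h
        have := Nat.Coprime.eq_one_of_dvd hgo.symm h2
        omega
      · exact h
    exact ⟨(orderOf g + 1) / 2, by omega⟩
  have h3 : g = (g ^ 2) ^ k := by
    rw [← pow_mul, ← hk, pow_succ, pow_orderOf_eq_one, one_mul]
  rw [h3]
  exact ht.pow_left k

/-- the `DQ` data of a dihedral or semidihedral Sylow 2-subgroup -/
theorem exists_dq {G : Type*} [Group G] [Finite G] (T : Sylow 2 G)
    (hT : (∃ n : ℕ, 4 ≤ n ∧ Nonempty (↥(T : Subgroup G) ≃* DihedralGroup n)) ∨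
      Cfsg.IsQuasiDihedral ↥(T : Subgroup G)) :
    ∃ (x : G) (m : ℕ), 2 ≤ m ∧ H25.DQ (T : Subgroup G) x m := by
  have : Fact (Nat.Prime 2) := ⟨Nat.prime_two⟩
  rcases hT with ⟨n, hn4, ⟨e⟩⟩ | hQD
  · have : NeZero n := ⟨by omega⟩
    obtain ⟨k, hk⟩ := IsPGroup.iff_card.mp T.isPGroup'
    have hc : Nat.card (T : Subgroup G) = 2 * n := by
      rw [Nat.card_congr e.toEquiv, DihedralGroup.nat_card]
    rw [hc] at hk
    obtain ⟨m, rfl⟩ : ∃ m, k = m + 1 := by
      rcases k with _ | m
      · rw [pow_zero] at hk; omega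
      · exact ⟨m, rfl⟩
    have hn : n = 2 ^ m := by
      rw [pow_succ] at hk; omega
    have hm : 2 ≤ m := by
      by_contra hlt
      have : m = 0 ∨ m = 1 := by omega
      rcases this with h | h <;> rw [h] at hn <;> omega
    exact ⟨_, m, hm, (H25.dq_dihedral n m hn e).of_top⟩
  · obtain ⟨x, n, hn, h⟩ := H25.dq_qd hQD
    exact ⟨_, n, by omega, h.of_top⟩

/-- Let G be a finite solvable group with O(G) = 1 whose Sylow 2-subgroup T is dihedral of order at least 8 or semidihedral, with G ≠ T and Z(T) normal in G. Then G has a normal subgroup isomorphic to SL₂(3). -/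
theorem result {G : Type*} [Group G] [Finite G] (hsol : IsSolvable G) (hO : Cfsg.oddCore G = ⊥) (T : Sylow 2 G) (hT : (∃ n : ℕ, 4 ≤ n ∧ Nonempty (↥(T : Subgroup G) ≃* DihedralGroup n)) ∨ Cfsg.IsQuasiDihedral ↥(T : Subgroup G)) (hne : (T : Subgroup G) ≠ ⊤) (hZ : ((T : Subgroup G) ⊓ Subgroup.centralizer ((T : Subgroup G) : Set G)).Normal) : ∃ U : Subgroup G, U.Normal ∧ Nonempty (↥U ≃* Matrix.SpecialLinearGroup (Fin 2) (ZMod 3)) := by
  classical
  have : Fact (Nat.Prime 2) := ⟨Nat.prime_two⟩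
  have : Group.IsSolvable G := hsol
  obtain ⟨Q, hQdef⟩ : ∃ Q : Subgroup G, Q = Cfsg.pCore 2 G := ⟨_, rfl⟩
  have hQn : Q.Normal := hQdef ▸ Cfsg.pCore_normal 2 G
  have hQ2 : IsPGroup 2 Q := hQdef ▸ H1.pCore_isPGroup 2
  have hQT : Q ≤ T := hQdef ▸ H1.pCore_le_sylow 2 T
  have hC : Subgroup.centralizer (Q : Set G) ≤ Q := hQdef ▸ H1.centralizer_pCore_le 2 hO
  -- an element of odd prime order
  obtain ⟨p, hp, hpdvd, hp2⟩ : ∃ p : ℕ, p.Prime ∧ p ∣ Nat.card G ∧ p ≠ 2 := by
    have hidx : (T : Subgroup G).index ≠ 1 := fun h => hne (Subgroup.index_eq_one.mp h)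
    obtain ⟨p, hp, hpd⟩ := Nat.exists_prime_and_dvd hidx
    refine ⟨p, hp, hpd.trans (Subgroup.index_dvd_card _), ?_⟩
    rintro rfl
    exact T.not_dvd_index hpd
  have : Fact p.Prime := ⟨hp⟩
  obtain ⟨g, hg⟩ := exists_prime_orderOf_dvd_card' p hpdvd
  have hgo : (orderOf g).Coprime 2 := by
    rw [hg]
    exact (Nat.coprime_primes hp Nat.prime_two).mpr hp2
  have hgC : g ∉ Subgroup.centralizer (Q : Set G) := by
    intro hgc
    obtain ⟨k, hk⟩ := hQ2 ⟨g, hC hgc⟩
    have h1 : g ^ 2 ^ k = 1 := by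
      have := congrArg Subtype.val hk
      simpa using this
    have d1 : orderOf g ∣ 2 ^ k := orderOf_dvd_of_pow_eq_one h1
    have := Nat.Coprime.eq_one_of_dvd (hgo.pow_right k) d1
    rw [hg] at this
    exact hp.one_lt.ne' this
  have hA : ¬ IsPGroup 2 (MulAut Q) := by
    intro hP
    obtain ⟨k, hk⟩ := hP (MulAut.conjNormal g)
    have h1 : (MulAut.conjNormal g : MulAut Q) ^ p = 1 := by
      rw [← map_pow, ← hg, pow_orderOf_eq_one, map_one]
    have d1 : orderOf (MulAut.conjNormal g : MulAut Q) ∣ 2 ^ k := orderOf_dvd_of_pow_eq_one hk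
    have d2 : orderOf (MulAut.conjNormal g : MulAut Q) ∣ p := orderOf_dvd_of_pow_eq_one h1
    have h2 := Nat.Coprime.eq_one_of_dvd
      (Nat.Coprime.coprime_dvd_left d2 ((hg ▸ hgo).pow_right k)) d1
    have h3 : (MulAut.conjNormal g : MulAut Q) = 1 := orderOf_eq_one_iff.mp h2
    apply hgC
    rw [Subgroup.mem_centralizer_iff]
    intro q hq
    have h4 : g * q * g⁻¹ = q := by
      have := MulAut.conjNormal_apply (H := Q) g ⟨q, hq⟩
      rw [h3] at this
      exact this.symm
    calc q * g = (g * q * g⁻¹) * g := by rw [h4]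
      _ = g * q := by group
  obtain ⟨x, m, hm, hDQ⟩ := exists_dq T hT
  have hQne : Q ≠ T := by
    intro hQeq
    apply hA
    have h1 : IsPGroup 2 (MulAut ↥(T : Subgroup G)) := Cfsg.Agent.S3116.result T.isPGroup' hT
    exact h1.of_equiv (MulAut.congr (MulEquiv.subgroupCongr hQeq.symm))
  have hnorm : ∀ t ∈ (T : Subgroup G), ∀ q ∈ Q, t * q * t⁻¹ ∈ Q :=
    fun t _ q hq => hQn.conj_mem q hq t
  have hC' : ∀ t ∈ (T : Subgroup G), (∀ q ∈ Q, t * q = q * t) → t ∈ Q := by
    intro t _ ht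
    apply hC
    rw [Subgroup.mem_centralizer_iff]
    intro q hq
    exact (ht q hq).symm
  rcases hDQ.normal_sub hm hQT hQne hnorm hC' hA with ⟨hm2, hx2Q, u, huQ, hux, hall⟩ | ⟨-, hQ8, hI⟩
  · -- four-group: contradiction with `Z(T)` normal
    exfalso
    subst hm2
    have hox : orderOf x = 4 := by rw [hDQ.ord]; norm_num
    have hz2 : (x ^ 2) ^ 2 = 1 := by
      rw [← pow_mul]
      have := pow_orderOf_eq_one x
      rwa [hox] at this
    have hz1 : x ^ 2 ≠ 1 := pow_ne_one_of_lt_orderOf (by norm_num) (by rw [hox]; norm_num)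
    have hzinv : (x ^ 2)⁻¹ = x ^ 2 := by
      apply inv_eq_of_mul_eq_one_right
      rw [← pow_two]; exact hz2
    have hzZ : x ^ 2 ∈ (T : Subgroup G) ⊓ Subgroup.centralizer ((T : Subgroup G) : Set G) := by
      rw [Subgroup.mem_inf]
      refine ⟨hQT hx2Q, ?_⟩
      rw [Subgroup.mem_centralizer_iff]
      intro t ht
      by_cases htx : t ∈ Subgroup.zpowers x
      · obtain ⟨k, rfl⟩ := Subgroup.mem_zpowers_iff.mp htx
        exact (((Commute.refl x).pow_right 2).zpow_left k).eq
      · have h1 := hDQ.inv t ht htx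
        rw [hzinv] at h1
        calc t * x ^ 2 = (t * x ^ 2 * t⁻¹) * t := by group
          _ = x ^ 2 * t := by rw [h1]
    -- elements outside `⟨x⟩` do not commute with `x`
    have hnc : ∀ v ∈ (T : Subgroup G), v ∉ Subgroup.zpowers x → ¬ Commute x v := by
      intro v hv hvx hcomm
      have h1 := hDQ.comm v hv hvx
      have h2 : x * v * x⁻¹ * v⁻¹ = 1 := by
        rw [hcomm.eq]; group
      rw [h2, Subgroup.zpowers_one_eq_bot, Subgroup.mem_bot] at h1
      exact hz1 h1
    have hzux : x ^ 2 * u ∉ Subgroup.zpowers x := by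
      intro hh
      apply hux
      have h1 : u = (x ^ 2)⁻¹ * (x ^ 2 * u) := by group
      rw [h1]
      exact Subgroup.mul_mem _ (Subgroup.inv_mem _ (Subgroup.pow_mem _ (Subgroup.mem_zpowers x) 2)) hh
    have hgz : g * x ^ 2 * g⁻¹ = x ^ 2 := by
      have h1 := hZ.conj_mem _ hzZ g
      have h2 : g * x ^ 2 * g⁻¹ ∈ Q := by
        apply hC
        exact Subgroup.centralizer_le hQT h1.2
      have h3 : Commute x (g * x ^ 2 * g⁻¹) := by
        have := (Subgroup.mem_centralizer_iff.mp h1.2) x hDQ.xT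
        exact this
      rcases hall _ h2 with e | e | e | e
      · exfalso
        apply hz1
        have h4 : x ^ 2 = g⁻¹ * (g * x ^ 2 * g⁻¹) * g := by group
        rw [h4, e]; group
      · exact e
      · exfalso
        rw [e] at h3
        exact hnc u (hQT huQ) hux h3
      · exfalso
        rw [e] at h3
        exact hnc _ (hQT (Q.mul_mem hx2Q huQ)) hzux h3
    have hgu : g * u * g⁻¹ = u := by
      have h2 : g * u * g⁻¹ ∈ Q := hQn.conj_mem u huQ g
      rcases hall _ h2 with e | e | e | e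
      · exfalso
        apply hux
        have h4 : u = g⁻¹ * (g * u * g⁻¹) * g := by group
        rw [h4, e]
        simp
      · exfalso
        apply hux
        have h4 : u = g⁻¹ * (g * u * g⁻¹) * g := by group
        have h5 : x ^ 2 = g⁻¹ * (g * x ^ 2 * g⁻¹) * g := by group
        rw [h4, e, ← hgz, ← h5]
        exact Subgroup.pow_mem _ (Subgroup.mem_zpowers x) 2
      · exact e
      · exfalso
        have h5 : g ^ 2 * u * (g ^ 2)⁻¹ = u := by
          calc g ^ 2 * u * (g ^ 2)⁻¹ = g * (g * u * g⁻¹) * g⁻¹ := by rw [pow_two]; group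
            _ = g * (x ^ 2 * u) * g⁻¹ := by rw [e]
            _ = (g * x ^ 2 * g⁻¹) * (g * u * g⁻¹) := by group
            _ = x ^ 2 * (x ^ 2 * u) := by rw [hgz, e]
            _ = u := by rw [← mul_assoc, ← pow_two, hz2, one_mul]
        have h6 : Commute (g ^ 2) u := by
          unfold Commute SemiconjBy
          calc g ^ 2 * u = (g ^ 2 * u * (g ^ 2)⁻¹) * g ^ 2 := by group
            _ = u * g ^ 2 := by rw [h5]
        have h7 := commute_of_sq hgo h6
        have h8 : g * u * g⁻¹ = u := by rw [h7.eq]; group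
        rw [h8] at e
        apply hz1
        have h9 : x ^ 2 = (x ^ 2 * u) * u⁻¹ := by group
        rw [h9, ← e]; group
    apply hgC
    rw [Subgroup.mem_centralizer_iff]
    have hcz : x ^ 2 * g = g * x ^ 2 := by
      calc x ^ 2 * g = (g * x ^ 2 * g⁻¹) * g := by rw [hgz]
        _ = g * x ^ 2 := by group
    have hcu : u * g = g * u := by
      calc u * g = (g * u * g⁻¹) * g := by rw [hgu]
        _ = g * u := by group
    intro q hq
    rcases hall q hq with e | e | e | e
    · rw [e]; simp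
    · rw [e]; exact hcz
    · rw [e]; exact hcu
    · rw [e, mul_assoc, hcu, ← mul_assoc, hcz, mul_assoc]
  · exact H25.normal_sl_of_q8 Q hQ8 hI hC hgo hgC

end Cfsg.Agent.S2879
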