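import Cfsg.Statements.S2881
import Cfsg.Agent.H54.ES2Count

set_option autoImplicit false
open Cfsg

namespace Cfsg.Agent.S2881

/-- Let E be an extraspecial 2-group of order 2^(2m+1) of plus type (containing an elementary abelian subgroup of order 2^(m+1)), and let ω be an automorphism of E of order 5 whose fixed points are exactly the centre of E. Then m is divisible by 4. -/
theorem result {E : Type*} [Group E] [Finite E] (m : ℕ) (hm : 1 ≤ m) (hE : Cfsg.IsExtraspecial 2 E) (hcard : Nat.card E = 2 ^ (2 * m + 1)) (hplus : ∃ A : Subgroup E, Cfsg.IsElementaryAbelian 2 A ∧ Nat.card A = 2 ^ (m + 1)) (ω : E ≃* E) (hω : orderOf ω = 5) (hfix : ∀ x : E, ω x = x ↔ x ∈ Subgroup.center E) : 4 ∣ m := by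
  classical
  have hES := Cfsg.Agent.H54.ES2.of_isExtraspecial hE
  have hT := Cfsg.Agent.H54.card_orderOf_four_of_isExtraspecial m hE hcard hplus
  have : Fintype E := Fintype.ofFinite E
  have : Fact (Nat.Prime 5) := ⟨by norm_num⟩
  -- the permutation induced by `ω` on the elements of order `4`
  let σ : Equiv.Perm {x : E // orderOf x = 4} :=
    (ω.toEquiv).subtypeEquiv (fun a => by
      change orderOf a = 4 ↔ orderOf (ω a) = 4
      rw [MulEquiv.orderOf_eq])
  have hσω : ∀ (n : ℕ) (x : {x : E // orderOf x = 4}), ((σ ^ n) x : E) = (ω ^ n) (x : E) := by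
    intro n
    induction n with
    | zero => intro x; rfl
    | succ n ih =>
      intro x
      rw [pow_succ, pow_succ, Equiv.Perm.mul_apply, MulAut.mul_apply, ih]
      rfl
  have hσ5 : σ ^ 5 ^ 1 = 1 := by
    ext x
    rw [pow_one, hσω 5 x, ← hω, pow_orderOf_eq_one]
    rfl
  have hsupp : σ.supportᶜ = ∅ := by
    rw [Finset.compl_eq_empty_iff]
    ext x
    simp only [Equiv.Perm.mem_support, Finset.mem_univ, iff_true]
    intro hx
    have h1 : ω (x : E) = (x : E) := congrArg Subtype.val hx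
    have h2 := hES.central_sq ((hfix _).mp h1)
    exact (hES.orderOf_eq_four_iff _).mp x.2 h2
  have hmod := Equiv.Perm.card_compl_support_modEq hσ5
  rw [hsupp, Finset.card_empty] at hmod
  have h5 : 5 ∣ Nat.card {x : E // orderOf x = 4} := by
    rw [Nat.card_eq_fintype_card]
    exact (Nat.modEq_zero_iff_dvd.mp hmod.symm)
  rw [hT] at h5
  have e1 : 2 ^ (2 * m) - 2 ^ m = (2 ^ m - 1) * 2 ^ m := by
    rw [Nat.sub_mul, one_mul, two_mul, pow_add]
  rw [e1] at h5
  have h6 : 5 ∣ 2 ^ m - 1 :=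
    Nat.Coprime.dvd_of_dvd_mul_right (Nat.Coprime.pow_right m (by decide)) h5
  have hpos : 1 ≤ 2 ^ m := Nat.one_le_two_pow
  have h7 : 2 ^ m % 5 = 1 := by omega
  have key : 2 ^ m % 5 = 2 ^ (m % 4) % 5 := by
    conv_lhs => rw [← Nat.div_add_mod m 4]
    rw [pow_add, pow_mul, Nat.mul_mod, Nat.pow_mod]
    norm_num
  rw [key] at h7
  have hr : m % 4 < 4 := Nat.mod_lt _ (by norm_num)
  apply Nat.dvd_of_mod_eq_zero
  interval_cases (m % 4) <;> simp_all

end Cfsg.Agent.S2881
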