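import Cfsg.Statements.S2882
import Cfsg.Agent.H94.D2882

set_option autoImplicit false
open Cfsg

namespace Cfsg.Agent.S2882

open Cfsg.Agent.H9 Cfsg.Agent.H33 Cfsg.Agent.H94
open scoped Pointwise

/-! ### tests on packed permutations -/

/-- the masks of the four pairs `{0,1}`, `{2,3}`, `{4,7}`, `{10,12}` -/
def piL : List ℕ := [0x3, 0xc, 0x90, 0x1400]

/-- the packed permutation fixes the octad `fs octM0` and the sextet `sextObj 0` -/
def testB (P : ℕ) : Bool := Nat.beq (imgN P octM0) octM0 && sextStep P 0 0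

/-- the packed permutation maps the pairing into itself -/
def fixPi (P : ℕ) : Bool := piL.all (fun m => piL.any (fun m' => Nat.beq (imgN P m) m'))

/-- the packed permutation fixes the octad, the sextet and the pairing -/
def testP (P : ℕ) : Bool := testB P && fixPi P

/-- `X` maps the image of the pairing under `T` into itself -/
def piFix (X T : ℕ) : Bool :=
  piL.all (fun m => piL.any (fun m' => Nat.beq (imgN X (imgN T m)) (imgN T m')))

/-- the points `0, 1, 2, 3, 4, 7, 10, 12` of the octad -/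
def ptT (n : ℕ) : ℕ := lk 0x628e418820 n

/-- the position of a point in the list `0, 1, 2, 3, 4, 7, 10, 12` -/
def posT (n : ℕ) : ℕ := lk 0xfffffffffffffe7f9bff2ffe418820 n

/-- the masks of the two tetrads of the sextet inside the octad -/
def tm (s : ℕ) : ℕ := bif Nat.beq s 0 then 0xf else 0x1490

/-- validity of an index of the table `dsy` -/
def valid (d : ℕ) : Bool :=
  !(Nat.beq (d / 64 % 4) (d / 16 % 4)) &&
    (!(Nat.beq (d / 64 % 4) (d / 4 % 4)) && !(Nat.beq (d / 16 % 4) (d / 4 % 4)))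

/-- the entry `d` of the table `dsy` is an element of `M24` with the prescribed images -/
def entryOK (d : ℕ) : Bool :=
  chkInv (fldG dsy d) (fldG dsyI d) && (chkM24 (fldG dsy d) &&
    (Nat.beq (lk (fldG dsy d) 0) (ptT (4 * (d / 256) + d / 64 % 4)) &&
    (Nat.beq (lk (fldG dsy d) 1) (ptT (4 * (d / 256) + d / 16 % 4)) &&
    (Nat.beq (lk (fldG dsy d) 2) (ptT (4 * (d / 256) + d / 4 % 4)) &&
    (Nat.beq (lk (fldG dsy d) 3)
      (ptT (4 * (d / 256) + (6 - (d / 64 % 4 + d / 16 % 4 + d / 4 % 4)))) &&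
    Nat.beq (lk (fldG dsy d) 4) (ptT (4 * (1 - d / 256) + d % 4)))))))

/-- the final test on a candidate `T` of the octad-sextet stabiliser -/
def k6 (T : ℕ) : Bool :=
  !(testB T) || (!(allB (fun i => piFix (fldG xsy i) T) 3) || fixPi T)

/-! ### kernel checks -/

theorem K1 : allB (fun d => !(valid d) || entryOK d) 512 = true := by decide +kernel

theorem Kdist : allB (fun d => allB (fun d' => !(valid d) || (!(valid d') || (Nat.beq d d' ||
    differ5 (fldG dsy d) (fldG dsy d')))) 512) 512 = true := by decide +kernel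

theorem K2 : sumB (fun d => countB (fun j => candOK dsy valid testP (d * 48 + j)) 48) 512
    = 1024 := by decide +kernel

theorem K3 : allB (fun i => chkInv (fldG xsy i) (fldG xsyI i) && (chkM24 (fldG xsy i) &&
    testP (fldG xsy i))) 3 = true := by decide +kernel

theorem K4 : allB (fun k => Nat.beq k 0 || !(allB (fun i => octStep (fldG xsy i) k k) 3)) 759
    = true := by decide +kernel

theorem K5 : allB (fun k => Nat.beq k 0 || !(allB (fun i => sextStep (fldG xsy i) k k) 3)) 1771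
    = true := by decide +kernel

theorem K6 : allB (fun d => !(valid d) ||
    allB (fun j => k6 (mulN (fldG dsy d) (fldG u5 j))) 48) 512 = true := by decide +kernel

theorem pos_spec : ∀ s < 2, ∀ n < 24, tb (tm s) n = true →
    4 * s ≤ posT n ∧ posT n < 4 * s + 4 ∧ ptT (posT n) = n := by decide +kernel

theorem tm_compl : ∀ s < 2, ∀ n < 24, tb octM0 n = true → tb (tm s) n = false →
    tb (tm (1 - s)) n = true := by decide +kernel

theorem bad_tets : ∀ m ∈ sextL 0, m = tm 0 ∨ m = tm 1 ∨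
    ∀ n < 24, tb octM0 n = true → tb m n = false := by decide +kernel

theorem tm0_mem : tm 0 ∈ sextL 0 := by decide +kernel

theorem tm0_tb : ∀ i < 4, tb (tm 0) i = true := by decide +kernel

theorem octObj0 : fld octC 0 = octM0 := by decide +kernel

theorem piL_ok : okList piL := ⟨by decide, by decide⟩

/-! ### the subgroups -/

/-- the stabiliser of the octad `oct0` and the sextet `sextObj 0` -/
def B2 : Subgroup (Equiv.Perm GolayPt) where
  carrier := {g | g ∈ M24 ∧ g • oct0 = oct0 ∧ g • sextObj 0 = sextObj 0}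
  mul_mem' := by
    rintro a b ⟨ha, ha1, ha2⟩ ⟨hb, hb1, hb2⟩
    exact ⟨mul_mem ha hb, by rw [mul_smul, hb1, ha1], by rw [mul_smul, hb2, ha2]⟩
  one_mem' := ⟨one_mem _, one_smul _ _, one_smul _ _⟩
  inv_mem' := by
    rintro a ⟨ha, ha1, ha2⟩
    exact ⟨inv_mem ha, by rw [inv_smul_eq_iff, ha1], by rw [inv_smul_eq_iff, ha2]⟩

/-- the stabiliser of the octad `oct0`, the sextet `sextObj 0` and the pairing: a Sylow
2-subgroup -/
def P0 : Subgroup (Equiv.Perm GolayPt) where
  carrier := {g | g ∈ M24 ∧ g • oct0 = oct0 ∧ g • sextObj 0 = sextObj 0 ∧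
    g • objOf piL = objOf piL}
  mul_mem' := by
    rintro a b ⟨ha, ha1, ha2, ha3⟩ ⟨hb, hb1, hb2, hb3⟩
    exact ⟨mul_mem ha hb, by rw [mul_smul, hb1, ha1], by rw [mul_smul, hb2, ha2],
      by rw [mul_smul, hb3, ha3]⟩
  one_mem' := ⟨one_mem _, one_smul _ _, one_smul _ _, one_smul _ _⟩
  inv_mem' := by
    rintro a ⟨ha, ha1, ha2, ha3⟩
    exact ⟨inv_mem ha, by rw [inv_smul_eq_iff, ha1], by rw [inv_smul_eq_iff, ha2],
      by rw [inv_smul_eq_iff, ha3]⟩

theorem mem_B2 {g : Equiv.Perm GolayPt} :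
    g ∈ B2 ↔ g ∈ M24 ∧ g • oct0 = oct0 ∧ g • sextObj 0 = sextObj 0 := Iff.rfl

theorem mem_P0 {g : Equiv.Perm GolayPt} :
    g ∈ P0 ↔ g ∈ M24 ∧ g • oct0 = oct0 ∧ g • sextObj 0 = sextObj 0 ∧
      g • objOf piL = objOf piL := Iff.rfl

theorem P0_le_B2 {g : Equiv.Perm GolayPt} (hg : g ∈ P0) : g ∈ B2 :=
  ⟨hg.1, hg.2.1, hg.2.2.1⟩

theorem testB_of {P : ℕ} {g : Equiv.Perm GolayPt} (h : Rep P g) (hg : g ∈ B2) :
    testB P = true := by
  obtain ⟨hm, h1, h2⟩ := hg
  unfold testB
  rw [Bool.and_eq_true]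
  refine ⟨?_, (sextStep_iff h hm (by norm_num) (by norm_num)).mp h2⟩
  have h3 : fs (imgN P octM0) = fs octM0 := by
    rw [← smul_fs h]
    exact h1
  rw [fs_inj (Cfsg.Agent.S5614.imgN_lt_of_rep h _) (by decide) h3]
  exact Nat.beq_refl _

theorem of_testB {P : ℕ} {g : Equiv.Perm GolayPt} (h : Rep P g) (hm : g ∈ M24)
    (ht : testB P = true) : g ∈ B2 := by
  unfold testB at ht
  rw [Bool.and_eq_true] at ht
  refine ⟨hm, ?_, sextStep_sound hm h (by norm_num) (by norm_num) ht.2⟩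
  show g • fs octM0 = fs octM0
  rw [smul_fs h, Nat.eq_of_beq_eq_true ht.1]

theorem fixPi_of {P : ℕ} {g : Equiv.Perm GolayPt} (h : Rep P g)
    (hg : g • objOf piL = objOf piL) : fixPi P = true := by
  unfold fixPi
  rw [List.all_eq_true]
  intro m hm
  rw [List.any_eq_true]
  have h1 : g • fs m ∈ g • objOf piL :=
    Finset.smul_mem_smul_finset (mem_objOf.mpr ⟨m, hm, rfl⟩)
  rw [hg, smul_fs h] at h1
  obtain ⟨m', hm', e⟩ := mem_objOf.mp h1
  have e' := fs_inj (piL_ok.1 m' hm') (Cfsg.Agent.S5614.imgN_lt_of_rep h _) e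
  exact ⟨m', hm', by rw [← e']; exact Nat.beq_refl _⟩

theorem of_fixPi {P : ℕ} {g : Equiv.Perm GolayPt} (h : Rep P g) (ht : fixPi P = true) :
    g • objOf piL = objOf piL := by
  apply Finset.eq_of_subset_of_card_le
  · intro s hs
    rw [smul_objOf h, mem_objOf] at hs
    obtain ⟨m', hm', rfl⟩ := hs
    obtain ⟨m, hm, rfl⟩ := List.mem_map.mp hm'
    unfold fixPi at ht
    obtain ⟨m'', hm'', e⟩ := List.any_eq_true.mp (List.all_eq_true.mp ht m hm)
    rw [Nat.eq_of_beq_eq_true e]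
    exact mem_objOf.mpr ⟨m'', hm'', rfl⟩
  · rw [Finset.card_smul_finset]

theorem piFix_of {X T : ℕ} {x n : Equiv.Perm GolayPt} (hx : Rep X x) (hn : Rep T n)
    (h : x • n • objOf piL = n • objOf piL) : piFix X T = true := by
  unfold piFix
  rw [List.all_eq_true]
  intro m hm
  rw [List.any_eq_true]
  have h1 : x • n • fs m ∈ x • n • objOf piL :=
    Finset.smul_mem_smul_finset (Finset.smul_mem_smul_finset (mem_objOf.mpr ⟨m, hm, rfl⟩))
  rw [h, smul_fs hn, smul_fs hx, smul_objOf hn] at h1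
  obtain ⟨m', hm', e⟩ := mem_objOf.mp h1
  obtain ⟨m'', hm'', rfl⟩ := List.mem_map.mp hm'
  have e' := fs_inj (Cfsg.Agent.S5614.imgN_lt_of_rep hn _) (Cfsg.Agent.S5614.imgN_lt_of_rep hx _) e
  exact ⟨m'', hm'', by rw [e']; exact Nat.beq_refl _⟩

/-! ### the coset table covers the octad-sextet stabiliser -/

theorem gPt_inj {a b : ℕ} (ha : a < 24) (hb : b < 24) (h : gPt a = gPt b) : a = b := by
  have := congrArg gIdx h
  rwa [gIdx_gPt ha, gIdx_gPt hb] at this

theorem mem_fs_tb {m : ℕ} {p : GolayPt} (h : p ∈ fs m) : tb m (gIdx p) = true := by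
  rw [tb_eq]
  exact mem_fs.mp h

theorem fs_mem_of_tb {m i : ℕ} (hi : i < 24) (h : tb m i = true) : gPt i ∈ fs m := by
  apply mem_fs.mpr
  rw [gIdx_gPt hi, ← tb_eq]
  exact h

theorem beq_false {a b : ℕ} (h : a ≠ b) : Nat.beq a b = false := by
  rw [Bool.eq_false_iff]
  exact fun e => h (Nat.eq_of_beq_eq_true e)

theorem hD : ∀ d < 512, valid d = true →
    chkInv (fldG dsy d) (fldG dsyI d) = true ∧ chkM24 (fldG dsy d) = true := by
  intro d hd hv
  have h := (allB_iff _ _).mp K1 d hd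
  rw [hv] at h
  simp only [Bool.not_true, Bool.false_or] at h
  unfold entryOK at h
  simp only [Bool.and_eq_true] at h
  exact ⟨h.1, h.2.1⟩

theorem index_of {g : Equiv.Perm GolayPt} {s : ℕ} (hs : s < 2)
    (h03 : ∀ i < 4, tb (tm s) (gIdx (g (gPt i))) = true)
    (h4 : tb (tm (1 - s)) (gIdx (g (gPt 4))) = true) :
    ∃ d < 512, valid d = true ∧ ∀ i < 5, g (gPt i) = gPt (lk (fldG dsy d) i) := by
  have hx : ∀ i, g (gPt i) = gPt (gIdx (g (gPt i))) := fun i => (gPt_gIdx _).symm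
  have hlt : ∀ i, gIdx (g (gPt i)) < 24 := fun i => gIdx_lt _
  have hne : ∀ i < 24, ∀ j < 24, i ≠ j → gIdx (g (gPt i)) ≠ gIdx (g (gPt j)) := by
    intro i hi j hj hij e
    have : g (gPt i) = g (gPt j) := by rw [hx i, hx j, e]
    exact hij (gPt_inj hi hj (g.injective this))
  obtain ⟨p0l, p0u, p0e⟩ := pos_spec s hs _ (hlt 0) (h03 0 (by norm_num))
  obtain ⟨p1l, p1u, p1e⟩ := pos_spec s hs _ (hlt 1) (h03 1 (by norm_num))
  obtain ⟨p2l, p2u, p2e⟩ := pos_spec s hs _ (hlt 2) (h03 2 (by norm_num))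
  obtain ⟨p3l, p3u, p3e⟩ := pos_spec s hs _ (hlt 3) (h03 3 (by norm_num))
  obtain ⟨p4l, p4u, p4e⟩ := pos_spec (1 - s) (by omega) _ (hlt 4) h4
  have q01 : posT (gIdx (g (gPt 0))) ≠ posT (gIdx (g (gPt 1))) := fun e =>
    hne 0 (by norm_num) 1 (by norm_num) (by norm_num) (by rw [← p0e, ← p1e, e])
  have q02 : posT (gIdx (g (gPt 0))) ≠ posT (gIdx (g (gPt 2))) := fun e =>
    hne 0 (by norm_num) 2 (by norm_num) (by norm_num) (by rw [← p0e, ← p2e, e])
  have q03 : posT (gIdx (g (gPt 0))) ≠ posT (gIdx (g (gPt 3))) := fun e =>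
    hne 0 (by norm_num) 3 (by norm_num) (by norm_num) (by rw [← p0e, ← p3e, e])
  have q12 : posT (gIdx (g (gPt 1))) ≠ posT (gIdx (g (gPt 2))) := fun e =>
    hne 1 (by norm_num) 2 (by norm_num) (by norm_num) (by rw [← p1e, ← p2e, e])
  have q13 : posT (gIdx (g (gPt 1))) ≠ posT (gIdx (g (gPt 3))) := fun e =>
    hne 1 (by norm_num) 3 (by norm_num) (by norm_num) (by rw [← p1e, ← p3e, e])
  have q23 : posT (gIdx (g (gPt 2))) ≠ posT (gIdx (g (gPt 3))) := fun e =>
    hne 2 (by norm_num) 3 (by norm_num) (by norm_num) (by rw [← p2e, ← p3e, e])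
  generalize posT (gIdx (g (gPt 0))) = y0 at *
  generalize posT (gIdx (g (gPt 1))) = y1 at *
  generalize posT (gIdx (g (gPt 2))) = y2 at *
  generalize posT (gIdx (g (gPt 3))) = y3 at *
  generalize posT (gIdx (g (gPt 4))) = y4 at *
  obtain ⟨d, hdd⟩ : ∃ d, d = 256 * s + 64 * (y0 - 4 * s) + 16 * (y1 - 4 * s)
      + 4 * (y2 - 4 * s) + (y4 - 4 * (1 - s)) := ⟨_, rfl⟩
  have hd : d < 512 := by omega
  have e256 : d / 256 = s := by omega
  have e64 : d / 64 % 4 = y0 - 4 * s := by omega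
  have e16 : d / 16 % 4 = y1 - 4 * s := by omega
  have e4 : d / 4 % 4 = y2 - 4 * s := by omega
  have e1 : d % 4 = y4 - 4 * (1 - s) := by omega
  have hv : valid d = true := by
    unfold valid
    rw [e64, e16, e4, beq_false (by omega), beq_false (by omega), beq_false (by omega)]
    rfl
  have h := (allB_iff _ _).mp K1 d hd
  rw [hv] at h
  simp only [Bool.not_true, Bool.false_or] at h
  unfold entryOK at h
  simp only [Bool.and_eq_true] at h
  obtain ⟨-, -, c0, c1, c2, c3, c4⟩ := h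
  have c0' := Nat.eq_of_beq_eq_true c0
  have c1' := Nat.eq_of_beq_eq_true c1
  have c2' := Nat.eq_of_beq_eq_true c2
  have c3' := Nat.eq_of_beq_eq_true c3
  have c4' := Nat.eq_of_beq_eq_true c4
  rw [e256, e64] at c0'
  rw [e256, e16] at c1'
  rw [e256, e4] at c2'
  rw [e256, e64, e16, e4] at c3'
  rw [e256, e1] at c4'
  rw [show 4 * s + (y0 - 4 * s) = y0 by omega, p0e] at c0'
  rw [show 4 * s + (y1 - 4 * s) = y1 by omega, p1e] at c1'
  rw [show 4 * s + (y2 - 4 * s) = y2 by omega, p2e] at c2'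
  rw [show 4 * s + (6 - (y0 - 4 * s + (y1 - 4 * s) + (y2 - 4 * s))) = y3 by omega, p3e] at c3'
  rw [show 4 * (1 - s) + (y4 - 4 * (1 - s)) = y4 by omega, p4e] at c4'
  refine ⟨d, hd, hv, fun i hi => ?_⟩
  interval_cases i
  · rw [c0']; exact hx 0
  · rw [c1']; exact hx 1
  · rw [c2']; exact hx 2
  · rw [c3']; exact hx 3
  · rw [c4']; exact hx 4

theorem complete_B2 {g : Equiv.Perm GolayPt} (hg : g ∈ B2) :
    ∃ d < 512, valid d = true ∧ ∀ i < 5, g (gPt i) = gPt (lk (fldG dsy d) i) := by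
  obtain ⟨-, h1, h2⟩ := hg
  have hoct : ∀ i < 24, tb octM0 i = true → tb octM0 (gIdx (g (gPt i))) = true := by
    intro i hi h
    have h3 : g (gPt i) ∈ g • oct0 := Finset.smul_mem_smul_finset (fs_mem_of_tb hi h)
    rw [h1] at h3
    exact mem_fs_tb h3
  have hmem : g • fs (tm 0) ∈ sextObj 0 := by
    rw [← h2]
    exact Finset.smul_mem_smul_finset (mem_objOf.mpr ⟨tm 0, tm0_mem, rfl⟩)
  obtain ⟨m, hm', e⟩ := mem_objOf.mp hmem
  have himg : ∀ i < 24, tb (tm 0) i = true → tb m (gIdx (g (gPt i))) = true := by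
    intro i hi h
    have h3 : g (gPt i) ∈ g • fs (tm 0) := Finset.smul_mem_smul_finset (fs_mem_of_tb hi h)
    rw [← e] at h3
    exact mem_fs_tb h3
  have himg' : ∀ i < 24, tb (tm 0) i = false → tb m (gIdx (g (gPt i))) = false := by
    intro i hi h
    rw [Bool.eq_false_iff] at h ⊢
    intro h'
    apply h
    have h3 : g (gPt i) ∈ g • fs (tm 0) := by
      rw [← e]
      apply mem_fs.mpr
      rw [← tb_eq]
      exact h'
    have h4 : gPt i ∈ fs (tm 0) := (Finset.smul_mem_smul_finset_iff g).mp h3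
    have h5 := mem_fs_tb h4
    rwa [gIdx_gPt hi] at h5
  have h03 : ∀ i < 4, tb m (gIdx (g (gPt i))) = true :=
    fun i hi => himg i (by omega) (tm0_tb i hi)
  have h4o : tb octM0 (gIdx (g (gPt 4))) = true := hoct 4 (by norm_num) (by decide)
  have h4m : tb m (gIdx (g (gPt 4))) = false := himg' 4 (by norm_num) (by decide)
  rcases bad_tets m hm' with rfl | rfl | hbad
  · exact index_of (s := 0) (by norm_num) h03 (tm_compl 0 (by norm_num) _ (gIdx_lt _) h4o h4m)
  · exact index_of (s := 1) (by norm_num) h03 (tm_compl 1 (by norm_num) _ (gIdx_lt _) h4o h4m)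
  · have h5 := hbad _ (gIdx_lt _) (hoct 0 (by norm_num) (by decide))
    rw [h03 0 (by norm_num)] at h5
    exact absurd h5 (by decide)

theorem hcomplete_B2 : ∀ g ∈ B2, g ∈ M24 ∧
    (∃ d < 512, valid d = true ∧ ∀ i < 5, g (gPt i) = gPt (lk (fldG dsy d) i)) ∧
    ∀ P, Rep P g → testB P = true :=
  fun g hg => ⟨hg.1, complete_B2 hg, fun _ hP => testB_of hP hg⟩

/-! ### the order of `P0` -/

theorem card_P0 : Nat.card P0 = 1024 := by
  rw [coset_card P0 512 dsy dsyI valid testP hD (dist_of_chk Kdist) ?_ ?_]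
  · exact K2
  · intro n _ hp _ hg hr
    unfold candOK at hp
    rw [Bool.and_eq_true] at hp
    have ht := hp.2
    unfold testP at ht
    rw [Bool.and_eq_true] at ht
    have hb := of_testB hr hg ht.1
    exact ⟨hg, hb.2.1, hb.2.2, of_fixPi hr ht.2⟩
  · intro g hg
    refine ⟨hg.1, complete_B2 (P0_le_B2 hg), fun P hP => ?_⟩
    unfold testP
    rw [Bool.and_eq_true]
    exact ⟨testB_of hP (P0_le_B2 hg), fixPi_of hP hg.2.2.2⟩

/-! ### the normaliser of `P0` -/

theorem x_mem (i : ℕ) (hi : i < 3) : ∃ x ∈ P0, Rep (fldG xsy i) x := by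
  have h := (allB_iff _ _).mp K3 i hi
  simp only [Bool.and_eq_true] at h
  obtain ⟨a, b, c⟩ := h
  unfold testP at c
  rw [Bool.and_eq_true] at c
  have hm := permOf_mem_M24 _ _ a b
  have hr := rep_permOf _ _ a
  have hb := of_testB hr hm c.1
  exact ⟨permOf _ _ a, ⟨hm, hb.2.1, hb.2.2, of_fixPi hr c.2⟩, hr⟩

theorem conj_fix {Ω : Type*} [MulAction (Equiv.Perm GolayPt) Ω] {n p : Equiv.Perm GolayPt}
    {X : Ω} (h : (n⁻¹ * p * n) • X = X) : p • n • X = n • X := by
  rw [mul_smul, mul_smul, inv_smul_eq_iff] at h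
  exact h

theorem norm_le {n : Equiv.Perm GolayPt} (hn : n ∈ M24) (hN : ∀ p ∈ P0, n⁻¹ * p * n ∈ P0) :
    n ∈ P0 := by
  -- the octad
  have ho : n • oct0 = oct0 := by
    obtain ⟨k, hk, e⟩ := oct_enum (n • oct0) (smul_mem_octads hn oct0_mem)
    have h := (allB_iff _ _).mp K4 k hk
    have h2 : allB (fun i => octStep (fldG xsy i) k k) 3 = true := by
      rw [allB_iff]
      intro i hi
      obtain ⟨x, hx, hr⟩ := x_mem i hi
      rw [← octStep_iff hr k k, e]
      exact conj_fix (hN x hx).2.1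
    rw [h2] at h
    simp only [Bool.not_true, Bool.or_false] at h
    have hk0 : k = 0 := Nat.eq_of_beq_eq_true h
    rw [← e, hk0]
    show fs (fld octC 0) = fs octM0
    rw [octObj0]
  -- the sextet
  have hs : n • sextObj 0 = sextObj 0 := by
    obtain ⟨k, hk, e⟩ := sext_enum (n • sextObj 0)
      (smul_mem_sextets hn (sext_mem 0 (by norm_num)))
    have h := (allB_iff _ _).mp K5 k hk
    have h2 : allB (fun i => sextStep (fldG xsy i) k k) 3 = true := by
      rw [allB_iff]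
      intro i hi
      obtain ⟨x, hx, hr⟩ := x_mem i hi
      rw [← sextStep_iff hr hx.1 hk hk, e]
      exact conj_fix (hN x hx).2.2.1
    rw [h2] at h
    simp only [Bool.not_true, Bool.or_false] at h
    have hk0 : k = 0 := Nat.eq_of_beq_eq_true h
    rw [← e, hk0]
  -- the pairing
  have hnB : n ∈ B2 := ⟨hn, ho, hs⟩
  obtain ⟨d, hd, j, hj, hv, ht, hr⟩ :=
    coset_enum B2 512 dsy dsyI valid testB hD hcomplete_B2 n hnB
  have h := (allB_iff _ _).mp K6 d hd
  rw [hv] at h
  simp only [Bool.not_true, Bool.false_or] at h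
  have h2 := (allB_iff _ _).mp h j hj
  unfold k6 at h2
  have h3 : allB (fun i => piFix (fldG xsy i) (mulN (fldG dsy d) (fldG u5 j))) 3 = true := by
    rw [allB_iff]
    intro i hi
    obtain ⟨x, hx, hrx⟩ := x_mem i hi
    exact piFix_of hrx hr (conj_fix (hN x hx).2.2.2)
  rw [ht, h3] at h2
  simp only [Bool.not_true, Bool.false_or] at h2
  exact ⟨hn, ho, hs, of_fixPi hr h2⟩

/-! ### Sylow subgroups -/

theorem P0_le : P0 ≤ M24 := fun _ hg => hg.1

/-- `P0` as a subgroup of `M24` -/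
def Q : Subgroup ↥M24 := P0.subgroupOf M24

theorem card_Q : Nat.card Q = 1024 := by
  rw [← card_P0]
  exact Nat.card_congr (Subgroup.subgroupOfEquivOfLe P0_le).toEquiv

theorem normalizer_Q : Subgroup.normalizer (Q : Set ↥M24) = Q := by
  apply le_antisymm _ Subgroup.le_normalizer
  intro n hn
  rw [Subgroup.mem_set_normalizer_iff''] at hn
  show (n : Equiv.Perm GolayPt) ∈ P0
  apply norm_le n.2
  intro p hp
  exact (hn ⟨p, P0_le hp⟩).mp hp

theorem card_factor : (Nat.card ↥M24).factorization 2 = 10 := by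
  rw [card_M24]
  have h : (244823040 : ℕ) = 2 ^ 10 * 239085 := by norm_num
  rw [h, Nat.factorization_mul (by norm_num) (by norm_num), Finsupp.add_apply,
    Nat.Prime.factorization_pow Nat.prime_two,
    Nat.factorization_eq_zero_of_not_dvd (by norm_num)]
  simp

/-- In the Mathieu group of degree 24 (realised as the automorphism group of the extended binary Golay code) every Sylow 2-subgroup is self-normalizing. -/
theorem result (S : Sylow 2 ↥Cfsg.M24) : Subgroup.normalizer ((S : Subgroup ↥Cfsg.M24) : Set ↥Cfsg.M24) = (S : Subgroup ↥Cfsg.M24) := by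
  have : Fact (Nat.Prime 2) := ⟨Nat.prime_two⟩
  have hQ : Nat.card Q = 2 ^ (Nat.card ↥M24).factorization 2 := by
    rw [card_factor, card_Q]
    norm_num
  have h1 : Nat.card (Sylow 2 ↥M24) = (Subgroup.normalizer (Q : Set ↥M24)).index :=
    Sylow.card_eq_index_normalizer (Sylow.ofCard Q hQ)
  have h2 : Nat.card (Sylow 2 ↥M24)
      = (Subgroup.normalizer ((S : Subgroup ↥M24) : Set ↥M24)).index :=
    Sylow.card_eq_index_normalizer S
  rw [normalizer_Q] at h1
  have hcS : Nat.card (S : Subgroup ↥M24) = 1024 := by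
    rw [Sylow.card_eq_multiplicity, card_factor]
    norm_num
  have e1 := Subgroup.card_mul_index Q
  have e2 := Subgroup.card_mul_index (Subgroup.normalizer ((S : Subgroup ↥M24) : Set ↥M24))
  rw [card_Q, card_M24] at e1
  rw [← h2, h1, card_M24] at e2
  have hcN : Nat.card (Subgroup.normalizer ((S : Subgroup ↥M24) : Set ↥M24)) = 1024 := by
    have hi : Q.index ≠ 0 := by
      intro h0
      rw [h0] at e1
      omega
    exact Nat.eq_of_mul_eq_mul_right (Nat.pos_of_ne_zero hi) (e2.trans e1.symm)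
  exact (Subgroup.eq_of_le_of_card_ge Subgroup.le_normalizer (by rw [hcN, hcS])).symm

end Cfsg.Agent.S2882
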