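import Cfsg.Statements.S2933
import Cfsg.Agent.H60.Fpf3Main
import Cfsg.Agent.H60.L34Syl

set_option autoImplicit false
open Cfsg

namespace Cfsg.Agent.S2933

/-- Let T be a 2-subgroup of a finite group G, V ≤ Z(T) a four-group, and t, ρ ∈ N_G(V) ∩ N_G(T) elements of order 2 and 3 with t commuting with ρ and with V. If [V, ρ] = V and C_T(t) = V, then T is elementary abelian of order 16, or homocyclic of rank 2 (ℤ/2ⁿ × ℤ/2ⁿ for some n ≥ 1), or isomorphic to a Sylow 2-subgroup of PSL₃(4) or of PSU₃(4). -/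
theorem result {G : Type*} [Group G] [Finite G] (T V : Subgroup G) (hT : IsPGroup 2 ↥T) (hVT : V ≤ T ⊓ Subgroup.centralizer (T : Set G)) (hV : Nat.card ↥V = 4 ∧ ∀ v ∈ V, v ^ 2 = 1) (t ρ : G) (ht : orderOf t = 2) (hρ : orderOf ρ = 3) (htn : t ∈ Subgroup.normalizer (V : Set G) ⊓ Subgroup.normalizer (T : Set G)) (hρn : ρ ∈ Subgroup.normalizer (V : Set G) ⊓ Subgroup.normalizer (T : Set G)) (htρ : t * ρ = ρ * t) (htV : t ∈ Subgroup.centralizer (V : Set G)) (hVρ : ⁅V, Subgroup.zpowers ρ⁆ = V) (hCt : T ⊓ Subgroup.centralizer ({t} : Set G) = V) : (Nat.card ↥T = 16 ∧ ∀ x ∈ T, x ^ 2 = 1) ∨ (∃ n : ℕ, 1 ≤ n ∧ Nonempty (↥T ≃* Multiplicative (ZMod (2 ^ n)) × Multiplicative (ZMod (2 ^ n)))) ∨ (∃ (F : Type) (_ : Field F) (_ : Fintype F), Fintype.card F = 4 ∧ ∀ P : Sylow 2 (Matrix.ProjectiveSpecialLinearGroup (Fin 3) F), Nonempty (↥T ≃* ↥(P : Subgroup (Matrix.ProjectiveSpecialLinearGroup (Fin 3) F)))) ∨ (∃ (F : Type) (_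 : Field F) (_ : Fintype F), Fintype.card F = 16 ∧ ∀ P : Sylow 2 (Cfsg.PSU 3 F 4), Nonempty (↥T ≃* ↥(P : Subgroup (Cfsg.PSU 3 F 4)))) := by
  haveI : Fact (Nat.Prime 2) := ⟨Nat.prime_two⟩
  have ht2 : t * t = 1 := by
    have e := pow_orderOf_eq_one t
    rw [ht, pow_two] at e
    exact e
  have hρ3 : ρ * ρ * ρ = 1 := by
    have e := pow_orderOf_eq_one ρ
    rw [hρ] at e
    rw [← e]
    simp only [pow_succ, pow_zero, one_mul]
  rcases Cfsg.Agent.H60.s2933_main T V hT (hVT.trans inf_le_left) hV.1 t ρ ht2 hρ3 htn.2 hρn.2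
    hρn.1 htρ hVρ hCt with ⟨h16, hsq⟩ | ⟨n, hn, e⟩ | ⟨ρ', h64⟩
  · left
    refine ⟨h16, fun x hx => ?_⟩
    have e := congrArg Subtype.val (hsq ⟨x, hx⟩)
    rw [pow_two]
    exact e
  · right; left
    exact ⟨n, hn, e⟩
  · right; right
    rcases h64.r64_or_e64 with ⟨a, b, hR⟩ | ⟨a, b, hE⟩
    · left
      let inst : Fintype (GaloisField 2 2) := Fintype.ofFinite _
      have hF : @Fintype.card (GaloisField 2 2) inst = 4 := by
        rw [← Nat.card_eq_fintype_card, GaloisField.card 2 2 (by norm_num)]; norm_num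
      obtain ⟨ρ'', a'', b'', hR'⟩ := @Cfsg.Agent.H60.heis_r64 (GaloisField 2 2) _ inst hF
      obtain ⟨S, ⟨e⟩⟩ := @Cfsg.Agent.H60.heis_sylow (GaloisField 2 2) _ inst hF
      obtain ⟨e'⟩ := Cfsg.Agent.H60.R64.iso hR hR'
      refine ⟨GaloisField 2 2, inferInstance, inst, hF, fun P => ?_⟩
      obtain ⟨g, hg⟩ := MulAction.exists_smul_eq
        (Matrix.ProjectiveSpecialLinearGroup (Fin 3) (GaloisField 2 2)) S P
      subst hg
      exact ⟨(e'.trans e).trans (Sylow.equivSMul S g)⟩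
    · right
      let inst : Fintype (GaloisField 2 4) := Fintype.ofFinite _
      have hF : @Fintype.card (GaloisField 2 4) inst = 16 := by
        rw [← Nat.card_eq_fintype_card, GaloisField.card 2 4 (by norm_num)]; norm_num
      haveI hS : @Cfsg.Agent.H60.SuzFin (GaloisField 2 4) _ inst 2 :=
        @Cfsg.Agent.H60.SuzFin.mk (GaloisField 2 4) _ inst 2 (hF.trans (by norm_num))
          (by norm_num)
      obtain ⟨ρ'', a'', b'', hE'⟩ := @Cfsg.Agent.H60.par_e64 (GaloisField 2 4) _ inst hS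
      obtain ⟨e'⟩ := Cfsg.Agent.H60.E64.iso hE hE'
      refine ⟨GaloisField 2 4, inferInstance, inst, hF, fun P => ?_⟩
      obtain ⟨e⟩ := @Cfsg.Agent.H60.sylow_psu_iso (GaloisField 2 4) _ inst 2 hS P
      exact ⟨e'.trans e⟩

end Cfsg.Agent.S2933
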