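import Cfsg.Statements.S2968
import Cfsg.Agent.Helper55.Isolated

set_option autoImplicit false
open Cfsg

namespace Cfsg.Agent.S2968

open Cfsg.Agent.Helper55

/-- Let G be a finite group, p a prime, P a Sylow p-subgroup of G and x ∈ P an element of p-power order which is isolated in G (the only conjugate of x commuting with x is x itself). Then x lies in the centre of P, and the subgroup generated by x is both strongly closed and weakly closed in P with respect to G. -/
theorem result {G : Type*} [Group G] [Finite G] {p : ℕ} [Fact p.Prime] (P : Sylow p G) (x : G) (hxP : x ∈ (P : Subgroup G)) (hx : ∃ k : ℕ, orderOf x = p ^ k) (hiso : Cfsg.IsIsolated x) : x ∈ (P : Subgroup G) ⊓ Subgroup.centralizer ((P : Subgroup G) : Set G) ∧ Cfsg.IsStronglyClosed (Subgroup.zpowers x) (P : Subgroup G) ∧ Cfsg.IsWeaklyClosed (Subgroup.zpowers x) (P : Subgroup G) := by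
  classical
  have hcent : ∀ r ∈ (P : Subgroup G), r * x = x * r :=
    isIsolated_commute_of_mem_pGroup hiso P.isPGroup' hxP
  have hzP : Subgroup.zpowers x ≤ (P : Subgroup G) := by
    rw [Subgroup.zpowers_le]; exact hxP
  refine ⟨Subgroup.mem_inf.mpr ⟨hxP, ?_⟩, ⟨hzP, ?_⟩, ⟨hzP, ?_⟩⟩
  · rw [Subgroup.mem_centralizer_iff]
    intro r hr
    exact hcent r hr
  · -- strongly closed
    intro y hy g hgy
    obtain ⟨k, rfl⟩ := Subgroup.mem_zpowers_iff.mp hy
    -- y' = g x^k g⁻¹ ∈ P,  x' = g x g⁻¹
    have hpow : g * x ^ k * g⁻¹ = (g * x * g⁻¹) ^ k := by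
      have := map_zpow (MulAut.conj g) x k
      simpa [MulAut.conj_apply] using this
    set H : Subgroup G := Subgroup.centralizer ({g * x ^ k * g⁻¹} : Set G) with hH
    have hxH : x ∈ H := by
      rw [hH, Subgroup.mem_centralizer_iff]
      intro h hh
      rw [Set.mem_singleton_iff.mp hh]
      exact hcent _ hgy
    have hx'H : g * x * g⁻¹ ∈ H := by
      rw [hH, Subgroup.mem_centralizer_iff]
      intro h hh
      rw [Set.mem_singleton_iff.mp hh, hpow]
      exact ((Commute.refl (g * x * g⁻¹)).zpow_left k).eq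
    obtain ⟨h, hhH, hh⟩ := isIsolated_exists_conj_of_mem hx hiso H hxH hx'H
    have hpow' : h * x ^ k * h⁻¹ = (h * x * h⁻¹) ^ k := by
      have := map_zpow (MulAut.conj h) x k
      simpa [MulAut.conj_apply] using this
    have e1 : g * x ^ k * g⁻¹ = h * x ^ k * h⁻¹ := by rw [hpow, hpow', hh]
    have hcomm : (g * x ^ k * g⁻¹) * h = h * (g * x ^ k * g⁻¹) := by
      rw [hH, Subgroup.mem_centralizer_iff] at hhH
      exact hhH _ rfl
    have e2 : g * x ^ k * g⁻¹ = x ^ k := by
      have : h * (g * x ^ k * g⁻¹) = h * x ^ k := by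
        rw [← hcomm, e1]; simp [mul_assoc]
      exact mul_left_cancel this
    rw [e2]
    exact Subgroup.zpow_mem_zpowers x k
  · -- weakly closed
    intro g hg
    have hgx : g * x * g⁻¹ ∈ (P : Subgroup G) := by
      apply hg
      exact ⟨x, Subgroup.mem_zpowers x, by simp [MulAut.conj_apply]⟩
    have e := isIsolated_conj_eq_of_mem_pGroup hiso P.isPGroup' hxP hgx
    rw [MonoidHom.map_zpowers]
    have : (MulAut.conj g).toMonoidHom x = x := by
      simpa [MulAut.conj_apply] using e
    rw [this]

end Cfsg.Agent.S2968
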