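import Cfsg.Statements.S2970
import Cfsg.Agent.Helper55.IsolatedCyclic

set_option autoImplicit false
open Cfsg

namespace Cfsg.Agent.S2970

open Cfsg.Agent.Helper55

/-- Let G be a finite group, p a prime and x ∈ G an element of p-power order which is isolated in G. Then the image of x in any quotient G ⧸ N is isolated in G ⧸ N; and if x ≠ 1 and the Sylow p-subgroups of G are cyclic, then G has a normal p-complement. -/
theorem result {G : Type*} [Group G] [Finite G] {p : ℕ} [Fact p.Prime] (x : G) (hx : ∃ k : ℕ, orderOf x = p ^ k) (hiso : Cfsg.IsIsolated x) : (∀ (N : Subgroup G) [N.Normal], Cfsg.IsIsolated (QuotientGroup.mk x : G ⧸ N)) ∧ (x ≠ 1 → (∀ P : Sylow p G, IsCyclic ↥(P : Subgroup G)) → Cfsg.HasNormalPComplement p G) := by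
  classical
  constructor
  · intro N _ gbar hc
    obtain ⟨g, rfl⟩ := QuotientGroup.mk_surjective gbar
    set π : G →* G ⧸ N := QuotientGroup.mk' N with hπ
    have hc' : π x * π (g * x * g⁻¹) = π (g * x * g⁻¹) * π x := by
      have := hc.eq
      simpa [hπ] using this
    set K : Subgroup G := (Subgroup.closure ({π x, π (g * x * g⁻¹)} : Set (G ⧸ N))).comap π with hK
    have hxK : x ∈ K := by
      rw [hK, Subgroup.mem_comap]
      exact Subgroup.subset_closure (by simp)
    have hx'K : g * x * g⁻¹ ∈ K := by
      rw [hK, Subgroup.mem_comap]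
      exact Subgroup.subset_closure (by simp)
    obtain ⟨h, hhK, hh⟩ := isIsolated_exists_conj_of_mem hx hiso K hxK hx'K
    have hle : Subgroup.closure ({π x, π (g * x * g⁻¹)} : Set (G ⧸ N)) ≤
        Subgroup.centralizer ({π x} : Set (G ⧸ N)) := by
      rw [Subgroup.closure_le]
      intro y hy
      rw [SetLike.mem_coe, Subgroup.mem_centralizer_iff]
      intro z hz
      rw [Set.mem_singleton_iff.mp hz]
      rcases hy with rfl | hy
      · rfl
      · rw [Set.mem_singleton_iff.mp hy]; exact hc'
    have hcomm : π x * π h = π h * π x := by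
      have h1 : π h ∈ Subgroup.centralizer ({π x} : Set (G ⧸ N)) := hle (Subgroup.mem_comap.mp hhK)
      rw [Subgroup.mem_centralizer_iff] at h1
      exact h1 _ rfl
    have e1 : π (g * x * g⁻¹) = π x := by
      rw [← hh, map_mul, map_mul, map_inv, ← hcomm]; simp
    have := e1
    simpa [hπ] using this
  · intro hx1 hcyc
    obtain ⟨P, hP⟩ := (isPGroup_zpowers hx).exists_le_sylow
    have hxP : x ∈ (P : Subgroup G) := hP (Subgroup.mem_zpowers x)
    obtain ⟨N, hN, hc⟩ := exists_normal_complement_of_isolated_of_cyclic hiso hx1 P hxP (hcyc P)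
    exact ⟨P, N, hN, hc⟩

end Cfsg.Agent.S2970
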