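import Cfsg.Statements.S2972
import Cfsg.Agent.Helper55.MinSimple

set_option autoImplicit false
open Cfsg
open scoped Pointwise commutatorElement

namespace Cfsg.Agent.S2972

open Cfsg.Agent.Helper55

/-- Let G be a finite group, p a prime and x ∈ G an isolated element of order p (the only conjugate of x commuting with x is x) which is not central modulo the largest normal subgroup of order prime to p, while x is central modulo the largest normal subgroup of order prime to p in every proper subgroup containing x, and the image of x is so in every quotient of G by a nontrivial normal subgroup (a minimal counterexample to the Z*_p statement). Then the derived subgroup G' is a non-abelian simple group and G = G'⟨x⟩. -/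
theorem result {G : Type*} [Group G] [Finite G] {p : ℕ} [Fact p.Prime] (x : G) (hx : orderOf x = p) (hiso : Cfsg.IsIsolated x) (hnz : ¬ Cfsg.InZStar p x) (hmin : ∀ (H : Subgroup G) (hxH : x ∈ H), H ≠ ⊤ → Cfsg.InZStar p (⟨x, hxH⟩ : ↥H)) (hquot : ∀ (N : Subgroup G) [N.Normal], N ≠ ⊥ → Cfsg.InZStar p (QuotientGroup.mk x : G ⧸ N)) : IsSimpleGroup ↥(commutator G) ∧ ¬ IsMulCommutative ↥(commutator G) ∧ commutator G ⊔ Subgroup.zpowers x = ⊤ := by
  classical
  have hp : p.Prime := Fact.out
  have hxpow : ∃ k : ℕ, orderOf x = p ^ k := ⟨1, by rw [pow_one]; exact hx⟩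
  have hO := minc_pPrimeCore_eq_bot x hnz hquot
  have hZ := minc_center_eq_bot x hiso hnz hO hquot
  have hM := minc_normalClosure x hiso hnz hO hmin
  have hG'n : (commutator G).Normal := inferInstance
  -- (d1)
  have hd1 : commutator G ⊔ Subgroup.zpowers x = ⊤ := by
    rcases minc_normal_dichotomy x hO hmin (commutator G) with h | h
    · exact h
    · exfalso
      apply hnz
      apply inZStar_of_forall_conj_eq
      intro g
      apply hiso
      have hc : g * x * g⁻¹ * x⁻¹ ∈ commutator G := by
        have := Subgroup.commutator_mem_commutator (Subgroup.mem_top g) (Subgroup.mem_top x)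
        rw [commutatorElement_def] at this
        exact this
      have h1 := h _ hc
      show x * (g * x * g⁻¹) = g * x * g⁻¹ * x
      have e1 : g * x * g⁻¹ = (g * x * g⁻¹ * x⁻¹) * x := by simp
      rw [e1, ← mul_assoc, ← h1, mul_assoc]
  have hcoe : ((commutator G ⊔ Subgroup.zpowers x : Subgroup G) : Set G)
      = (commutator G : Set G) * (Subgroup.zpowers x : Set G) :=
    Subgroup.normal_mul (commutator G) (Subgroup.zpowers x)
  have hdecomp : ∀ h : G, ∃ a ∈ commutator G, ∃ y ∈ Subgroup.zpowers x, h = a * y := by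
    intro h
    have hh : h ∈ (commutator G : Set G) * (Subgroup.zpowers x : Set G) := by
      rw [← hcoe, hd1]; trivial
    obtain ⟨a, ha, y, hy, rfl⟩ := Set.mem_mul.mp hh
    exact ⟨a, ha, y, hy, rfl⟩
  have hG'ne : commutator G ≠ ⊥ := by
    intro h
    apply hnz
    apply inZStar_of_forall_conj_eq
    intro g
    obtain ⟨a, ha, y, hy, rfl⟩ := hdecomp g
    rw [h, Subgroup.mem_bot] at ha
    subst ha
    obtain ⟨k, rfl⟩ := Subgroup.mem_zpowers_iff.mp hy
    have hc : Commute (x ^ k) x := (Commute.refl x).zpow_left k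
    rw [one_mul, hc.eq]; simp
  -- (d2) minimality of the commutator subgroup
  have hd2 : ∀ N : Subgroup G, N.Normal → N ≤ commutator G → N ≠ ⊥ → N = commutator G := by
    intro N hN hNG' hNne
    rcases minc_normal_dichotomy x hO hmin N with h | h
    · apply le_antisymm hNG'
      rw [commutator_def, Subgroup.commutator_le]
      intro a _ b _
      have hcoeN : ((N ⊔ Subgroup.zpowers x : Subgroup G) : Set G)
          = (N : Set G) * (Subgroup.zpowers x : Set G) := Subgroup.normal_mul N (Subgroup.zpowers x)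
      have ha : a ∈ (N : Set G) * (Subgroup.zpowers x : Set G) := by rw [← hcoeN, h]; trivial
      have hb : b ∈ (N : Set G) * (Subgroup.zpowers x : Set G) := by rw [← hcoeN, h]; trivial
      obtain ⟨n₁, hn₁, y₁, hy₁, rfl⟩ := Set.mem_mul.mp ha
      obtain ⟨n₂, hn₂, y₂, hy₂, rfl⟩ := Set.mem_mul.mp hb
      have hcomm : Commute y₁ y₂ := by
        obtain ⟨i, rfl⟩ := Subgroup.mem_zpowers_iff.mp hy₁
        obtain ⟨j, rfl⟩ := Subgroup.mem_zpowers_iff.mp hy₂
        exact (Commute.refl x).zpow_zpow i j
      have e1 : ((n₁ : G) : G ⧸ N) = 1 := (QuotientGroup.eq_one_iff _).mpr hn₁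
      have e2 : ((n₂ : G) : G ⧸ N) = 1 := (QuotientGroup.eq_one_iff _).mpr hn₂
      have e3 : ((y₁ : G) : G ⧸ N) * ((y₂ : G) : G ⧸ N) = ((y₂ : G) : G ⧸ N) * ((y₁ : G) : G ⧸ N) := by
        rw [← QuotientGroup.mk_mul, ← QuotientGroup.mk_mul, hcomm.eq]
      have h1 : ((⁅n₁ * y₁, n₂ * y₂⁆ : G) : G ⧸ N) = 1 := by
        rw [commutatorElement_def]
        simp only [QuotientGroup.mk_mul, QuotientGroup.mk_inv, e1, e2, one_mul]
        rw [e3]; simp
      exact (QuotientGroup.eq_one_iff _).mp h1
    · exfalso
      apply hNne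
      have hcent : Subgroup.centralizer (N : Set G) = ⊤ := by
        have hle : Subgroup.normalClosure ({x} : Set G) ≤ Subgroup.centralizer (N : Set G) := by
          apply Subgroup.normalClosure_le_normal
          intro y hy
          rw [Set.mem_singleton_iff] at hy
          subst hy
          rw [SetLike.mem_coe, Subgroup.mem_centralizer_iff]
          intro n hn
          exact h n hn
        rw [hM] at hle
        exact top_le_iff.mp hle
      have hNZ : N ≤ Subgroup.center G := by
        intro n hn
        rw [Subgroup.mem_center_iff]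
        intro g
        have hg : g ∈ Subgroup.centralizer (N : Set G) := by rw [hcent]; trivial
        exact ((Subgroup.mem_centralizer_iff.mp hg) n hn).symm
      rw [hZ] at hNZ
      exact eq_bot_iff.mpr hNZ
  -- Sylow p-subgroup containing x
  obtain ⟨P, hP⟩ := (isPGroup_zpowers hxpow).exists_le_sylow
  have hxP : x ∈ (P : Subgroup G) := hP (Subgroup.mem_zpowers x)
  have hxcent : ∀ r ∈ (P : Subgroup G), r * x = x * r :=
    isIsolated_commute_of_mem_pGroup hiso P.isPGroup' hxP
  have hkey : ∀ s : G, orderOf s = p → ∃ g : G, g⁻¹ * s * g ∈ (P : Subgroup G) := by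
    intro s hs
    obtain ⟨P', hP'⟩ := (isPGroup_zpowers (p := p) ⟨1, by rw [pow_one]; exact hs⟩).exists_le_sylow
    obtain ⟨g, hg⟩ := MulAction.exists_smul_eq G P P'
    exact ⟨g, (sylow_smul_mem_iff hg s).mp (hP' (Subgroup.mem_zpowers s))⟩
  have hzcomm : ∀ y : G, y * x = x * y → ∀ z ∈ Subgroup.zpowers x, z * y * z⁻¹ = y := by
    intro y hy z hz
    obtain ⟨k, rfl⟩ := Subgroup.mem_zpowers_iff.mp hz
    have hc : Commute (x ^ k) y := (show Commute x y from hy.symm).zpow_left k
    rw [hc.eq]; simp
  have hne1 : ∀ (s g : G), orderOf s = p → g⁻¹ * s * g ≠ 1 := by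
    intro s g hs h
    have : s = 1 := by
      have h2 : s = g * (g⁻¹ * s * g) * g⁻¹ := by simp [mul_assoc]
      rw [h2, h]; simp
    rw [this, orderOf_one] at hs
    exact hp.one_lt.ne hs
  refine ⟨?_, ?_, hd1⟩
  · -- simplicity
    haveI : Nontrivial ↥(commutator G) := (Subgroup.nontrivial_iff_ne_bot _).mpr hG'ne
    refine ⟨fun S₀ hS₀ => ?_⟩
    by_cases htop : S₀ = ⊤
    · exact Or.inr htop
    left
    set S : Subgroup G := S₀.map (commutator G).subtype with hS
    have hSG' : S ≤ commutator G := Subgroup.map_subtype_le _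
    have hSne : S ≠ commutator G := by
      intro h
      apply htop
      rw [eq_top_iff]
      intro a _
      have h1 : (a : G) ∈ S := by rw [h]; exact a.2
      obtain ⟨b, hb, hba⟩ := h1
      have : b = a := Subtype.ext hba
      rwa [← this]
    have hSnorm : commutator G ≤ Subgroup.normalizer (S : Set G) := by
      rw [Subgroup.le_normalizer_iff]
      intro a ha m hm
      obtain ⟨m', hm', rfl⟩ := hm
      exact ⟨(⟨a, ha⟩ : commutator G) * m' * (⟨a, ha⟩ : commutator G)⁻¹, hS₀.conj_mem m' hm' _, by simp⟩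
    have hcop : (Nat.card S).Coprime p := by
      by_contra hnc
      have hdvd : p ∣ Nat.card S := by
        by_contra hnd
        exact hnc ((Nat.Prime.coprime_iff_not_dvd hp).mpr hnd).symm
      obtain ⟨s, hs⟩ := exists_prime_orderOf_dvd_card' (G := S) p hdvd
      have hs' : orderOf (s : G) = p := by rw [Subgroup.orderOf_coe]; exact hs
      obtain ⟨g, hg⟩ := hkey (s : G) hs'
      have hy1 := hne1 (s : G) g hs'
      have hxy : (g⁻¹ * (s : G) * g) * x = x * (g⁻¹ * (s : G) * g) := hxcent _ hg
      set y : G := g⁻¹ * (s : G) * g with hy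
      set S' : Subgroup G := S.map (MulAut.conj g⁻¹).toMonoidHom with hS'
      have hyS' : y ∈ S' := ⟨s, s.2, by simp [MulAut.conj_apply, hy]⟩
      have hS'G' : S' ≤ commutator G := by
        rintro _ ⟨m, hm, rfl⟩
        have := hG'n.conj_mem m (hSG' hm) g⁻¹
        simpa [MulAut.conj_apply] using this
      have hS'norm : ∀ a ∈ commutator G, ∀ m ∈ S', a * m * a⁻¹ ∈ S' := by
        intro a ha m hm
        rw [hS', mem_map_conj_iff] at hm ⊢
        have ha' : g * a * g⁻¹ ∈ commutator G := hG'n.conj_mem a ha g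
        have h3 := ((hSnorm ha') (g⁻¹⁻¹ * m * g⁻¹)).mp hm
        have e : g⁻¹⁻¹ * (a * m * a⁻¹) * g⁻¹ = g * a * g⁻¹ * (g⁻¹⁻¹ * m * g⁻¹) * (g * a * g⁻¹)⁻¹ := by
          simp [mul_assoc]
        rw [e]; exact h3
      have hycore : y ∈ S'.normalCore := by
        intro h
        obtain ⟨a, ha, z, hz, rfl⟩ := hdecomp h
        have hzy := hzcomm y hxy z hz
        have e : (a * z) * y * (a * z)⁻¹ = a * (z * y * z⁻¹) * a⁻¹ := by simp [mul_assoc]
        rw [e, hzy]
        exact hS'norm a ha y hyS'
      have hcore_ne : S'.normalCore ≠ ⊥ := by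
        intro h
        rw [h, Subgroup.mem_bot] at hycore
        exact hy1 hycore
      have hcore_eq := hd2 S'.normalCore inferInstance (le_trans (Subgroup.normalCore_le _) hS'G') hcore_ne
      have hG'S' : commutator G ≤ S' := by rw [← hcore_eq]; exact Subgroup.normalCore_le _
      have hcardS' : Nat.card S' = Nat.card S :=
        Nat.card_congr (S.equivMapOfInjective (MulAut.conj g⁻¹).toMonoidHom (MulAut.conj g⁻¹).injective).symm.toEquiv
      have hSeq : S = commutator G := by
        apply Subgroup.eq_of_le_of_card_ge hSG'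
        rw [← hcardS']
        exact Subgroup.card_le_of_le hG'S'
      exact hSne hSeq
    have hSbot : S = ⊥ := eq_bot_of_normal_in_normal_of_coprime hO (commutator G) S hSG' hSnorm hcop
    rw [eq_bot_iff]
    intro a ha
    have h1 : (a : G) ∈ S := ⟨a, ha, rfl⟩
    rw [hSbot, Subgroup.mem_bot] at h1
    exact Subgroup.mem_bot.mpr (Subtype.ext h1)
  · -- not commutative
    intro hcomm
    have hdvd : p ∣ Nat.card (commutator G) := by
      by_contra hnd
      have := le_pPrimeCore (p := p) hG'n ((Nat.Prime.coprime_iff_not_dvd hp).mpr hnd).symm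
      rw [hO] at this
      exact hG'ne (eq_bot_iff.mpr this)
    obtain ⟨s, hs⟩ := exists_prime_orderOf_dvd_card' (G := commutator G) p hdvd
    have hs' : orderOf (s : G) = p := by rw [Subgroup.orderOf_coe]; exact hs
    obtain ⟨g, hg⟩ := hkey (s : G) hs'
    have hy1 := hne1 (s : G) g hs'
    have hxy : (g⁻¹ * (s : G) * g) * x = x * (g⁻¹ * (s : G) * g) := hxcent _ hg
    have hyG' : g⁻¹ * (s : G) * g ∈ commutator G := by
      have := hG'n.conj_mem (s : G) s.2 g⁻¹
      simpa using this
    apply hy1
    have hcen : g⁻¹ * (s : G) * g ∈ Subgroup.center G := by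
      rw [Subgroup.mem_center_iff]
      intro h
      obtain ⟨a, ha, z, hz, rfl⟩ := hdecomp h
      have hzy := hzcomm _ hxy z hz
      have hay : a * (g⁻¹ * (s : G) * g) = (g⁻¹ * (s : G) * g) * a := by
        have := (isMulCommutative_iff.mp hcomm) (⟨a, ha⟩ : commutator G) ⟨_, hyG'⟩
        exact congrArg Subtype.val this
      have hzy' : z * (g⁻¹ * (s : G) * g) = (g⁻¹ * (s : G) * g) * z := by
        calc z * (g⁻¹ * (s : G) * g) = (z * (g⁻¹ * (s : G) * g) * z⁻¹) * z := by simp [mul_assoc]
          _ = (g⁻¹ * (s : G) * g) * z := by rw [hzy]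
      rw [mul_assoc, hzy', ← mul_assoc, hay, mul_assoc]
    rw [hZ, Subgroup.mem_bot] at hcen
    exact hcen

end Cfsg.Agent.S2972
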