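import Cfsg.Statements.S2975
import Cfsg.Agent.Helper55.MinCounter

set_option autoImplicit false
open Cfsg

namespace Cfsg.Agent.S2975

open Cfsg.Agent.Helper55

/-- Let G be a finite group, p a prime and x ∈ G an isolated element of order p (the only conjugate of x commuting with x is x) which is not central modulo the largest normal subgroup of order prime to p, while x is central modulo the largest normal subgroup of order prime to p in every proper subgroup containing x, and the image of x is so in every quotient of G by a nontrivial normal subgroup (a minimal counterexample to the Z*_p statement). Then for every prime q, every q-subgroup of G that is normalized by x and maximal among the q-subgroups normalized by x is either trivial or a Sylow q-subgroup of G; and C_G(x) permutes the x-invariant Sylow q-subgroups of G transitively by conjugation. -/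
theorem result {G : Type*} [Group G] [Finite G] {p : ℕ} [Fact p.Prime] (x : G) (hx : orderOf x = p) (hiso : Cfsg.IsIsolated x) (hnz : ¬ Cfsg.InZStar p x) (hmin : ∀ (H : Subgroup G) (hxH : x ∈ H), H ≠ ⊤ → Cfsg.InZStar p (⟨x, hxH⟩ : ↥H)) (hquot : ∀ (N : Subgroup G) [N.Normal], N ≠ ⊥ → Cfsg.InZStar p (QuotientGroup.mk x : G ⧸ N)) (q : ℕ) [Fact q.Prime] : (∀ Q : Subgroup G, IsPGroup q ↥Q → x ∈ Subgroup.normalizer (Q : Set G) → (∀ R : Subgroup G, IsPGroup q ↥R → x ∈ Subgroup.normalizer (R : Set G) → Q ≤ R → R = Q) → Q = ⊥ ∨ ∃ S : Sylow q G, (S : Subgroup G) = Q) ∧ (∀ S₁ S₂ : Sylow q G, x ∈ Subgroup.normalizer ((S₁ : Subgroup G) : Set G) → x ∈ Subgroup.normalizer ((S₂ : Subgroup G) : Set G) → ∃ c ∈ Subgroup.centralizer ({x} : Set G), (S₁ : Subgroup G).map (MulAut.conj c).toMonoidHom = (S₂ : Subgroup G)) := by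
  classical
  have hp : p.Prime := Fact.out
  have hq : q.Prime := Fact.out
  have hxpow : ∃ k : ℕ, orderOf x = p ^ k := ⟨1, by rw [pow_one]; exact hx⟩
  refine ⟨?_, fun S₁ S₂ h₁ h₂ => isIsolated_exists_centralizer_conj_sylow hxpow hiso S₁ S₂ h₁ h₂⟩
  intro Q hQ hxQ hmax
  by_cases hQ1 : Q = ⊥
  · exact Or.inl hQ1
  right
  by_cases hqp : q = p
  · subst hqp
    have hzp : IsPGroup q (Subgroup.zpowers x) := isPGroup_zpowers hxpow
    have hzN : Subgroup.zpowers x ≤ Subgroup.normalizer (Q : Set G) := by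
      rw [Subgroup.zpowers_le]; exact hxQ
    have hR : IsPGroup q (Subgroup.zpowers x ⊔ Q : Subgroup G) := hzp.to_sup_of_normal_right' hQ hzN
    have hxR : x ∈ Subgroup.normalizer ((Subgroup.zpowers x ⊔ Q : Subgroup G) : Set G) :=
      Subgroup.le_normalizer (Subgroup.mem_sup_left (Subgroup.mem_zpowers x))
    have h1 := hmax _ hR hxR le_sup_right
    have hxQ' : x ∈ Q := by rw [← h1]; exact Subgroup.mem_sup_left (Subgroup.mem_zpowers x)
    obtain ⟨S, hS⟩ := hQ.exists_le_sylow
    have hxS : x ∈ Subgroup.normalizer ((S : Subgroup G) : Set G) := Subgroup.le_normalizer (hS hxQ')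
    exact ⟨S, hmax S S.isPGroup' hxS hS⟩
  · -- q ≠ p
    have hO := minc_pPrimeCore_eq_bot x hnz hquot
    have hcopq : ∀ k : ℕ, (q ^ k).Coprime p := fun k =>
      Nat.Coprime.pow_left k ((Nat.coprime_primes hq hp).mpr hqp)
    set H : Subgroup G := Subgroup.normalizer (Q : Set G) with hH
    have hHtop : H ≠ ⊤ := by
      intro htop
      apply hQ1
      have hQn : Q.Normal := Subgroup.normalizer_eq_top_iff.mp htop
      obtain ⟨k, hk⟩ := IsPGroup.iff_card.mp hQ
      have := le_pPrimeCore (p := p) hQn (by rw [hk]; exact hcopq k)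
      rw [hO] at this
      exact eq_bot_iff.mpr this
    have hxH : x ∈ H := hxQ
    have hz := hmin H hxH hHtop
    set K : Subgroup ↥H := Cfsg.pPrimeCore p ↥H with hK
    have hKn : K.Normal := pPrimeCore_normal' p ↥H
    have hKc : (Nat.card K).Coprime p := coprime_card_pPrimeCore p ↥H
    -- main claim
    have claim : ∀ Q' : Subgroup G, IsPGroup q Q' → Q ≤ Q' → Q' ≤ H → Q' = Q := by
      intro Q' hQ' hQQ' hQ'H
      set H₁' : Subgroup ↥H := K ⊔ Q'.subgroupOf H with hH₁'
      set H₁ : Subgroup G := H₁'.map H.subtype with hH₁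
      have hH₁H : H₁ ≤ H := Subgroup.map_subtype_le _
      have hQ'H₁ : Q' ≤ H₁ := by
        intro z hz'
        exact ⟨⟨z, hQ'H hz'⟩, Subgroup.mem_sup_right (by rw [Subgroup.mem_subgroupOf]; exact hz'), rfl⟩
      have hcop₁ : (Nat.card H₁).Coprime p := by
        have e : Nat.card H₁ = Nat.card H₁' :=
          Nat.card_congr (H₁'.equivMapOfInjective H.subtype H.subtype_injective).symm.toEquiv
        rw [e]
        obtain ⟨k, hk⟩ := IsPGroup.iff_card.mp hQ'
        have e2 : Nat.card (Q'.subgroupOf H) = Nat.card Q' :=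
          Nat.card_congr (Subgroup.subgroupOfEquivOfLe hQ'H).toEquiv
        exact coprime_card_sup hKn hKc (by rw [e2, hk]; exact hcopq k)
      -- x normalizes H₁
      have hxH₁ : x ∈ Subgroup.normalizer (H₁ : Set G) := by
        apply mem_normalizer_of_conj_mem
        rintro _ ⟨z', hz', rfl⟩
        refine ⟨(⟨x, hxH⟩ : H) * z' * (⟨x, hxH⟩ : H)⁻¹, ?_, by simp⟩
        -- conjugation by xH maps H₁' into itself
        have hmap : H₁'.map (MulAut.conj (⟨x, hxH⟩ : H)).toMonoidHom ≤ H₁' := by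
          rw [hH₁', Subgroup.map_sup]
          refine sup_le ?_ ?_
          · rintro _ ⟨k, hk, rfl⟩
            exact Subgroup.mem_sup_left (hKn.conj_mem k hk _)
          · rintro _ ⟨q', hq', rfl⟩
            have h1 := hz q'
            have h2 : (⟨x, hxH⟩ : H) * q' * (⟨x, hxH⟩ : H)⁻¹ * q'⁻¹ ∈ K := by
              have := K.inv_mem h1
              simpa [mul_assoc] using this
            have e : (MulAut.conj (⟨x, hxH⟩ : H)).toMonoidHom q'
                = ((⟨x, hxH⟩ : H) * q' * (⟨x, hxH⟩ : H)⁻¹ * q'⁻¹) * q' := by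
              simp [MulAut.conj_apply]
            rw [e]
            exact Subgroup.mul_mem _ (Subgroup.mem_sup_left h2) (Subgroup.mem_sup_right hq')
        exact hmap ⟨z', hz', by simp [MulAut.conj_apply]⟩
      obtain ⟨Q₂, hQ₂⟩ := exists_invariant_sylow q H₁ x hxH₁ hxpow hcop₁
      set Q₂g : Subgroup G := (Q₂ : Subgroup H₁).map H₁.subtype with hQ₂g
      have hQ₂gq : IsPGroup q Q₂g := Q₂.isPGroup'.map _
      have hxQ₂g : x ∈ Subgroup.normalizer (Q₂g : Set G) := by
        apply mem_normalizer_of_conj_mem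
        rintro _ ⟨a, ha, rfl⟩
        exact hQ₂ a ha
      have hQH₁ : Q ≤ H₁ := le_trans hQQ' hQ'H₁
      have hQQ₂g : Q ≤ Q₂g := by
        have hn : (Q.subgroupOf H₁).Normal := Subgroup.normal_subgroupOf_of_le_normalizer hH₁H
        have h1 : Q.subgroupOf H₁ ≤ (Q₂ : Subgroup H₁) :=
          @IsPGroup.le_sylow_of_normal _ _ _ _ hn hQ.comap_subtype Q₂
        intro z hz'
        exact ⟨⟨z, hQH₁ hz'⟩, h1 (by rw [Subgroup.mem_subgroupOf]; exact hz'), rfl⟩
      have hQ₂gQ : Q₂g = Q := hmax Q₂g hQ₂gq hxQ₂g hQQ₂g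
      have h3 : (Q₂ : Subgroup H₁) ≤ Q'.subgroupOf H₁ := by
        intro a ha
        rw [Subgroup.mem_subgroupOf]
        apply hQQ'
        rw [← hQ₂gQ]
        exact ⟨a, ha, rfl⟩
      have h4 : Q'.subgroupOf H₁ = (Q₂ : Subgroup H₁) := Q₂.is_maximal' hQ'.comap_subtype h3
      apply le_antisymm _ hQQ'
      intro z hz'
      rw [← hQ₂gQ]
      have h5 : (⟨z, hQ'H₁ hz'⟩ : H₁) ∈ (Q₂ : Subgroup H₁) := by
        rw [← h4, Subgroup.mem_subgroupOf]
        exact hz'
      exact ⟨⟨z, hQ'H₁ hz'⟩, h5, rfl⟩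
    obtain ⟨S, hS⟩ := hQ.exists_le_sylow
    have h5 : (S : Subgroup G) ⊓ Subgroup.normalizer (Q : Set G) = Q :=
      claim _ (S.isPGroup'.to_le inf_le_left) (le_inf hS Subgroup.le_normalizer) inf_le_right
    have h6 : Q = (S : Subgroup G) := eq_of_normalizer_inf_le S.isPGroup' hS (le_of_eq h5)
    exact ⟨S, h6.symm⟩

end Cfsg.Agent.S2975
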