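import Mathlib
import Cfsg.Statements.S3011
import Cfsg.Agent.S3195

set_option autoImplicit false
open Cfsg

namespace Cfsg.Agent.S3011

section Aux

variable {G : Type*} [Group G]

theorem eq_one_of_sq_of_odd {h : G} (hodd : Odd (orderOf h)) (h2 : h * h = 1) : h = 1 := by
  have hd : orderOf h ∣ 2 := orderOf_dvd_of_pow_eq_one (by rw [pow_two]; exact h2)
  rcases (Nat.dvd_prime Nat.prime_two).mp hd with h1 | h1
  · exact orderOf_eq_one_iff.mp h1
  · rw [h1] at hodd
    exact absurd hodd (by decide)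

theorem eq_one_of_inv_of_comm {v h : G} (hodd : Odd (orderOf h)) (hinv : v * h * v⁻¹ = h⁻¹)
    (hc : v * h = h * v) : h = 1 := by
  apply eq_one_of_sq_of_odd hodd
  rw [hc, mul_inv_cancel_right] at hinv
  calc h * h = h * h⁻¹ := by rw [← hinv]
    _ = 1 := mul_inv_cancel h

/-- An element of odd order inverting `x` centralizes `x`. -/
theorem comm_of_odd_inverts {g x : G} (hg : Odd (orderOf g)) (hinv : g * x * g⁻¹ = x⁻¹) :
    g * x = x * g := by
  obtain ⟨m, hm⟩ := hg
  have h2 : Commute (g * g) x := by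
    have e : g * g * x * (g * g)⁻¹ = x := by
      calc g * g * x * (g * g)⁻¹ = g * (g * x * g⁻¹) * g⁻¹ := by group
        _ = x := by rw [hinv, ← conj_inv, hinv, inv_inv]
    exact mul_inv_eq_iff_eq_mul.mp e
  have h3 : Commute ((g * g) ^ m) x := h2.pow_left m
  have h4 : (g * g) ^ m * g = 1 := by
    rw [← pow_two, ← pow_mul, ← pow_succ, ← hm]; exact pow_orderOf_eq_one g
  have h5 : g = ((g * g) ^ m)⁻¹ := by
    rw [eq_inv_iff_mul_eq_one, ← h4]
    exact ((Commute.refl g).mul_left (Commute.refl g) |>.pow_left m).symm.eq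
  rw [h5]
  exact (h3.inv_left).eq

/-- The core configuration is contradictory. -/
theorem core {V : Subgroup G} (hS : Cfsg.IsSidkiPair V) {a b : G} (ha : a ∈ V)
    (haa : a * a = 1) (hbb : b * b = 1) (hab : a * b = b * a)
    (hall : ∀ u ∈ V, u = 1 ∨ u = a ∨ u = b ∨ u = a * b)
    {x y : G} (hx : Odd (orderOf x)) (hx1 : x ≠ 1) (hy : Odd (orderOf y)) (hy1 : y ≠ 1)
    (hax : a * x * a⁻¹ = x⁻¹) (hbx : b * x = x * b)
    (hby : b * y * b⁻¹ = y⁻¹) (hay : a * y = y * a) (hcV : a * b ∈ V) : False := by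
  have hainv : a⁻¹ = a := Cfsg.Agent.S3195.inv_of_sq haa
  have hbinv : b⁻¹ = b := Cfsg.Agent.S3195.inv_of_sq hbb
  have hbx' : b * x * b⁻¹ = x := by rw [hbx, mul_inv_cancel_right]
  have hay' : a * y * a⁻¹ = y := by rw [hay, mul_inv_cancel_right]
  -- step 1: x and y commute
  have hxy : x * y = y * x := by
    obtain ⟨m, hm⟩ := hy
    have hww : y ^ (m + 1) * y ^ (m + 1) = y := by
      rw [← pow_add]
      have : m + 1 + (m + 1) = orderOf y + 1 := by omega
      rw [this, pow_succ, pow_orderOf_eq_one, one_mul]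
    have haw : a * y ^ (m + 1) * a⁻¹ = y ^ (m + 1) := by
      rw [← conj_pow, hay']
    have hbw : b * y ^ (m + 1) * b⁻¹ = (y ^ (m + 1))⁻¹ := by
      rw [← conj_pow, hby, inv_pow]
    generalize y ^ (m + 1) = w at hww haw hbw
    have hodd' : Odd (orderOf (w * x * w⁻¹)) := by
      have : orderOf (w * x * w⁻¹) = orderOf x := (MulAut.conj w).orderOf_eq x
      rw [this]; exact hx
    have hinv' : a * (w * x * w⁻¹) * a⁻¹ = (w * x * w⁻¹)⁻¹ := by
      calc a * (w * x * w⁻¹) * a⁻¹ = (a * w * a⁻¹) * (a * x * a⁻¹) * (a * w * a⁻¹)⁻¹ := by group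
        _ = (w * x * w⁻¹)⁻¹ := by rw [haw, hax]; group
    have eb : b * (w * x * w⁻¹) * b⁻¹ = w⁻¹ * x * w := by
      calc b * (w * x * w⁻¹) * b⁻¹ = (b * w * b⁻¹) * (b * x * b⁻¹) * (b * w * b⁻¹)⁻¹ := by group
        _ = w⁻¹ * x * w := by rw [hbw, hbx', inv_inv]
    obtain ⟨u, huV, hu1, hucomm⟩ := hS (w * x * w⁻¹) a ha hodd' hinv'
    rcases hall u huV with rfl | rfl | rfl | rfl
    · exact absurd rfl hu1
    · exfalso
      have h1 := eq_one_of_inv_of_comm hodd' hinv' hucomm
      apply hx1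
      have := congrArg (fun t => w⁻¹ * t * w) h1
      simpa [mul_assoc] using this
    · have e2 : u * (w * x * w⁻¹) * u⁻¹ = w * x * w⁻¹ := by rw [hucomm, mul_inv_cancel_right]
      have e3 : w⁻¹ * x * w = w * x * w⁻¹ := eb.symm.trans e2
      have e4 : x * (w * w) = w * w * x := by
        have := congrArg (fun t => w * t * w) e3
        simpa [mul_assoc] using this
      rw [hww] at e4
      exact e4
    · exfalso
      have e1 : (a * b) * (w * x * w⁻¹) * (a * b)⁻¹ = w⁻¹ * x⁻¹ * w := by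
        calc (a * b) * (w * x * w⁻¹) * (a * b)⁻¹ = a * (b * (w * x * w⁻¹) * b⁻¹) * a⁻¹ := by group
          _ = a * (w⁻¹ * x * w) * a⁻¹ := by rw [eb]
          _ = (a * w * a⁻¹)⁻¹ * (a * x * a⁻¹) * (a * w * a⁻¹) := by group
          _ = w⁻¹ * x⁻¹ * w := by rw [haw, hax]
      have e2 : (a * b) * (w * x * w⁻¹) * (a * b)⁻¹ = w * x * w⁻¹ := by
        rw [hucomm, mul_inv_cancel_right]
      have e3 : w⁻¹ * x⁻¹ * w = w * x * w⁻¹ := e1.symm.trans e2
      have e4 : (w * w) * x * (w * w)⁻¹ = x⁻¹ := by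
        have := congrArg (fun t => w * t * w⁻¹) e3
        simp only [mul_assoc, mul_inv_cancel_left, mul_inv_cancel, mul_one] at this
        rw [mul_inv_rev]
        simp only [mul_assoc]
        exact this.symm
      rw [hww] at e4
      have e5 : y * x = x * y := comm_of_odd_inverts ⟨m, hm⟩ e4
      rw [e5, mul_inv_cancel_right] at e4
      apply hx1
      apply eq_one_of_sq_of_odd hx
      calc x * x = x * x⁻¹ := by rw [← e4]
        _ = 1 := mul_inv_cancel x
  -- step 2: `a * b` inverts `x * y`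
  have hcx : (a * b) * x * (a * b)⁻¹ = x⁻¹ := by
    calc (a * b) * x * (a * b)⁻¹ = a * (b * x * b⁻¹) * a⁻¹ := by group
      _ = x⁻¹ := by rw [hbx', hax]
  have hcy : (a * b) * y * (a * b)⁻¹ = y⁻¹ := by
    calc (a * b) * y * (a * b)⁻¹ = b * (a * y * a⁻¹) * b⁻¹ := by rw [hab]; group
      _ = y⁻¹ := by rw [hay', hby]
  have hoddxy : Odd (orderOf (x * y)) := by
    have hd : orderOf (x * y) ∣ Nat.lcm (orderOf x) (orderOf y) :=
      (show Commute x y from hxy).orderOf_mul_dvd_lcm
    have h2 : ¬ 2 ∣ Nat.lcm (orderOf x) (orderOf y) := by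
      intro h
      rcases (Nat.Prime.dvd_mul Nat.prime_two).mp (dvd_trans h (Nat.lcm_dvd_mul _ _)) with h | h
      · exact (Nat.not_even_iff_odd.mpr hx) (even_iff_two_dvd.mpr h)
      · exact (Nat.not_even_iff_odd.mpr hy) (even_iff_two_dvd.mpr h)
    rw [← Nat.not_even_iff_odd, even_iff_two_dvd]
    exact fun h => h2 (dvd_trans h hd)
  have hinvxy : (a * b) * (x * y) * (a * b)⁻¹ = (x * y)⁻¹ := by
    calc (a * b) * (x * y) * (a * b)⁻¹
        = ((a * b) * x * (a * b)⁻¹) * ((a * b) * y * (a * b)⁻¹) := by group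
      _ = (x * y)⁻¹ := by rw [hcx, hcy, mul_inv_rev, ← mul_inv_rev, ← mul_inv_rev, hxy]
  obtain ⟨u, huV, hu1, hucomm⟩ := hS (x * y) (a * b) hcV hoddxy hinvxy
  rcases hall u huV with rfl | rfl | rfl | rfl
  · exact hu1 rfl
  · -- `a` commutes with `x * y`
    apply hx1
    apply eq_one_of_sq_of_odd hx
    have h1 : u * (x * y) * u⁻¹ = x * y := by rw [hucomm, mul_inv_cancel_right]
    have h2 : u * (x * y) * u⁻¹ = x⁻¹ * y := by
      calc u * (x * y) * u⁻¹ = (u * x * u⁻¹) * (u * y * u⁻¹) := by group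
        _ = x⁻¹ * y := by rw [hax, hay']
    have h3 : x⁻¹ * y = x * y := h2.symm.trans h1
    have h4 : x⁻¹ = x := mul_right_cancel h3
    calc x * x = x * x⁻¹ := by rw [h4]
      _ = 1 := mul_inv_cancel x
  · -- `b` commutes with `x * y`
    apply hy1
    apply eq_one_of_sq_of_odd hy
    have h1 : u * (x * y) * u⁻¹ = x * y := by rw [hucomm, mul_inv_cancel_right]
    have h2 : u * (x * y) * u⁻¹ = x * y⁻¹ := by
      calc u * (x * y) * u⁻¹ = (u * x * u⁻¹) * (u * y * u⁻¹) := by group
        _ = x * y⁻¹ := by rw [hbx', hby]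
    have h3 : x * y⁻¹ = x * y := h2.symm.trans h1
    have h4 : y⁻¹ = y := mul_left_cancel h3
    calc y * y = y * y⁻¹ := by rw [h4]
      _ = 1 := mul_inv_cancel y
  · -- `a * b` commutes with `x * y`
    have h1 := eq_one_of_inv_of_comm hoddxy hinvxy hucomm
    have h2 : y = x⁻¹ := (eq_inv_of_mul_eq_one_right h1)
    apply hx1
    apply eq_one_of_sq_of_odd hx
    rw [h2] at hay'
    have h3 : a * x⁻¹ * a⁻¹ = x := by rw [← conj_inv, hax, inv_inv]
    have h4 : x = x⁻¹ := h3.symm.trans hay'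
    calc x * x = x * x⁻¹ := by rw [← h4]
      _ = 1 := mul_inv_cancel x

end Aux

/-- Let G be a finite group and V a nontrivial elementary abelian 2-subgroup of G of order at most 4 such that, whenever an element of V inverts an element h of G of odd order, some nontrivial element of V commutes with h. Then V meets O₂(G) nontrivially. (The case of order at most 4 has a short argument from the Baer–Suzuki theorem.) -/
theorem result {G : Type*} [Group G] [Finite G] (V : Subgroup G) (hV : Cfsg.IsElementaryAbelian 2 V) (hV1 : V ≠ ⊥) (hS : Cfsg.IsSidkiPair V) (h4 : Nat.card V ≤ 4) : V ⊓ Cfsg.pCore 2 G ≠ ⊥ := by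
  classical
  intro hbot
  have hsq : ∀ v ∈ V, v * v = 1 := fun v hv => by
    have := hV.2 v hv
    rwa [pow_two] at this
  have hcomm : ∀ u ∈ V, ∀ v ∈ V, u * v = v * u := fun u hu v hv => by
    have := hV.1.is_comm.comm (⟨u, hu⟩ : V) ⟨v, hv⟩
    exact congrArg Subtype.val this
  -- every nontrivial element of `V` inverts a nontrivial element of odd order
  have hinv : ∀ v ∈ V, v ≠ 1 → ∃ h : G, Odd (orderOf h) ∧ h ≠ 1 ∧ v * h * v⁻¹ = h⁻¹ := by
    intro v hv hv1
    have hvO : v ∉ Cfsg.pCore 2 G := by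
      intro hvO
      apply hv1
      have : v ∈ V ⊓ Cfsg.pCore 2 G := ⟨hv, hvO⟩
      rw [hbot] at this
      exact Subgroup.mem_bot.mp this
    obtain ⟨d, ⟨g, hd⟩, hnc, j, hj⟩ := Cfsg.Agent.S3195.exists_odd_conj (hsq v hv) hv1 hvO
    have hdd : d * d = 1 := by
      rw [hd]
      calc g * v * g⁻¹ * (g * v * g⁻¹) = g * (v * v) * g⁻¹ := by group
        _ = 1 := by rw [hsq v hv]; group
    refine ⟨v * d, ?_, ?_, Cfsg.Agent.S3195.conj_rho (hsq v hv) hdd⟩
    · have hdvd : orderOf (v * d) ∣ 2 * j + 1 := orderOf_dvd_of_pow_eq_one hj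
      rw [← Nat.not_even_iff_odd, even_iff_two_dvd]
      intro h2
      have : 2 ∣ 2 * j + 1 := dvd_trans h2 hdvd
      omega
    · intro h1
      apply hnc
      have hdv : d = v := by
        have := eq_inv_of_mul_eq_one_right h1
        rw [this, Cfsg.Agent.S3195.inv_of_sq (hsq v hv)]
      rw [hdv]
  -- pick `a`, then `b`
  obtain ⟨a, ha, ha1⟩ : ∃ a ∈ V, a ≠ 1 := by
    by_contra hcon
    push Not at hcon
    exact hV1 ((Subgroup.eq_bot_iff_forall V).mpr hcon)
  obtain ⟨x, hx, hx1, hax⟩ := hinv a ha ha1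
  obtain ⟨b, hb, hb1, hbx⟩ := hS x a ha hx hax
  have hab : a ≠ b := by
    rintro rfl
    exact hx1 (eq_one_of_inv_of_comm hx hax hbx)
  have haa := hsq a ha
  have hbb := hsq b hb
  have habV : a * b ∈ V := V.mul_mem ha hb
  have hall : ∀ u ∈ V, u = 1 ∨ u = a ∨ u = b ∨ u = a * b := by
    intro u hu
    by_contra hcon
    push Not at hcon
    obtain ⟨h1, h2, h3, h5⟩ := hcon
    have hc1 : a * b ≠ 1 := fun h => hab (by
      have := eq_inv_of_mul_eq_one_left h
      rw [this, Cfsg.Agent.S3195.inv_of_sq hbb])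
    have hca : a * b ≠ a := fun h => hb1 (by simpa using h)
    have hcb : a * b ≠ b := fun h => ha1 (by simpa using h)
    have hcard : ({u, 1, a, b, a * b} : Finset G).card = 5 := by
      rw [Finset.card_insert_of_notMem, Finset.card_insert_of_notMem,
        Finset.card_insert_of_notMem, Finset.card_insert_of_notMem, Finset.card_singleton]
      · simp only [Finset.mem_singleton]; exact fun h => hcb h.symm
      · simp only [Finset.mem_insert, Finset.mem_singleton, not_or]
        exact ⟨hab, fun h => hca h.symm⟩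
      · simp only [Finset.mem_insert, Finset.mem_singleton, not_or]
        exact ⟨fun h => ha1 h.symm, fun h => hb1 h.symm, fun h => hc1 h.symm⟩
      · simp only [Finset.mem_insert, Finset.mem_singleton, not_or]
        exact ⟨h1, h2, h3, h5⟩
    have hsub : (({u, 1, a, b, a * b} : Finset G) : Set G) ⊆ (V : Set G) := by
      intro t ht
      simp only [Finset.coe_insert, Finset.coe_singleton, Set.mem_insert_iff,
        Set.mem_singleton_iff] at ht
      rcases ht with rfl | rfl | rfl | rfl | rfl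
      · exact hu
      · exact V.one_mem
      · exact ha
      · exact hb
      · exact habV
    have hle := Set.ncard_le_ncard hsub (Set.toFinite _)
    rw [Set.ncard_coe_finset, hcard] at hle
    have : Set.ncard (V : Set G) = Nat.card V := (Nat.card_coe_set_eq (V : Set G)).symm
    omega
  -- `b` inverts some `y`, centralized by `a` or `a * b`
  obtain ⟨y, hy, hy1, hby⟩ := hinv b hb hb1
  obtain ⟨u, huV, hu1, huy⟩ := hS y b hb hy hby
  rcases hall u huV with rfl | rfl | rfl | rfl
  · exact hu1 rfl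
  · exact core hS ha haa hbb (hcomm u ha b hb) hall hx hx1 hy hy1 hax hbx hby huy habV
  · exact hy1 (eq_one_of_inv_of_comm hy hby huy)
  · -- `a * b` centralizes `y`: use the pair `(a * b, b)`
    have hcc : a * b * (a * b) = 1 := hsq _ habV
    have hcb : a * b * b = a := by rw [mul_assoc, hbb, mul_one]
    have hall' : ∀ u ∈ V, u = 1 ∨ u = a * b ∨ u = b ∨ u = a * b * b := by
      intro u hu
      rw [hcb]
      rcases hall u hu with h | h | h | h
      · exact Or.inl h
      · exact Or.inr (Or.inr (Or.inr h))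
      · exact Or.inr (Or.inr (Or.inl h))
      · exact Or.inr (Or.inl h)
    have hbx' : b * x * b⁻¹ = x := by rw [hbx, mul_inv_cancel_right]
    have hcx : (a * b) * x * (a * b)⁻¹ = x⁻¹ := by
      calc (a * b) * x * (a * b)⁻¹ = a * (b * x * b⁻¹) * a⁻¹ := by group
        _ = x⁻¹ := by rw [hbx', hax]
    refine core hS habV hcc hbb (hcomm _ habV b hb) hall' hx hx1 hy hy1 hcx hbx hby huy ?_
    rw [hcb]; exact ha

end Cfsg.Agent.S3011
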