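import Cfsg.Statements.S3080
import Cfsg.Agent.H57.ZJFusion

set_option autoImplicit false
open Cfsg

namespace Cfsg.Agent.S3080

/-- Let p be an odd prime, G a finite group that is p-stable in the normalizer form, P a Sylow p-subgroup such that N_G(U) is p-constrained for every nontrivial subgroup U of P, and D a subgroup of P strongly closed in P with respect to G. Then N_G(Z(J(D))) controls strong G-fusion in P (for every subset A of P and every g ∈ G with gAg⁻¹ ⊆ P, some element of that normalizer acts on A exactly as g does; J(D) is generated by the abelian subgroups of D of largest order), and so does N_G(Ω₁(Z(J_e(D)))) (J_e(D) generated by the elementary abelian subgroups of largest order). -/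
theorem result {G : Type*} [Group G] [Finite G] {p : ℕ} [Fact p.Prime] (hp : p ≠ 2) (P : Sylow p G) (D : Subgroup G) (hD : Cfsg.IsStronglyClosed D (P : Subgroup G)) (hst : Cfsg.IsNormalizerPStable p G) (hc : ∀ U : Subgroup G, U ≤ (P : Subgroup G) → U ≠ ⊥ → Cfsg.IsPConstrained p ↥(Subgroup.normalizer (U : Set G))) : (∀ A : Set G, A ⊆ (P : Subgroup G) → Cfsg.ControlsStrongFusionOf (Subgroup.normalizer ((Cfsg.centerThompsonAOf D) : Set G)) (P : Subgroup G) A) ∧ (∀ A : Set G, A ⊆ (P : Subgroup G) → Cfsg.ControlsStrongFusionOf (Subgroup.normalizer ((Cfsg.omegaOne p (Cfsg.centerThompsonOf p D)) : Set G)) (P : Subgroup G) A) := by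
  have key : ∀ n : ℕ, (n = 0 ∨ n = p) → ∀ A : Set G, A ⊆ (P : Subgroup G) →
      Cfsg.ControlsStrongFusionOf
        (Subgroup.normalizer ((Cfsg.Agent.H29.nZ n D : Subgroup G) : Set G)) (P : Subgroup G) A := by
    intro n hn A hA
    refine ⟨hA, ?_⟩
    intro g hg
    by_cases hDne : D = ⊥
    · refine ⟨g, ?_, fun a _ => rfl⟩
      have h0 : Cfsg.Agent.H29.nZ n D = ⊥ := by
        rw [eq_bot_iff]
        exact (Cfsg.Agent.H29.nZ_le n D).trans (le_of_eq hDne)
      rw [h0, Subgroup.normalizer_eq_top]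
      trivial
    · have hg' : Cfsg.Agent.H40.Alp.cj g⁻¹ A ⊆ ((P : Subgroup G) : Set G) := by
        rintro _ ⟨a, ha, rfl⟩
        have := hg ⟨a, ha, rfl⟩
        simpa using this
      obtain ⟨c, hc', y, hy, hgy⟩ :=
        Cfsg.Agent.H57.ZJF.main1 hp hn P D hD hDne hst hc A g⁻¹ hA hg'
      refine ⟨y⁻¹, inv_mem hy, ?_⟩
      intro a ha
      have hca := Subgroup.mem_centralizer_iff.mp hc' a ha
      have hg_eq : g = y⁻¹ * c⁻¹ := by
        rw [← inv_inv g, hgy]; group
      have h1 : c⁻¹ * a * c = a := by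
        rw [mul_assoc, hca, ← mul_assoc, inv_mul_cancel, one_mul]
      rw [hg_eq]
      calc y⁻¹ * c⁻¹ * a * (y⁻¹ * c⁻¹)⁻¹ = y⁻¹ * (c⁻¹ * a * c) * y := by group
        _ = y⁻¹ * a * y⁻¹⁻¹ := by rw [h1, inv_inv]
  rw [Cfsg.Agent.H29.centerThompsonAOf_eq, Cfsg.Agent.H29.omegaOne_centerThompsonOf_eq]
  exact ⟨key 0 (Or.inl rfl), key p (Or.inr rfl)⟩

end Cfsg.Agent.S3080
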