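import Cfsg.Statements.S3211
import Cfsg.Agent.S3209
import Cfsg.Agent.S0215
import Cfsg.Agent.H27.ZStarIsolatedSylow
import Cfsg.Agent.H27.PComp3
import Cfsg.Agent.H26.SL2Root
import Cfsg.Agent.H26.TwSL3

set_option autoImplicit false
open Cfsg

namespace Cfsg.Agent.S3211

/-- Let G be a finite group with subgroups L₁ ≅ SL₂(q₁) and L₂ ≅ SL₂(q₂), q₁ and q₂ odd prime powers, which commute elementwise and meet in ⟨j⟩ for an involution j, and suppose L₁L₂ has index 2 in C_G(j). If some n ∈ C_G(j) with n² = j interchanges L₁ and L₂ under conjugation (so that C_G(j) = L₁L₂⟨n⟩), then G = C_G(j)O(G). -/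
theorem result {G : Type*} [Group G] [Finite G]
    {F₁ : Type*} [Field F₁] [Fintype F₁] {F₂ : Type*} [Field F₂] [Fintype F₂]
    (hF₁ : Odd (Fintype.card F₁)) (hF₂ : Odd (Fintype.card F₂)) (L₁ L₂ : Subgroup G)
    (e₁ : ↥L₁ ≃* Matrix.SpecialLinearGroup (Fin 2) F₁) (e₂ : ↥L₂ ≃* Matrix.SpecialLinearGroup (Fin 2) F₂)
    (hc : ∀ x ∈ L₁, ∀ y ∈ L₂, x * y = y * x) (j : G) (hj : orderOf j = 2) (hm : L₁ ⊓ L₂ = Subgroup.zpowers j)
    (hle : L₁ ⊔ L₂ ≤ Subgroup.centralizer ({j} : Set G)) (hi : (L₁ ⊔ L₂).relIndex (Subgroup.centralizer ({j} : Set G)) = 2) (n : G) (hn : n ∈ Subgroup.centralizer ({j} : Set G))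
    (hn2 : n ^ 2 = j) (hswap : L₁.map (MulAut.conj n).toMonoidHom = L₂) :
    Subgroup.centralizer ({j} : Set G) ⊔ Cfsg.oddCore G = ⊤ := by
  classical
  have tw : Cfsg.Agent.H26.TwSL.Tw L₁ L₂ j n := ⟨hc, hj, hm, hle, hi, hn, hn2, hswap⟩
  have hjm : j ∈ L₁ ⊓ L₂ := hm ▸ Subgroup.mem_zpowers j
  have hj1 : j ∈ L₁ := hjm.1
  have hj2 : j ∈ L₂ := hjm.2
  -- orders through the isomorphisms
  have ho1 : ∀ y : L₁, orderOf (e₁ y) = orderOf (y : G) := by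
    intro y
    rw [MulEquiv.orderOf_eq, Subgroup.orderOf_coe]
  have ho2 : ∀ y : L₂, orderOf (e₂ y) = orderOf (y : G) := by
    intro y
    rw [MulEquiv.orderOf_eq, Subgroup.orderOf_coe]
  -- an element of `L₁` squaring to `j`
  let a0 : L₁ := e₁.symm Cfsg.Agent.H11.SL2Inv.Jm
  have ha0 : e₁ (a0 * a0) = e₁ ⟨j, hj1⟩ := by
    apply Cfsg.Agent.H11.SL2Inv.involution_unique hF₁
    · rw [map_mul]
      simp only [a0, MulEquiv.apply_symm_apply]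
      exact Cfsg.Agent.H11.SL2Inv.orderOf_Jm_sq hF₁
    · rw [ho1]
      exact hj
  have ha : (a0 : G) * (a0 : G) = j := by
    have := e₁.injective ha0
    exact congrArg Subtype.val this
  -- square roots in `L₂`
  have hroot : ∀ b₁ ∈ L₂, ∀ b₂ ∈ L₂, (b₁ * b₁) * (b₁ * b₁) = j → b₂ * b₂ = b₁ * b₁ →
      b₂ = b₁ ∨ b₂ = j * b₁ := by
    intro b₁ hb₁ b₂ hb₂ h4 h2
    have hAA : (e₂ ⟨b₁, hb₁⟩ * e₂ ⟨b₁, hb₁⟩) * (e₂ ⟨b₁, hb₁⟩ * e₂ ⟨b₁, hb₁⟩) = e₂ ⟨j, hj2⟩ := by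
      rw [← map_mul, ← map_mul]
      congr 1
      exact Subtype.ext h4
    have hA : orderOf ((e₂ ⟨b₁, hb₁⟩ * e₂ ⟨b₁, hb₁⟩) * (e₂ ⟨b₁, hb₁⟩ * e₂ ⟨b₁, hb₁⟩)) = 2 := by
      rw [hAA, ho2]
      exact hj
    have h22 : e₂ ⟨b₂, hb₂⟩ * e₂ ⟨b₂, hb₂⟩ = e₂ ⟨b₁, hb₁⟩ * e₂ ⟨b₁, hb₁⟩ := by
      rw [← map_mul, ← map_mul]
      congr 1
      exact Subtype.ext h2
    rcases Cfsg.Agent.H26.SL2Root.sqrt_unique hF₂ (e₂ ⟨b₁, hb₁⟩ * e₂ ⟨b₁, hb₁⟩)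
      (e₂ ⟨b₁, hb₁⟩) (e₂ ⟨b₂, hb₂⟩) hA rfl h22 with h | h
    · left
      have := e₂.injective h
      exact congrArg Subtype.val this
    · right
      rw [hAA, ← map_mul] at h
      have := e₂.injective h
      exact congrArg Subtype.val this
  obtain ⟨x, hxM, hx2, hxj, hconj⟩ := Cfsg.Agent.S3209.result hF₁ hF₂ L₁ L₂ e₁ e₂ hc j hj hm
  have cfg : Cfsg.Agent.H26.TwSL.Cfg L₁ L₂ j n (a0 : G) (n * (a0 : G) * n⁻¹)
      ((a0 : G) * (n * (a0 : G) * n⁻¹)) := ⟨tw, a0.2, ha, rfl, rfl, hroot⟩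
  have hiso : ∀ g : G, Commute j (g * j * g⁻¹) → g * j * g⁻¹ = j := cfg.isolated x hconj
  have hcomm : ∀ g : G, j * g * j⁻¹ * g⁻¹ ∈ Cfsg.oddCore G := fun g =>
    Cfsg.Agent.H27.isolated_comm_mem_oddCore
      (fun G _ _ P x hx hxP hiso => Cfsg.Agent.S0215.result P x hx hxP hiso) j ⟨hj, hiso⟩ g
  haveI : Fact (Nat.Prime 2) := ⟨Nat.prime_two⟩
  have hM : (Nat.card ↥(Cfsg.oddCore G)).Coprime 2 :=
    Nat.coprime_two_right.mpr (Cfsg.Agent.H27.odd_card_oddCore G)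
  have hnor : (Cfsg.oddCore G).Normal := inferInstance
  rw [eq_top_iff]
  intro g _
  obtain ⟨m, hm', hfix⟩ := Cfsg.Agent.H27.exists_fixed_in_coset_of_orderOf (p := 2)
    (Cfsg.oddCore G) hM j hj g
    (by
      intro m hm
      have h1 : g⁻¹ * (j * (g * m) * j⁻¹) = (g⁻¹ * (j * g * j⁻¹ * g⁻¹) * g⁻¹⁻¹) * (j * m * j⁻¹) := by
        group
      rw [h1]
      exact (Cfsg.oddCore G).mul_mem (hnor.conj_mem _ (hcomm g) g⁻¹) (hnor.conj_mem _ hm j))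
  have h2 : g * m ∈ Subgroup.centralizer ({j} : Set G) := by
    rw [Cfsg.Agent.H26.TwSL.cent_iff]
    calc g * m * j = (j * (g * m) * j⁻¹) * j := by rw [hfix]
      _ = j * (g * m) := by group
  have h3 : g = (g * m) * m⁻¹ := by group
  rw [h3]
  exact Subgroup.mul_mem_sup h2 ((Cfsg.oddCore G).inv_mem hm')

end Cfsg.Agent.S3211
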