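import Cfsg.Statements.S3222
import Cfsg.Agent.H27.ZS3

set_option autoImplicit false
open Cfsg

namespace Cfsg.Agent.S3222

/-- Let G be a finite group of even order such that (1) some involution t lying in the centre of a Sylow 2-subgroup of G has C_G(t) ≅ Z₂ × S₄, and (2) every Sylow 2-subgroup S of G satisfies C_G(S′) = S, where S′ is the derived subgroup of S. Then G = C_G(t) if G is solvable, and G ≅ S₆ otherwise. -/
theorem result {G : Type*} [Group G] [Finite G] (hev : Even (Nat.card G))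
    (t : G) (ht : orderOf t = 2) (T : Sylow 2 G) (htT : t ∈ (T : Subgroup G)) (htc : ∀ s ∈ (T : Subgroup G), s * t = t * s)
    (e : ↥(Subgroup.centralizer ({t} : Set G)) ≃* (Multiplicative (ZMod 2) × Equiv.Perm (Fin 4)))
    (h2 : ∀ S : Sylow 2 G, Subgroup.centralizer ((⁅(S : Subgroup G), (S : Subgroup G)⁆ : Subgroup G) : Set G) = (S : Subgroup G)) :
    (Group.IsSolvable G → Subgroup.centralizer ({t} : Set G) = ⊤) ∧
      (¬ Group.IsSolvable G → Nonempty (G ≃* Equiv.Perm (Fin 6))) := by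
  classical
  haveI : Fact (Nat.Prime 2) := ⟨Nat.prime_two⟩
  -- the embedding of `Z₂ × S₄` onto the centralizer of `t`
  let ι : Cfsg.Agent.H27.ZS.ZS →* G :=
    (Subgroup.centralizer ({t} : Set G)).subtype.comp e.symm.toMonoidHom
  have hι : Function.Injective ι := (Subgroup.subtype_injective _).comp e.symm.injective
  have hιe : ∀ c : Subgroup.centralizer ({t} : Set G), ι (e c) = (c : G) := by
    intro c
    show ((e.symm (e c) : Subgroup.centralizer ({t} : Set G)) : G) = c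
    rw [e.symm_apply_apply]
  have htC : t ∈ Subgroup.centralizer ({t} : Set G) :=
    (Cfsg.Agent.H27.D8.mem_centralizer_iff_comm t).mpr rfl
  have htt : ι Cfsg.Agent.H27.ZS.tt = t := by
    have hcen : ∀ y : Cfsg.Agent.H27.ZS.ZS, e ⟨t, htC⟩ * y = y * e ⟨t, htC⟩ := by
      intro y
      have h1 : (⟨t, htC⟩ : Subgroup.centralizer ({t} : Set G)) * e.symm y =
          e.symm y * ⟨t, htC⟩ := by
        apply Subtype.ext
        exact ((Cfsg.Agent.H27.D8.mem_centralizer_iff_comm t).mp (e.symm y).2).symm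
      have h3 := congrArg e h1
      rw [map_mul, map_mul, e.apply_symm_apply] at h3
      exact h3
    rcases Cfsg.Agent.H27.ZS.d_center _ hcen with h | h
    · exfalso
      have h1 : (⟨t, htC⟩ : Subgroup.centralizer ({t} : Set G)) = 1 :=
        e.injective (h.trans (map_one e).symm)
      have h3 : t = 1 := congrArg Subtype.val h1
      rw [h3, orderOf_one] at ht
      omega
    · rw [← h]
      exact hιe ⟨t, htC⟩
  have hC : ∀ g : G, g * ι Cfsg.Agent.H27.ZS.tt = ι Cfsg.Agent.H27.ZS.tt * g → ∃ y, ι y = g := by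
    intro g hg
    rw [htt] at hg
    exact ⟨e ⟨g, (Cfsg.Agent.H27.D8.mem_centralizer_iff_comm t).mpr hg⟩, hιe _⟩
  -- the Sylow subgroup
  have hScard : Nat.card ((Subgroup.centralizer ({Cfsg.Agent.H27.ZS.zz} :
      Set Cfsg.Agent.H27.ZS.ZS)).map ι) = 16 := by
    rw [Subgroup.card_map_of_injective hι]
    exact Cfsg.Agent.H27.ZS.card_Ss
  have hS2 : IsPGroup 2 ((Subgroup.centralizer ({Cfsg.Agent.H27.ZS.zz} :
      Set Cfsg.Agent.H27.ZS.ZS)).map ι) :=
    IsPGroup.of_card (n := 4) (by rw [hScard]; norm_num)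
  obtain ⟨P, hSP⟩ := hS2.exists_le_sylow
  have hTle : (T : Subgroup G) ≤ Subgroup.centralizer ({t} : Set G) :=
    fun s hs => (Cfsg.Agent.H27.D8.mem_centralizer_iff_comm t).mpr (htc s hs)
  have hcen48 : Nat.card (Subgroup.centralizer ({t} : Set G)) = 48 := by
    rw [Nat.card_congr e.toEquiv]
    exact Cfsg.Agent.H27.ZS.card_ZS
  have hTdvd : Nat.card (T : Subgroup G) ∣ 48 := hcen48 ▸ Subgroup.card_dvd_of_le hTle
  have hPT : Nat.card (P : Subgroup G) = Nat.card (T : Subgroup G) := by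
    rw [Sylow.card_eq_multiplicity, Sylow.card_eq_multiplicity]
  have hSdvd : 16 ∣ Nat.card (P : Subgroup G) := hScard ▸ Subgroup.card_dvd_of_le hSP
  have hPcard : Nat.card (P : Subgroup G) = 16 := by
    obtain ⟨k, hk⟩ := (IsPGroup.iff_card).mp P.isPGroup'
    rw [hPT] at hSdvd hk ⊢
    rw [hk] at hTdvd hSdvd ⊢
    have hk5 : k < 6 := by
      by_contra hcon
      push Not at hcon
      have h3 : 2 ^ 6 ∣ 2 ^ k := pow_dvd_pow 2 hcon
      have h4 := Nat.le_of_dvd (by norm_num) (h3.trans hTdvd)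
      omega
    interval_cases k <;> first | rfl | (exfalso; revert hTdvd hSdvd; decide)
  have hPS : (P : Subgroup G) = (Subgroup.centralizer ({Cfsg.Agent.H27.ZS.zz} :
      Set Cfsg.Agent.H27.ZS.ZS)).map ι :=
    (Subgroup.eq_of_le_of_card_ge hSP (by rw [hPcard, hScard])).symm
  have hcomm : ⁅(P : Subgroup G), (P : Subgroup G)⁆ ≤
      Subgroup.zpowers (ι Cfsg.Agent.H27.ZS.zz) := by
    rw [hPS, Subgroup.commutator_le]
    rintro _ ⟨x, hx, rfl⟩ _ ⟨y, hy, rfl⟩
    have hx' := (Cfsg.Agent.H27.D8.mem_centralizer_iff_comm Cfsg.Agent.H27.ZS.zz).mp hx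
    have hy' := (Cfsg.Agent.H27.D8.mem_centralizer_iff_comm Cfsg.Agent.H27.ZS.zz).mp hy
    rw [commutatorElement_def, ← map_inv, ← map_inv, ← map_mul, ← map_mul, ← map_mul]
    rcases Cfsg.Agent.H27.ZS.d_comm x y hx' hy' with h | h
    · rw [h, map_one]
      exact Subgroup.one_mem _
    · rw [h]
      exact Subgroup.mem_zpowers _
  have hK' : ∀ g : G, g * ι Cfsg.Agent.H27.ZS.zz = ι Cfsg.Agent.H27.ZS.zz * g →
      g ∈ (P : Subgroup G) := by
    intro g hg
    have h1 : g ∈ Subgroup.centralizer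
        ((⁅(P : Subgroup G), (P : Subgroup G)⁆ : Subgroup G) : Set G) := by
      rw [Subgroup.mem_centralizer_iff]
      intro c hc
      obtain ⟨k, rfl⟩ := Subgroup.mem_zpowers_iff.mp (hcomm hc)
      exact ((Commute.zpow_right (show Commute g (ι Cfsg.Agent.H27.ZS.zz) from hg) k).eq).symm
    rw [h2 P] at h1
    exact h1
  have hK : ∀ g : G, g * ι Cfsg.Agent.H27.ZS.zz = ι Cfsg.Agent.H27.ZS.zz * g →
      ∃ y, ι y = g ∧ y * Cfsg.Agent.H27.ZS.zz = Cfsg.Agent.H27.ZS.zz * y := by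
    intro g hg
    have h1 := hK' g hg
    rw [hPS] at h1
    obtain ⟨y, hy, hyg⟩ := h1
    exact ⟨y, hyg, (Cfsg.Agent.H27.D8.mem_centralizer_iff_comm Cfsg.Agent.H27.ZS.zz).mp hy⟩
  have hP : ∀ g : G, g ∈ P ↔ g * ι Cfsg.Agent.H27.ZS.zz = ι Cfsg.Agent.H27.ZS.zz * g := by
    intro g
    constructor
    · intro hg
      have h1 : g ∈ (P : Subgroup G) := hg
      rw [hPS] at h1
      obtain ⟨y, hy, rfl⟩ := h1
      rw [← map_mul, ← map_mul,
        (Cfsg.Agent.H27.D8.mem_centralizer_iff_comm Cfsg.Agent.H27.ZS.zz).mp hy]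
    · intro hg
      exact hK' g hg
  obtain ⟨h1, h3⟩ := Cfsg.Agent.H27.ZS.main ι hι hC hK P hP
  refine ⟨fun hsol => ?_, h3⟩
  rw [eq_top_iff]
  intro g _
  have h4 := h1 hsol g
  rw [htt] at h4
  exact (Cfsg.Agent.H27.D8.mem_centralizer_iff_comm t).mpr h4

end Cfsg.Agent.S3222
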