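import Mathlib
import Cfsg.Statements.S3224
import Cfsg.Agent.H5.Dihedral

set_option autoImplicit false
open Cfsg

namespace Cfsg.Agent.S3224

universe u

/-- Five pairwise distinct elements cannot lie in a type with at most four elements. -/
theorem five_le_card {α : Type*} [Finite α] (e1 e2 e3 e4 e5 : α)
    (h12 : e1 ≠ e2) (h13 : e1 ≠ e3) (h14 : e1 ≠ e4) (h15 : e1 ≠ e5)
    (h23 : e2 ≠ e3) (h24 : e2 ≠ e4) (h25 : e2 ≠ e5) (h34 : e3 ≠ e4) (h35 : e3 ≠ e5)
    (h45 : e4 ≠ e5) : 5 ≤ Nat.card α := by
  have hinj : Function.Injective (![e1, e2, e3, e4, e5] : Fin 5 → α) := by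
    intro i j h
    fin_cases i <;> fin_cases j <;> simp_all
  simpa using Nat.card_le_card_of_injective _ hinj

section struct

variable {S : Type u} [Group S] [Finite S]

/-- Structure of the centre and of the centralizer of `x`. -/
theorem struct (hS : IsPGroup 2 S) (x : S) (hx : x * x = 1) (hx1 : x ≠ 1)
    (hC : Nat.card (Subgroup.centralizer ({x} : Set S)) ≤ 4) (h8 : 8 ≤ Nat.card S) :
    ∃ z : S, z ≠ 1 ∧ z ∈ Subgroup.center S ∧ z * z = 1 ∧ x ∉ Subgroup.center S ∧
      (∀ g ∈ Subgroup.center S, g = 1 ∨ g = z) ∧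
      (∀ g : S, g * x = x * g → g = 1 ∨ g = x ∨ g = z ∨ g = x * z) := by
  have : Fact (Nat.Prime 2) := ⟨Nat.prime_two⟩
  have hnt : Nontrivial S := by
    rw [← Finite.one_lt_card_iff_nontrivial]; omega
  have hxZ : x ∉ Subgroup.center S := by
    intro h
    have : Subgroup.centralizer ({x} : Set S) = ⊤ := by
      rw [eq_top_iff]
      intro g _
      rw [Subgroup.mem_centralizer_singleton_iff]
      exact (Subgroup.mem_center_iff.mp h g)
    rw [this, Subgroup.card_top] at hC
    omega
  have := hS.center_nontrivial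
  obtain ⟨⟨z, hzZ⟩, hz1⟩ := exists_ne (1 : Subgroup.center S)
  have hz1' : z ≠ 1 := fun h => hz1 (Subtype.ext h)
  have hzc : ∀ g : S, g * z = z * g := fun g => Subgroup.mem_center_iff.mp hzZ g
  have hxz : x ≠ z := fun h => hxZ (h ▸ hzZ)
  have hxzZ : x * z ∉ Subgroup.center S := by
    intro h
    apply hxZ
    have := mul_mem h (inv_mem hzZ)
    simpa using this
  -- membership in the centralizer
  have mC : ∀ g : S, g * x = x * g → g ∈ Subgroup.centralizer ({x} : Set S) := fun g hg =>
    Subgroup.mem_centralizer_singleton_iff.mpr hg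
  have hxzx : x * z * x = x * (x * z) := by rw [mul_assoc, hzc x]
  have key : ∀ g : S, g * x = x * g → g = 1 ∨ g = x ∨ g = z ∨ g = x * z := by
    intro g hg
    by_contra hcon
    push Not at hcon
    obtain ⟨g1, gx, gz, gxz⟩ := hcon
    have h5 := five_le_card (α := Subgroup.centralizer ({x} : Set S))
      ⟨1, one_mem _⟩ ⟨x, mC x rfl⟩ ⟨z, mC z (hzc x).symm⟩
      ⟨x * z, mC (x * z) hxzx⟩ ⟨g, mC g hg⟩
      (fun h => hx1 (congrArg Subtype.val h).symm)
      (fun h => hz1' (congrArg Subtype.val h).symm)
      (fun h => hxz (by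
        have h1 : (1 : S) = x * z := congrArg Subtype.val h
        have h2 : x * (x * z) = x * 1 := by rw [← h1]
        rw [← mul_assoc, hx, one_mul, mul_one] at h2
        exact h2.symm))
      (fun h => g1 (congrArg Subtype.val h).symm)
      (fun h => hxz (congrArg Subtype.val h))
      (fun h => hz1' (by
        have h1 : x = x * z := congrArg Subtype.val h
        exact (mul_eq_left.mp h1.symm)))
      (fun h => gx (congrArg Subtype.val h).symm)
      (fun h => hx1 (by
        have h1 : z = x * z := congrArg Subtype.val h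
        exact (mul_eq_right.mp h1.symm)))
      (fun h => gz (congrArg Subtype.val h).symm)
      (fun h => gxz (congrArg Subtype.val h).symm)
    omega
  have hzz : z * z = 1 := by
    have hcomm : z * z * x = x * (z * z) := by
      rw [mul_assoc, ← hzc x, ← mul_assoc, ← hzc x, mul_assoc]
    rcases key (z * z) hcomm with h | h | h | h
    · exact h
    · exact absurd (h ▸ mul_mem hzZ hzZ) hxZ
    · exact absurd (mul_eq_left.mp h) hz1'
    · exact absurd (h ▸ mul_mem hzZ hzZ) hxzZ
  refine ⟨z, hz1', hzZ, hzz, hxZ, ?_, key⟩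
  intro g hg
  rcases key g (Subgroup.mem_center_iff.mp hg x).symm with h | h | h | h
  · exact Or.inl h
  · exact absurd (h ▸ hg) hxZ
  · exact Or.inr h
  · exact absurd (h ▸ hg) hxzZ

omit [Finite S] in
theorem sq_eq_one_of_key {x z : S} (hx : x * x = 1) (hzz : z * z = 1)
    (hzc : ∀ g : S, g * z = z * g)
    (key : ∀ g : S, g * x = x * g → g = 1 ∨ g = x ∨ g = z ∨ g = x * z) (g : S)
    (hg : g * x = x * g) : g * g = 1 := by
  rcases key g hg with h | h | h | h
  · rw [h, one_mul]
  · rw [h, hx]
  · rw [h, hzz]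
  · rw [h]
    calc x * z * (x * z) = x * (z * x) * z := by simp only [mul_assoc]
      _ = x * (x * z) * z := by rw [hzc x]
      _ = (x * x) * (z * z) := by simp only [mul_assoc]
      _ = 1 := by rw [hx, hzz, one_mul]

omit [Finite S] in
/-- The centralizer of the image of `x` modulo the centre still has order at most 4. -/
theorem card_centralizer_quotient_le {x z : S}
    (hzZ : z ∈ Subgroup.center S)
    (hZ : ∀ g ∈ Subgroup.center S, g = 1 ∨ g = z)
    (hZcard : Nat.card (Subgroup.center S) = 2)
    (hC : Nat.card (Subgroup.centralizer ({x} : Set S)) ≤ 4) :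
    Nat.card (Subgroup.centralizer
      ({(QuotientGroup.mk' (Subgroup.center S)) x} : Set (S ⧸ Subgroup.center S))) ≤ 4 := by
  have hzc : ∀ g : S, g * z = z * g := fun g => Subgroup.mem_center_iff.mp hzZ g
  set Z := Subgroup.center S with hZdef
  set π := QuotientGroup.mk' Z with hπ
  set CQ := Subgroup.centralizer ({π x} : Set (S ⧸ Z)) with hCQ
  set N := CQ.comap π with hN
  have hcardN : Nat.card N = 2 * Nat.card CQ := by
    have h := QuotientGroup.card_preimage_mk Z (CQ : Set (S ⧸ Z))
    rw [hZcard] at h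
    exact h
  have hπz : π z = 1 := (QuotientGroup.eq_one_iff z).mpr hzZ
  have hmemN1 : ∀ g, g ∈ N → (g * x = x * g ∨ x * g = g * x * z) := by
    intro g hg
    rw [hN, Subgroup.mem_comap, Subgroup.mem_centralizer_singleton_iff] at hg
    rw [← map_mul, ← map_mul] at hg
    have h1 : (g * x)⁻¹ * (x * g) ∈ Z := QuotientGroup.eq.mp hg
    rcases hZ _ h1 with h | h
    · left; exact inv_mul_eq_one.mp h
    · right; exact inv_mul_eq_iff_eq_mul.mp h
  have hmemN2 : ∀ g, (g * x = x * g ∨ x * g = g * x * z) → g ∈ N := by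
    intro g hg
    rw [hN, Subgroup.mem_comap, Subgroup.mem_centralizer_singleton_iff]
    rw [← map_mul, ← map_mul]
    rcases hg with h | h
    · rw [h]
    · rw [h, map_mul π (g * x) z, hπz, mul_one]
  have hle : Subgroup.centralizer ({x} : Set S) ≤ N := by
    intro g hg
    exact hmemN2 g (Or.inl (Subgroup.mem_centralizer_singleton_iff.mp hg))
  have hrel : (Subgroup.centralizer ({x} : Set S)).relIndex N ∣ 2 := by
    rw [Subgroup.relIndex_dvd_two_iff]
    by_cases hex : ∃ g₀, x * g₀ = g₀ * x * z
    · obtain ⟨g₀, hg₀⟩ := hex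
      refine ⟨g₀⁻¹, N.inv_mem (hmemN2 g₀ (Or.inr hg₀)), ?_⟩
      intro b hb
      rcases hmemN1 b hb with h | h
      · right; exact Subgroup.mem_centralizer_singleton_iff.mpr h
      · left
        rw [Subgroup.mem_centralizer_singleton_iff]
        have h1 : g₀⁻¹ * x = x * z * g₀⁻¹ := by
          have : g₀⁻¹ * (x * g₀) * g₀⁻¹ = g₀⁻¹ * (g₀ * x * z) * g₀⁻¹ := by rw [hg₀]
          simpa [mul_assoc] using this
        calc b * g₀⁻¹ * x = b * (g₀⁻¹ * x) := by rw [mul_assoc]
          _ = b * (x * z * g₀⁻¹) := by rw [h1]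
          _ = (b * x * z) * g₀⁻¹ := by simp only [mul_assoc]
          _ = x * b * g₀⁻¹ := by rw [← h]
          _ = x * (b * g₀⁻¹) := by rw [mul_assoc]
    · refine ⟨1, N.one_mem, ?_⟩
      intro b hb
      right
      rcases hmemN1 b hb with h | h
      · exact Subgroup.mem_centralizer_singleton_iff.mpr h
      · exact absurd ⟨b, h⟩ hex
  have hmul := Subgroup.relIndex_mul_relIndex (H := ⊥)
    (K := Subgroup.centralizer ({x} : Set S)) (L := N) bot_le hle
  rw [Subgroup.relIndex_bot_left, Subgroup.relIndex_bot_left] at hmul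
  have h2 := Nat.le_of_dvd (by norm_num) hrel
  nlinarith

end struct

/-- Claim A: a cyclic subgroup of index 2 avoiding `x`. -/
theorem exists_cyclic_index_two : ∀ (n : ℕ) (S : Type u) [Group S] [Finite S], Nat.card S = n →
    IsPGroup 2 S → ∀ x : S, x * x = 1 → x ≠ 1 →
    Nat.card (Subgroup.centralizer ({x} : Set S)) ≤ 4 → 8 ≤ Nat.card S →
    ∃ a : S, Nat.card S = 2 * orderOf a ∧ x ∉ Subgroup.zpowers a := by
  intro n
  induction n using Nat.strong_induction_on with
  | _ n ih =>
  intro S _ _ hn hS x hx hx1 hC h8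
  obtain ⟨z, hz1, hzZ, hzz, hxZ, hZ, key⟩ := struct hS x hx hx1 hC h8
  have hzc : ∀ g : S, g * z = z * g := fun g => Subgroup.mem_center_iff.mp hzZ g
  have hsq : ∀ g : S, g * x = x * g → g * g = 1 := sq_eq_one_of_key hx hzz hzc key
  obtain ⟨k, hk⟩ := IsPGroup.iff_card.mp hS
  by_cases h8' : Nat.card S = 8
  · -- base case
    have hex : ∃ a : S, a * a ≠ 1 := by
      by_contra hcon
      push Not at hcon
      apply hxZ
      rw [Subgroup.mem_center_iff]
      intro g
      have h1 := hcon (g * x)
      have h2 := hcon g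
      have h3 : g * x = (g * x)⁻¹ := eq_inv_of_mul_eq_one_left h1
      rw [mul_inv_rev] at h3
      rw [h3, inv_eq_of_mul_eq_one_left hx, inv_eq_of_mul_eq_one_left h2]
    obtain ⟨a, ha⟩ := hex
    have hxa : x ∉ Subgroup.zpowers a := by
      intro hxa
      apply ha
      apply hsq
      obtain ⟨i, rfl⟩ := Subgroup.mem_zpowers_iff.mp hxa
      exact ((Commute.refl a).zpow_right i).eq
    refine ⟨a, ?_, hxa⟩
    have hdvd : orderOf a ∣ 2 ^ 3 := by
      have := orderOf_dvd_natCard a
      rw [h8'] at this; exact this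
    obtain ⟨j, hj, hja⟩ := (Nat.dvd_prime_pow Nat.prime_two).mp hdvd
    interval_cases j
    · exfalso; apply ha; rw [pow_zero, orderOf_eq_one_iff] at hja; rw [hja, one_mul]
    · exfalso; apply ha; rw [← pow_two]
      have := pow_orderOf_eq_one a
      rw [hja] at this; exact this
    · rw [h8', hja]; norm_num
    · exfalso
      apply hxa
      have htop : Subgroup.zpowers a = ⊤ :=
        Subgroup.eq_top_of_card_eq _ (by rw [Nat.card_zpowers, hja, h8']; norm_num)
      rw [htop]; exact Subgroup.mem_top x
  · have hk4 : 4 ≤ k := by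
      by_contra hk4
      push Not at hk4
      have hle : 2 ^ k ≤ 2 ^ 3 := Nat.pow_le_pow_right (by norm_num) (by omega)
      rw [hk] at h8 h8'
      exact h8' (le_antisymm (by simpa using hle) h8)
    have h16 : 16 ≤ Nat.card S := by
      rw [hk]
      calc 16 = 2 ^ 4 := by norm_num
        _ ≤ 2 ^ k := Nat.pow_le_pow_right (by norm_num) hk4
    have hZcard : Nat.card (Subgroup.center S) = 2 := by
      rw [Nat.card_eq_two_iff]
      refine ⟨⟨1, one_mem _⟩, ⟨z, hzZ⟩, ?_, ?_⟩
      · intro h; exact hz1 (congrArg Subtype.val h).symm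
      · ext ⟨g, hg⟩
        simp only [Set.mem_insert_iff, Set.mem_singleton_iff, Set.mem_univ, iff_true,
          Subtype.mk.injEq]
        exact hZ g hg
    have hQcard : Nat.card S = Nat.card (S ⧸ Subgroup.center S) * 2 := by
      rw [← hZcard]; exact Subgroup.card_eq_card_quotient_mul_card_subgroup _
    have hCQ := card_centralizer_quotient_le (x := x) hzZ hZ hZcard hC
    set π := QuotientGroup.mk' (Subgroup.center S) with hπ
    have hπx : π x * π x = 1 := by rw [← map_mul, hx, map_one]
    have hπx1 : π x ≠ 1 := by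
      intro h
      exact hxZ ((QuotientGroup.eq_one_iff x).mp h)
    have hπz : π z = 1 := (QuotientGroup.eq_one_iff z).mpr hzZ
    have hker : ∀ g : S, π g = 1 → g = 1 ∨ g = z := fun g hg =>
      hZ g ((QuotientGroup.eq_one_iff g).mp hg)
    obtain ⟨abar, hab, hxab⟩ := ih (Nat.card (S ⧸ Subgroup.center S)) (by omega)
      (S ⧸ Subgroup.center S) rfl (hS.to_quotient _) (π x) hπx hπx1 hCQ (by omega)
    obtain ⟨a, rfl⟩ := QuotientGroup.mk'_surjective (Subgroup.center S) abar
    set m' := orderOf (π a) with hm'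
    have hm'pos : 0 < m' := orderOf_pos _
    have hxa : x ∉ Subgroup.zpowers a := by
      intro h
      apply hxab
      obtain ⟨i, rfl⟩ := Subgroup.mem_zpowers_iff.mp h
      rw [map_zpow]
      exact Subgroup.zpow_mem_zpowers _ i
    have ham : π (a ^ m') = 1 := by rw [map_pow, hm', pow_orderOf_eq_one]
    rcases hker _ ham with h1 | hz
    · exfalso
      have hm'4 : 4 ∣ m' := by
        have h4m : 4 * m' = 2 ^ k := by rw [← hk, hQcard, hab]; ring
        have hk2 : k = 2 + (k - 2) := by omega
        have h4 : (2:ℕ) ^ k = 4 * 2 ^ (k - 2) := by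
          conv_lhs => rw [hk2, pow_add]
          norm_num
        have hm2 : m' = 2 ^ (k - 2) := by omega
        rw [hm2]
        have hk4' : k - 2 = 2 + (k - 4) := by omega
        rw [hk4', pow_add]; exact Dvd.intro _ rfl
      obtain ⟨q, hq⟩ := hm'4
      have hqpos : 0 < q := by omega
      set u := a ^ (2 * q) with hu
      have hu2 : u * u = 1 := by
        rw [hu, ← pow_add]
        have : 2 * q + 2 * q = m' := by omega
        rw [this]; exact h1
      have hπu1 : π u ≠ 1 := by
        rw [hu, map_pow]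
        intro h
        have h2 := orderOf_dvd_of_pow_eq_one h
        have h3 := Nat.le_of_dvd (by omega) h2
        omega
      have hπun : π u ≠ π x := by
        intro h
        apply hxab
        rw [← h, hu, map_pow]
        exact Subgroup.npow_mem_zpowers _ _
      have hidx : (Subgroup.zpowers (π a)).index = 2 := by
        have h := (Subgroup.zpowers (π a)).card_mul_index
        rw [Nat.card_zpowers, hab] at h
        have : orderOf (π a) * (Subgroup.zpowers (π a)).index = orderOf (π a) * 2 := by
          rw [h]; ring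
        exact Nat.eq_of_mul_eq_mul_left hm'pos this
      have hnorm : (Subgroup.zpowers (π a)).Normal := Subgroup.normal_of_index_eq_two hidx
      have hconj : π x * π a * (π x)⁻¹ ∈ Subgroup.zpowers (π a) :=
        hnorm.conj_mem _ (Subgroup.mem_zpowers _) _
      obtain ⟨j, hj⟩ := Subgroup.mem_zpowers_iff.mp hconj
      set c := (a ^ j)⁻¹ * (x * a * x⁻¹) with hc
      have hπc : π c = 1 := by
        rw [hc, map_mul, map_inv, map_zpow, hj, map_mul, map_mul, map_inv]; group
      have hcZ : c ∈ Subgroup.center S := (QuotientGroup.eq_one_iff c).mp hπc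
      have hcc : c * c = 1 := by
        rcases hker c hπc with h | h
        · rw [h, one_mul]
        · rw [h, hzz]
      have hxax : x * a * x⁻¹ = a ^ j * c := by rw [hc]; group
      have hcomm : Commute (a ^ j) c := (Subgroup.mem_center_iff.mp hcZ (a ^ j))
      have hxux : x * u * x⁻¹ = u ^ j := by
        calc x * u * x⁻¹ = (x * a * x⁻¹) ^ (2 * q) := by rw [hu, conj_pow]
          _ = (a ^ j * c) ^ (2 * q) := by rw [hxax]
          _ = (a ^ j) ^ (2 * q) * c ^ (2 * q) := hcomm.mul_pow _
          _ = (a ^ j) ^ (2 * q) := by rw [pow_mul c, pow_two, hcc, one_pow, mul_one]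
          _ = u ^ j := by
            rw [hu, ← zpow_natCast, ← zpow_mul, ← zpow_natCast, ← zpow_mul, mul_comm]
      have hxu : u * x = x * u := by
        obtain ⟨i, rfl | rfl⟩ := Int.even_or_odd' j
        · exfalso
          rw [zpow_mul, zpow_two, hu2, one_zpow] at hxux
          have hu1 : u = 1 := by simpa using hxux
          apply hπu1; rw [hu1, map_one]
        · rw [zpow_add, zpow_mul, zpow_two, hu2, one_zpow, one_mul, zpow_one] at hxux
          rw [mul_inv_eq_iff_eq_mul] at hxux; exact hxux.symm
      rcases key u hxu with h | h | h | h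
      · apply hπu1; rw [h, map_one]
      · apply hπun; rw [h]
      · apply hπu1; rw [h]; exact hπz
      · apply hπun; rw [h, map_mul, hπz, mul_one]
    · refine ⟨a, ?_, hxa⟩
      have h2 : orderOf a = 2 * m' := by
        have hdvd1 : m' ∣ orderOf a := orderOf_map_dvd π a
        have hdvd2 : orderOf a ∣ 2 * m' := by
          rw [orderOf_dvd_iff_pow_eq_one, mul_comm, pow_mul, hz, pow_two, hzz]
        have hne : ¬ orderOf a ∣ m' := by
          rw [orderOf_dvd_iff_pow_eq_one, hz]; exact hz1
        obtain ⟨c, hc⟩ := hdvd1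
        have hc2 : c ∣ 2 := by
          rw [hc, mul_comm 2 m'] at hdvd2
          exact Nat.dvd_of_mul_dvd_mul_left hm'pos hdvd2
        rcases (Nat.dvd_prime Nat.prime_two).mp hc2 with rfl | rfl
        · exfalso; apply hne; rw [hc, mul_one]
        · rw [hc, mul_comm]
      rw [h2, hQcard, hab]; ring

/-- For `|S| ≥ 8` the group is dihedral or quasi-dihedral. -/
theorem endgame {S : Type u} [Group S] [Finite S] (hS : IsPGroup 2 S) (x : S) (hx : x * x = 1)
    (hx1 : x ≠ 1) (hC : Nat.card (Subgroup.centralizer ({x} : Set S)) ≤ 4)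
    (h8 : 8 ≤ Nat.card S) :
    (∃ n : ℕ, Nonempty (S ≃* DihedralGroup n)) ∨ Cfsg.IsQuasiDihedral S := by
  obtain ⟨z, hz1, hzZ, hzz, hxZ, hZ, key⟩ := struct hS x hx hx1 hC h8
  have hzc : ∀ g : S, g * z = z * g := fun g => Subgroup.mem_center_iff.mp hzZ g
  have hsq : ∀ g : S, g * x = x * g → g * g = 1 := sq_eq_one_of_key hx hzz hzc key
  obtain ⟨a, hcard, hxa⟩ := exists_cyclic_index_two _ S rfl hS x hx hx1 hC h8
  have hmpos : 0 < orderOf a := orderOf_pos a
  have hidx : (Subgroup.zpowers a).index = 2 := by
    have h := (Subgroup.zpowers a).card_mul_index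
    rw [Nat.card_zpowers, hcard] at h
    have : orderOf a * (Subgroup.zpowers a).index = orderOf a * 2 := by
      rw [h]; ring
    exact Nat.eq_of_mul_eq_mul_left hmpos this
  have hnorm : (Subgroup.zpowers a).Normal := Subgroup.normal_of_index_eq_two hidx
  have hxinv : x⁻¹ = x := inv_eq_of_mul_eq_one_left hx
  have hconj : x * a * x ∈ Subgroup.zpowers a := by
    have := hnorm.conj_mem _ (Subgroup.mem_zpowers a) x
    rwa [hxinv] at this
  obtain ⟨i, hi⟩ := Subgroup.mem_zpowers_iff.mp hconj
  have hcomm : a * (x * a * x) = (x * a * x) * a := by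
    rw [← hi]; exact ((Commute.refl a).zpow_right i).eq
  set t := x * a * x * a with ht
  have htA : t ∈ Subgroup.zpowers a := mul_mem hconj (Subgroup.mem_zpowers a)
  have htx : t * x = x * t := by
    calc t * x = (x * a * x * a) * x := by rw [ht]
      _ = x * (a * (x * a * x)) := by simp only [mul_assoc]
      _ = x * ((x * a * x) * a) := by rw [hcomm]
      _ = x * t := by rw [ht]
  have htt : t * t = 1 := hsq t htx
  have hgen : ∀ g : S, g ∈ Subgroup.zpowers a ∨ x * g ∈ Subgroup.zpowers a := by
    intro g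
    by_cases hg : g ∈ Subgroup.zpowers a
    · exact Or.inl hg
    · right
      rw [Subgroup.mul_mem_iff_of_index_two hidx]
      exact iff_of_false hxa hg
  by_cases ht1 : t = 1
  · left
    set y := x * a with hy
    have hyy : y * y = 1 := by
      calc y * y = x * a * x * a := by rw [hy]; simp only [mul_assoc]
        _ = 1 := by rw [← ht, ht1]
    have hy1 : y ≠ 1 := by
      intro h
      apply hxa
      have h2 : x = a⁻¹ := eq_inv_of_mul_eq_one_left h
      rw [h2]; exact inv_mem (Subgroup.mem_zpowers a)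
    have hxy : x * y = a := by rw [hy, ← mul_assoc, hx, one_mul]
    have htop : Subgroup.closure ({x, y} : Set S) = ⊤ := by
      rw [eq_top_iff]
      intro g _
      have hxm : x ∈ Subgroup.closure ({x, y} : Set S) := Subgroup.subset_closure (by simp)
      have hym : y ∈ Subgroup.closure ({x, y} : Set S) := Subgroup.subset_closure (by simp)
      have ham : a ∈ Subgroup.closure ({x, y} : Set S) := hxy ▸ mul_mem hxm hym
      have hAle : Subgroup.zpowers a ≤ Subgroup.closure ({x, y} : Set S) := by
        rw [Subgroup.zpowers_le]; exact ham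
      rcases hgen g with hg | hg
      · exact hAle hg
      · have := mul_mem hxm (hAle hg)
        rw [← mul_assoc, hx, one_mul] at this; exact this
    refine ⟨orderOf (x * y), ⟨?_⟩⟩
    exact (Subgroup.topEquiv.symm.trans (MulEquiv.subgroupCongr htop.symm)).trans
      (Cfsg.Agent.H5.closurePairEquivDihedral hx hyy hx1 hy1)
  · right
    obtain ⟨n', hn'⟩ := IsPGroup.iff_card.mp hS
    -- `t = a ^ i'` with `i' < orderOf a`
    have htpow : t ∈ Submonoid.powers a := (mem_powers_iff_mem_zpowers).mpr htA
    obtain ⟨i0, hi0⟩ := (Submonoid.mem_powers_iff _ _).mp htpow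
    set m := orderOf a with hm
    set i' := i0 % m with hi'
    have hi'lt : i' < m := Nat.mod_lt _ hmpos
    have hti' : a ^ i' = t := by rw [hi', hm, pow_mod_orderOf, hi0]
    have hi'0 : i' ≠ 0 := by
      intro h
      apply ht1
      rw [← hti', h, pow_zero]
    have hdvd : m ∣ 2 * i' := by
      rw [hm, orderOf_dvd_iff_pow_eq_one, two_mul, pow_add, hti', htt]
    have h2i : 2 * i' = m := by
      obtain ⟨c, hc⟩ := hdvd
      have hc1 : c = 1 := by
        rcases Nat.lt_or_ge c 2 with h | h
        · interval_cases c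
          · omega
          · rfl
        · exfalso
          have : m * 2 ≤ m * c := Nat.mul_le_mul_left m h
          omega
      rw [hc, hc1, mul_one]
    -- `m = 2 ^ k`
    have hmdvd : m ∣ 2 ^ n' := by
      rw [← hn', hm]; exact orderOf_dvd_natCard a
    obtain ⟨k, hkn, hk⟩ := (Nat.dvd_prime_pow Nat.prime_two).mp hmdvd
    have hk1 : 1 ≤ k := by
      rcases Nat.eq_zero_or_pos k with h | h
      · rw [h, pow_zero] at hk; omega
      · exact h
    have hkk : k = (k - 1) + 1 := by omega
    have hi'k : i' = 2 ^ (k - 1) := by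
      have h2 : 2 ^ k = 2 ^ (k - 1) * 2 := by
        conv_lhs => rw [hkk, pow_succ]
      omega
    have hxax : x * a * x⁻¹ = a ^ (2 ^ (k - 1) - 1) := by
      rw [hxinv, ← hi'k]
      have h1 : a ^ i' = a ^ (i' - 1) * a := by
        conv_lhs => rw [show i' = (i' - 1) + 1 by omega, pow_succ]
      have h2 : x * a * x * a = a ^ (i' - 1) * a := by rw [← h1, hti']
      exact mul_right_cancel h2
    have hcardS : Nat.card S = 2 ^ (k + 1) := by
      rw [hcard, hk, pow_succ, mul_comm]
    have hk3 : 3 ≤ k := by
      by_contra hk3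
      push Not at hk3
      have hk2 : 2 ≤ k := by
        by_contra hk2
        push Not at hk2
        have : k = 1 := by omega
        rw [this] at hcardS
        norm_num at hcardS
        omega
      have hk2' : k = 2 := by omega
      rw [hk2'] at hxax hk
      norm_num at hxax
      -- `x * a * x⁻¹ = a`
      have hax : a * x = x * a := by
        rw [mul_inv_eq_iff_eq_mul] at hxax; exact hxax.symm
      have haa : a ^ 2 = 1 := by rw [pow_two]; exact hsq a hax
      have hd2 : m ∣ 2 := orderOf_dvd_of_pow_eq_one haa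
      rw [hk] at hd2
      norm_num at hd2
    refine ⟨k, hk3, hcardS, a, x, hk, ?_, hxax⟩
    exact Cfsg.Agent.H5.orderOf_two_of_mul_self hx hx1

/-- A finite 2-group containing an involution whose centralizer has order 4 is dihedral, quasi-dihedral (semidihedral), or of order 4. -/
theorem result {S : Type*} [Group S] [Finite S] (hS : IsPGroup 2 S)
    (x : S) (hx : orderOf x = 2) (hC : Nat.card ↥(Subgroup.centralizer ({x} : Set S)) = 4) :
    (∃ n : ℕ, Nonempty (S ≃* DihedralGroup n)) ∨ Cfsg.IsQuasiDihedral S ∨ Nat.card S = 4 := by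
  have hxx : x * x = 1 := Cfsg.Agent.H5.sq_eq_one_of_orderOf_two hx
  have hx1 : x ≠ 1 := Cfsg.Agent.H5.ne_one_of_orderOf_two hx
  have h4 : 4 ∣ Nat.card S := hC ▸ Subgroup.card_subgroup_dvd_card _
  by_cases h8 : 8 ≤ Nat.card S
  · rcases endgame hS x hxx hx1 hC.le h8 with h | h
    · exact Or.inl h
    · exact Or.inr (Or.inl h)
  · right; right
    push Not at h8
    obtain ⟨c, hc⟩ := h4
    have : 0 < Nat.card S := Nat.card_pos
    omega

end Cfsg.Agent.S3224
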