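import Cfsg.Statements.S3261
import Cfsg.Agent.S3035
import Cfsg.Agent.H27.D8D

set_option autoImplicit false
open Cfsg

namespace Cfsg.Agent.S3261

/-- Let α̃ be an involution of the alternating group A₆ that is a product of two disjoint transpositions (it lies in the centre of a Sylow 2-subgroup of A₆; its centralizer is dihedral of order 8). Let G be a finite group that has no subgroup of index 2 and contains an involution α, central in some Sylow 2-subgroup of G, with C_G(α) ≅ C_{A₆}(α̃). Then G is isomorphic to A₆ or to PSL₂(7). -/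
theorem result {G : Type*} [Group G] [Finite G]
    (hG : ∀ H : Subgroup G, H.index ≠ 2)
    (αt : ↥(alternatingGroup (Fin 6))) (hαt : orderOf αt = 2) (hsupp : (αt : Equiv.Perm (Fin 6)).support.card = 4)
    (α : G) (hα : orderOf α = 2) (S : Sylow 2 G) (hαS : α ∈ (S : Subgroup G)) (hαc : ∀ s ∈ (S : Subgroup G), s * α = α * s)
    (e : ↥(Subgroup.centralizer ({α} : Set G)) ≃* ↥(Subgroup.centralizer ({αt} : Set ↥(alternatingGroup (Fin 6))))) :
    Nonempty (G ≃* ↥(alternatingGroup (Fin 6))) ∨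
      (∃ (F : Type) (_ : Field F) (_ : Fintype F), Fintype.card F = 7 ∧ Nonempty (G ≃* Matrix.ProjectiveSpecialLinearGroup (Fin 2) F)) := by
  haveI : Fact (Nat.Prime 2) := ⟨Nat.prime_two⟩
  obtain ⟨φ⟩ := Cfsg.Agent.H27.D8.centralizer_altSix_dihedral αt hαt
  have e' : ↥(Subgroup.centralizer ({α} : Set G)) ≃* DihedralGroup 4 := e.trans φ
  have hC2 : IsPGroup 2 ↥(Subgroup.centralizer ({α} : Set G)) := by
    apply IsPGroup.of_card (n := 3)
    rw [Nat.card_congr e'.toEquiv, Nat.card_eq_fintype_card, DihedralGroup.card]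
    norm_num
  rcases Cfsg.Agent.S3035.result α hα ⟨e'⟩ with h | h | h | h | h
  · exfalso
    obtain ⟨H, hH⟩ := Cfsg.Agent.H27.D8.exists_index_two_of_sup_oddCore α hα hC2 h
    exact hG H hH
  · exfalso
    obtain ⟨f⟩ := h
    obtain ⟨H, hH⟩ := Cfsg.Agent.H27.D8.exists_index_two_perm_four f
    exact hG H hH
  · exfalso
    obtain ⟨f⟩ := h
    obtain ⟨H, hH⟩ := Cfsg.Agent.H27.D8.exists_index_two_perm_five f
    exact hG H hH
  · right
    obtain ⟨f⟩ := h
    obtain ⟨ψ⟩ := Cfsg.Agent.H27.D8.sl32_equiv_psl27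
    haveI : Fact (Nat.Prime 7) := ⟨by norm_num⟩
    exact ⟨ZMod 7, inferInstance, inferInstance, ZMod.card 7, ⟨f.trans ψ⟩⟩
  · left
    exact h

end Cfsg.Agent.S3261
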