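import Cfsg.Statements.S3269
import Cfsg.Agent.H92.QuatDirect
import Cfsg.Agent.S0215

set_option autoImplicit false
open Cfsg

namespace Cfsg.Agent.S3269

/-- Let G be a finite group whose Sylow 2-subgroup S is an internal direct product Q × R with Q generalized quaternion (of order at least 8) and R a subgroup all of whose involutions are central in R. Then G is not simple. In particular no finite simple group has a Sylow 2-subgroup that is a direct product of one or more generalized quaternion groups. -/
theorem result {G : Type*} [Group G] [Finite G]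
    (S : Sylow 2 G) (Q R : Subgroup G) (hQR : Cfsg.IsInternalDirectProduct Q R (S : Subgroup G))
    (n : ℕ) (hn : 1 ≤ n) (eQ : ↥Q ≃* QuaternionGroup (2 ^ n))
    (hR : ∀ r ∈ R, orderOf r = 2 → ∀ s ∈ R, r * s = s * r) :
    ¬ IsSimpleGroup G := by
  intro hsimple
  obtain ⟨z, u, v, hz, hu, hv, hz2, hcomm, huniq⟩ :=
    Cfsg.Agent.H92.QuatDirect.quat_facts_subgroup Q n hn eQ
  have p2 : ∀ s ∈ (S : Subgroup G), ∃ k : ℕ, orderOf s = 2 ^ k := by
    intro s hs
    obtain ⟨k, hk⟩ := (IsPGroup.iff_orderOf.mp S.isPGroup') ⟨s, hs⟩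
    exact ⟨k, by rw [← hk, Subgroup.orderOf_mk]⟩
  have C : Cfsg.Agent.H92.QuatDirect.Ctx (S : Subgroup G) Q R z u v :=
    ⟨hQR, hz, hu, hv, hz2, hcomm, huniq, hR, p2⟩
  obtain ⟨w, hwS, hw2, hwc, hwN⟩ := C.exists_fixed (Sylow.not_dvd_index S)
  have hw1 : w ≠ 1 := fun h => by rw [h, orderOf_one] at hw2; omega
  have hww : w * w = 1 := by
    have := pow_orderOf_eq_one w; rwa [hw2, pow_two] at this
  -- `w` is isolated
  have hiso : ∀ g : G, g * w * g⁻¹ ∈ S → g * w * g⁻¹ = w := by
    intro g hg
    have hx : w ∈ Subgroup.centralizer ((S : Subgroup G) : Set G) := by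
      rw [Subgroup.mem_centralizer_iff]
      intro s hs; exact (hwc s hs).symm
    have hgg : (g * w * g⁻¹) * (g * w * g⁻¹) = 1 := by
      calc (g * w * g⁻¹) * (g * w * g⁻¹) = g * (w * w) * g⁻¹ := by group
        _ = 1 := by rw [hww]; group
    have hy : g⁻¹⁻¹ * w * g⁻¹ ∈ Subgroup.centralizer ((S : Subgroup G) : Set G) := by
      rw [inv_inv, Subgroup.mem_centralizer_iff]
      intro s hs; exact ((C.invol hg hgg).2 s hs).symm
    obtain ⟨m, hm, hme⟩ := Sylow.conj_eq_normalizer_conj_of_mem_centralizer S w g⁻¹ hx hy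
    rw [inv_inv] at hme
    rw [hme]
    have := hwN m⁻¹ (inv_mem hm)
    rwa [inv_inv] at this
  obtain ⟨K, hKn, hKodd, hK⟩ := Cfsg.Agent.S0215.result S w hw2 hwS hiso
  rcases hKn.eq_bot_or_eq_top with hK0 | hK1
  · -- `w` is central in `G`
    have hcen : w ∈ Subgroup.center G := by
      rw [Subgroup.mem_center_iff]
      intro g
      have := hK g
      rw [hK0, Subgroup.mem_bot] at this
      have e : w * g = g * w := by
        rw [mul_inv_eq_one, mul_inv_eq_iff_eq_mul] at this
        exact this
      exact e.symm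
    rcases (Subgroup.center G).normal_of_characteristic.eq_bot_or_eq_top with hc | hc
    · rw [hc, Subgroup.mem_bot] at hcen
      exact hw1 hcen
    · have hu' : u ∈ Subgroup.center G := by rw [hc]; exact Subgroup.mem_top u
      have e : v * u = u * v := (Subgroup.mem_center_iff.mp hu') v
      have : z = 1 := by
        rw [hcomm, ← e]; group
      exact C.z_ne_one this
  · -- `|G|` would be odd
    rw [hK1, Subgroup.card_top] at hKodd
    have h2 : 2 ∣ Nat.card G := by
      rw [← hw2]; exact orderOf_dvd_natCard w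
    exact (Nat.not_even_iff_odd.mpr hKodd) (even_iff_two_dvd.mpr h2)


end Cfsg.Agent.S3269
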