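-- S3360 (Huppert): solvable linear groups transitive on nonzero vectors. Team project led by helper95;
-- pieces by helper5, helper8, helper13, helper15, helper16, helper20, helper35, helper36, helper60,
-- helper61, helper75, helper83; semilinear_of_irred by helper77.
import Cfsg.Statements.S3360
import Cfsg.Agent.H95.HupMain
import Cfsg.Agent.H16.HupBasic
import Cfsg.Agent.H15.Hup64A
import Cfsg.Agent.H36.HupOr
import Cfsg.Agent.H36.HupPPD
import Cfsg.Agent.H36.HupR2A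
import Cfsg.Agent.H60.HupFit
import Cfsg.Agent.H60.HupCyc
import Cfsg.Agent.H61.HupLI
import Cfsg.Agent.H61.HupCrit
import Cfsg.Agent.H75.HupR2D
import Cfsg.Agent.H75.Hup64D
import Cfsg.Agent.H35.HupGL6
import Cfsg.Agent.H35.HupArith
import Cfsg.Agent.H5.HupDich
import Cfsg.Agent.H5.HupR2B
import Cfsg.Agent.H83.HupSq
import Cfsg.Agent.H83.HupSemi
import Cfsg.Agent.H20.HupFrob
import Cfsg.Agent.H13.HupStep
import Cfsg.Agent.H8.Hup64C
import Cfsg.Agent.H8.Hup64B

set_option autoImplicit false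
open Cfsg

namespace Cfsg.Agent.S3360

/-- Let q be a prime and V a non-trivial finite vector space over the field with q elements, and let G be a finite solvable group acting faithfully and linearly on V and transitively on the non-zero vectors. Then either V can be identified with the additive group of a finite field F in such a way that every element of G acts as x ↦ a·σ(x) for some a ∈ F and some field automorphism σ, or the number of elements of V is one of 3^2, 5^2, 7^2, 11^2, 23^2, 3^4. -/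
theorem result
    (q : ℕ) [Fact q.Prime] {V : Type*} [AddCommGroup V] [Module (ZMod q) V] [Finite V] [Nontrivial V]
    {G : Type*} [Group G] [Finite G] (hsol : Group.IsSolvable G)
    (ρ : G →* (V ≃ₗ[ZMod q] V)) (hρ : Function.Injective ρ)
    (htrans : ∀ v w : V, v ≠ 0 → w ≠ 0 → ∃ g : G, ρ g v = w) :
    (∃ (F : Type) (_ : Field F) (_ : Fintype F) (e : V ≃+ F),
        ∀ g : G, ∃ (a : F) (σ : F ≃+* F), ∀ v : V, e (ρ g v) = a * σ (e v)) ∨
    Nat.card V ∈ ({9, 25, 49, 121, 529, 81} : Set ℕ) := by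
  have hStep := @Cfsg.Agent.H13.Hup.step Cfsg.Agent.H36.Hup.ppd Cfsg.Agent.H60.Hup.cyc
    Cfsg.Agent.H20.Hup.ab @Cfsg.Agent.H61.Hup.crit Cfsg.Agent.H61.Hup.li
    @Cfsg.Agent.H83.Hup.sq_holds @Cfsg.Agent.H83.Hup.semi_holds
  have hDich := @Cfsg.Agent.H5.Hup.dich Cfsg.Agent.H16.Hup.dvd Cfsg.Agent.H16.Hup.ot
    Cfsg.Agent.H36.Hup.ppd @Cfsg.Agent.H60.Hup.fit Cfsg.Agent.H36.Hup.or_stmt hStep
  exact Cfsg.Agent.H95.Hup.main Cfsg.Agent.H16.Hup.dvd Cfsg.Agent.H16.Hup.one
    Cfsg.Agent.H36.Hup.r2a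
    (Cfsg.Agent.H75.Hup.r2d Cfsg.Agent.H16.Hup.ot) (Cfsg.Agent.H5.Hup.r2b Cfsg.Agent.H61.Hup.li) hDich
    Cfsg.Agent.H35.Hup.arith
    (@Cfsg.Agent.H15.Hup.s64a Cfsg.Agent.H16.Hup.dvd Cfsg.Agent.H16.Hup.ot
      @Cfsg.Agent.H60.Hup.fit @Cfsg.Agent.H35.Hup.gl6)
    (@Cfsg.Agent.H8.Hup.s64b @Cfsg.Agent.H35.Hup.gl6) @Cfsg.Agent.H8.Hup.s64c
    (@Cfsg.Agent.H75.Hup.s64d Cfsg.Agent.H16.Hup.dvd) q hsol ρ hρ htrans

end Cfsg.Agent.S3360
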