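import Cfsg.Statements.S3371
import Cfsg.Agent.H20.HtAsm
import Cfsg.Agent.H20.HtOdd
import Cfsg.Agent.H62.HtStab
import Cfsg.Agent.H62.HtPQ
import Cfsg.Agent.H70.HtRank2
import Cfsg.Agent.H68.HtNoRank2
import Cfsg.Agent.H68.HtIrr
import Cfsg.Agent.H75.HtNotCQ
import Cfsg.Agent.H70.HtSW1
import Cfsg.Agent.H73.HtSW2
import Cfsg.Agent.H60.HtSwap3
import Cfsg.Agent.Lib.Helper96.HtSW4
import Cfsg.Agent.H73.HtCoord
import Cfsg.Agent.Lib.Helper96.HtUInv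
import Cfsg.Agent.H75.HtFSQ
import Cfsg.Agent.H60.HtCount
import Cfsg.Agent.H24.HtDih
import Cfsg.Agent.H24.HtQD
import Cfsg.Agent.H54.HtNT1
import Cfsg.Agent.H54.HtNT2

set_option autoImplicit false
open Cfsg

namespace Cfsg.Agent.S3371

/-- Let q be a prime, V a non-trivial finite vector space over the field with q elements, and G a finite p-group (p prime) acting faithfully and linearly on V such that all G-orbits on the non-zero vectors have the same size. Then one of the following holds: G is cyclic or generalized quaternion and acts semiregularly on the non-zero vectors; or V has q² elements with q = 2^m − 1 and G is dihedral of order 2^(m+1) or semidihedral of order 2^(m+2); or V has q² elements with q = 2^m + 1 and, in suitable coordinates V = F_q², G is exactly the group of maps (x, y) ↦ (a x, ± a⁻¹ y) and (x, y) ↦ (± a⁻¹ y, a x) with a ≠ 0; or V has 81 elements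 (q = 3) and G is a 2-group. -/
theorem result (q : ℕ) [Fact q.Prime] {V : Type*} [AddCommGroup V] [Module (ZMod q) V] [Finite V] [Nontrivial V]
    {G : Type*} [Group G] [Finite G] (p : ℕ) [Fact p.Prime] (hG : IsPGroup p G)
    (ρ : G →* (V ≃ₗ[ZMod q] V)) (hρ : Function.Injective ρ)
    (hhalf : ∀ v w : V, v ≠ 0 → w ≠ 0 → Nat.card {u : V | ∃ g : G, ρ g v = u} = Nat.card {u : V | ∃ g : G, ρ g w = u}) :
    ((IsCyclic G ∨ ∃ n : ℕ, Nonempty (G ≃* QuaternionGroup n)) ∧ ∀ v : V, v ≠ 0 → ∀ g : G, ρ g v = v → g = 1) ∨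
    (Nat.card V = q ^ 2 ∧ ∃ m : ℕ, q = 2 ^ m - 1 ∧
      (Nonempty (G ≃* DihedralGroup (2 ^ m)) ∨ (Cfsg.IsQuasiDihedral G ∧ Nat.card G = 2 ^ (m + 2)))) ∨
    (Nat.card V = q ^ 2 ∧ (∃ m : ℕ, q = 2 ^ m + 1) ∧
      ∃ e : V ≃ₗ[ZMod q] (Fin 2 → ZMod q), ∀ f : (Fin 2 → ZMod q) ≃ₗ[ZMod q] (Fin 2 → ZMod q),
        (∃ g : G, f = e.symm.trans ((ρ g).trans e)) ↔
        ∃ a s : ZMod q, a ≠ 0 ∧ (s = 1 ∨ s = -1) ∧
          ((∀ v, f v = ![a * v 0, s * a⁻¹ * v 1]) ∨ (∀ v, f v = ![s * a⁻¹ * v 1, a * v 0]))) ∨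
    (Nat.card V = 81 ∧ q = 3 ∧ p = 2) := by
  exact Cfsg.Agent.H20.Ht.assemble Cfsg.Agent.H62.Ht.stabStmt Cfsg.Agent.H62.Ht.pqStmt
    Cfsg.Agent.H70.Ht.rank2 Cfsg.Agent.H68.Ht.noRank2 Cfsg.Agent.H68.Ht.irr
    Cfsg.Agent.H75.Ht.notCQ Cfsg.Agent.H20.Ht.odd Cfsg.Agent.H70.Ht.swap1
    Cfsg.Agent.H73.Ht.swap2 Cfsg.Agent.H60.Ht.swap3 Cfsg.Agent.Lib.Helper96.Ht.swap4
    Cfsg.Agent.H73.Ht.coord Cfsg.Agent.Lib.Helper96.Ht.uniqInv Cfsg.Agent.H75.Ht.fixSqrt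
    Cfsg.Agent.H60.Ht.count Cfsg.Agent.H24.Ht.dih Cfsg.Agent.H24.Ht.qd
    Cfsg.Agent.H54.Ht.nt1 Cfsg.Agent.H54.Ht.nt2 q p hG ρ hρ hhalf

end Cfsg.Agent.S3371
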