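import Cfsg.Statements.S3374
import Cfsg.Agent.H75.Frobenius

set_option autoImplicit false
open Cfsg

namespace Cfsg.Agent.S3374

/-- entry `(0,0)` of the image in `SL(2,11)` of a matrix of `SL(2,5)` (an explicit embedding) -/
def tA : Fin 5 → Fin 5 → Fin 5 → Fin 5 → ZMod 11 :=
  ![![![![0, 0, 0, 0, 0], ![0, 0, 0, 0, 0], ![0, 0, 0, 0, 0], ![0, 0, 0, 0, 0], ![0, 0, 0, 0, 0]], ![![0, 0, 0, 0, 0], ![0, 0, 0, 0, 0], ![0, 0, 0, 0, 0], ![0, 0, 0, 0, 0], ![8, 9, 8, 4, 4]], ![![0, 0, 0, 0, 0], ![0, 0, 0, 0, 0], ![0, 10, 4, 7, 1], ![0, 0, 0, 0, 0], ![0, 0, 0, 0, 0]], ![![0, 0, 0, 0, 0], ![0, 0, 0, 0, 0], ![0, 0, 0, 0, 0], ![0, 10, 4, 7, 1], ![0, 0, 0, 0, 0]], ![![0, 0, 0, 0, 0], ![3, 7, 7, 3, 2], ![0, 0, 0, 0, 0], ![0, 0, 0, 0, 0], ![0, 0, 0, 0, 0]]], ![![![0, 1, 0, 0, 0],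 ![0, 3, 0, 0, 0], ![0, 8, 0, 0, 0], ![0, 10, 0, 0, 0], ![0, 0, 0, 0, 0]], ![![0, 0, 0, 0, 0], ![0, 0, 6, 0, 0], ![0, 0, 0, 7, 0], ![0, 0, 0, 0, 4], ![5, 0, 0, 0, 0]], ![![0, 10, 0, 0, 0], ![0, 0, 0, 4, 0], ![2, 0, 0, 0, 0], ![0, 0, 2, 0, 0], ![0, 0, 0, 0, 4]], ![![0, 8, 0, 0, 0], ![0, 0, 0, 0, 6], ![0, 0, 10, 0, 0], ![2, 0, 0, 0, 0], ![0, 0, 0, 7, 0]], ![![0, 3, 0, 0, 0], ![3, 0, 0, 0, 0], ![0, 0, 0, 0, 6], ![0, 0, 0, 4, 0], ![0, 0, 6, 0, 0]]], ![![![0, 0, 0, 10, 0], ![0, 0, 0, 9, 0], ![0, 0, 0, 9, 0], ![0, 0, 0, 10, 0], ![0, 0, 0, 6, 0]], ![![0, 0, 0, 6, 0], ![0, 2, 0, 0, 0], ![0, 0, 0, 0, 8], ![0, 0, 10, 0, 0], ![7, 0, 0, 0, 0]], ![![0, 0, 0, 10, 0], ![0, 0, 0, 0, 5], ![3, 0, 0, 0, 0], ![0, 5, 0, 0, 0], ![0, 0, 10, 0, 0]], ![![0, 0, 0, 9, 0], ![0, 0, 0, 0, 0],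 ![0, 2, 0, 0, 0], ![3, 0, 0, 0, 0], ![0, 0, 0, 0, 8]], ![![0, 0, 0, 9, 0], ![6, 0, 0, 0, 0], ![0, 0, 0, 0, 0], ![0, 0, 0, 0, 5], ![0, 2, 0, 0, 0]]], ![![![0, 0, 1, 0, 0], ![0, 0, 5, 0, 0], ![0, 0, 1, 0, 0], ![0, 0, 2, 0, 0], ![0, 0, 2, 0, 0]], ![![0, 0, 2, 0, 0], ![0, 0, 0, 0, 9], ![0, 6, 0, 0, 0], ![0, 0, 0, 0, 0], ![5, 0, 0, 0, 0]], ![![0, 0, 2, 0, 0], ![0, 3, 0, 0, 0], ![8, 0, 0, 0, 0], ![0, 0, 0, 0, 9], ![0, 0, 0, 0, 0]], ![![0, 0, 1, 0, 0], ![0, 0, 0, 1, 0], ![0, 0, 0, 0, 6], ![8, 0, 0, 0, 0], ![0, 6, 0, 0, 0]], ![![0, 0, 5, 0, 0], ![4, 0, 0, 0, 0], ![0, 0, 0, 1, 0], ![0, 3, 0, 0, 0], ![0, 0, 0, 0, 9]]], ![![![0, 0, 0, 0, 10], ![0, 0, 0, 0, 0], ![0, 0, 0, 0, 1], ![0, 0, 0, 0, 3], ![0, 0, 0, 0, 8]], ![![0, 0, 0, 0, 8], ![0, 0, 0, 5, 0], ![0, 0, 7, 0, 0], ![0,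 5, 0, 0, 0], ![8, 0, 0, 0, 0]], ![![0, 0, 0, 0, 3], ![0, 0, 4, 0, 0], ![9, 0, 0, 0, 0], ![0, 0, 0, 1, 0], ![0, 5, 0, 0, 0]], ![![0, 0, 0, 0, 1], ![0, 7, 0, 0, 0], ![0, 0, 0, 9, 0], ![9, 0, 0, 0, 0], ![0, 0, 7, 0, 0]], ![![0, 0, 0, 0, 0], ![6, 0, 0, 0, 0], ![0, 7, 0, 0, 0], ![0, 0, 4, 0, 0], ![0, 0, 0, 5, 0]]]]
/-- entry `(0,1)` -/
def tB : Fin 5 → Fin 5 → Fin 5 → Fin 5 → ZMod 11 :=
  ![![![![0, 0, 0, 0, 0], ![0, 0, 0, 0, 0], ![0, 0, 0, 0, 0], ![0, 0, 0, 0, 0], ![0, 0, 0, 0, 0]], ![![0, 0, 0, 0, 0], ![0, 0, 0, 0, 0], ![0, 0, 0, 0, 0], ![0, 0, 0, 0, 0], ![7, 3, 2, 3, 7]], ![![0, 0, 0, 0, 0], ![0, 0, 0, 0, 0], ![7, 4, 10, 0, 1], ![0, 0, 0, 0, 0], ![0, 0, 0, 0, 0]], ![![0, 0, 0, 0, 0], ![0, 0, 0, 0, 0], ![0, 0, 0, 0, 0], ![4, 10, 0, 1, 7], ![0, 0, 0, 0, 0]], ![![0,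 0, 0, 0, 0], ![4, 4, 8, 9, 8], ![0, 0, 0, 0, 0], ![0, 0, 0, 0, 0], ![0, 0, 0, 0, 0]]], ![![![0, 0, 0, 0, 0], ![0, 5, 0, 0, 0], ![0, 4, 0, 0, 0], ![0, 7, 0, 0, 0], ![0, 6, 0, 0, 0]], ![![0, 1, 0, 0, 0], ![0, 0, 7, 0, 0], ![0, 0, 0, 9, 0], ![0, 0, 0, 0, 9], ![7, 0, 0, 0, 0]], ![![0, 3, 0, 0, 0], ![0, 0, 0, 5, 0], ![1, 0, 0, 0, 0], ![0, 0, 9, 0, 0], ![0, 0, 0, 0, 4]], ![![0, 8, 0, 0, 0], ![0, 0, 0, 0, 8], ![0, 0, 5, 0, 0], ![7, 0, 0, 0, 0], ![0, 0, 0, 5, 0]], ![![0, 10, 0, 0, 0], ![8, 0, 0, 0, 0], ![0, 0, 0, 0, 3], ![0, 0, 0, 1, 0], ![0, 0, 0, 0, 0]]], ![![![0, 0, 0, 1, 0], ![0, 0, 0, 6, 0], ![0, 0, 0, 8, 0], ![0, 0, 0, 6, 0], ![0, 0, 0, 1, 0]], ![![0, 0, 0, 2, 0], ![0, 0, 0, 0, 0], ![0, 0, 0, 0, 9], ![0, 0, 8, 0, 0], ![3, 0, 0, 0, 0]], ![![0, 0, 0, 2, 0], ![0, 0,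 0, 0, 5], ![0, 0, 0, 0, 0], ![0, 6, 0, 0, 0], ![0, 0, 9, 0, 0]], ![![0, 0, 0, 1, 0], ![0, 0, 2, 0, 0], ![0, 2, 0, 0, 0], ![1, 0, 0, 0, 0], ![0, 0, 0, 0, 5]], ![![0, 0, 0, 5, 0], ![9, 0, 0, 0, 0], ![0, 0, 3, 0, 0], ![0, 0, 0, 0, 1], ![0, 4, 0, 0, 0]]], ![![![0, 0, 10, 0, 0], ![0, 0, 10, 0, 0], ![0, 0, 5, 0, 0], ![0, 0, 3, 0, 0], ![0, 0, 5, 0, 0]], ![![0, 0, 6, 0, 0], ![0, 0, 0, 0, 7], ![0, 10, 0, 0, 0], ![0, 0, 0, 8, 0], ![2, 0, 0, 0, 0]], ![![0, 0, 10, 0, 0], ![0, 6, 0, 0, 0], ![10, 0, 0, 0, 0], ![0, 0, 0, 0, 9], ![0, 0, 0, 9, 0]], ![![0, 0, 9, 0, 0], ![0, 0, 0, 2, 0], ![0, 0, 0, 0, 5], ![0, 0, 0, 0, 0], ![0, 6, 0, 0, 0]], ![![0, 0, 9, 0, 0], ![8, 0, 0, 0, 0], ![0, 0, 0, 3, 0], ![0, 2, 0, 0, 0], ![0, 0, 0, 0, 0]]], ![![![0, 0, 0, 0, 0], ![0, 0, 0, 0, 5], ![0, 0,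 0, 0, 4], ![0, 0, 0, 0, 7], ![0, 0, 0, 0, 6]], ![![0, 0, 0, 0, 1], ![0, 0, 0, 0, 0], ![0, 0, 10, 0, 0], ![0, 8, 0, 0, 0], ![3, 0, 0, 0, 0]], ![![0, 0, 0, 0, 3], ![0, 0, 6, 0, 0], ![4, 0, 0, 0, 0], ![0, 0, 0, 6, 0], ![0, 3, 0, 0, 0]], ![![0, 0, 0, 0, 8], ![0, 7, 0, 0, 0], ![0, 0, 0, 2, 0], ![10, 0, 0, 0, 0], ![0, 0, 6, 0, 0]], ![![0, 0, 0, 0, 10], ![4, 0, 0, 0, 0], ![0, 2, 0, 0, 0], ![0, 0, 2, 0, 0], ![0, 0, 0, 4, 0]]]]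
/-- entry `(1,0)` -/
def tC : Fin 5 → Fin 5 → Fin 5 → Fin 5 → ZMod 11 :=
  ![![![![0, 0, 0, 0, 0], ![0, 0, 0, 0, 0], ![0, 0, 0, 0, 0], ![0, 0, 0, 0, 0], ![0, 0, 0, 0, 0]], ![![0, 0, 0, 0, 0], ![0, 0, 0, 0, 0], ![0, 0, 0, 0, 0], ![0, 0, 0, 0, 0], ![8, 5, 7, 5, 8]], ![![0, 0, 0, 0, 0], ![0, 0, 0, 0, 0], ![3, 2, 0, 9, 8], ![0, 0, 0, 0, 0], ![0, 0, 0, 0, 0]], ![![0, 0, 0, 0, 0], ![0, 0, 0, 0, 0], ![0, 0, 0, 0, 0], ![8, 3, 2, 0, 9], ![0, 0, 0, 0, 0]], ![![0, 0, 0, 0, 0], ![3, 3, 6, 4, 6], ![0, 0, 0, 0, 0], ![0, 0, 0, 0, 0], ![0, 0, 0, 0, 0]]], ![![![0, 0, 0, 0, 0], ![0, 2, 0, 0, 0], ![0, 6, 0, 0, 0], ![0, 5, 0, 0, 0], ![0, 9, 0, 0, 0]], ![![0, 10, 0, 0, 0], ![0, 0, 0, 0, 0], ![0, 0, 0, 1, 0], ![0, 0, 0, 0, 3], ![8, 0, 0, 0, 0]], ![![0, 8, 0, 0, 0], ![0, 0, 0, 9, 0],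 ![8, 0, 0, 0, 0], ![0, 0, 4, 0, 0], ![0, 0, 0, 0, 4]], ![![0, 3, 0, 0, 0], ![0, 0, 0, 0, 5], ![0, 0, 1, 0, 0], ![9, 0, 0, 0, 0], ![0, 0, 0, 4, 0]], ![![0, 1, 0, 0, 0], ![6, 0, 0, 0, 0], ![0, 0, 0, 0, 6], ![0, 0, 0, 1, 0], ![0, 0, 8, 0, 0]]], ![![![0, 0, 0, 9, 0], ![0, 0, 0, 1, 0], ![0, 0, 0, 9, 0], ![0, 0, 0, 7, 0], ![0, 0, 0, 7, 0]], ![![0, 0, 0, 9, 0], ![0, 3, 0, 0, 0], ![0, 0, 0, 0, 1], ![0, 0, 4, 0, 0], ![5, 0, 0, 0, 0]], ![![0, 0, 0, 10, 0], ![0, 0, 0, 0, 9], ![9, 0, 0, 0, 0], ![0, 10, 0, 0, 0], ![0, 0, 6, 0, 0]], ![![0, 0, 0, 6, 0], ![0, 0, 5, 0, 0], ![0, 7, 0, 0, 0], ![0, 0, 0, 0, 0], ![0, 0, 0, 0, 4]], ![![0, 0, 0, 10, 0], ![4, 0, 0, 0, 0], ![0, 0, 7, 0, 0], ![0, 0, 0, 0, 1], ![0, 0, 0, 0, 0]]], ![![![0, 0, 2, 0, 0], ![0, 0, 4, 0, 0], ![0, 0, 4, 0, 0], ![0,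 0, 2, 0, 0], ![0, 0, 10, 0, 0]], ![![0, 0, 1, 0, 0], ![0, 0, 0, 0, 0], ![0, 10, 0, 0, 0], ![0, 0, 0, 4, 0], ![7, 0, 0, 0, 0]], ![![0, 0, 5, 0, 0], ![0, 7, 0, 0, 0], ![0, 0, 0, 0, 0], ![0, 0, 0, 0, 4], ![0, 0, 0, 6, 0]], ![![0, 0, 1, 0, 0], ![0, 0, 0, 5, 0], ![0, 0, 0, 0, 1], ![2, 0, 0, 0, 0], ![0, 2, 0, 0, 0]], ![![0, 0, 2, 0, 0], ![6, 0, 0, 0, 0], ![0, 0, 0, 7, 0], ![0, 10, 0, 0, 0], ![0, 0, 0, 0, 8]]], ![![![0, 0, 0, 0, 0], ![0, 0, 0, 0, 2], ![0, 0, 0, 0, 6], ![0, 0, 0, 0, 5], ![0, 0, 0, 0, 9]], ![![0, 0, 0, 0, 10], ![0, 0, 0, 3, 0], ![0, 0, 10, 0, 0], ![0, 5, 0, 0, 0], ![5, 0, 0, 0, 0]], ![![0, 0, 0, 0, 8], ![0, 0, 7, 0, 0], ![2, 0, 0, 0, 0], ![0, 0, 0, 10, 0], ![0, 6, 0, 0, 0]], ![![0, 0, 0, 0, 3], ![0, 7, 0, 0, 0], ![0, 0, 0, 7, 0], ![3, 0, 0, 0, 0], ![0, 0,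 2, 0, 0]], ![![0, 0, 0, 0, 1], ![3, 0, 0, 0, 0], ![0, 8, 0, 0, 0], ![0, 0, 10, 0, 0], ![0, 0, 0, 0, 0]]]]
/-- entry `(1,1)` -/
def tD : Fin 5 → Fin 5 → Fin 5 → Fin 5 → ZMod 11 :=
  ![![![![0, 0, 0, 0, 0], ![0, 0, 0, 0, 0], ![0, 0, 0, 0, 0], ![0, 0, 0, 0, 0], ![0, 0, 0, 0, 0]], ![![0, 0, 0, 0, 0], ![0, 0, 0, 0, 0], ![0, 0, 0, 0, 0], ![0, 0, 0, 0, 0], ![3, 3, 6, 4, 6]], ![![0, 0, 0, 0, 0], ![0, 0, 0, 0, 0], ![0, 2, 3, 8, 9], ![0, 0, 0, 0, 0], ![0, 0, 0, 0, 0]], ![![0, 0, 0, 0, 0], ![0, 0, 0, 0, 0], ![0, 0, 0, 0, 0], ![0, 2, 3, 8, 9], ![0, 0, 0, 0, 0]], ![![0, 0, 0, 0, 0], ![8, 5, 7, 5, 8], ![0, 0, 0, 0, 0], ![0, 0, 0, 0, 0], ![0, 0, 0, 0, 0]]], ![![![0, 1, 0, 0, 0], ![0, 0, 0, 0, 0], ![0, 10, 0, 0, 0], ![0, 8, 0, 0, 0], ![0, 3, 0, 0, 0]], ![![0, 3, 0, 0, 0], ![0,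 0, 2, 0, 0], ![0, 0, 0, 3, 0], ![0, 0, 0, 0, 7], ![7, 0, 0, 0, 0]], ![![0, 8, 0, 0, 0], ![0, 0, 0, 6, 0], ![10, 0, 0, 0, 0], ![0, 0, 2, 0, 0], ![0, 0, 0, 0, 7]], ![![0, 10, 0, 0, 0], ![0, 0, 0, 0, 5], ![0, 0, 5, 0, 0], ![10, 0, 0, 0, 0], ![0, 0, 0, 3, 0]], ![![0, 0, 0, 0, 0], ![9, 0, 0, 0, 0], ![0, 0, 0, 0, 5], ![0, 0, 0, 6, 0], ![0, 0, 2, 0, 0]]], ![![![0, 0, 0, 1, 0], ![0, 0, 0, 2, 0], ![0, 0, 0, 2, 0], ![0, 0, 0, 1, 0], ![0, 0, 0, 5, 0]], ![![0, 0, 0, 5, 0], ![0, 6, 0, 0, 0], ![0, 0, 0, 0, 4], ![0, 0, 0, 0, 0], ![7, 0, 0, 0, 0]], ![![0, 0, 0, 1, 0], ![0, 0, 0, 0, 7], ![4, 0, 0, 0, 0], ![0, 10, 0, 0, 0], ![0, 0, 0, 0, 0]], ![![0, 0, 0, 2, 0], ![0, 0, 10, 0, 0], ![0, 2, 0, 0, 0], ![4, 0, 0, 0, 0], ![0, 0, 0, 0, 4]], ![![0, 0, 0, 2, 0], ![8, 0, 0, 0, 0], ![0, 0,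 10, 0, 0], ![0, 0, 0, 0, 7], ![0, 6, 0, 0, 0]]], ![![![0, 0, 10, 0, 0], ![0, 0, 6, 0, 0], ![0, 0, 10, 0, 0], ![0, 0, 9, 0, 0], ![0, 0, 9, 0, 0]], ![![0, 0, 9, 0, 0], ![0, 0, 0, 0, 5], ![0, 4, 0, 0, 0], ![0, 0, 0, 1, 0], ![3, 0, 0, 0, 0]], ![![0, 0, 9, 0, 0], ![0, 7, 0, 0, 0], ![7, 0, 0, 0, 0], ![0, 0, 0, 0, 9], ![0, 0, 0, 1, 0]], ![![0, 0, 10, 0, 0], ![0, 0, 0, 0, 0], ![0, 0, 0, 0, 1], ![7, 0, 0, 0, 0], ![0, 4, 0, 0, 0]], ![![0, 0, 6, 0, 0], ![4, 0, 0, 0, 0], ![0, 0, 0, 0, 0], ![0, 7, 0, 0, 0], ![0, 0, 0, 0, 5]]], ![![![0, 0, 0, 0, 10], ![0, 0, 0, 0, 8], ![0, 0, 0, 0, 3], ![0, 0, 0, 0, 1], ![0, 0, 0, 0, 0]], ![![0, 0, 0, 0, 0], ![0, 0, 0, 9, 0], ![0, 0, 5, 0, 0], ![0, 6, 0, 0, 0], ![2, 0, 0, 0, 0]], ![![0, 0, 0, 0, 1], ![0, 0, 8, 0, 0], ![1, 0, 0, 0, 0], ![0, 0,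 0, 6, 0], ![0, 6, 0, 0, 0]], ![![0, 0, 0, 0, 3], ![0, 4, 0, 0, 0], ![0, 0, 0, 9, 0], ![1, 0, 0, 0, 0], ![0, 0, 5, 0, 0]], ![![0, 0, 0, 0, 8], ![4, 0, 0, 0, 0], ![0, 4, 0, 0, 0], ![0, 0, 8, 0, 0], ![0, 0, 0, 9, 0]]]]

/-- entry `(0,0)` of the image -/
def imgA (a b c d : ZMod 5) : ZMod 11 := tA a b c d
/-- entry `(0,1)` of the image -/
def imgB (a b c d : ZMod 5) : ZMod 11 := tB a b c d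
/-- entry `(1,0)` of the image -/
def imgC (a b c d : ZMod 5) : ZMod 11 := tC a b c d
/-- entry `(1,1)` of the image -/
def imgD (a b c d : ZMod 5) : ZMod 11 := tD a b c d

theorem img_mul : ∀ a b c d : ZMod 5, a * d - b * c = 1 → ∀ a' b' c' d' : ZMod 5, a' * d' - b' * c' = 1 →
    (imgA (a * a' + b * c') (a * b' + b * d') (c * a' + d * c') (c * b' + d * d')
      = imgA a b c d * imgA a' b' c' d' + imgB a b c d * imgC a' b' c' d' ∧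
    imgB (a * a' + b * c') (a * b' + b * d') (c * a' + d * c') (c * b' + d * d')
      = imgA a b c d * imgB a' b' c' d' + imgB a b c d * imgD a' b' c' d' ∧
    imgC (a * a' + b * c') (a * b' + b * d') (c * a' + d * c') (c * b' + d * d')
      = imgC a b c d * imgA a' b' c' d' + imgD a b c d * imgC a' b' c' d' ∧
    imgD (a * a' + b * c') (a * b' + b * d') (c * a' + d * c') (c * b' + d * d')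
      = imgC a b c d * imgB a' b' c' d' + imgD a b c d * imgD a' b' c' d') := by
  decide +kernel

theorem img_fpf : ∀ a b c d : ZMod 5, a * d - b * c = 1 → ¬ (a = 1 ∧ b = 0 ∧ c = 0 ∧ d = 1) →
    (imgA a b c d - 1) * (imgD a b c d - 1) - imgB a b c d * imgC a b c d ≠ 0 := by
  decide +kernel

theorem img_one : imgA 1 0 0 1 = 1 ∧ imgB 1 0 0 1 = 0 ∧ imgC 1 0 0 1 = 0 ∧ imgD 1 0 0 1 = 1 := by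
  decide +kernel

/-- the action of `SL(2,5)` on the plane over `ZMod 11` -/
def sact (M : Matrix.SpecialLinearGroup (Fin 2) (ZMod 5)) (v : ZMod 11 × ZMod 11) :
    ZMod 11 × ZMod 11 :=
  (imgA (M 0 0) (M 0 1) (M 1 0) (M 1 1) * v.1 + imgB (M 0 0) (M 0 1) (M 1 0) (M 1 1) * v.2,
   imgC (M 0 0) (M 0 1) (M 1 0) (M 1 1) * v.1 + imgD (M 0 0) (M 0 1) (M 1 0) (M 1 1) * v.2)

theorem det_cond (M : Matrix.SpecialLinearGroup (Fin 2) (ZMod 5)) :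
    M 0 0 * M 1 1 - M 0 1 * M 1 0 = 1 := by
  have := M.det_coe
  rwa [Matrix.det_fin_two] at this

theorem mul_entries (M N : Matrix.SpecialLinearGroup (Fin 2) (ZMod 5)) :
    (M * N) 0 0 = M 0 0 * N 0 0 + M 0 1 * N 1 0 ∧ (M * N) 0 1 = M 0 0 * N 0 1 + M 0 1 * N 1 1 ∧
    (M * N) 1 0 = M 1 0 * N 0 0 + M 1 1 * N 1 0 ∧ (M * N) 1 1 = M 1 0 * N 0 1 + M 1 1 * N 1 1 := by
  simp [Matrix.SpecialLinearGroup.coe_mul, Matrix.mul_apply, Fin.sum_univ_two]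

theorem one_entries : (1 : Matrix.SpecialLinearGroup (Fin 2) (ZMod 5)) 0 0 = 1 ∧
    (1 : Matrix.SpecialLinearGroup (Fin 2) (ZMod 5)) 0 1 = 0 ∧
    (1 : Matrix.SpecialLinearGroup (Fin 2) (ZMod 5)) 1 0 = 0 ∧
    (1 : Matrix.SpecialLinearGroup (Fin 2) (ZMod 5)) 1 1 = 1 := by
  simp [Matrix.SpecialLinearGroup.coe_one]

/-- SL(2,5) occurs as a Frobenius complement: there is a finite group L with a subgroup H isomorphic to SL(2,5) which is a non-trivial proper subgroup meeting each conjugate gHg⁻¹ with g outside H trivially. -/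
theorem result :
    ∃ (L : Type) (_ : Group L) (_ : Finite L) (H : Subgroup L),
      Cfsg.IsFrobeniusComplement H ∧ Nonempty (H ≃* Matrix.SpecialLinearGroup (Fin 2) (ZMod 5)) := by
  classical
  letI : DistribMulAction (Matrix.SpecialLinearGroup (Fin 2) (ZMod 5)) (ZMod 11 × ZMod 11) :=
    { smul := sact
      one_smul := by
        rintro ⟨v, w⟩
        change sact 1 (v, w) = (v, w)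
        obtain ⟨e1, e2, e3, e4⟩ := one_entries
        obtain ⟨h1, h2, h3, h4⟩ := img_one
        simp only [sact]
        rw [e1, e2, e3, e4, h1, h2, h3, h4]
        ext <;> simp
      mul_smul := by
        rintro M N ⟨v, w⟩
        change sact (M * N) (v, w) = sact M (sact N (v, w))
        obtain ⟨e1, e2, e3, e4⟩ := mul_entries M N
        obtain ⟨hA, hB, hC, hD⟩ := img_mul _ _ _ _ (det_cond M) _ _ _ _ (det_cond N)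
        simp only [sact]
        rw [e1, e2, e3, e4, hA, hB, hC, hD]
        ext
        · simp only; ring
        · simp only; ring
      smul_zero := by
        intro M
        change sact M (0, 0) = (0, 0)
        simp [sact]
      smul_add := by
        rintro M ⟨v, w⟩ ⟨v', w'⟩
        change sact M (v + v', w + w') = sact M (v, w) + sact M (v', w')
        simp only [sact, Prod.mk_add_mk]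
        ext
        · simp only; ring
        · simp only; ring }
  haveI : Fact (Nat.Prime 11) := ⟨by norm_num⟩
  haveI : Nontrivial (Matrix.SpecialLinearGroup (Fin 2) (ZMod 5)) := by
    refine ⟨⟨-1, 1, ?_⟩⟩
    intro h
    have h1 := congrArg (fun M : Matrix.SpecialLinearGroup (Fin 2) (ZMod 5) => M 0 0) h
    revert h1
    simp only [Matrix.SpecialLinearGroup.coe_neg, Matrix.SpecialLinearGroup.coe_one,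
      Matrix.neg_apply, Matrix.one_apply_eq]
    decide
  obtain ⟨L, hL, hLf, H, hH, ⟨e⟩, -⟩ :=
    H75.frobenius_of_fpf_distrib (V := ZMod 11 × ZMod 11)
      (H := Matrix.SpecialLinearGroup (Fin 2) (ZMod 5)) (by
      rintro M hne ⟨v, w⟩ hv
      change sact M (v, w) = (v, w) at hv
      simp only [sact, Prod.mk.injEq] at hv
      obtain ⟨hv1, hv2⟩ := hv
      have hM : ¬ (M 0 0 = 1 ∧ M 0 1 = 0 ∧ M 1 0 = 0 ∧ M 1 1 = 1) := by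
        rintro ⟨h1, h2, h3, h4⟩
        apply hne
        ext i j
        fin_cases i <;> fin_cases j <;> simp [h1, h2, h3, h4]
      have hdet := img_fpf _ _ _ _ (det_cond M) hM
      have h5 : ((imgA (M 0 0) (M 0 1) (M 1 0) (M 1 1) - 1) *
          (imgD (M 0 0) (M 0 1) (M 1 0) (M 1 1) - 1) -
          imgB (M 0 0) (M 0 1) (M 1 0) (M 1 1) * imgC (M 0 0) (M 0 1) (M 1 0) (M 1 1)) * v = 0 := by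
        linear_combination (imgD (M 0 0) (M 0 1) (M 1 0) (M 1 1) - 1) * hv1
          - imgB (M 0 0) (M 0 1) (M 1 0) (M 1 1) * hv2
      have h6 : ((imgA (M 0 0) (M 0 1) (M 1 0) (M 1 1) - 1) *
          (imgD (M 0 0) (M 0 1) (M 1 0) (M 1 1) - 1) -
          imgB (M 0 0) (M 0 1) (M 1 0) (M 1 1) * imgC (M 0 0) (M 0 1) (M 1 0) (M 1 1)) * w = 0 := by
        linear_combination (imgA (M 0 0) (M 0 1) (M 1 0) (M 1 1) - 1) * hv2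
          - imgC (M 0 0) (M 0 1) (M 1 0) (M 1 1) * hv1
      have hv0 : v = 0 := (mul_eq_zero.mp h5).resolve_left hdet
      have hw0 : w = 0 := (mul_eq_zero.mp h6).resolve_left hdet
      rw [hv0, hw0]; rfl)
  exact ⟨L, hL, hLf, H, hH, ⟨e.symm⟩⟩

end Cfsg.Agent.S3374
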