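import Cfsg.Statements.S3390
import Cfsg.Agent.S3224
import Cfsg.Agent.H59.Fx2Defs
import Cfsg.Agent.H59.Fx2Frob
import Cfsg.Agent.H24.Fx2V4
import Cfsg.Agent.H79.Fx2Cfg
import Cfsg.Agent.H79.Fx2Idx
import Cfsg.Agent.H84.Fx2Transfer
import Cfsg.Agent.H87.Fx2Normal
import Cfsg.Agent.H87.Fx2Omega
import Cfsg.Agent.H59.Fx2Ord2

set_option autoImplicit false
open Cfsg

namespace Cfsg.Agent.S3390

open Cfsg.Agent.H59.Fx2 in
theorem main_of_pieces.{u, v} (hCfg : StCfg.{u, v}) (hNormal : StNormal.{u, v}) (hOrd2 : StOrd2.{u, v})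
    (hIdx : StIdx.{u, v}) (hOmega : StOmega.{u, v}) (hV4 : StV4.{u}) (hTransfer : StTransfer.{u, v})
    (hFrob : StFrob.{u, v})
    {G : Type u} [Group G] [Finite G] {Ω : Type v} [Fintype Ω] [MulAction G Ω] [FaithfulSMul G Ω] (htr : MulAction.IsPretransitive G Ω)
    (hfix : ∀ g : G, g ≠ 1 → Nat.card (MulAction.fixedBy Ω g) ≤ 2) (α : Ω) (S : Sylow 2 G) :
    (S : Subgroup G) ⊓ MulAction.stabilizer G α = ⊥ ∨
    (((∃ n : ℕ, Nonempty (↥(S : Subgroup G) ≃* DihedralGroup n)) ∨ Cfsg.IsQuasiDihedral ↥(S : Subgroup G)) ∧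
       (Nat.card ↥((S : Subgroup G) ⊓ MulAction.stabilizer G α) = 2 ∨ ((S : Subgroup G) ⊓ MulAction.stabilizer G α).relIndex (S : Subgroup G) = 2)) ∨
    (4 ≤ Nat.card (S : Subgroup G) ∧
       (∃ ω : Ω, Nat.card (MulAction.orbit ↥(S : Subgroup G) ω) = 2 ∧
          ∀ ω' : Ω, ω' ∉ MulAction.orbit ↥(S : Subgroup G) ω → Nat.card (MulAction.orbit ↥(S : Subgroup G) ω') = Nat.card (S : Subgroup G)) ∧
       ∃ N : Subgroup G, N.Normal ∧ (N.index = 2 ∨ N.index = Nat.card (S : Subgroup G)) ∧ (∃ H : Subgroup ↥N, Cfsg.IsFrobeniusComplement H)) ∨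
    (S : Subgroup G) ≤ MulAction.stabilizer G α := by
  by_cases h1 : (S : Subgroup G) ⊓ MulAction.stabilizer G α = ⊥
  · exact Or.inl h1
  by_cases h4 : (S : Subgroup G) ≤ MulAction.stabilizer G α
  · exact Or.inr (Or.inr (Or.inr h4))
  obtain ⟨β, cfg⟩ := hCfg hfix α (S : Subgroup G) S.isPGroup' h1 h4
  have hcardT : 1 < Nat.card ↥((S : Subgroup G) ⊓ MulAction.stabilizer G α) :=
    (Subgroup.one_lt_card_iff_ne_bot _).mpr h1
  by_cases hI : Idx2 (S : Subgroup G) α β
  · obtain ⟨hrel, h4S, hST, horb, hreg⟩ := hIdx (S : Subgroup G) α β cfg hI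
    by_cases hF : Free (S : Subgroup G) α β
    · -- conclusion (3)
      obtain ⟨N, hNn, hN2, hNS⟩ := hTransfer S α β cfg hI hF
      obtain ⟨H, hH1, hH2, hH3⟩ := hFrob htr S α β cfg hI hF N hNn hN2 hNS
      exact Or.inr (Or.inr (Or.inl ⟨h4S, ⟨α, horb, hreg hF⟩, N, hNn, Or.inl hN2, H, hH1, hH2, hH3⟩))
    · -- conclusion (2), relIndex 2
      obtain ⟨y, hy2, hyα, hyC⟩ := hOmega (S : Subgroup G) α β cfg hI hF
      refine Or.inr (Or.inl ⟨?_, Or.inr hrel⟩)
      rcases Cfsg.Agent.S3224.result S.isPGroup' y hy2 hyC with h | h | h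
      · exact Or.inl h
      · exact Or.inr h
      · -- |S| = 4 : Klein four
        left
        refine ⟨2, ?_⟩
        obtain ⟨c, hcS, hc1, hcα, hcβ⟩ := cfg.exT
        have hT2 : Nat.card ↥((S : Subgroup G) ⊓ MulAction.stabilizer G α) = 2 := by omega
        have hc2 : c ^ 2 = 1 := by
          have := pow_card_eq_one' (G := ↥((S : Subgroup G) ⊓ MulAction.stabilizer G α))
            (x := ⟨c, hcS, hcα⟩)
          rw [hT2] at this
          exact congrArg Subtype.val this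
        have hy2' : y ^ 2 = 1 := by
          have := pow_orderOf_eq_one y
          rwa [hy2] at this
        have hy1 : y ≠ 1 := by
          intro h; rw [h, orderOf_one] at hy2; omega
        have hcy : (⟨c, hcS⟩ : ↥(S : Subgroup G)) ≠ y := by
          intro h
          have : (y : G) • α = α := by rw [← h]; exact hcα
          exact cfg.ne (hyα ▸ this)
        exact hV4 ↥(S : Subgroup G) h ⟨c, hcS⟩ y (fun h => hc1 (congrArg Subtype.val h)) hy1 hcy
          (Subtype.ext hc2) hy2'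
  · -- conclusion (2), |T| = 2
    have hT2 : Nat.card ↥((S : Subgroup G) ⊓ MulAction.stabilizer G α) = 2 := by
      by_contra hne
      exact hI (hNormal (S : Subgroup G) α β cfg (by omega))
    obtain ⟨x, hx2, hxC, hx4⟩ := hOrd2 (S : Subgroup G) α β cfg hT2
    refine Or.inr (Or.inl ⟨?_, Or.inl hT2⟩)
    rcases Cfsg.Agent.S3224.result S.isPGroup' x hx2 hxC with h | h | h
    · exact Or.inl h
    · exact Or.inr h
    · exact absurd (hx4 h) hI

/-- Let G be a finite group acting faithfully and transitively on a finite set Ω with fixity 2 (every non-identity element fixes at most two points, and some fixes exactly two). Let α ∈ Ω and S a Sylow 2-subgroup of G. Then one of the following holds: the stabilizer S_α of α in S is trivial; S is dihedral or semidihedral and either |S_α| = 2 or |S : S_α| = 2; |S| ≥ 4, S has exactly one orbit of size 2 on Ω, every other S-orbit is regular, and G has a normal subgroup of index 2 or of index |S|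 which is a Frobenius group; or S ≤ G_α. -/
theorem result {G : Type*} [Group G] [Finite G] {Ω : Type*} [Fintype Ω] [MulAction G Ω] [FaithfulSMul G Ω] (htr : MulAction.IsPretransitive G Ω)
    (hfix : ∀ g : G, g ≠ 1 → Nat.card (MulAction.fixedBy Ω g) ≤ 2) (hex : ∃ g : G, g ≠ 1 ∧ Nat.card (MulAction.fixedBy Ω g) = 2) (α : Ω) (S : Sylow 2 G) :
    (S : Subgroup G) ⊓ MulAction.stabilizer G α = ⊥ ∨
    (((∃ n : ℕ, Nonempty (↥(S : Subgroup G) ≃* DihedralGroup n)) ∨ Cfsg.IsQuasiDihedral ↥(S : Subgroup G)) ∧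
       (Nat.card ↥((S : Subgroup G) ⊓ MulAction.stabilizer G α) = 2 ∨ ((S : Subgroup G) ⊓ MulAction.stabilizer G α).relIndex (S : Subgroup G) = 2)) ∨
    (4 ≤ Nat.card (S : Subgroup G) ∧
       (∃ ω : Ω, Nat.card (MulAction.orbit ↥(S : Subgroup G) ω) = 2 ∧
          ∀ ω' : Ω, ω' ∉ MulAction.orbit ↥(S : Subgroup G) ω → Nat.card (MulAction.orbit ↥(S : Subgroup G) ω') = Nat.card (S : Subgroup G)) ∧
       ∃ N : Subgroup G, N.Normal ∧ (N.index = 2 ∨ N.index = Nat.card (S : Subgroup G)) ∧ (∃ H : Subgroup ↥N, Cfsg.IsFrobeniusComplement H)) ∨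
    (S : Subgroup G) ≤ MulAction.stabilizer G α :=
  main_of_pieces Cfsg.Agent.H79.Fx2.cfg Cfsg.Agent.H87.Fx2.normal Cfsg.Agent.H59.Fx2.ord2
    Cfsg.Agent.H79.Fx2.idx Cfsg.Agent.H87.Fx2.omega Cfsg.Agent.H24.Fx2.v4
    Cfsg.Agent.H84.Fx2.transfer Cfsg.Agent.H59.Fx2.frob htr hfix α S

end Cfsg.Agent.S3390
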