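import Cfsg.Statements.S3501
import Cfsg.Agent.H63.SocleDer
import Cfsg.Agent.H63.AffineLite2

set_option autoImplicit false
open Cfsg

namespace Cfsg.Agent.S3501

open MulAction Cfsg.Agent.H63

/-- For a finite primitive group that is not almost simple: a unique conjugacy class of derangements iff sharply 2-transitive. -/
theorem result {G : Type*} [Group G] [Finite G] {Ω : Type*} [Fintype Ω] [MulAction G Ω] [FaithfulSMul G Ω] (hΩ : 2 ≤ Fintype.card Ω) (hprim : MulAction.IsPreprimitive G Ω) (hnas : ¬ ∃ T : Subgroup G, T.Normal ∧ IsSimpleGroup T ∧ ¬ IsMulCommutative T ∧ Subgroup.centralizer (T : Set G) = ⊥) :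
    Nat.card {c : ConjClasses G // ∃ g : G, ConjClasses.mk g = c ∧ ∀ ω : Ω, g • ω ≠ ω} = 1 ↔ (MulAction.IsMultiplyPretransitive G Ω 2 ∧ ∀ g : G, g ≠ 1 → ∀ a b : Ω, a ≠ b → g • a = a → g • b ≠ b) := by
  classical
  constructor
  · intro hκ
    obtain ⟨c₁, hc₁⟩ := Nat.card_eq_one_iff_exists.mp hκ
    obtain ⟨d₁, hd₁c, hd₁⟩ := c₁.2
    have hall : ∀ x : G, (∀ ω : Ω, x • ω ≠ ω) → IsConj x d₁ := by
      intro x hx
      have h := hc₁ ⟨ConjClasses.mk x, x, rfl, hx⟩
      have := congrArg Subtype.val h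
      rw [← hd₁c] at this
      exact ConjClasses.mk_eq_mk_iff_isConj.mp this
    have hGnt : (⊤ : Subgroup G) ≠ ⊥ := by
      intro h
      have hsub : ∀ g : G, g = 1 := fun g => by
        have : g ∈ (⊤ : Subgroup G) := Subgroup.mem_top g
        rw [h] at this; exact Subgroup.mem_bot.mp this
      have : Subsingleton Ω := ⟨fun a b => by
        obtain ⟨g, hg⟩ := exists_smul_eq G a b
        rw [hsub g, one_smul] at hg; exact hg⟩
      have := Fintype.card_le_one_iff_subsingleton.mpr this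
      omega
    obtain ⟨N, hN1, -, hNnz, hNmin'⟩ := exists_isMinNormalIn (⊤ : Subgroup G) hGnt
    have hNn : N.Normal := normal_of_nzes_top hNnz
    have hNmin : ∀ M : Subgroup G, M.Normal → M ≤ N → M = ⊥ ∨ M = N :=
      fun M hM hMN => hNmin' M hMN (@Nzes.of_normal _ _ ⊤ M hM)
    have hNt : IsPretransitive N Ω := normal_pretransitive N hN1
    by_cases hab : ∀ x ∈ N, ∀ y ∈ N, x * y = y * x
    · have hcent : Subgroup.centralizer (N : Set G) ≠ ⊥ := by
        intro h
        apply hN1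
        rw [eq_bot_iff, ← h]
        intro x hx
        rw [Subgroup.mem_centralizer_iff]
        intro y hy
        exact hab y hy x hx
      have hreg : ∀ ω : Ω, stabilizer N ω = ⊥ :=
        fun ω => stabilizer_eq_bot_of_centralizer_ne_bot N hcent ω
      have hderN : ∀ x ∈ N, x ≠ 1 → ∀ ω : Ω, x • ω ≠ ω :=
        fun x hx hx1 ω hω => hx1 (eq_one_of_smul_eq (hreg ω) hx hω)
      obtain ⟨m₀, hm₀N, hm₀1⟩ : ∃ m ∈ N, m ≠ 1 := by
        by_contra hcon
        push Not at hcon
        exact hN1 ((Subgroup.eq_bot_iff_forall N).mpr hcon)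
      have hconjN : ∀ x y : G, IsConj x y → x ∈ N → y ∈ N := by
        intro x y hc hx
        rw [isConj_iff] at hc
        obtain ⟨c, rfl⟩ := hc
        exact hNn.conj_mem x hx c
      have hd₁N : d₁ ∈ N := hconjN _ _ (hall m₀ (hderN m₀ hm₀N hm₀1)) hm₀N
      have hallN : ∀ x : G, (∀ ω : Ω, x • ω ≠ ω) → x ∈ N :=
        fun x hx => hconjN _ _ (hall x hx).symm hd₁N
      refine ⟨?_, sharp_of_derangements_mem N hreg hallN⟩
      apply two_pretransitive_of_conj N hab
      intro x hx y hy hx1 hy1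
      exact (hall x (hderN x hx hx1)).trans (hall y (hderN y hy hy1)).symm
    · exfalso
      obtain ⟨x₁, x₂, x₃, h₁, h₂, h₃, h12, h13, h23⟩ :=
        three_derangement_classes_of_nonabelian (Ω := Ω) hnas N hN1 hNmin hab
      exact h12 ((hall x₁ h₁).trans (hall x₂ h₂).symm)
  · rintro ⟨h2t, hsharp⟩
    have hΩ' : 2 ≤ Nat.card Ω := by rw [Nat.card_eq_fintype_card]; exact hΩ
    obtain ⟨d, hd, hconj⟩ := exists_derangement_conj_of_sharp hΩ' h2t hsharp
    rw [Nat.card_eq_one_iff_unique]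
    refine ⟨⟨?_⟩, ⟨⟨ConjClasses.mk d, d, rfl, hd⟩⟩⟩
    rintro ⟨c, g, hgc, hg⟩ ⟨c', g', hgc', hg'⟩
    apply Subtype.ext
    show c = c'
    rw [← hgc, ← hgc']
    exact ConjClasses.mk_eq_mk_iff_isConj.mpr ((hconj g hg).trans (hconj g' hg').symm)

end Cfsg.Agent.S3501
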