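import Cfsg.Statements.S3520
import Cfsg.Agent.H63.SocleDer
import Cfsg.Agent.H63.AffineLite

set_option autoImplicit false
open Cfsg

namespace Cfsg.Agent.S3520

open MulAction Cfsg.Agent.H63

/-- The affine case: a regular abelian normal subgroup, exactly two classes of derangements,
one of them inside `N`. -/
theorem affine_case {G : Type*} [Group G] [Finite G] {Ω : Type*} [Fintype Ω] [MulAction G Ω]
    (hΩ : 2 ≤ Fintype.card Ω)
    (N : Subgroup G) (hNn : N.Normal) (hNt : IsPretransitive N Ω)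
    (hab : ∀ x ∈ N, ∀ y ∈ N, x * y = y * x) (hreg : ∀ ω : Ω, stabilizer N ω = ⊥)
    (d₁ d₂ : G) (hd₁ : ∀ ω : Ω, d₁ • ω ≠ ω) (hd₂ : ∀ ω : Ω, d₂ • ω ≠ ω) (hne : ¬ IsConj d₁ d₂)
    (hall : ∀ x : G, (∀ ω : Ω, x • ω ≠ ω) → IsConj x d₁ ∨ IsConj x d₂) (α : Ω)
    (hd₁N : d₁ ∈ N) :
    ((∀ g : G, g ≠ 1 → Nat.card (fixedBy Ω g) ≤ 1) ∧ ¬ 2 ∣ Fintype.card Ω ∧
        2 * Nat.card (stabilizer G α) = Fintype.card Ω - 1) ∨
    (IsMultiplyPretransitive G Ω 2 ∧ ∃ g : G, g ≠ 1 ∧ 2 ≤ Nat.card (fixedBy Ω g)) := by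
  classical
  have hderN : ∀ x ∈ N, x ≠ 1 → ∀ ω : Ω, x • ω ≠ ω :=
    fun x hx hx1 ω hω => hx1 (eq_one_of_smul_eq (hreg ω) hx hω)
  have hconjN : ∀ x y : G, IsConj x y → x ∈ N → y ∈ N := by
    intro x y hc hx
    rw [isConj_iff] at hc
    obtain ⟨c, rfl⟩ := hc
    exact hNn.conj_mem x hx c
  have hconjH : ∀ x ∈ N, ∀ y : G, IsConj x y → ∃ h ∈ stabilizer G α, h * x * h⁻¹ = y := by
    intro x hx y hc
    rw [isConj_iff] at hc
    obtain ⟨c, rfl⟩ := hc
    obtain ⟨u, hu, h, hh, rfl⟩ := exists_mul_stabilizer N α c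
    refine ⟨h, hh, ?_⟩
    have hk : h * x * h⁻¹ ∈ N := hNn.conj_mem x hx h
    have := hab u hu _ hk
    calc h * x * h⁻¹ = (h * x * h⁻¹) * u * u⁻¹ := by group
      _ = u * (h * x * h⁻¹) * u⁻¹ := by rw [← this]
      _ = u * h * x * (u * h)⁻¹ := by group
  have hGt : ∀ β : Ω, ∃ x : G, x • α = β := by
    intro β
    obtain ⟨x, hx⟩ := exists_smul_eq N α β
    exact ⟨x, hx⟩
  by_cases hd₂N : d₂ ∈ N
  · left
    have hallN : ∀ x : G, (∀ ω : Ω, x • ω ≠ ω) → x ∈ N := by
      intro x hx
      rcases hall x hx with h | h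
      · exact hconjN _ _ h.symm hd₁N
      · exact hconjN _ _ h.symm hd₂N
    have hfix : ∀ g : G, g ≠ 1 → Nat.card (fixedBy Ω g) ≤ 1 := by
      intro g hg1
      by_contra hcon
      push Not at hcon
      have hnt : Nontrivial (fixedBy Ω g) := Finite.one_lt_card_iff_nontrivial.mp hcon
      obtain ⟨⟨β, hβ⟩, ⟨γ, hγ⟩, hβγ⟩ := hnt
      have hβγ' : β ≠ γ := fun h => hβγ (Subtype.ext h)
      rw [mem_fixedBy] at hβ hγ
      obtain ⟨x, hx⟩ := hGt β
      have hhmem : x⁻¹ * g * x ∈ stabilizer G α := by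
        rw [mem_stabilizer_iff, mul_smul, mul_smul, hx, hβ, ← hx, inv_smul_smul]
      have hh1 : x⁻¹ * g * x ≠ 1 := by
        intro h
        apply hg1
        have := congrArg (fun z => x * z * x⁻¹) h
        simpa [mul_assoc] using this
      obtain ⟨w, hw⟩ := exists_smul_eq N α (x⁻¹ • γ)
      have hw' : (w : G) • α = x⁻¹ • γ := hw
      have hw1 : (w : G) ≠ 1 := by
        intro h
        rw [h, one_smul] at hw'
        apply hβγ'
        rw [← hx, hw', smul_inv_smul]
      have hfixw : (x⁻¹ * g * x) • (w : G) • α = (w : G) • α := by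
        rw [hw', mul_smul, mul_smul, smul_inv_smul, hγ]
      have hcomm := (smul_smul_eq_iff_comm N (hreg α) hhmem w.2).mp hfixw
      obtain ⟨m, hm, hmd⟩ := exists_derangement_of_commute N (hreg α) hhmem w.2 hw1 hcomm
      have h1 : m * (x⁻¹ * g * x) ∈ N := hallN _ hmd
      have h2 : x⁻¹ * g * x ∈ N := by
        have := N.mul_mem (N.inv_mem hm) h1
        simpa using this
      exact hh1 (eq_one_of_smul_eq (hreg α) h2 hhmem)
    have hcount : 2 * Nat.card (stabilizer G α) = Fintype.card Ω - 1 := by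
      have hdb : ∀ b : Bool, (cond b d₁ d₂) ∈ N := by
        intro b; cases b
        · exact hd₂N
        · exact hd₁N
      have hdbd : ∀ b : Bool, ∀ ω : Ω, (cond b d₁ d₂) • ω ≠ ω := by
        intro b; cases b
        · exact hd₂
        · exact hd₁
      let f : Bool × stabilizer G α → {ω : Ω // ω ≠ α} := fun p =>
        ⟨((p.2 : G) * (cond p.1 d₁ d₂) * (p.2 : G)⁻¹) • α, by
          intro h
          have hmem : (p.2 : G) * (cond p.1 d₁ d₂) * (p.2 : G)⁻¹ ∈ N :=
            hNn.conj_mem _ (hdb p.1) _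
          have h1 := eq_one_of_smul_eq (hreg α) hmem h
          have h2 : cond p.1 d₁ d₂ = 1 := by
            have := congrArg (fun z => (p.2 : G)⁻¹ * z * (p.2 : G)) h1
            simpa [mul_assoc] using this
          apply hdbd p.1 α
          rw [h2, one_smul]⟩
      have hf : Function.Bijective f := by
        constructor
        · rintro ⟨b, h⟩ ⟨b', h'⟩ heq
          have heq' : ((h : G) * (cond b d₁ d₂) * (h : G)⁻¹) • α =
              ((h' : G) * (cond b' d₁ d₂) * (h' : G)⁻¹) • α := congrArg Subtype.val heq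
          have hm1 : (h : G) * (cond b d₁ d₂) * (h : G)⁻¹ ∈ N := hNn.conj_mem _ (hdb b) _
          have hm2 : (h' : G) * (cond b' d₁ d₂) * (h' : G)⁻¹ ∈ N := hNn.conj_mem _ (hdb b') _
          have hfix0 : (((h' : G) * (cond b' d₁ d₂) * (h' : G)⁻¹)⁻¹ *
              ((h : G) * (cond b d₁ d₂) * (h : G)⁻¹)) • α = α := by
            rw [mul_smul, heq', inv_smul_smul]
          have h1 := eq_one_of_smul_eq (hreg α) (N.mul_mem (N.inv_mem hm2) hm1) hfix0
          have h2 : (h : G) * (cond b d₁ d₂) * (h : G)⁻¹ =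
              (h' : G) * (cond b' d₁ d₂) * (h' : G)⁻¹ := by
            have := congrArg (fun z => ((h' : G) * (cond b' d₁ d₂) * (h' : G)⁻¹) * z) h1
            simpa [mul_assoc] using this
          have hconj : IsConj (cond b d₁ d₂) (cond b' d₁ d₂) := by
            rw [isConj_iff]
            refine ⟨(h' : G)⁻¹ * h, ?_⟩
            have := congrArg (fun z => (h' : G)⁻¹ * z * (h' : G)) h2
            simp only [mul_assoc, inv_mul_cancel_left, inv_mul_cancel, mul_one] at this
            rw [← this]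
            group
          have hbb : b = b' := by
            cases b <;> cases b'
            · rfl
            · exact absurd hconj.symm hne
            · exact absurd hconj hne
            · rfl
          subst hbb
          have hk : (h' : G)⁻¹ * h ∈ stabilizer G α :=
            (stabilizer G α).mul_mem ((stabilizer G α).inv_mem h'.2) h.2
          have hcomm : ((h' : G)⁻¹ * h) * (cond b d₁ d₂) = (cond b d₁ d₂) * ((h' : G)⁻¹ * h) := by
            have := congrArg (fun z => (h' : G)⁻¹ * z * (h : G)) h2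
            simp only [mul_assoc, inv_mul_cancel_left, inv_mul_cancel, mul_one] at this
            rw [mul_assoc, this]
          have hfixd := (smul_smul_eq_iff_comm N (hreg α) hk (hdb b)).mpr hcomm
          have hk1 : (h' : G)⁻¹ * h = 1 := by
            by_contra hk1
            have h3 := hfix _ hk1
            have h4 := two_le_card_fixedBy (hdbd b α) hfixd hk
            omega
          have hhh : (h : G) = h' := by
            have := congrArg (fun z => (h' : G) * z) hk1
            simpa using this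
          have hhh' : h = h' := Subtype.ext hhh
          rw [hhh']
        · rintro ⟨ω, hω⟩
          obtain ⟨u, hu⟩ := exists_smul_eq N α ω
          have hu' : (u : G) • α = ω := hu
          have hu1 : (u : G) ≠ 1 := by
            intro h
            rw [h, one_smul] at hu'
            exact hω hu'.symm
          rcases hall _ (hderN u u.2 hu1) with hc | hc
          · obtain ⟨h, hh, he⟩ := hconjH d₁ hd₁N _ hc.symm
            refine ⟨(true, ⟨h, hh⟩), ?_⟩
            apply Subtype.ext
            show (h * d₁ * h⁻¹) • α = ω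
            rw [he, hu']
          · obtain ⟨h, hh, he⟩ := hconjH d₂ hd₂N _ hc.symm
            refine ⟨(false, ⟨h, hh⟩), ?_⟩
            apply Subtype.ext
            show (h * d₂ * h⁻¹) • α = ω
            rw [he, hu']
      have hcard := Nat.card_eq_of_bijective f hf
      rw [Nat.card_prod, Nat.card_eq_fintype_card (α := Bool), Fintype.card_bool] at hcard
      rw [hcard, Nat.card_eq_fintype_card, Fintype.card_subtype_compl, Fintype.card_subtype_eq]
    refine ⟨hfix, ?_, hcount⟩
    omega
  · right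
    have hN_all : ∀ x ∈ N, x ≠ 1 → IsConj x d₁ := by
      intro x hx hx1
      rcases hall x (hderN x hx hx1) with h | h
      · exact h
      · exact absurd (hconjN _ _ h hx) hd₂N
    have hHt : ∀ β γ : Ω, β ≠ α → γ ≠ α → ∃ h ∈ stabilizer G α, h • β = γ := by
      intro β γ hβ hγ
      obtain ⟨n₁, hn₁⟩ := exists_smul_eq N α β
      obtain ⟨n₂, hn₂⟩ := exists_smul_eq N α γ
      have hn₁' : (n₁ : G) • α = β := hn₁
      have hn₂' : (n₂ : G) • α = γ := hn₂
      have h1 : (n₁ : G) ≠ 1 := by
        intro h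
        rw [h, one_smul] at hn₁'
        exact hβ hn₁'.symm
      have h2 : (n₂ : G) ≠ 1 := by
        intro h
        rw [h, one_smul] at hn₂'
        exact hγ hn₂'.symm
      have hc : IsConj (n₁ : G) (n₂ : G) :=
        (hN_all _ n₁.2 h1).trans (hN_all _ n₂.2 h2).symm
      obtain ⟨h, hh, he⟩ := hconjH _ n₁.2 _ hc
      refine ⟨h, hh, ?_⟩
      have hα : h • α = α := hh
      rw [← hn₁', ← hn₂', ← he, mul_smul, mul_smul, inv_smul_eq_iff.mpr hα.symm]
    refine ⟨?_, ?_⟩
    · rw [is_two_pretransitive_iff]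
      intro a b c d hab' hcd
      obtain ⟨x, hx⟩ := hGt a
      obtain ⟨y, hy⟩ := hGt c
      have hb : x⁻¹ • b ≠ α := by
        intro h
        apply hab'
        rw [← hx, ← h, smul_inv_smul]
      have hd : y⁻¹ • d ≠ α := by
        intro h
        apply hcd
        rw [← hy, ← h, smul_inv_smul]
      obtain ⟨h, hh, hh'⟩ := hHt _ _ hb hd
      have hα : h • α = α := hh
      refine ⟨y * h * x⁻¹, ?_, ?_⟩
      · rw [mul_smul, mul_smul, ← hx, inv_smul_smul, hα, hy]
      · rw [mul_smul, mul_smul, hh', smul_inv_smul]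
    · obtain ⟨m, hm, h, hh, hd₂eq⟩ := exists_mul_stabilizer N α d₂
      have hα : h • α = α := hh
      have hh1 : h ≠ 1 := by
        intro h1
        apply hd₂N
        rw [hd₂eq, h1, mul_one]
        exact hm
      by_contra hcon
      push Not at hcon
      have hc : ∀ w ∈ N, h * w = w * h → w = 1 := by
        intro w hw hcomm
        by_contra hw1
        have hfixw := (smul_smul_eq_iff_comm N (hreg α) hh hw).mpr hcomm
        have h4 := two_le_card_fixedBy (hderN w hw hw1 α) hfixw hα
        have := hcon h hh1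
        omega
      obtain ⟨u, -, hu⟩ := exists_fixed_of_centralizer_trivial N (hreg α) hh hc hm
      rw [← hd₂eq] at hu
      exact hd₂ _ hu

/-- Let a finite group G act faithfully and primitively on a finite set Ω with at least two points, suppose G is not almost simple (no non-abelian simple normal subgroup with trivial centralizer), and suppose the derangements of G form exactly two conjugacy classes. Then either Ω has 3 points and G has order 3; or G has a non-trivial abelian normal subgroup N acting regularly, every non-identity element of G fixes at most one point (so, when n > 3, G is a Frobenius group with kernel N), the number n of points is odd and a point stabilizer has order (n − 1)/2; or G is 2-transitive with a non-trivial abelian regular normal subgroup and some non-identity element fixes at least two points (a non-Frobenius 2-transitive affine group). -/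
theorem result {G : Type*} [Group G] [Finite G] {Ω : Type*} [Fintype Ω] [MulAction G Ω] [FaithfulSMul G Ω] (hΩ : 2 ≤ Fintype.card Ω) (hprim : MulAction.IsPreprimitive G Ω) (hnas : ¬ ∃ T : Subgroup G, T.Normal ∧ IsSimpleGroup T ∧ ¬ IsMulCommutative T ∧ Subgroup.centralizer (T : Set G) = ⊥)
    (hκ : Nat.card {c : ConjClasses G // ∃ g : G, ConjClasses.mk g = c ∧ ∀ ω : Ω, g • ω ≠ ω} = 2) (α : Ω) :
    (Fintype.card Ω = 3 ∧ Nat.card G = 3) ∨
    ((∃ N : Subgroup G, N.Normal ∧ N ≠ ⊥ ∧ IsMulCommutative N ∧ ∀ ω : Ω, MulAction.stabilizer N ω = ⊥) ∧ (∀ g : G, g ≠ 1 → Nat.card (MulAction.fixedBy Ω g) ≤ 1) ∧ ¬ 2 ∣ Fintype.card Ω ∧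
        2 * Nat.card (MulAction.stabilizer G α) = Fintype.card Ω - 1) ∨
    ((∃ N : Subgroup G, N.Normal ∧ N ≠ ⊥ ∧ IsMulCommutative N ∧ ∀ ω : Ω, MulAction.stabilizer N ω = ⊥) ∧ MulAction.IsMultiplyPretransitive G Ω 2 ∧ ∃ g : G, g ≠ 1 ∧ 2 ≤ Nat.card (MulAction.fixedBy Ω g)) := by
  classical
  have hGnt : (⊤ : Subgroup G) ≠ ⊥ := by
    intro h
    have hsub : ∀ g : G, g = 1 := fun g => by
      have : g ∈ (⊤ : Subgroup G) := Subgroup.mem_top g
      rw [h] at this; exact Subgroup.mem_bot.mp this
    have : Subsingleton Ω := ⟨fun a b => by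
      obtain ⟨g, hg⟩ := exists_smul_eq G a b
      rw [hsub g, one_smul] at hg; exact hg⟩
    have := Fintype.card_le_one_iff_subsingleton.mpr this
    omega
  obtain ⟨N, hN1, -, hNnz, hNmin'⟩ := exists_isMinNormalIn (⊤ : Subgroup G) hGnt
  have hNn : N.Normal := normal_of_nzes_top hNnz
  have hNmin : ∀ M : Subgroup G, M.Normal → M ≤ N → M = ⊥ ∨ M = N :=
    fun M hM hMN => hNmin' M hMN (@Nzes.of_normal _ _ ⊤ M hM)
  have hNt : IsPretransitive N Ω := normal_pretransitive N hN1
  obtain ⟨c₁, c₂, hc12, huniv⟩ := Nat.card_eq_two_iff.mp hκ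
  obtain ⟨d₁, hd₁c, hd₁⟩ := c₁.2
  obtain ⟨d₂, hd₂c, hd₂⟩ := c₂.2
  have hne : ¬ IsConj d₁ d₂ := by
    intro h
    apply hc12
    apply Subtype.ext
    rw [← hd₁c, ← hd₂c]
    exact ConjClasses.mk_eq_mk_iff_isConj.mpr h
  have hall : ∀ x : G, (∀ ω : Ω, x • ω ≠ ω) → IsConj x d₁ ∨ IsConj x d₂ := by
    intro x hx
    have hmem : (⟨ConjClasses.mk x, x, rfl, hx⟩ :
        {c : ConjClasses G // ∃ g : G, ConjClasses.mk g = c ∧ ∀ ω : Ω, g • ω ≠ ω}) ∈
        ({c₁, c₂} : Set _) := by
      rw [huniv]; trivial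
    rcases hmem with h | h
    · left
      have := congrArg Subtype.val h
      rw [← hd₁c] at this
      exact ConjClasses.mk_eq_mk_iff_isConj.mp this
    · right
      have := congrArg Subtype.val h
      rw [← hd₂c] at this
      exact ConjClasses.mk_eq_mk_iff_isConj.mp this
  by_cases hab : ∀ x ∈ N, ∀ y ∈ N, x * y = y * x
  · have hcent : Subgroup.centralizer (N : Set G) ≠ ⊥ := by
      intro h
      apply hN1
      rw [eq_bot_iff, ← h]
      intro x hx
      rw [Subgroup.mem_centralizer_iff]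
      intro y hy
      exact hab y hy x hx
    have hreg : ∀ ω : Ω, stabilizer N ω = ⊥ :=
      fun ω => stabilizer_eq_bot_of_centralizer_ne_bot N hcent ω
    have hNex : ∃ N : Subgroup G, N.Normal ∧ N ≠ ⊥ ∧ IsMulCommutative N ∧
        ∀ ω : Ω, stabilizer N ω = ⊥ :=
      ⟨N, hNn, hN1, ⟨⟨fun a b => Subtype.ext (hab a a.2 b b.2)⟩⟩, hreg⟩
    obtain ⟨m₀, hm₀N, hm₀1⟩ : ∃ m ∈ N, m ≠ 1 := by
      by_contra hcon
      push Not at hcon
      exact hN1 ((Subgroup.eq_bot_iff_forall N).mpr hcon)
    have hm₀d : ∀ ω : Ω, m₀ • ω ≠ ω :=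
      fun ω hω => hm₀1 (eq_one_of_smul_eq (hreg ω) hm₀N hω)
    have hconjN : ∀ x y : G, IsConj x y → x ∈ N → y ∈ N := by
      intro x y hc hx
      rw [isConj_iff] at hc
      obtain ⟨c, rfl⟩ := hc
      exact hNn.conj_mem x hx c
    rcases hall m₀ hm₀d with hc | hc
    · have hd₁N : d₁ ∈ N := hconjN _ _ hc hm₀N
      rcases affine_case hΩ N hNn hNt hab hreg d₁ d₂ hd₁ hd₂ hne hall α hd₁N with h | h
      · right; left; exact ⟨hNex, h⟩
      · right; right; exact ⟨hNex, h⟩
    · have hd₂N : d₂ ∈ N := hconjN _ _ hc hm₀N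
      rcases affine_case hΩ N hNn hNt hab hreg d₂ d₁ hd₂ hd₁ (fun h => hne h.symm)
        (fun x hx => (hall x hx).symm) α hd₂N with h | h
      · right; left; exact ⟨hNex, h⟩
      · right; right; exact ⟨hNex, h⟩
  · exfalso
    obtain ⟨x₁, x₂, x₃, h₁, h₂, h₃, h12, h13, h23⟩ :=
      three_derangement_classes_of_nonabelian (Ω := Ω) hnas N hN1 hNmin hab
    rcases hall x₁ h₁ with a | a <;> rcases hall x₂ h₂ with b | b
    · exact h12 (a.trans b.symm)
    · rcases hall x₃ h₃ with c | c
      · exact h13 (a.trans c.symm)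
      · exact h23 (b.trans c.symm)
    · rcases hall x₃ h₃ with c | c
      · exact h23 (b.trans c.symm)
      · exact h13 (a.trans c.symm)
    · exact h12 (a.trans b.symm)

end Cfsg.Agent.S3520
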