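import Cfsg.Statements.S3554

set_option autoImplicit false
open Cfsg

namespace Cfsg.Agent.S3554

/-- Let G act faithfully and transitively on a finite set and suppose G has a non-trivial cyclic normal subgroup. Then some element of G of prime order fixes no point. -/
theorem result {G Ω : Type*} [Group G] [Finite G] [MulAction G Ω] [FaithfulSMul G Ω] [Finite Ω]
    (htrans : MulAction.IsPretransitive G Ω) (C : Subgroup G) (hC : C.Normal) (hC1 : C ≠ ⊥) (hcyc : IsCyclic ↥C) :
    ∃ g : G, (orderOf g).Prime ∧ ∀ ω : Ω, g • ω ≠ ω := by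
  classical
  -- an element of prime order in C
  have hcard : Nat.card C ≠ 1 := by
    intro h
    exact hC1 (Subgroup.card_eq_one.mp h)
  obtain ⟨p, hp, hpC⟩ := Nat.exists_prime_and_dvd hcard
  have : Fact p.Prime := ⟨hp⟩
  obtain ⟨c', hc'⟩ := exists_prime_orderOf_dvd_card' p hpC
  obtain ⟨γ, hγ⟩ := hcyc.exists_generator
  set c : G := (c' : G) with hc
  have hco : orderOf c = p := by rw [hc, Subgroup.orderOf_coe, hc']
  obtain ⟨i, hi⟩ := Subgroup.mem_zpowers_iff.mp (hγ c')
  have hci : c = (γ : G) ^ i := by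
    rw [hc, ← hi]; simp
  -- conjugates of c are powers of c
  have hconj : ∀ g : G, g * c * g⁻¹ ∈ Subgroup.zpowers c := by
    intro g
    obtain ⟨k, hk⟩ := Subgroup.mem_zpowers_iff.mp (hγ ⟨g * γ * g⁻¹, hC.conj_mem γ γ.2 g⟩)
    have hk' : (γ : G) ^ k = g * γ * g⁻¹ := by
      have := congrArg Subtype.val hk
      simpa using this
    rw [Subgroup.mem_zpowers_iff]
    refine ⟨k, ?_⟩
    rw [hci, ← conj_zpow, ← hk', ← zpow_mul, ← zpow_mul, mul_comm]
  refine ⟨c, by rw [hco]; exact hp, ?_⟩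
  intro ω₀ hω₀
  have hall : ∀ ω : Ω, c • ω = ω := by
    intro ω
    obtain ⟨g, rfl⟩ := MulAction.exists_smul_eq G ω₀ ω
    have h1 : g⁻¹ * c * g ∈ MulAction.stabilizer G ω₀ := by
      have := hconj g⁻¹
      rw [inv_inv] at this
      obtain ⟨k, hk⟩ := Subgroup.mem_zpowers_iff.mp this
      rw [← hk]
      exact Subgroup.zpow_mem _ (MulAction.mem_stabilizer_iff.mpr hω₀) _
    rw [MulAction.mem_stabilizer_iff] at h1
    calc c • g • ω₀ = g • (g⁻¹ * c * g) • ω₀ := by
          simp only [← mul_smul]; congr 1; group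
      _ = g • ω₀ := by rw [h1]
  have hc1 : c = 1 := by
    apply FaithfulSMul.eq_of_smul_eq_smul (α := Ω)
    intro ω
    rw [hall ω, one_smul]
  rw [hc1, orderOf_one] at hco
  exact hp.one_lt.ne hco

end Cfsg.Agent.S3554
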