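import Cfsg.Statements.S3555
import Cfsg.Agent.H63.Derange3
import Cfsg.Agent.H63.AffineLite

set_option autoImplicit false
open Cfsg

namespace Cfsg.Agent.S3555

open MulAction Cfsg.Agent.H63
open scoped Pointwise

theorem mem_conj_smul_stabilizer {G Ω : Type*} [Group G] [MulAction G Ω] (g x : G) (α : Ω) :
    x ∈ MulAut.conj g • stabilizer G α ↔ x • g • α = g • α := by
  rw [Subgroup.mem_pointwise_smul_iff_inv_smul_mem, mem_stabilizer_iff]
  have e : (MulAut.conj g)⁻¹ • x = g⁻¹ * x * g := by
    simp [MulAut.smul_def]
  rw [e, mul_smul, mul_smul, inv_smul_eq_iff]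

/-- Let G act faithfully and transitively on a finite set and suppose every element of G fixing no point is an involution. Then either G is an elementary abelian 2-group, or G is a Frobenius group whose Frobenius kernel is an elementary abelian 2-group: G has a Frobenius complement H, and the elements lying in no conjugate of H, together with the identity, pairwise commute and square to the identity. -/
theorem result {G Ω : Type*} [Group G] [Finite G] [MulAction G Ω] [FaithfulSMul G Ω] [Finite Ω]
    (htrans : MulAction.IsPretransitive G Ω) (hinv : ∀ g : G, (∀ ω : Ω, g • ω ≠ ω) → orderOf g = 2) :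
    (IsMulCommutative G ∧ ∀ g : G, g ^ 2 = 1) ∨
    (∃ H : Subgroup G, Cfsg.IsFrobeniusComplement H ∧
      (∀ x ∈ Cfsg.frobeniusKernel H, x ^ 2 = 1) ∧
      ∀ x ∈ Cfsg.frobeniusKernel H, ∀ y ∈ Cfsg.frobeniusKernel H, x * y = y * x) := by
  classical
  have hsq : ∀ g : G, (∀ ω : Ω, g • ω ≠ ω) → g * g = 1 := by
    intro g hg
    have := hinv g hg
    rw [← pow_two, ← this]
    exact pow_orderOf_eq_one g
  have hfix := card_fixedBy_le_one_of_derangements_sq (G := G) (Ω := Ω) hsq
  have hcomm_of_sq : ∀ a b : G, a * a = 1 → b * b = 1 → (a * b) * (a * b) = 1 → a * b = b * a := by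
    intro a b ha hb hab
    have ha' : a⁻¹ = a := inv_eq_of_mul_eq_one_right ha
    have hb' : b⁻¹ = b := inv_eq_of_mul_eq_one_right hb
    calc a * b = (a * b)⁻¹ := (inv_eq_of_mul_eq_one_right hab).symm
      _ = b⁻¹ * a⁻¹ := mul_inv_rev a b
      _ = b * a := by rw [ha', hb']
  by_cases hreg : ∀ ω : Ω, stabilizer G ω = ⊥
  · left
    have hg2 : ∀ g : G, g * g = 1 := by
      intro g
      by_cases hg : g = 1
      · rw [hg, one_mul]
      · apply hsq
        intro ω hω
        have : g ∈ stabilizer G ω := hω
        rw [hreg ω, Subgroup.mem_bot] at this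
        exact hg this
    exact ⟨⟨⟨fun a b => hcomm_of_sq a b (hg2 a) (hg2 b) (hg2 _)⟩⟩,
      fun g => by rw [pow_two]; exact hg2 g⟩
  · right
    push Not at hreg
    obtain ⟨α, hα⟩ := hreg
    have hder_iff : ∀ x : G, (∀ g : G, x ∉ MulAut.conj g • stabilizer G α) →
        ∀ ω : Ω, x • ω ≠ ω := by
      intro x hx ω hω
      obtain ⟨k, rfl⟩ := exists_smul_eq G α ω
      exact hx k ((mem_conj_smul_stabilizer k x α).mpr hω)
    refine ⟨stabilizer G α, ⟨hα, ?_, ?_⟩, ?_, ?_⟩
    · intro htop
      apply hα
      rw [Subgroup.eq_bot_iff_forall]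
      intro g _
      apply FaithfulSMul.eq_of_smul_eq_smul (α := Ω)
      intro ω
      obtain ⟨k, rfl⟩ := exists_smul_eq G α ω
      rw [one_smul]
      have hk : k ∈ stabilizer G α := by rw [htop]; trivial
      have hgk : g * k ∈ stabilizer G α := by rw [htop]; trivial
      rw [mem_stabilizer_iff] at hk hgk
      rw [← mul_smul, hgk, hk]
    · intro g hg
      rw [Subgroup.eq_bot_iff_forall]
      intro x hx
      obtain ⟨hx1, hx2⟩ := Subgroup.mem_inf.mp hx
      have hxg : x • g • α = g • α := (mem_conj_smul_stabilizer g x α).mp hx2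
      by_contra hx1'
      have h1 := hfix x hx1'
      have h2 := two_le_card_fixedBy (a := g • α) (b := α) hg hxg hx1
      omega
    · intro x hx
      rcases hx with rfl | hx
      · simp
      · rw [pow_two]
        exact hsq x (hder_iff x hx)
    · intro x hx y hy
      rcases hx with rfl | hx
      · simp
      rcases hy with rfl | hy
      · simp
      have hxd := hder_iff x hx
      have hyd := hder_iff y hy
      have hx2 := hsq x hxd
      have hy2 := hsq y hyd
      by_cases hd : ∀ ω : Ω, (x * y) • ω ≠ ω
      · exact hcomm_of_sq x y hx2 hy2 (hsq _ hd)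
      · by_cases hxy1 : x * y = 1
        · have : y = x := by
            have := hxy1.trans hx2.symm
            exact mul_left_cancel this
          rw [this]
        · exfalso
          push Not at hd
          obtain ⟨γ, hγ⟩ := hd
          have h1 : x • y • γ = γ := by rw [← mul_smul]; exact hγ
          have h2 : x • γ = y • γ := by
            have : x • x • y • γ = x • γ := by rw [h1]
            rw [← mul_smul, hx2, one_smul] at this
            exact this.symm
          have h3 : (x * y) • y • γ = y • γ := by
            rw [mul_smul, ← mul_smul y y, hy2, one_smul, h2]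
          have h4 := hfix _ hxy1
          have h5 := two_le_card_fixedBy (hyd γ) h3 hγ
          omega

end Cfsg.Agent.S3555
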