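import Cfsg.Statements.S3556
import Cfsg.Agent.H63.PrimLite

set_option autoImplicit false
open Cfsg

namespace Cfsg.Agent.S3556

open MulAction Cfsg.Agent.H63

/-- The regular case: a regular minimal normal subgroup all of whose nonidentity elements have
`p`-power order is elementary abelian. -/
theorem regular_case {G Ω : Type*} [Group G] [Finite G] [MulAction G Ω]
    (p : ℕ) (hp : p.Prime)
    (hder : ∀ g : G, (∀ ω : Ω, g • ω ≠ ω) → ∃ k : ℕ, orderOf g = p ^ k)
    (N : Subgroup G) (hNn : N.Normal) (hN1 : N ≠ ⊥)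
    (hNmin : ∀ M : Subgroup G, M.Normal → M ≤ N → M = ⊥ ∨ M = N)
    (hreg : ∀ a : Ω, stabilizer N a = ⊥) : Cfsg.IsElementaryAbelian p N := by
  classical
  have hpf : Fact p.Prime := ⟨hp⟩
  have hder' : ∀ x ∈ N, x ≠ 1 → ∃ k : ℕ, orderOf x = p ^ k := by
    intro x hx hx1
    apply hder
    intro ω hω
    have : (⟨x, hx⟩ : N) ∈ stabilizer N ω := hω
    rw [hreg ω, Subgroup.mem_bot] at this
    exact hx1 (congrArg Subtype.val this)
  have hpg : IsPGroup p N := by
    intro g
    by_cases hg : (g : G) = 1
    · exact ⟨0, by simpa using Subtype.ext hg⟩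
    · obtain ⟨k, hk⟩ := hder' g g.2 hg
      refine ⟨k, ?_⟩
      apply Subtype.ext
      rw [Subgroup.coe_pow, ← hk]
      exact pow_orderOf_eq_one _
  have hNnt : Nontrivial N := (Subgroup.nontrivial_iff_ne_bot N).mpr hN1
  have hcn := hpg.center_nontrivial
  obtain ⟨z, hz⟩ := exists_ne (1 : Subgroup.center N)
  -- Z(N) as a subgroup of G
  have hZn : (N ⊓ Subgroup.centralizer (N : Set G)).Normal := inferInstance
  have hZ1 : N ⊓ Subgroup.centralizer (N : Set G) ≠ ⊥ := by
    intro h
    apply hz
    have hmem : ((z : N) : G) ∈ N ⊓ Subgroup.centralizer (N : Set G) := by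
      refine Subgroup.mem_inf.mpr ⟨(z : N).2, ?_⟩
      rw [Subgroup.mem_centralizer_iff]
      intro n hn
      have := Subgroup.mem_center_iff.mp z.2 ⟨n, hn⟩
      exact congrArg Subtype.val this
    rw [h, Subgroup.mem_bot] at hmem
    exact Subtype.ext (Subtype.ext hmem)
  have hZN : N ⊓ Subgroup.centralizer (N : Set G) = N :=
    (hNmin _ hZn inf_le_left).resolve_left hZ1
  have hcomm : ∀ x ∈ N, ∀ y ∈ N, x * y = y * x := by
    intro x hx y hy
    have hy' : y ∈ N ⊓ Subgroup.centralizer (N : Set G) := by rw [hZN]; exact hy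
    exact Subgroup.mem_centralizer_iff.mp (Subgroup.mem_inf.mp hy').2 x hx
  -- the subgroup of elements of N killed by p
  let E : Subgroup G :=
    { carrier := {x | x ∈ N ∧ x ^ p = 1}
      one_mem' := ⟨N.one_mem, one_pow p⟩
      mul_mem' := by
        rintro x y ⟨hx, hxp⟩ ⟨hy, hyp⟩
        refine ⟨N.mul_mem hx hy, ?_⟩
        have hc : Commute x y := hcomm x hx y hy
        rw [hc.mul_pow, hxp, hyp, one_mul]
      inv_mem' := by
        rintro x ⟨hx, hxp⟩
        exact ⟨N.inv_mem hx, by rw [inv_pow, hxp, inv_one]⟩ }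
  have hEn : E.Normal := by
    constructor
    rintro x ⟨hx, hxp⟩ g
    refine ⟨hNn.conj_mem x hx g, ?_⟩
    rw [conj_pow, hxp]; simp
  have hEN : E ≤ N := fun x hx => hx.1
  have hE1 : E ≠ ⊥ := by
    have hcard : Nat.card N ≠ 1 := by
      intro h; exact hN1 (Subgroup.card_eq_one.mp h)
    obtain ⟨q, hq, hqN⟩ := Nat.exists_prime_and_dvd hcard
    have : Fact q.Prime := ⟨hq⟩
    obtain ⟨y, hy⟩ := exists_prime_orderOf_dvd_card' q hqN
    have hyo : orderOf (y : G) = q := by rw [Subgroup.orderOf_coe, hy]
    have hy1 : (y : G) ≠ 1 := by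
      intro h
      rw [h, orderOf_one] at hyo
      exact hq.one_lt.ne hyo
    obtain ⟨k, hk⟩ := hder' y y.2 hy1
    have hqp : q = p := by
      rw [hyo] at hk
      rcases Nat.eq_zero_or_pos k with h0 | h0
      · rw [h0, pow_zero] at hk; exact absurd hk hq.one_lt.ne'
      · have : p ∣ q := by rw [hk]; exact dvd_pow_self p h0.ne'
        exact ((Nat.prime_dvd_prime_iff_eq hp hq).mp this).symm
    intro hE
    have hyE : (y : G) ∈ E := ⟨y.2, by rw [← hqp, ← hyo]; exact pow_orderOf_eq_one _⟩
    rw [hE, Subgroup.mem_bot] at hyE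
    exact hy1 hyE
  have hEeq : E = N := (hNmin E hEn hEN).resolve_left hE1
  refine ⟨⟨⟨fun a b => Subtype.ext (hcomm a a.2 b b.2)⟩⟩, ?_⟩
  intro a ha
  have : a ∈ E := by rw [hEeq]; exact ha
  exact this.2

/-- Let G act faithfully and primitively on a finite set with at least two points, and suppose that for some fixed prime p every element of G fixing no point has order a power of p. Then G is of affine type (it has a regular normal subgroup that is an elementary abelian r-group for some prime r) or almost simple (it has a non-abelian simple normal subgroup with trivial centralizer). -/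
theorem result {G Ω : Type*} [Group G] [Finite G] [MulAction G Ω] [FaithfulSMul G Ω] [Finite Ω]
    (hprim : MulAction.IsPreprimitive G Ω) (hΩ : 2 ≤ Nat.card Ω) (p : ℕ) (hp : p.Prime)
    (hder : ∀ g : G, (∀ ω : Ω, g • ω ≠ ω) → ∃ k : ℕ, orderOf g = p ^ k) :
    (∃ (N : Subgroup G) (r : ℕ), r.Prime ∧ N.Normal ∧ Cfsg.IsElementaryAbelian r N ∧
      MulAction.IsPretransitive N Ω ∧ ∀ a : Ω, MulAction.stabilizer N a = ⊥) ∨
    (∃ T : Subgroup G, T.Normal ∧ IsSimpleGroup ↥T ∧ ¬ IsMulCommutative ↥T ∧
      Subgroup.centralizer (T : Set G) = ⊥) := by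
  classical
  have hpf : Fact p.Prime := ⟨hp⟩
  have hGnt : (⊤ : Subgroup G) ≠ ⊥ := by
    intro h
    have hsub : ∀ g : G, g = 1 := fun g => by
      have : g ∈ (⊤ : Subgroup G) := Subgroup.mem_top g
      rw [h] at this; exact Subgroup.mem_bot.mp this
    have : Subsingleton Ω := ⟨fun a b => by
      obtain ⟨g, hg⟩ := exists_smul_eq G a b
      rw [hsub g, one_smul] at hg; exact hg⟩
    have := Finite.card_le_one_iff_subsingleton.mpr this
    omega
  obtain ⟨N, hN1, -, hNnz, hNmin'⟩ := exists_isMinNormalIn (⊤ : Subgroup G) hGnt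
  have hNn : N.Normal := normal_of_nzes_top hNnz
  have hNmin : ∀ M : Subgroup G, M.Normal → M ≤ N → M = ⊥ ∨ M = N :=
    fun M hM hMN => hNmin' M hMN (@Nzes.of_normal _ _ ⊤ M hM)
  have hNt : IsPretransitive N Ω := normal_pretransitive N hN1
  by_cases hreg : ∀ a : Ω, stabilizer N a = ⊥
  · left
    exact ⟨N, p, hp, hNn, regular_case p hp hder N hNn hN1 hNmin hreg, hNt, hreg⟩
  · right
    push Not at hreg
    obtain ⟨α, hα⟩ := hreg
    have hcent : Subgroup.centralizer (N : Set G) = ⊥ := by
      by_contra h
      exact hα (stabilizer_eq_bot_of_centralizer_ne_bot N h α)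
    have hZ : ∀ x ∈ N, (∀ n ∈ N, n * x = x * n) → x = 1 := by
      intro x _ hx
      have : x ∈ Subgroup.centralizer (N : Set G) := Subgroup.mem_centralizer_iff.mpr hx
      rw [hcent] at this
      exact Subgroup.mem_bot.mp this
    obtain ⟨T, hT⟩ := exists_isMinNormalIn N hN1
    have hdec := hT.decomp hNmin
    have hTC := inf_centralizer_eq_bot hdec hZ hT.2.1
    by_cases hTN : T = N
    · refine ⟨N, hNn, ?_, ?_, hcent⟩
      · have hNnt : Nontrivial N := (Subgroup.nontrivial_iff_ne_bot N).mpr hN1
        refine ⟨fun K hK => ?_⟩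
        have hMle : K.map N.subtype ≤ T := by
          rw [hTN]; exact Subgroup.map_subtype_le K
        have hMn : Nzes N (K.map N.subtype) := by
          rintro n hn _ ⟨k, hk, rfl⟩
          exact ⟨⟨n, hn⟩ * k * ⟨n, hn⟩⁻¹, hK.conj_mem k hk ⟨n, hn⟩, rfl⟩
        rcases hT.2.2.2 _ hMle hMn with hb | ht
        · left
          exact (Subgroup.map_eq_bot_iff_of_injective K N.subtype_injective).mp hb
        · right
          rw [Subgroup.eq_top_iff']
          intro x
          have hx : (x : G) ∈ K.map N.subtype := by rw [ht, hTN]; exact x.2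
          obtain ⟨k, hk, hkx⟩ := hx
          have : k = x := Subtype.ext hkx
          rw [← this]; exact hk
      · intro hcomm
        apply hN1
        rw [Subgroup.eq_bot_iff_forall]
        intro x hx
        apply hZ x hx
        intro n hn
        have := isMulCommutative_iff.mp hcomm ⟨n, hn⟩ ⟨x, hx⟩
        exact congrArg Subtype.val this
    · exfalso
      set C := Subgroup.centralizer (T : Set G) ⊓ N with hC
      have hcommTC : ∀ t ∈ T, ∀ c ∈ C, t * c = c * t := fun t ht c hc =>
        Subgroup.mem_centralizer_iff.mp (Subgroup.mem_inf.mp hc).1 t ht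
      have hZT : ∀ x ∈ T, (∀ t ∈ T, t * x = x * t) → x = 1 := by
        intro x hx hxc
        have : x ∈ T ⊓ C :=
          Subgroup.mem_inf.mpr ⟨hx, Subgroup.mem_inf.mpr ⟨Subgroup.mem_centralizer_iff.mpr hxc, hT.2.1 hx⟩⟩
        rw [hTC] at this
        exact Subgroup.mem_bot.mp this
      obtain ⟨t₀, ht₀, r', hr', hr'p, ht₀o⟩ := exists_prime_order_ne T hT.1 hZT p
      -- a conjugate of T inside C
      have hexg : ∃ g : G, conjSub g T ≠ T := by
        by_contra hcon
        push Not at hcon
        have hTn : T.Normal := by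
          constructor
          intro t ht g
          have := conj_mem_conjSub (g := g) ht
          rwa [hcon g] at this
        rcases hNmin T hTn hT.2.1 with h | h
        · exact hT.1 h
        · exact hTN h
      obtain ⟨g, hg⟩ := hexg
      have hT'C : conjSub g T ≤ C := by
        intro x hx
        have hd : T ⊓ conjSub g T = ⊥ :=
          (hT.eq_or_disjoint (hT.conjSub g)).resolve_left (fun h => hg h.symm)
        refine Subgroup.mem_inf.mpr ⟨?_, conjSub_le_of_normal hT.2.1 g hx⟩
        rw [Subgroup.mem_centralizer_iff]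
        intro s hs
        exact commute_of_disjoint hT.2.1 (conjSub_le_of_normal hT.2.1 g) hT.2.2.1
          (hT.2.2.1.conjSub g) hd hs hx
      set s := g * t₀ * g⁻¹ with hs
      have hsC : s ∈ C := hT'C (conj_mem_conjSub ht₀)
      have hso : orderOf s = r' := by
        rw [← ht₀o]
        exact (MulAut.conj g).orderOf_eq t₀
      by_cases hP1 : ∃ t ∈ T, ∀ t' ∈ T, ∀ c ∈ C, (t' * t * t'⁻¹) * c ∉ stabilizer G α
      · obtain ⟨t, ht, hP⟩ := hP1
        have hd : ∀ ω : Ω, (t * s) • ω ≠ ω := by
          intro ω hω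
          obtain ⟨n, hn, hmem⟩ := exists_conj_mem_stabilizer N α hω
          obtain ⟨t', ht', c', hc', rfl⟩ := hdec n hn
          apply hP t'⁻¹ (T.inv_mem ht') (c'⁻¹ * s * c')
            (C.mul_mem (C.mul_mem (C.inv_mem hc') hsC) hc')
          have e1 : t' * c' = c' * t' := hcommTC t' ht' c' hc'
          have e2 : t * c' = c' * t := hcommTC t ht c' hc'
          have e3 : t' * s = s * t' := hcommTC t' ht' s hsC
          have e4 : t'⁻¹ * c'⁻¹ = c'⁻¹ * t'⁻¹ :=
            hcommTC t'⁻¹ (T.inv_mem ht') c'⁻¹ (C.inv_mem hc')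
          have key : (t' * c')⁻¹ * (t * s) * (t' * c') = t'⁻¹ * t * t'⁻¹⁻¹ * (c'⁻¹ * s * c') := by
            rw [mul_inv_rev, inv_inv]
            calc c'⁻¹ * t'⁻¹ * (t * s) * (t' * c')
                = c'⁻¹ * t'⁻¹ * t * (s * t') * c' := by group
              _ = c'⁻¹ * t'⁻¹ * t * (t' * s) * c' := by rw [e3]
              _ = (c'⁻¹ * t'⁻¹) * (t * t') * (s * c') := by group
              _ = (t'⁻¹ * c'⁻¹) * (t * t') * (s * c') := by rw [e4]
              _ = t'⁻¹ * (c'⁻¹ * (t * t')) * (s * c') := by group
              _ = t'⁻¹ * ((t * t') * c'⁻¹) * (s * c') := by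
                  rw [hcommTC (t * t') (T.mul_mem ht ht') c'⁻¹ (C.inv_mem hc')]
              _ = t'⁻¹ * t * t' * (c'⁻¹ * s * c') := by group
          rw [← key]
          exact hmem
        obtain ⟨k, hk⟩ := hder _ hd
        have hdvd : r' ∣ orderOf (t * s) := by
          rw [← hso]
          apply orderOf_dvd_of_pow_eq_one
          have hcomm : Commute t s := hcommTC t ht s hsC
          have h1 : (t * s) ^ orderOf (t * s) = 1 := pow_orderOf_eq_one _
          rw [hcomm.mul_pow] at h1
          have h2 : s ^ orderOf (t * s) = (t ^ orderOf (t * s))⁻¹ :=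
            eq_inv_of_mul_eq_one_right h1
          have h3 : s ^ orderOf (t * s) ∈ T ⊓ C :=
            Subgroup.mem_inf.mpr ⟨by rw [h2]; exact T.inv_mem (T.pow_mem ht _), C.pow_mem hsC _⟩
          rw [hTC] at h3
          exact Subgroup.mem_bot.mp h3
        rw [hk] at hdvd
        exact hr'p ((Nat.prime_dvd_prime_iff_eq hr' hp).mp (hr'.dvd_of_dvd_pow hdvd))
      · push Not at hP1
        let R : Subgroup G :=
          { carrier := {t | t ∈ T ∧ ∃ c ∈ C, t * c ∈ stabilizer G α}
            one_mem' := ⟨T.one_mem, 1, C.one_mem, by simp⟩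
            mul_mem' := by
              rintro x y ⟨hx, c, hc, hxc⟩ ⟨hy, d, hd, hyd⟩
              refine ⟨T.mul_mem hx hy, c * d, C.mul_mem hc hd, ?_⟩
              have e : x * y * (c * d) = (x * c) * (y * d) := by
                have := hcommTC y hy c hc
                calc x * y * (c * d) = x * (y * c) * d := by group
                  _ = x * (c * y) * d := by rw [this]
                  _ = (x * c) * (y * d) := by group
              rw [e]
              exact (stabilizer G α).mul_mem hxc hyd
            inv_mem' := by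
              rintro x ⟨hx, c, hc, hxc⟩
              refine ⟨T.inv_mem hx, c⁻¹, C.inv_mem hc, ?_⟩
              have e : x⁻¹ * c⁻¹ = (x * c)⁻¹ := by
                rw [mul_inv_rev]
                exact hcommTC x⁻¹ (T.inv_mem hx) c⁻¹ (C.inv_mem hc)
              rw [e]
              exact (stabilizer G α).inv_mem hxc }
        have hRT : R.subgroupOf T = ⊤ := by
          apply jordan_conj
          intro x
          obtain ⟨t', ht', c, hc, hmem⟩ := hP1 x x.2
          refine ⟨⟨t', ht'⟩, ?_⟩
          rw [Subgroup.mem_subgroupOf]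
          exact ⟨T.mul_mem (T.mul_mem ht' x.2) (T.inv_mem ht'), c, hc, hmem⟩
        have hTR : T ≤ R := Subgroup.subgroupOf_eq_top.mp hRT
        have hMn : Nzes N (T ⊓ stabilizer G α) := by
          intro n hn u hu
          obtain ⟨hu1, hu2⟩ := Subgroup.mem_inf.mp hu
          obtain ⟨t, ht, c, hc, rfl⟩ := hdec n hn
          obtain ⟨-, c₁, hc₁, hmem⟩ := hTR ht
          have e1 : t * c * u * (t * c)⁻¹ = t * u * t⁻¹ := by
            have := hcommTC u hu1 c hc
            calc t * c * u * (t * c)⁻¹ = t * (c * u) * c⁻¹ * t⁻¹ := by group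
              _ = t * (u * c) * c⁻¹ * t⁻¹ := by rw [this]
              _ = t * u * t⁻¹ := by group
          have e2 : (t * c₁) * u * (t * c₁)⁻¹ = t * u * t⁻¹ := by
            have := hcommTC u hu1 c₁ hc₁
            calc t * c₁ * u * (t * c₁)⁻¹ = t * (c₁ * u) * c₁⁻¹ * t⁻¹ := by group
              _ = t * (u * c₁) * c₁⁻¹ * t⁻¹ := by rw [this]
              _ = t * u * t⁻¹ := by group
          rw [e1]
          refine Subgroup.mem_inf.mpr ⟨T.mul_mem (T.mul_mem ht hu1) (T.inv_mem ht), ?_⟩
          rw [← e2]
          exact (stabilizer G α).mul_mem ((stabilizer G α).mul_mem hmem hu2)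
            ((stabilizer G α).inv_mem hmem)
        rcases hT.2.2.2 _ inf_le_left hMn with hbot | htop
        · have hd : ∀ ω : Ω, t₀ • ω ≠ ω := by
            intro ω hω
            obtain ⟨n, hn, hmem⟩ := exists_conj_mem_stabilizer N α hω
            have hmemT : n⁻¹ * t₀ * n ∈ T := by
              have := hT.2.2.1 n⁻¹ (N.inv_mem hn) t₀ ht₀
              simpa using this
            have hmem' : n⁻¹ * t₀ * n ∈ T ⊓ stabilizer G α := Subgroup.mem_inf.mpr ⟨hmemT, hmem⟩
            rw [hbot, Subgroup.mem_bot] at hmem'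
            have ht1 : t₀ = 1 := by
              have := congrArg (fun z => n * z * n⁻¹) hmem'
              simpa [mul_assoc] using this
            rw [ht1, orderOf_one] at ht₀o
            exact hr'.one_lt.ne ht₀o
          obtain ⟨k, hk⟩ := hder _ hd
          rw [ht₀o] at hk
          have hpr : p ∣ r' := by
            rcases Nat.eq_zero_or_pos k with h0 | h0
            · rw [h0, pow_zero] at hk; exact absurd hk hr'.one_lt.ne'
            · rw [hk]; exact dvd_pow_self p h0.ne'
          exact hr'p ((Nat.prime_dvd_prime_iff_eq hp hr').mp hpr).symm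
        · apply hT.1
          rw [Subgroup.eq_bot_iff_forall]
          intro t ht
          apply FaithfulSMul.eq_of_smul_eq_smul (α := Ω)
          intro ω
          rw [one_smul]
          obtain ⟨n, rfl⟩ := exists_smul_eq N α ω
          have h1 : (n : G)⁻¹ * t * n ∈ T := by
            have := hT.2.2.1 (n : G)⁻¹ (N.inv_mem n.2) t ht
            simpa using this
          have h2 : (n : G)⁻¹ * t * n ∈ stabilizer G α := by
            have : (n : G)⁻¹ * t * n ∈ T ⊓ stabilizer G α := by rw [htop]; exact h1
            exact (Subgroup.mem_inf.mp this).2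
          rw [mem_stabilizer_iff, mul_smul, mul_smul] at h2
          have h3 := congrArg (fun z => (n : G) • z) h2
          simp only [smul_inv_smul] at h3
          exact h3

end Cfsg.Agent.S3556
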