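import Cfsg.Statements.S3557
import Cfsg.Agent.H63.TwoClosed

set_option autoImplicit false
open Cfsg

namespace Cfsg.Agent.S3557

/-- Let G act faithfully and transitively on a finite set with 2p² points, p a prime, and suppose G is 2-closed: every permutation of the set which, on each ordered pair of points, agrees with some element of G, is itself induced by an element of G. Then some element of G of prime order fixes no point. -/
theorem result {G Ω : Type*} [Group G] [Finite G] [MulAction G Ω] [FaithfulSMul G Ω] [Finite Ω]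
    (htrans : MulAction.IsPretransitive G Ω) (p : ℕ) (hp : p.Prime) (hcard : Nat.card Ω = 2 * p ^ 2)
    (hcl : ∀ σ : Equiv.Perm Ω, (∀ a b : Ω, ∃ g : G, σ a = g • a ∧ σ b = g • b) → ∃ g : G, ∀ a : Ω, σ a = g • a) :
    ∃ g : G, (orderOf g).Prime ∧ ∀ ω : Ω, g • ω ≠ ω := by
  have : Fact p.Prime := ⟨hp⟩
  obtain ⟨P⟩ := (Sylow.nonempty : Nonempty (Sylow p G))
  have hPp : IsPGroup p (P : Subgroup G) := P.isPGroup'
  have hΩ : 1 < Nat.card Ω := by
    rw [hcard]
    have := hp.two_le
    nlinarith
  have hle : ∀ ω : Ω, (MulAction.orbit (P : Subgroup G) ω).ncard ≤ Nat.card Ω := by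
    intro ω
    rw [← Set.ncard_univ]
    exact Set.ncard_le_ncard (Set.subset_univ _)
  have horb : (∀ a b : Ω, ∃ g : (P : Subgroup G), g • a = b) ∨
      ((∀ ω : Ω, (MulAction.orbit (P : Subgroup G) ω).ncard = p ^ 2) ∧
        Nat.card Ω = 2 * p ^ 2) := by
    by_cases h2 : p = 2
    · left
      subst h2
      intro a b
      have h8 : 2 ^ 3 ∣ (MulAction.orbit (P : Subgroup G) a).ncard :=
        H63.TwoClosed.sylow_orbit_dvd 2 P a 3 (by rw [hcard]; norm_num)
      have hpos : 0 < (MulAction.orbit (P : Subgroup G) a).ncard :=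
        (Set.ncard_pos).mpr ⟨a, MulAction.mem_orbit_self a⟩
      have heq : MulAction.orbit (P : Subgroup G) a = Set.univ := by
        rw [Set.eq_univ_iff_ncard, hcard]
        have h1 := Nat.le_of_dvd hpos h8
        have h3 := hle a
        rw [hcard] at h3
        omega
      have hb : b ∈ MulAction.orbit (P : Subgroup G) a := heq ▸ Set.mem_univ b
      exact hb
    · right
      refine ⟨fun ω => ?_, hcard⟩
      have h1 : p ^ 2 ∣ (MulAction.orbit (P : Subgroup G) ω).ncard :=
        H63.TwoClosed.sylow_orbit_dvd p P ω 2 (by rw [hcard]; exact Dvd.intro_left 2 rfl)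
      obtain ⟨j, hj⟩ := hPp.index (MulAction.stabilizer (P : Subgroup G) ω)
      rw [MulAction.index_stabilizer] at hj
      have h3 := hle ω
      rw [hj] at h1 h3 ⊢
      have h2j : 2 ≤ j := (Nat.pow_dvd_pow_iff_le_right hp.one_lt).mp h1
      have hp3 : 3 ≤ p := by
        have := hp.two_le
        omega
      have hj3 : j < 3 := by
        by_contra hcon
        push Not at hcon
        have h4 : p ^ 3 ≤ p ^ j := Nat.pow_le_pow_right hp.pos hcon
        rw [hcard] at h3
        have h5 : 0 < p ^ 2 := pow_pos hp.pos 2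
        nlinarith
      have hj2 : j = 2 := by omega
      rw [hj2]
  obtain ⟨σ, hσ1, hσ2, hσ3⟩ := H63.TwoClosed.pgroup_two_orbits p hPp hΩ horb
  obtain ⟨g, hg⟩ := hcl σ (fun a b => by
    obtain ⟨g, h1, h2⟩ := hσ1 a b
    exact ⟨(g : G), h1, h2⟩)
  have hσg : σ = MulAction.toPerm g := Equiv.ext hg
  have hgp : g ^ p = 1 := by
    apply MulAction.toPerm_injective (β := Ω)
    have h1 : (MulAction.toPerm (g ^ p) : Equiv.Perm Ω) = (MulAction.toPerm g) ^ p :=
      map_pow (MulAction.toPermHom G Ω) g p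
    rw [h1, ← hσg]
    apply Equiv.ext
    intro a
    rw [hσ3 a]
    simp
  have hnt : Nontrivial Ω := Finite.one_lt_card_iff_nontrivial.mp hΩ
  obtain ⟨a⟩ := (inferInstance : Nonempty Ω)
  have hg1 : g ≠ 1 := by
    rintro rfl
    exact hσ2 a (by rw [hg a, one_smul])
  refine ⟨g, ?_, ?_⟩
  · rw [orderOf_eq_prime hgp hg1]; exact hp
  · intro ω
    rw [← hg ω]
    exact hσ2 ω

end Cfsg.Agent.S3557
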