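import Mathlib
import Cfsg.Agent.H65.CharSimple
import Cfsg.Agent.S0721
import Cfsg.Statements.S3680

set_option autoImplicit false
open Cfsg

namespace Cfsg.Agent.S3680
open Cfsg.Agent.H65

/-- concatenation isomorphism `T^m × T^n ≃* T^(m+n)` -/
def appendIso (T : Type*) [Group T] (m n : ℕ) : (Fin m → T) × (Fin n → T) ≃* (Fin (m + n) → T) where
  toFun p := Fin.append p.1 p.2
  invFun f := (fun i => f (Fin.castAdd n i), fun j => f (Fin.natAdd m j))
  left_inv p := by ext <;> simp
  right_inv f := by
    funext i
    refine Fin.addCases ?_ ?_ i <;> intro j <;> simp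
  map_mul' p q := by
    funext i
    refine Fin.addCases ?_ ?_ i <;> intro j <;> simp

section
variable {G Ω : Type*} [Group G] [MulAction G Ω] [FaithfulSMul G Ω]

lemma eq_one_of_fix (A : Subgroup G) (hA : MulAction.IsPretransitive A Ω) (b : G)
    (hb : ∀ a ∈ A, a * b = b * a) (ω : Ω) (hω : b • ω = ω) : b = 1 := by
  apply FaithfulSMul.eq_of_smul_eq_smul (α := Ω)
  intro ω'
  obtain ⟨a, ha⟩ := MulAction.exists_smul_eq A ω ω'
  rw [one_smul, ← ha]
  show b • ((a : G) • ω) = (a : G) • ω
  rw [← mul_smul, ← hb a a.2, mul_smul, hω]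

lemma transitive_of_normal (hprim : MulAction.IsPreprimitive G Ω) (M : Subgroup G)
    (hMn : M.Normal) (hM : M ≠ ⊥) : MulAction.IsPretransitive M Ω := by
  have := hprim
  have := hMn
  apply MulAction.IsQuasiPreprimitive.isPretransitive_of_normal (G := G)
  intro h
  apply hM
  rw [Subgroup.eq_bot_iff_forall]
  intro m hm
  apply FaithfulSMul.eq_of_smul_eq_smul (α := Ω)
  intro ω
  have : ω ∈ MulAction.fixedPoints M Ω := h ▸ Set.mem_univ ω
  rw [one_smul]; exact this ⟨m, hm⟩

omit [MulAction G Ω] [FaithfulSMul G Ω] in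
lemma disjoint_of_ne {M1 M2 : Subgroup G} (h1 : IsMinNormal M1) (h2 : IsMinNormal M2)
    (hne : M1 ≠ M2) : Disjoint M1 M2 := by
  rw [disjoint_iff]
  have := h1.1; have := h2.1
  rcases h1.2.2 (M1 ⊓ M2) inferInstance inf_le_left with h | h
  · exact h
  · rcases h2.2.2 (M1 ⊓ M2) inferInstance inf_le_right with h' | h'
    · exact h'
    · exact absurd (h.symm.trans h') hne

omit [MulAction G Ω] [FaithfulSMul G Ω] in
lemma commute_of_ne {M1 M2 : Subgroup G} (h1 : IsMinNormal M1) (h2 : IsMinNormal M2)
    (hne : M1 ≠ M2) : ∀ x ∈ M1, ∀ y ∈ M2, x * y = y * x := by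
  intro x hx y hy
  exact (Subgroup.commute_of_normal_of_disjoint _ _ h1.1 h2.1 (disjoint_of_ne h1 h2 hne)
    x y hx hy).eq

/-- if `V` centralizes the transitive `M`, `W` centralizes `M` and `V` is transitive then
`W ≤ V`. -/
lemma le_of_centralizing (M V : Subgroup G) (hMt : MulAction.IsPretransitive M Ω)
    (hVt : MulAction.IsPretransitive V Ω) (hVM : ∀ x ∈ V, ∀ y ∈ M, x * y = y * x)
    (ω0 : Ω) (w : G) (hw : ∀ y ∈ M, w * y = y * w) : w ∈ V := by
  obtain ⟨v, hv⟩ := MulAction.exists_smul_eq V ω0 (w • ω0)
  have h1 : (v : G)⁻¹ * w = 1 := by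
    apply eq_one_of_fix M hMt _ _ ω0
    · rw [mul_smul, ← hv]
      show (v : G)⁻¹ • ((v : G) • ω0) = ω0
      exact inv_smul_smul _ _
    · intro a ha
      rw [← mul_assoc, ← hVM _ (V.inv_mem v.2) a ha, mul_assoc, ← hw a ha, mul_assoc]
  have h2 : w = v := by
    have := congrArg (fun t => (v : G) * t) h1
    simpa using this
  rw [h2]; exact v.2

end

/-- The socle of a finite primitive permutation group. Let a finite group G act faithfully and primitively on a set Ω, and let N be the subgroup generated by the minimal normal subgroups of G. Then either N is an elementary abelian p-group for some prime p and acts regularly on Ω (transitively with trivial point stabilizers), or N is isomorphic to a direct product of m ≥ 1 copies of a non-abelian simple group. -/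
theorem result {G Ω : Type*} [Group G] [Finite G] [MulAction G Ω] [FaithfulSMul G Ω] [Finite Ω]
    (hprim : MulAction.IsPreprimitive G Ω) (N : Subgroup G)
    (hN : N = sSup {V : Subgroup G | V.Normal ∧ V ≠ ⊥ ∧ ∀ M : Subgroup G, M.Normal → M ≤ V → M = ⊥ ∨ M = V}) :
    (∃ p : ℕ, p.Prime ∧ IsMulCommutative N ∧ (∀ x : N, x ^ p = 1) ∧
      MulAction.IsPretransitive N Ω ∧ ∀ ω : Ω, MulAction.stabilizer N ω = ⊥) ∨
    (∃ (T : Type) (_ : Group T) (m : ℕ), 1 ≤ m ∧ IsSimpleGroup T ∧ ¬ IsMulCommutative T ∧ Nonempty (N ≃* (Fin m → T))) := by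
  classical
  set MN : Set (Subgroup G) := {V : Subgroup G | V.Normal ∧ V ≠ ⊥ ∧
    ∀ M : Subgroup G, M.Normal → M ≤ V → M = ⊥ ∨ M = V} with hMN
  have hMNmin : ∀ V ∈ MN, IsMinNormal V := fun V hV => hV
  have htrans : ∀ V ∈ MN, MulAction.IsPretransitive V Ω :=
    fun V hV => transitive_of_normal hprim V hV.1 hV.2.1
  by_cases hG : Nontrivial G
  swap
  · rw [not_nontrivial_iff_subsingleton] at hG
    left
    refine ⟨2, Nat.prime_two, ⟨⟨fun a b => Subsingleton.elim _ _⟩⟩,
      fun x => Subsingleton.elim _ _, ?_, fun ω => Subsingleton.elim _ _⟩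
    have := hprim.toIsPretransitive
    constructor
    intro x y
    obtain ⟨g, hg⟩ := MulAction.exists_smul_eq G x y
    refine ⟨1, ?_⟩
    rw [one_smul, ← hg, Subsingleton.elim g 1, one_smul]
  obtain ⟨M, hM⟩ := exists_isMinNormal (N := G)
  have hMmem : M ∈ MN := hM
  have hMt := htrans M hMmem
  have hMnormal : M.Normal := hM.1
  obtain ⟨ω0⟩ : Nonempty Ω := by
    by_contra hΩ
    rw [not_nonempty_iff] at hΩ
    apply hM.2.1
    rw [Subgroup.eq_bot_iff_forall]
    intro m _
    apply FaithfulSMul.eq_of_smul_eq_smul (α := Ω)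
    intro ω; exact hΩ.elim ω
  have hsemiM : ∀ b : G, (∀ a ∈ M, a * b = b * a) → ∀ ω : Ω, b • ω = ω → b = 1 :=
    fun b hb ω hω => eq_one_of_fix M hMt b hb ω hω
  by_cases hMc : ∀ x ∈ M, ∀ y ∈ M, x * y = y * x
  · -- Case A: M abelian
    left
    have huniq : ∀ V ∈ MN, V = M := by
      intro V hV
      by_contra hne
      have hcomm := commute_of_ne (hMNmin V hV) hM hne
      have hVM : V ≤ M := by
        intro v hv
        exact le_of_centralizing M M hMt hMt hMc ω0 v (fun y hy => hcomm v hv y hy)
      rcases hM.2.2 V hV.1 hVM with h | h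
      · exact hV.2.1 h
      · exact hne h
    have hNM : N = M := by
      rw [hN]
      apply le_antisymm
      · apply sSup_le; intro W hW; rw [huniq W hW]
      · exact le_sSup hMmem
    subst hNM
    have hcard : Nat.card N ≠ 1 := by
      intro h
      exact hM.2.1 ((Subgroup.eq_bot_iff_card N).mpr h)
    obtain ⟨p, hp, hpd⟩ := Nat.exists_prime_and_dvd hcard
    have : Fact p.Prime := ⟨hp⟩
    obtain ⟨x0, hx0⟩ := exists_prime_orderOf_dvd_card' p hpd
    let K : Subgroup G :=
      { carrier := {x | x ∈ N ∧ x ^ p = 1}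
        mul_mem' := by
          rintro x y ⟨hx, hxp⟩ ⟨hy, hyp⟩
          refine ⟨N.mul_mem hx hy, ?_⟩
          have hc : Commute x y := hMc x hx y hy
          rw [hc.mul_pow, hxp, hyp, one_mul]
        one_mem' := ⟨N.one_mem, one_pow _⟩
        inv_mem' := by
          rintro x ⟨hx, hxp⟩
          exact ⟨N.inv_mem hx, by rw [inv_pow, hxp, inv_one]⟩ }
    have hKn : K.Normal := by
      constructor
      rintro x ⟨hx, hxp⟩ g
      exact ⟨hM.1.conj_mem x hx g, by rw [conj_pow, hxp, mul_one, mul_inv_cancel]⟩
    have hKN : K ≤ N := fun x hx => hx.1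
    have hKne : K ≠ ⊥ := by
      intro hKb
      have hmem : (x0 : G) ∈ K := by
        refine ⟨x0.2, ?_⟩
        have h1 : x0 ^ p = 1 := by rw [← hx0]; exact pow_orderOf_eq_one x0
        have := congrArg Subtype.val h1
        simpa using this
      rw [hKb, Subgroup.mem_bot] at hmem
      have h2 : x0 = 1 := Subtype.ext hmem
      rw [h2, orderOf_one] at hx0
      exact hp.one_lt.ne hx0
    have hKeq : K = N := (hM.2.2 K hKn hKN).resolve_left hKne
    refine ⟨p, hp, ⟨⟨fun a b => Subtype.ext (hMc a a.2 b b.2)⟩⟩, ?_, hMt, ?_⟩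
    · intro x
      have : (x : G) ∈ K := by rw [hKeq]; exact x.2
      exact Subtype.ext this.2
    · intro ω
      rw [Subgroup.eq_bot_iff_forall]
      intro n hn
      have h1 : (n : G) • ω = ω := hn
      have h2 := hsemiM (n : G) (fun a ha => hMc a ha n n.2) ω h1
      exact Subtype.ext h2
  · -- Case B: M nonabelian
    right
    push Not at hMc
    obtain ⟨T, _, m, hT, hm, ⟨e⟩⟩ := S0721.result M hM.2.1 hM.2.2
    have hTnc : ¬ IsMulCommutative T := by
      intro hTc
      obtain ⟨x, hx, y, hy, hxy⟩ := hMc
      apply hxy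
      have h1 : e ⟨x, hx⟩ * e ⟨y, hy⟩ = e ⟨y, hy⟩ * e ⟨x, hx⟩ := by
        funext i; exact hTc.is_comm.comm _ _
      have h2 : (⟨x, hx⟩ * ⟨y, hy⟩ : M) = ⟨y, hy⟩ * ⟨x, hx⟩ :=
        e.injective (by rw [map_mul, map_mul]; exact h1)
      exact congrArg Subtype.val h2
    by_cases huniq : ∀ V ∈ MN, V = M
    · have hNM : N = M := by
        rw [hN]
        apply le_antisymm
        · apply sSup_le; intro W hW; rw [huniq W hW]
        · exact le_sSup hMmem
      exact ⟨T, inferInstance, m, hm, hT, hTnc, ⟨(MulEquiv.subgroupCongr hNM).trans e⟩⟩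
    · push Not at huniq
      obtain ⟨V, hV, hVM⟩ := huniq
      have hVt := htrans V hV
      have hdisj : Disjoint M V := disjoint_of_ne hM hV (Ne.symm hVM)
      have hcomm : ∀ x ∈ V, ∀ y ∈ M, x * y = y * x := commute_of_ne hV hM hVM
      have hsemiV : ∀ b : G, (∀ a ∈ V, a * b = b * a) → ∀ ω : Ω, b • ω = ω → b = 1 :=
        fun b hb ω hω => eq_one_of_fix V hVt b hb ω hω
      have hall : ∀ W ∈ MN, W = M ∨ W = V := by
        intro W hW
        by_contra hcon
        push Not at hcon
        have hcW := commute_of_ne hW hM hcon.1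
        have hWV : W ≤ V := by
          intro w hw
          exact le_of_centralizing M V hMt hVt hcomm ω0 w (fun y hy => hcW w hw y hy)
        rcases hV.2.2 W hW.1 hWV with h | h
        · exact hW.2.1 h
        · exact hcon.2 h
      have hNsup : N = M ⊔ V := by
        rw [hN]
        apply le_antisymm
        · apply sSup_le
          intro W hW
          rcases hall W hW with h | h
          · rw [h]; exact le_sup_left
          · rw [h]; exact le_sup_right
        · exact sup_le (le_sSup hMmem) (le_sSup hV)
      -- uniqueness of elements of V and M by their effect on a point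
      have hVinj : ∀ (y y' : V) (ω : Ω), y • ω = y' • ω → y = y' := by
        intro y y' ω h
        have h1 : ((y' : G)⁻¹ * y) • ω = ω := by
          rw [mul_smul]
          show (y' : G)⁻¹ • (y • ω) = ω
          rw [h]
          exact inv_smul_smul (y' : G) ω
        have h2 := hsemiM _ (fun a ha => by
          rw [← mul_assoc, ← hcomm _ (V.inv_mem y'.2) a ha, mul_assoc, ← hcomm _ y.2 a ha,
            mul_assoc]) ω h1
        apply Subtype.ext
        have := congrArg (fun t => (y' : G) * t) h2
        simpa using this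
      have hMinj : ∀ (x x' : M) (ω : Ω), x • ω = x' • ω → x = x' := by
        intro x x' ω h
        have h1 : ((x' : G)⁻¹ * x) • ω = ω := by
          rw [mul_smul]
          show (x' : G)⁻¹ • (x • ω) = ω
          rw [h]
          exact inv_smul_smul (x' : G) ω
        have h2 := hsemiV _ (fun a ha => by
          rw [← mul_assoc, hcomm a ha _ (M.inv_mem x'.2), mul_assoc, hcomm a ha _ x.2,
            mul_assoc]) ω h1
        apply Subtype.ext
        have := congrArg (fun t => (x' : G) * t) h2
        simpa using this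
      -- the isomorphism θ : M ≃* V
      have hex : ∀ x : M, ∃ y : V, y • (x • ω0) = ω0 :=
        fun x => MulAction.exists_smul_eq V (x • ω0) ω0
      choose θ hθ using hex
      have hsm : ∀ (x : M) (y : V) (ω : Ω), y • (x • ω) = x • (y • ω) := by
        intro x y ω
        show (y : G) • ((x : G) • ω) = (x : G) • ((y : G) • ω)
        rw [← mul_smul, ← mul_smul, hcomm y y.2 x x.2]
      let Θ : M →* V :=
        { toFun := θ
          map_one' := by
            apply hVinj _ _ ω0
            have := hθ 1
            rw [one_smul] at this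
            rw [this, one_smul]
          map_mul' := by
            intro x x'
            apply hVinj _ _ ((x * x') • ω0)
            rw [hθ, mul_smul, mul_smul, hsm x (θ x'), hθ x', hθ x] }
      have hΘbij : Function.Bijective Θ := by
        constructor
        · intro x x' h
          apply hMinj _ _ ω0
          have h1 : θ x • (x • ω0) = θ x • (x' • ω0) := by
            rw [hθ x]
            have h2 : θ x = θ x' := h
            rw [h2, hθ x']
          exact (MulAction.injective (θ x)) h1
        · intro y
          obtain ⟨x, hx⟩ := MulAction.exists_smul_eq M ω0 (y⁻¹ • ω0)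
          refine ⟨x, ?_⟩
          apply hVinj _ _ (x • ω0)
          show θ x • (x • ω0) = y • (x • ω0)
          rw [hθ x, hx, smul_inv_smul]
      let Θe : M ≃* V := MulEquiv.ofBijective Θ hΘbij
      -- the product decomposition
      have hcm : ∀ (x : M) (y : V), Commute (M.subtype x) (V.subtype y) :=
        fun x y => (hcomm y y.2 x x.2).symm
      let F : M × V →* G := MonoidHom.noncommCoprod M.subtype V.subtype hcm
      have hFinj : Function.Injective F := by
        rw [MonoidHom.noncommCoprod_injective]
        refine ⟨Subgroup.subtype_injective _, Subgroup.subtype_injective _, ?_⟩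
        rw [Subgroup.range_subtype, Subgroup.range_subtype]
        exact hdisj
      have hFrange : F.range = N := by
        rw [hNsup]
        show (MonoidHom.noncommCoprod M.subtype V.subtype hcm).range = M ⊔ V
        rw [MonoidHom.noncommCoprod_range, Subgroup.range_subtype, Subgroup.range_subtype]
      let E1 : M × V ≃* N := (MonoidHom.ofInjective hFinj).trans (MulEquiv.subgroupCongr hFrange)
      let E2 : M × V ≃* (Fin m → T) × (Fin m → T) := MulEquiv.prodCongr e (Θe.symm.trans e)
      exact ⟨T, inferInstance, m + m, by omega, hT, hTnc,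
        ⟨E1.symm.trans (E2.trans (appendIso T m m))⟩⟩

end Cfsg.Agent.S3680
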