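import Mathlib
import Cfsg.Agent.H5.Dihedral
import Cfsg.Agent.S3680
import Cfsg.Statements.S3684

set_option autoImplicit false
open Cfsg

namespace Cfsg.Agent.S3684

section
variable {G Ω : Type*} [Group G] [MulAction G Ω]

/-- a normal subgroup fixing a point of a transitive faithful action is trivial -/
lemma normal_fix_trivial [FaithfulSMul G Ω] [MulAction.IsPretransitive G Ω] (K : Subgroup G)
    (hK : K.Normal) (a : Ω) (hKa : K ≤ MulAction.stabilizer G a) : K = ⊥ := by
  rw [Subgroup.eq_bot_iff_forall]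
  intro k hk
  apply FaithfulSMul.eq_of_smul_eq_smul (α := Ω)
  intro ω
  obtain ⟨g, rfl⟩ := MulAction.exists_smul_eq G a ω
  have h1 : g⁻¹ * k * g ∈ K := by
    have := hK.conj_mem k hk g⁻¹
    simpa using this
  have h2 : (g⁻¹ * k * g) • a = a := hKa h1
  rw [one_smul]
  calc k • g • a = g • (g⁻¹ * k * g) • a := by simp [mul_smul]
    _ = g • a := by rw [h2]

omit [MulAction G Ω] in
lemma mem_normalizer_of_conj_inv (u x : G) (h : u * x * u⁻¹ = x⁻¹) :
    u ∈ Subgroup.normalizer (Subgroup.zpowers x : Set G) := by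
  have h' : u⁻¹ * x * u = x⁻¹ := by
    have h1 : x = u * x⁻¹ * u⁻¹ := by
      have := congrArg Inv.inv h
      simpa [mul_assoc] using this.symm
    calc u⁻¹ * x * u = u⁻¹ * (u * x⁻¹ * u⁻¹) * u := by rw [← h1]
      _ = x⁻¹ := by group
  rw [Subgroup.mem_normalizer_iff]
  intro y
  constructor
  · rintro ⟨k, rfl⟩
    refine ⟨-k, ?_⟩
    show x ^ (-k) = u * x ^ k * u⁻¹
    rw [← conj_zpow, h, inv_zpow, zpow_neg]
  · rintro ⟨k, hk⟩
    refine ⟨-k, ?_⟩
    have hk' : x ^ k = u * y * u⁻¹ := hk
    have : y = u⁻¹ * x ^ k * u := by rw [hk']; group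
    show x ^ (-k) = y
    rw [this, zpow_neg, ← inv_zpow, ← h']
    have h3 : u⁻¹ * x ^ k * u = (u⁻¹ * x * u) ^ k := by
      have := conj_zpow (a := u⁻¹) (b := x) (i := k)
      rw [inv_inv] at this
      exact this.symm
    rw [h3]

end

/-- Let a finite group G act faithfully and primitively on a set Ω, and suppose the stabilizer of a point a has an orbit of length 2. Then the stabilizer of a has order 2 and G is isomorphic to the dihedral group of order 2p for some prime p. -/
theorem result {G Ω : Type*} [Group G] [Finite G] [MulAction G Ω] [FaithfulSMul G Ω] [Finite Ω]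
    (hprim : MulAction.IsPreprimitive G Ω) (a b : Ω) (h2 : Nat.card (MulAction.orbit (MulAction.stabilizer G a) b) = 2) :
    Nat.card (MulAction.stabilizer G a) = 2 ∧ ∃ p : ℕ, p.Prime ∧ Nonempty (G ≃* DihedralGroup p) := by
  classical
  have hpt : MulAction.IsPretransitive G Ω := hprim.toIsPretransitive
  set Ga := MulAction.stabilizer G a with hGa
  set Gb := MulAction.stabilizer G b with hGb
  set K : Subgroup G := Ga ⊓ Gb with hK
  have hΩnt : Nontrivial Ω := by
    obtain ⟨x, y, hxy, -⟩ := Nat.card_eq_two_iff.mp h2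
    exact ⟨⟨(x : Ω), (y : Ω), fun h => hxy (Subtype.ext h)⟩⟩
  have hΩpos : 0 < Nat.card Ω := Nat.card_pos
  have hidxa : K.relIndex Ga = 2 := by
    have h1 : K.subgroupOf Ga = MulAction.stabilizer Ga b := by
      ext x
      rw [Subgroup.mem_subgroupOf, MulAction.mem_stabilizer_iff]
      constructor
      · intro hx; exact hx.2
      · intro hx; exact ⟨x.2, hx⟩
    rw [Subgroup.relIndex, h1, MulAction.index_stabilizer, ← Nat.card_coe_set_eq]
    exact h2
  have hKa : Nat.card (K.subgroupOf Ga) = Nat.card K :=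
    Nat.card_congr (Subgroup.subgroupOfEquivOfLe inf_le_left).toEquiv
  have hKb : Nat.card (K.subgroupOf Gb) = Nat.card K :=
    Nat.card_congr (Subgroup.subgroupOfEquivOfLe inf_le_right).toEquiv
  have hKpos : 0 < Nat.card K := Nat.card_pos
  have hcardGa : Nat.card Ga = Nat.card K * 2 := by
    have := Subgroup.card_mul_index (K.subgroupOf Ga)
    rw [hKa] at this
    rw [← this]
    congr 1
  have hcardab : Nat.card Ga = Nat.card Gb := by
    have h1 := Subgroup.card_mul_index Ga
    have h3 := Subgroup.card_mul_index Gb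
    rw [hGa, MulAction.index_stabilizer_of_transitive] at h1
    rw [hGb, MulAction.index_stabilizer_of_transitive] at h3
    exact Nat.eq_of_mul_eq_mul_right hΩpos (h1.trans h3.symm)
  have hidxb : K.relIndex Gb = 2 := by
    have := Subgroup.card_mul_index (K.subgroupOf Gb)
    rw [hKb, ← hcardab, hcardGa] at this
    exact Nat.eq_of_mul_eq_mul_left hKpos this
  have hna : Ga ≤ Subgroup.normalizer (K : Set G) :=
    (Subgroup.normal_subgroupOf_iff_le_normalizer inf_le_left).mp
      (Subgroup.normal_of_index_eq_two hidxa)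
  have hnb : Gb ≤ Subgroup.normalizer (K : Set G) :=
    (Subgroup.normal_subgroupOf_iff_le_normalizer inf_le_right).mp
      (Subgroup.normal_of_index_eq_two hidxb)
  have hcoatom : IsCoatom Ga := by
    have := hprim
    exact MulAction.IsPreprimitive.isCoatom_stabilizer_of_isPreprimitive G a
  have hnle : ¬ Gb ≤ Ga := by
    intro hle
    have hKeq : K = Gb := inf_eq_right.mpr hle
    rw [hKeq, ← hcardab] at hcardGa
    have : 0 < Nat.card Ga := Nat.card_pos
    omega
  have hsup : Ga ⊔ Gb = ⊤ :=
    hcoatom.2 _ (lt_of_le_of_ne le_sup_left (fun h => hnle (h ▸ le_sup_right)))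
  have hKn : K.Normal := by
    rw [← Subgroup.normalizer_eq_top_iff, eq_top_iff, ← hsup]
    exact sup_le hna hnb
  have hKbot : K = ⊥ := normal_fix_trivial K hKn a inf_le_left
  have hK1 : Nat.card K = 1 := by rw [hKbot]; exact Subgroup.card_bot
  have hGa2 : Nat.card Ga = 2 := by rw [hcardGa, hK1]
  have hGb2 : Nat.card Gb = 2 := by rw [← hcardab, hGa2]
  refine ⟨hGa2, ?_⟩
  -- involutions
  obtain ⟨t, ht1, htu⟩ := (Nat.card_eq_two_iff' (1 : Ga)).mp hGa2
  obtain ⟨s, hs1, hsu⟩ := (Nat.card_eq_two_iff' (1 : Gb)).mp hGb2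
  have htt : t * t = 1 := by
    by_contra h
    have := htu (t * t) h
    exact ht1 (by simpa using this)
  have hss : s * s = 1 := by
    by_contra h
    have := hsu (s * s) h
    exact hs1 (by simpa using this)
  have htt' : (t : G) * t = 1 := congrArg Subtype.val htt
  have hss' : (s : G) * s = 1 := congrArg Subtype.val hss
  have ht1' : (t : G) ≠ 1 := fun h => ht1 (Subtype.ext h)
  have hs1' : (s : G) ≠ 1 := fun h => hs1 (Subtype.ext h)
  have hsGa : (s : G) ∉ Ga := by
    intro h
    have : (s : G) ∈ K := ⟨h, s.2⟩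
    rw [hKbot, Subgroup.mem_bot] at this
    exact hs1' this
  have hcl : Subgroup.closure ({(t : G), (s : G)} : Set G) = ⊤ := by
    apply hcoatom.2
    refine lt_of_le_of_ne ?_ ?_
    · intro h hh
      by_cases h1 : (⟨h, hh⟩ : Ga) = 1
      · have : h = 1 := congrArg Subtype.val h1
        rw [this]; exact Subgroup.one_mem _
      · have := htu _ h1
        have : h = t := congrArg Subtype.val this
        rw [this]; exact Subgroup.subset_closure (by simp)
    · intro h
      apply hsGa
      rw [h]
      exact Subgroup.subset_closure (by simp)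
  set n := orderOf ((t : G) * s) with hn
  let e0 : ↥(Subgroup.closure ({(t : G), (s : G)} : Set G)) ≃* DihedralGroup n :=
    H5.closurePairEquivDihedral htt' hss' ht1' hs1'
  let e : G ≃* DihedralGroup n :=
    (Subgroup.topEquiv.symm).trans ((MulEquiv.subgroupCongr hcl.symm).trans e0)
  have hGcard : Nat.card G = 2 * n := by
    rw [Nat.card_congr e.toEquiv, DihedralGroup.nat_card]
  have hΩn : Nat.card Ω = n := by
    have h1 := Subgroup.card_mul_index Ga
    rw [hGa, MulAction.index_stabilizer_of_transitive, ← hGa, hGa2, hGcard] at h1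
    omega
  have hn0 : n ≠ 0 := by omega
  have htinv : (t : G)⁻¹ = t := inv_eq_of_mul_eq_one_left htt'
  have hsinv : (s : G)⁻¹ = s := inv_eq_of_mul_eq_one_left hss'
  have hn1 : n ≠ 1 := by
    intro h
    rw [hn, orderOf_eq_one_iff] at h
    have : (s : G) = (t : G)⁻¹ := (inv_eq_of_mul_eq_one_right h).symm
    rw [htinv] at this
    apply hsGa
    rw [this]; exact t.2
  obtain ⟨q, hq, hqn⟩ := Nat.exists_prime_and_dvd hn1
  set x : G := ((t : G) * s) ^ (n / q) with hx
  have hxord : orderOf x = q := orderOf_pow_orderOf_div hn0 hqn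
  have hconj_t : (t : G) * x * (t : G)⁻¹ = x⁻¹ := by
    rw [hx, ← conj_pow, ← inv_pow]
    congr 1
    rw [_root_.mul_inv_rev, hsinv, htinv, ← mul_assoc, htt', one_mul]
  have hconj_s : (s : G) * x * (s : G)⁻¹ = x⁻¹ := by
    rw [hx, ← conj_pow, ← inv_pow]
    congr 1
    rw [_root_.mul_inv_rev, hsinv, htinv, mul_assoc, mul_assoc, hss', mul_one]
  set L := Subgroup.zpowers x with hL
  have hLn : L.Normal := by
    rw [← Subgroup.normalizer_eq_top_iff, eq_top_iff, ← hcl, Subgroup.closure_le]
    rintro u (rfl | rfl)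
    · exact mem_normalizer_of_conj_inv _ _ hconj_t
    · exact mem_normalizer_of_conj_inv _ _ hconj_s
  have hLne : L ≠ ⊥ := by
    rw [hL, Ne, Subgroup.zpowers_eq_bot]
    intro h
    rw [h, orderOf_one] at hxord
    exact hq.one_lt.ne hxord
  have hLt : MulAction.IsPretransitive L Ω := S3680.transitive_of_normal hprim L hLn hLne
  have hle : Nat.card Ω ≤ Nat.card L := by
    apply Nat.card_le_card_of_surjective (fun l : L => l • a)
    intro ω
    exact MulAction.exists_smul_eq L a ω
  rw [hΩn, hL, Nat.card_zpowers, hxord] at hle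
  have hqn' : q = n := le_antisymm (Nat.le_of_dvd (Nat.pos_of_ne_zero hn0) hqn) hle
  exact ⟨n, hqn' ▸ hq, ⟨e⟩⟩

end Cfsg.Agent.S3684
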