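-- Statement S3701 (row 3701). Assembly of the team project TM (lead helper64):
-- Defs and the reduction `main` in H64/TmDefs; pieces by helper55 (STRUCT), helper16 (SWAP, TIT, TI, VALS,
-- YPAIRS), helper72 (SYL, D), helper24 (S1, COUNT), helper8 (CC), helper53 (LAM, GEN, DECOMP),
-- helper13 (INV), helper84 (NOFUS, XPAIRS), helper75 (FRATT), helper61 (LIN), helper11 (KEY, END),
-- helper63 (FIN); reused TN pieces: helper18 (NORM3), helper70 (RT3), helper20 (FPF).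
import Cfsg.Statements.S3701
import Cfsg.Agent.H64.TmDefs
import Cfsg.Agent.Helper55.TmStruct
import Cfsg.Agent.H24.TmCount
import Cfsg.Agent.H24.TmS1
import Cfsg.Agent.H11.TmKey
import Cfsg.Agent.H11.TmEnd
import Cfsg.Agent.H63.TmFin
import Cfsg.Agent.H8.TmCC
import Cfsg.Agent.H53.TmLam
import Cfsg.Agent.H53.TmGen
import Cfsg.Agent.H53.TmDecomp
import Cfsg.Agent.H13.TmInv
import Cfsg.Agent.H72.TmSyl
import Cfsg.Agent.H72.TmD
import Cfsg.Agent.H84.TmNofus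
import Cfsg.Agent.H84.TmXPairs
import Cfsg.Agent.H61.TmLin
import Cfsg.Agent.H16.TmYPairs
import Cfsg.Agent.H16.TmVals
import Cfsg.Agent.H16.TmSwap
import Cfsg.Agent.H16.TmTIT
import Cfsg.Agent.H16.TmTI
import Cfsg.Agent.H75.TmFratt
import Cfsg.Agent.H70.TnRT3
import Cfsg.Agent.H20.TnFpf
import Cfsg.Agent.H18.TnNorm3

set_option autoImplicit false
open Cfsg

namespace Cfsg.Agent.S3701

open Cfsg.Agent.H64.Tm in
/-- All the pieces of the TM project put together: the end statement `StEnd`. -/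
theorem tmEndAll.{u} : StEnd.{u} :=
  have dfacts : StD.{u} := Cfsg.Agent.H72.Tm.dfacts
  have hS1 : StS1.{u} := Cfsg.Agent.H24.Tm.s1 dfacts
  have hTIT : StTIT.{u} := Cfsg.Agent.H16.Tm.tit
  have hSyl : StSyl.{u} := Cfsg.Agent.H72.Tm.syl
  have hTI : StTI.{u} := Cfsg.Agent.H16.Tm.ti hS1 hTIT
  have hVals : StVals.{u} := Cfsg.Agent.H16.Tm.vals hS1
  have hCount : StCount.{u} := Cfsg.Agent.H24.Tm.count hS1 hTI
  have hCC : StCC.{u} := Cfsg.Agent.H8.Tm.cc dfacts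
  have hLam : StLam.{u} := Cfsg.Agent.H53.Tm.lam dfacts hCC
  have hGen : StGen.{u} := Cfsg.Agent.H53.Tm.gen hLam hCC dfacts hS1 hTI
  have hDecomp : StDecomp.{u} :=
    Cfsg.Agent.H53.Tm.decomp hVals hCount hGen Cfsg.Agent.H18.Tn.norm3
  have hNofus : StNofus.{u} := Cfsg.Agent.H84.Tm.nofus hTIT hSyl
  have hX : StXPairs.{u} := Cfsg.Agent.H84.Tm.xPairs hS1 hTI hNofus
  have hFratt : StFratt.{u} := Cfsg.Agent.H75.Tm.fratt hTIT
  have hLin : StLin.{u} := Cfsg.Agent.H61.Tm.lin hVals hFratt Cfsg.Agent.H70.Tn.rt3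
  have hKey : StKey.{u} :=
    Cfsg.Agent.H11.Tm.key hDecomp Cfsg.Agent.H13.Tm.inv hVals hX Cfsg.Agent.H16.Tm.yPairs hLin
  have hFin : StFin.{u} := Cfsg.Agent.H63.Tm.fin Cfsg.Agent.H20.Tn.fpf hSyl
  Cfsg.Agent.H11.Tm.endp hKey Cfsg.Agent.H16.Tm.swap hFin

/-- Let H₀ ≤ Sym(9) be generated by the 3-cycles (1 2 3), (4 5 6), (7 8 9) and the involutions (1 2)(4 5), (1 2)(7 8) (a group of order 108, elementary abelian of order 27 extended by a four-group). Let G be a finite group with a subgroup H ≅ H₀, and T ≤ H of order 27 (a Sylow 3-subgroup of H) with N_G(T) = H and C_G(t) ≤ H for every t ≠ 1 in T. Then G = H. -/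
theorem result {G : Type*} [Group G] [Finite G] (H : Subgroup G)
    (hH : Nonempty (↥H ≃* ↥(Subgroup.closure ({Equiv.swap (0 : Fin 9) 1 * Equiv.swap 1 2, Equiv.swap (3 : Fin 9) 4 * Equiv.swap 4 5, Equiv.swap (6 : Fin 9) 7 * Equiv.swap 7 8,
        Equiv.swap (0 : Fin 9) 1 * Equiv.swap 3 4, Equiv.swap (0 : Fin 9) 1 * Equiv.swap 6 7} : Set (Equiv.Perm (Fin 9))))))
    (T : Subgroup G) (hTH : T ≤ H) (hT : Nat.card T = 27) (hN : Subgroup.normalizer (T : Set G) = H)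
    (hC : ∀ t ∈ T, t ≠ 1 → Subgroup.centralizer ({t} : Set G) ≤ H) : H = ⊤ :=
  Cfsg.Agent.H64.Tm.main Cfsg.Agent.Helper55.Tm.struct tmEndAll H hH T hTH hT hN hC

end Cfsg.Agent.S3701
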