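import Cfsg.Statements.S3795
import Cfsg.Agent.S3794
import Cfsg.Agent.H66.GrossAsm
import Cfsg.Agent.H66.GrossSmall
import Cfsg.Agent.H66.GrossG2B1
import Cfsg.Agent.Lib.Helper96.GrossR1
import Cfsg.Agent.Lib.Helper96.GrossR2Irr
import Cfsg.Agent.Lib.Helper96.GrossR2
import Cfsg.Agent.Lib.Helper96.GrossNT
import Cfsg.Agent.Lib.Helper96.GrossFree
import Cfsg.Agent.H98.GrossWS
import Cfsg.Agent.H98.GrossLA
import Cfsg.Agent.H98.GrossULinB
import Cfsg.Agent.H8.GrossG2B2
import Cfsg.Agent.H8.GrossULin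
import Cfsg.Agent.H8.GrossUAB
import Cfsg.Agent.H53.GrossUGroup
import Cfsg.Agent.H64.GrossLB
import Cfsg.Agent.H64.GrossULinA
import Cfsg.Agent.H14.GrossCrit
import Cfsg.Agent.H25.GrossSpan
import Cfsg.Agent.H25.GrossCyc
import Cfsg.Agent.H25.GrossPair
import Cfsg.Agent.H25.GrossG1
import Cfsg.Agent.H61.GrossG2A1
import Cfsg.Agent.H61.GrossG2A

set_option autoImplicit false
open Cfsg

namespace Cfsg.Agent.S3795

open Cfsg.Agent.H66.Gross in
/-- **K**: for a fixed-point-free automorphism `σ` with `σ ^ (2 ^ n) = 1` of a finite solvable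
group, `σ ^ (2 ^ (n - 1))` centralises `G / F₂(G)`. -/
theorem kstatement.{u} : KStatement.{u} := by
  have hR1 : R1Statement.{u} := Cfsg.Agent.Lib.Helper96.Gross.r1_holds
  have hR2Irr : R2IrrStatement.{u} := Cfsg.Agent.Lib.Helper96.Gross.r2irr_holds
  have hR2 : R2Statement.{u} := Cfsg.Agent.Lib.Helper96.Gross.r2_holds hR2Irr
  have hWS : WSStatement.{u} := Cfsg.Agent.H98.Gross.ws_holds
  have hFree : FreeStatement.{u} := Cfsg.Agent.Lib.Helper96.Gross.free_holds
  have hNT : NTStatement := Cfsg.Agent.Lib.Helper96.Gross.nt_holds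
  have hStab : StabStatement.{u} := stab_holds
  have hInv : InvSubStatement.{u} := invsub_holds
  have hCyc : CycStatement.{u} := Cfsg.Agent.H25.Gross.cyc_holds
  have hSpan : SpanStatement.{u} := Cfsg.Agent.H25.Gross.span_holds
  have hPair : PairStatement.{u} := Cfsg.Agent.H25.Gross.pair_holds
  have hCrit : CritStatement.{u} := Cfsg.Agent.H14.Gross.crit_holds
  have hLA : LAStatement.{u} := Cfsg.Agent.H98.Gross.la_holds hR1 hR2 hWS hFree
  have hL : LGroupStatement.{u} := Cfsg.Agent.H64.Gross.lgroup_holds hLA hNT hInv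
  have hULA : ULinAStatement.{u} := Cfsg.Agent.H64.Gross.ulina_holds hR1
  have hULB : ULinBStatement.{u} := Cfsg.Agent.H98.Gross.ulinb_holds hR1 hR2 hWS hFree hPair
  have hULin : ULinStatement.{u} := Cfsg.Agent.H8.Gross.ulin_holds hULA hULB hSpan
  have hUAb : UAbStatement.{u} := Cfsg.Agent.H8.Gross.uab_holds hULin
  have hUG : UGroupStatement.{u} := Cfsg.Agent.H53.Gross.ugroup_holds hUAb hStab
  have hG1 : G1Statement.{u} :=
    Cfsg.Agent.H25.Gross.g1_holds hR1 hL hUG hCrit hSpan hCyc hStab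
  have hG2a : G2aStatement.{u} := Cfsg.Agent.H61.Gross.g2a_holds Cfsg.Agent.H61.Gross.g2a1_holds
  exact k_holds hG1 hG2a g2b1_holds Cfsg.Agent.H8.Gross.g2b2_holds

/-- Gross's Theorem: let G be a finite solvable group with an automorphism σ of order 2^n, n > 1, fixing only the identity. Then G has Fitting height at most 2n − 2: G has Fitting height at most m when there is a chain of normal subgroups 1 = F₀ ≤ F₁ ≤ ⋯ ≤ F_m = G with each F_{i+1}/F_i nilpotent. -/
theorem result {G : Type*} [Group G] [Finite G] (hG : Group.IsSolvable G) (σ : MulAut G) (n : ℕ) (hn : 1 < n) (hσ : orderOf σ = 2 ^ n) (hfpf : ∀ g : G, σ g = g → g = 1) : ∃ F : Fin ((2 * n - 2) + 1) → Subgroup G, F 0 = ⊥ ∧ F (Fin.last (2 * n - 2)) = ⊤ ∧ Monotone F ∧ (∀ i, (F i).Normal) ∧ ∀ i : Fin (2 * n - 2), ∃ k : ℕ, (F i.succ).lowerCentralSeries k ≤ F i.castSucc := by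
  have hσ1 : σ ^ (2 ^ n) = 1 := by rw [← hσ]; exact pow_orderOf_eq_one σ
  have hchain := Cfsg.Agent.H66.Gross.chain_of_K kstatement
    (fun G _ _ hsol σ h4 hf => Cfsg.Agent.S3794.result hsol σ h4 hf) n hn G hG σ hσ1 hfpf
  exact Cfsg.Agent.H66.Gross.gross_of_chain (2 * n - 2) hchain

end Cfsg.Agent.S3795
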