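import Mathlib
import Cfsg.Statements.S3807
import Cfsg.Agent.H67.AbelianIndexP

set_option autoImplicit false
open Cfsg

namespace Cfsg.Agent.S3807

open Cfsg.Agent.H67
open scoped commutatorElement

/-- the count of abelian subgroups of index `p` when `[S : Z(S)] = p²`. -/
theorem count_abelian_index_p {S : Type*} [Group S] [Finite S] (p : ℕ) [Fact p.Prime]
    (hna : ¬ IsMulCommutative S) (hZi : (Subgroup.center S).index = p * p) :
    Nat.card {B : Subgroup S // IsMulCommutative ↥B ∧ B.index = p} = p + 1 := by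
  classical
  have hp : p.Prime := Fact.out
  set Z := Subgroup.center S with hZ
  have hzpos : 0 < Nat.card Z := Nat.card_pos
  have hScard : Nat.card S = Nat.card Z * (p * p) := by
    rw [← hZi]; exact (Subgroup.card_mul_index Z).symm
  -- F1
  have hF1 : ∀ B : Subgroup S, IsMulCommutative ↥B → B.index = p → Z ≤ B :=
    fun B hB hBi => center_le_of_abelian_index_prime hna B hB hBi
  -- F2
  have hF2 : ∀ g : S, g ∉ Z → IsMulCommutative ↥(Z ⊔ Subgroup.zpowers g) ∧
      (Z ⊔ Subgroup.zpowers g).index = p := by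
    intro g hg
    have hab : IsMulCommutative ↥(Z ⊔ Subgroup.zpowers g) := isMulCommutative_sup_zpowers Z le_rfl g
    refine ⟨hab, ?_⟩
    have h1 := Subgroup.relIndex_mul_index (le_sup_left : Z ≤ Z ⊔ Subgroup.zpowers g)
    rw [hZi] at h1
    have h2 : (Z ⊔ Subgroup.zpowers g).index ∣ p * p := Dvd.intro_left _ h1
    rw [← sq] at h2
    obtain ⟨j, hj2, hj⟩ := (Nat.dvd_prime_pow hp).1 h2
    have hj0 : j ≠ 0 := by
      rintro rfl
      rw [pow_zero, Subgroup.index_eq_one] at hj
      apply hna
      refine ⟨⟨fun a b => ?_⟩⟩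
      have ha : a ∈ Z ⊔ Subgroup.zpowers g := by rw [hj]; trivial
      have hb : b ∈ Z ⊔ Subgroup.zpowers g := by rw [hj]; trivial
      exact mul_comm_of_isMulCommutative hab ha hb
    have hj2' : j ≠ 2 := by
      rintro rfl
      rw [hj, sq] at h1
      have h3 : Z.relIndex (Z ⊔ Subgroup.zpowers g) = 1 :=
        Nat.eq_of_mul_eq_mul_right (Nat.mul_pos hp.pos hp.pos) (by rw [h1, one_mul])
      rw [Subgroup.relIndex_eq_one] at h3
      exact hg (h3 (Subgroup.mem_sup_right (Subgroup.mem_zpowers g)))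
    have hj1 : j = 1 := by omega
    rw [hj, hj1, pow_one]
  -- F3
  have hF3 : ∀ B : Subgroup S, IsMulCommutative ↥B → B.index = p → ∀ g ∈ B, g ∉ Z →
      Z ⊔ Subgroup.zpowers g = B := by
    intro B hB hBi g hgB hgZ
    have hle : Z ⊔ Subgroup.zpowers g ≤ B :=
      sup_le (hF1 B hB hBi) (by rw [Subgroup.zpowers_le]; exact hgB)
    apply Subgroup.eq_of_le_of_card_ge hle
    have h1 := Subgroup.card_mul_index B
    have h2 := Subgroup.card_mul_index (Z ⊔ Subgroup.zpowers g)
    rw [hBi] at h1
    rw [(hF2 g hgZ).2, ← h1] at h2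
    exact (Nat.eq_of_mul_eq_mul_right hp.pos h2).ge
  -- F4
  have hF4 : ∀ B : Subgroup S, IsMulCommutative ↥B → B.index = p → Nat.card B = Nat.card Z * p := by
    intro B hB hBi
    have h1 := Subgroup.card_mul_index B
    rw [hBi, hScard] at h1
    have : Nat.card B * p = Nat.card Z * p * p := by rw [h1]; ring
    exact Nat.eq_of_mul_eq_mul_right hp.pos this
  -- the sigma type
  let T := {B : Subgroup S // IsMulCommutative ↥B ∧ B.index = p}
  let F : T → Type _ := fun B => {g : S // g ∈ B.1 ∧ g ∉ Z}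
  let e : (Σ B : T, F B) → {g : S // g ∉ Z} := fun x => ⟨x.2.1, x.2.2.2⟩
  have he : Function.Bijective e := by
    constructor
    · rintro ⟨B, g⟩ ⟨B', g'⟩ h
      have hg : g.1 = g'.1 := congrArg Subtype.val h
      have hB : B = B' := by
        apply Subtype.ext
        rw [← hF3 B.1 B.2.1 B.2.2 g.1 g.2.1 g.2.2, ← hF3 B'.1 B'.2.1 B'.2.2 g'.1 g'.2.1 g'.2.2, hg]
      subst hB
      have : g = g' := Subtype.ext hg
      rw [this]
    · rintro ⟨g, hg⟩
      refine ⟨⟨⟨Z ⊔ Subgroup.zpowers g, hF2 g hg⟩,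
        ⟨g, Subgroup.mem_sup_right (Subgroup.mem_zpowers g), hg⟩⟩, rfl⟩
  haveI : Fintype T := Fintype.ofFinite T
  have hcardF : ∀ B : T, Nat.card (F B) = Nat.card Z * p - Nat.card Z := by
    intro B
    have h1 : Nat.card (F B) = ((B.1 : Set S) \ (Z : Set S)).ncard := by
      rw [← Nat.card_coe_set_eq]; rfl
    rw [h1, Set.ncard_sdiff (hF1 B.1 B.2.1 B.2.2) (Set.toFinite _)]
    have h2 : (B.1 : Set S).ncard = Nat.card B.1 := by rw [← Nat.card_coe_set_eq]; rfl
    have h3 : (Z : Set S).ncard = Nat.card Z := by rw [← Nat.card_coe_set_eq]; rfl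
    rw [h2, h3, hF4 B.1 B.2.1 B.2.2]
  have hcardL : Nat.card {g : S // g ∉ Z} = Nat.card Z * (p * p) - Nat.card Z := by
    have h1 : Nat.card {g : S // g ∉ Z} = ((Z : Set S)ᶜ).ncard := by
      rw [← Nat.card_coe_set_eq]; rfl
    have h3 : (Z : Set S).ncard = Nat.card Z := by rw [← Nat.card_coe_set_eq]; rfl
    rw [h1, Set.ncard_compl (Z : Set S) (Set.toFinite _) (Set.toFinite _), h3, hScard]
  have hsum : Nat.card {g : S // g ∉ Z} = Fintype.card T * (Nat.card Z * p - Nat.card Z) := by
    rw [← Nat.card_congr (Equiv.ofBijective e he), Nat.card_sigma]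
    simp only [hcardF, Finset.sum_const, Finset.card_univ, smul_eq_mul]
  rw [hcardL] at hsum
  have hT : Nat.card T = Fintype.card T := Nat.card_eq_fintype_card
  show Nat.card T = p + 1
  rw [hT]
  obtain ⟨q, rfl⟩ : ∃ q, p = q + 1 := ⟨p - 1, by have := hp.pos; omega⟩
  have hq : 0 < q := by
    have := hp.two_le; omega
  set z := Nat.card Z with hz
  have e1 : z * ((q + 1) * (q + 1)) - z = (q + 2) * (q * z) := by
    have : z * ((q + 1) * (q + 1)) = (q + 2) * (q * z) + z := by ring
    rw [this]; simp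
  have e2 : z * (q + 1) - z = q * z := by
    have : z * (q + 1) = q * z + z := by ring
    rw [this]; simp
  rw [e1, e2] at hsum
  have hqz : 0 < q * z := Nat.mul_pos hq hzpos
  have := Nat.eq_of_mul_eq_mul_right hqz hsum
  omega

/-- Let S be a non-abelian finite p-group with an abelian subgroup A of index p. Then [S : Z(S)] = p·#[S,S], and either [S,S] has order p, S/Z(S) is elementary abelian of order p², and S has exactly p + 1 abelian subgroups of index p; or [S,S] has order at least p² and A is the only abelian subgroup of index p in S. -/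
theorem result {S : Type*} [Group S] [Finite S] (p : ℕ) [Fact p.Prime] (hS : IsPGroup p S) (hna : ¬ IsMulCommutative S)
    (A : Subgroup S) (hA : IsMulCommutative ↥A) (hAi : A.index = p) :
    (Subgroup.center S).index = p * Nat.card (commutator S) ∧
      ((Nat.card (commutator S) = p ∧ Cfsg.IsElementaryAbelian p (⊤ : Subgroup (S ⧸ Subgroup.center S)) ∧
          Nat.card (S ⧸ Subgroup.center S) = p ^ 2 ∧
          Nat.card {B : Subgroup S // IsMulCommutative ↥B ∧ B.index = p} = p + 1) ∨
        (p ^ 2 ≤ Nat.card (commutator S) ∧ ∀ B : Subgroup S, IsMulCommutative ↥B → B.index = p → B = A)) := by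
  have hp : p.Prime := Fact.out
  have hidx := index_center_eq_of_abelian_index_prime hS hna A hA hAi
  refine ⟨hidx, ?_⟩
  have hcdvd : Nat.card (commutator S) ∣ Nat.card S := Subgroup.card_subgroup_dvd_card _
  obtain ⟨n, hn⟩ := IsPGroup.iff_card.1 hS
  rw [hn] at hcdvd
  obtain ⟨k, hkn, hk⟩ := (Nat.dvd_prime_pow hp).1 hcdvd
  have hk0 : k ≠ 0 := by
    rintro rfl
    rw [pow_zero] at hk
    apply hna
    have h1 : commutator S = ⊥ := Subgroup.card_eq_one.1 hk
    rw [commutator_eq_bot_iff_center_eq_top] at h1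
    refine ⟨⟨fun a b => ?_⟩⟩
    have ha : a ∈ Subgroup.center S := by rw [h1]; trivial
    exact ((Subgroup.mem_center_iff.1 ha) b).symm
  by_cases hk1 : k = 1
  · left
    subst hk1
    rw [pow_one] at hk
    have hZi : (Subgroup.center S).index = p * p := by rw [hidx, hk]
    have hqcard : Nat.card (S ⧸ Subgroup.center S) = p ^ 2 := by
      rw [← Subgroup.index_eq_card, hZi, sq]
    have hqcomm : IsMulCommutative (S ⧸ Subgroup.center S) :=
      IsPGroup.isMulCommutative_of_card_eq_prime_sq hqcard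
    refine ⟨hk, ⟨?_, ?_⟩, hqcard, count_abelian_index_p p hna hZi⟩
    · exact ⟨⟨fun a b => Subtype.ext (hqcomm.is_comm.comm a.1 b.1)⟩⟩
    · intro g _
      have h1 : orderOf g ∣ p ^ 2 := by rw [← hqcard]; exact orderOf_dvd_natCard g
      obtain ⟨j, hj2, hj⟩ := (Nat.dvd_prime_pow hp).1 h1
      have hj1 : j ≠ 2 := by
        rintro rfl
        apply hna
        have := isCyclic_of_orderOf_eq_card g (by rw [hj, hqcard])
        exact isMulCommutative_of_isCyclic_quotient_center_self S
      have h2 : orderOf g ∣ p := by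
        rw [hj]
        have : p ^ j ∣ p ^ 1 := pow_dvd_pow p (by omega)
        rwa [pow_one] at this
      exact orderOf_dvd_iff_pow_eq_one.1 h2
  · right
    have hk2 : 2 ≤ k := by omega
    refine ⟨?_, ?_⟩
    · rw [hk]; exact Nat.pow_le_pow_right hp.pos hk2
    · intro B hB hBi
      by_contra hne
      have h0 := index_center_le_of_two_abelian A B hA hAi hB hBi hne
      rw [hidx, hk] at h0
      have h1 : p ^ k ≤ p ^ 1 := by
        rw [pow_one]; exact Nat.le_of_mul_le_mul_left h0 hp.pos
      have := (Nat.pow_le_pow_iff_right hp.one_lt).1 h1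
      omega

end Cfsg.Agent.S3807
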