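import Mathlib
import Cfsg.Statements.S3809
import Cfsg.Agent.H67.EvenRank

set_option autoImplicit false
open Cfsg

namespace Cfsg.Agent.S3809

open Cfsg.Agent.H67
open scoped commutatorElement

/-- In a group whose commutator subgroup is central of order `p`, `p`-th powers are central. -/
theorem pow_prime_mem_center {Q : Type*} [Group Q] (p : ℕ)
    (hcc : commutator Q ≤ Subgroup.center Q) (hcp : Nat.card (commutator Q) = p) (q : Q) :
    q ^ p ∈ Subgroup.center Q := by
  have hcomm : ∀ s t : Q, ⁅s, t⁆ ∈ commutator Q := by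
    intro s t
    rw [commutator_def]
    exact Subgroup.commutator_mem_commutator (Subgroup.mem_top s) (Subgroup.mem_top t)
  rw [Subgroup.mem_center_iff]
  intro r
  have h1 : commHomK (commutator Q) hcc r (fun s => hcomm s r) (q ^ p) = 1 := by
    rw [map_pow, ← hcp]
    exact pow_card_eq_one'
  have h2 : ⁅q ^ p, r⁆ = 1 := by
    have := congrArg Subtype.val h1
    rwa [commHomK_apply] at this
  rw [commutatorElement_eq_one_iff_mul_comm] at h2
  exact h2.symm

/-- Let S be a finite p-group with an extraspecial subgroup of index p. Then S has order p^(2+2n) for some n ≥ 1, derived length at most 3, and exponent dividing p³. -/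
theorem result {S : Type*} [Group S] [Finite S] (p : ℕ) [Fact p.Prime] (hS : IsPGroup p S) (Q : Subgroup S) (hQ : Cfsg.IsExtraspecial p ↥Q) (hQi : Q.index = p) :
    (∃ n : ℕ, 1 ≤ n ∧ Nat.card S = p ^ (2 + 2 * n)) ∧ derivedSeries S 3 = ⊥ ∧ ∀ x : S, x ^ (p ^ 3) = 1 := by
  have hQn : Q.Normal := normal_of_index_eq_prime hS Q hQi
  have hcomm : commutator ↥Q = Subgroup.center ↥Q := hQ.1.2.2
  have hZp : Nat.card (Subgroup.center ↥Q) = p := hQ.2
  refine ⟨?_, ?_, ?_⟩
  · obtain ⟨m, hm, hc⟩ := card_of_isExtraspecial p ↥Q hQ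
    refine ⟨m, hm, ?_⟩
    rw [← Subgroup.card_mul_index Q, hc, hQi]
    ring
  · -- derived series
    have hD1 : derivedSeries S 1 ≤ Q := by
      rw [derivedSeries_succ, derivedSeries_zero, ← commutator_def]
      rw [← Subgroup.Normal.quotient_commutative_iff_commutator_le]
      have hcard : Nat.card (S ⧸ Q) = p := by rw [← Subgroup.index_eq_card, hQi]
      have := isCyclic_of_prime_card hcard
      exact IsCyclic.isMulCommutative
    have hQQ : ⁅Q, Q⁆ ≤ ZQ Q := by
      rw [Subgroup.commutator_le]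
      intro a ha b hb
      have : ⁅(⟨a, ha⟩ : ↥Q), (⟨b, hb⟩ : ↥Q)⁆ ∈ commutator ↥Q := by
        rw [commutator_def]
        exact Subgroup.commutator_mem_commutator (Subgroup.mem_top _) (Subgroup.mem_top _)
      rw [hcomm] at this
      exact ⟨_, this, rfl⟩
    have hD2 : derivedSeries S 2 ≤ ZQ Q := by
      rw [derivedSeries_succ]
      exact (Subgroup.commutator_mono hD1 hD1).trans hQQ
    have hZZ : ⁅ZQ Q, ZQ Q⁆ = ⊥ := by
      rw [Subgroup.commutator_eq_bot_iff_le_centralizer]
      intro a ha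
      rw [Subgroup.mem_centralizer_iff]
      intro b hb
      exact ((mem_ZQ_iff Q a).1 ha).2 b (ZQ_le Q hb)
    rw [derivedSeries_succ, eq_bot_iff, ← hZZ]
    exact Subgroup.commutator_mono hD2 hD2
  · intro x
    have h1 : x ^ p ∈ Q := by
      have := Subgroup.pow_index_mem Q x
      rwa [hQi] at this
    have h2 : (⟨x ^ p, h1⟩ : ↥Q) ^ p ∈ Subgroup.center ↥Q :=
      pow_prime_mem_center p hcomm.le (by rw [hcomm]; exact hZp) _
    have h3' : ∀ z : Subgroup.center ↥Q, z ^ p = 1 := by
      intro z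
      have := pow_card_eq_one' (x := z)
      rwa [hZp] at this
    have h3 : (⟨(⟨x ^ p, h1⟩ : ↥Q) ^ p, h2⟩ : Subgroup.center ↥Q) ^ p = 1 := h3' _
    have h4 := congrArg (fun z : Subgroup.center ↥Q => ((z : ↥Q) : S)) h3
    simp only [Subgroup.coe_pow, Subgroup.coe_one] at h4
    rw [show p ^ 3 = p * p * p by ring, pow_mul, pow_mul]
    exact h4

end Cfsg.Agent.S3809
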