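import Mathlib
import Cfsg.Statements.S3810
import Cfsg.Agent.H67.Abelian

set_option autoImplicit false
open Cfsg

namespace Cfsg.Agent.S3810

open Cfsg.Agent.H67
open scoped commutatorElement

theorem forward {S : Type*} [Group S] [Finite S] (p : ℕ) [Fact p.Prime] (hS : IsPGroup p S)
    (Q : Subgroup S) (hQ : Cfsg.IsExtraspecial p ↥Q) (hQi : Q.index = p)
    (A : Subgroup S) (hA : IsMulCommutative ↥A) (hAi : A.index = p) : Nat.card S = p ^ 4 := by
  have hp : p.Prime := Fact.out
  have hAn : A.Normal := normal_of_index_eq_prime hS A hAi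
  have hcomm : commutator ↥Q = Subgroup.center ↥Q := hQ.1.2.2
  have hZp : Nat.card (Subgroup.center ↥Q) = p := hQ.2
  have hcp : Nat.card (commutator ↥Q) = p := by rw [hcomm]; exact hZp
  set B : Subgroup ↥Q := A.subgroupOf Q with hB
  have hBdvd : B.index ∣ p := by
    have := Subgroup.relIndex_dvd_index_of_normal A Q
    rwa [hAi] at this
  obtain ⟨x0, y0, hxy⟩ := exists_not_comm_of_card_commutator_eq_prime (Q := ↥Q) (p := p) hcp
  have hBtop : B ≠ ⊤ := by
    intro h
    apply hxy
    have hx : x0 ∈ B := by rw [h]; trivial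
    have hy : y0 ∈ B := by rw [h]; trivial
    rw [hB, Subgroup.mem_subgroupOf] at hx hy
    exact Subtype.ext (mul_comm_of_isMulCommutative hA hx hy)
  have hBi : B.index = p := by
    rcases (Nat.dvd_prime hp).1 hBdvd with h | h
    · exact absurd (Subgroup.index_eq_one.1 h) hBtop
    · exact h
  obtain ⟨x, hx⟩ : ∃ x : ↥Q, x ∉ B := by
    by_contra hcon
    simp only [not_exists, not_not] at hcon
    exact hBtop (eq_top_iff.2 (fun x _ => hcon x))
  have hcommel : ∀ s t : ↥Q, ⁅s, t⁆ ∈ commutator ↥Q := by
    intro s t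
    rw [commutator_def]
    exact Subgroup.commutator_mem_commutator (Subgroup.mem_top s) (Subgroup.mem_top t)
  set Cx := Subgroup.centralizer ({x} : Set ↥Q) with hCx
  have hCxdvd : Cx.index ∣ p := by
    have := index_centralizer_dvd_card (commutator ↥Q) hcomm.le x (fun s => hcommel s x)
    rwa [hcp] at this
  have hle : B ⊓ Cx ≤ Subgroup.center ↥Q := by
    intro z hz
    have hzB : z ∈ B := hz.1
    have hzx : z ∈ Cx := hz.2
    have h1 : B ≤ Subgroup.centralizer ({z} : Set ↥Q) := by
      intro b hb
      rw [Subgroup.mem_centralizer_iff]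
      intro w hw
      rw [Set.mem_singleton_iff.1 hw]
      rw [hB, Subgroup.mem_subgroupOf] at hb hzB
      exact Subtype.ext (mul_comm_of_isMulCommutative hA hzB hb)
    have h2 : x ∈ Subgroup.centralizer ({z} : Set ↥Q) := by
      rw [Subgroup.mem_centralizer_iff]
      intro w hw
      rw [Set.mem_singleton_iff.1 hw]
      exact (Subgroup.mem_centralizer_iff.1 hzx x rfl).symm
    have h3 := sup_eq_top_of_index_eq_prime B (Subgroup.centralizer ({z} : Set ↥Q)) hBi
      (fun h => hx (h h2))
    rw [sup_eq_right.2 h1] at h3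
    rw [Subgroup.mem_center_iff]
    intro g
    have : g ∈ Subgroup.centralizer ({z} : Set ↥Q) := by rw [h3]; trivial
    exact (Subgroup.mem_centralizer_iff.1 this z rfl).symm
  have hidxle : (Subgroup.center ↥Q).index ≤ p * p := by
    have h1 : (Subgroup.center ↥Q).index ∣ (B ⊓ Cx).index := Subgroup.index_dvd_of_le hle
    have h2 : (B ⊓ Cx).index ≤ B.index * Cx.index := Subgroup.index_inf_le
    have h3 : Cx.index ≤ p := Nat.le_of_dvd hp.pos hCxdvd
    have h4 : (B ⊓ Cx).index ≠ 0 := Subgroup.index_ne_zero_of_finite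
    have h5 := Nat.le_of_dvd (Nat.pos_of_ne_zero h4) h1
    calc (Subgroup.center ↥Q).index ≤ (B ⊓ Cx).index := h5
      _ ≤ B.index * Cx.index := h2
      _ ≤ p * p := by rw [hBi]; exact Nat.mul_le_mul_left p h3
  obtain ⟨m, hm, hmi⟩ := index_center_eq_pow_two_mul p ↥Q hcomm.le hcp
  have hm1 : m = 1 := by
    rw [hmi, ← sq] at hidxle
    have := (Nat.pow_le_pow_iff_right hp.one_lt).1 hidxle
    omega
  subst hm1
  have hQcard : Nat.card Q = p * p ^ 2 := by
    rw [← Subgroup.card_mul_index (Subgroup.center ↥Q), hZp, hmi]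
  rw [← Subgroup.card_mul_index Q, hQcard, hQi]
  ring

theorem backward {S : Type*} [Group S] [Finite S] (p : ℕ) [Fact p.Prime] (hS : IsPGroup p S)
    (Q : Subgroup S) (hQ : Cfsg.IsExtraspecial p ↥Q) (hQi : Q.index = p)
    (hcard : Nat.card S = p ^ 4) : ∃ A : Subgroup S, IsMulCommutative ↥A ∧ A.index = p := by
  have hp : p.Prime := Fact.out
  have hQn : Q.Normal := normal_of_index_eq_prime hS Q hQi
  have hcomm : commutator ↥Q = Subgroup.center ↥Q := hQ.1.2.2
  have hZp : Nat.card (Subgroup.center ↥Q) = p := hQ.2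
  have hcp : Nat.card (commutator ↥Q) = p := by rw [hcomm]; exact hZp
  have hQcard : Nat.card Q = p ^ 3 := by
    have h1 := Subgroup.card_mul_index Q
    rw [hQi, hcard] at h1
    have : Nat.card Q * p = p ^ 3 * p := by rw [h1]; ring
    exact Nat.eq_of_mul_eq_mul_right hp.pos this
  obtain ⟨x0, y0, hxy⟩ := exists_not_comm_of_card_commutator_eq_prime (Q := ↥Q) (p := p) hcp
  rcases center_dichotomy hS Q hZp hQi with hc | ⟨htop, hc⟩
  · -- Z(S) = Z(Q) of order p
    have hZcard : Nat.card (Subgroup.center S) = p := by rw [hc, card_ZQ, hZp]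
    set N : Subgroup (S ⧸ Subgroup.center S) := Q.map (QuotientGroup.mk' (Subgroup.center S)) with hN
    have hNn : N.Normal := hQn.map _ (QuotientGroup.mk'_surjective _)
    have hNbot : N ≠ ⊥ := by
      intro h
      rw [hN, Subgroup.map_eq_bot_iff, QuotientGroup.ker_mk'] at h
      have := Subgroup.card_le_of_le h
      rw [hQcard, hZcard] at this
      have h2 : p ^ 1 < p ^ 3 := Nat.pow_lt_pow_right hp.one_lt (by norm_num)
      rw [pow_one] at h2
      omega
    obtain ⟨w, hwN, hw1, hwc⟩ := exists_ne_one_mem_center_of_normal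
      (IsPGroup.to_quotient hS (Subgroup.center S)) N hNbot
    obtain ⟨y, hyQ, rfl⟩ := hwN
    have hyZ : y ∉ Subgroup.center S := by
      intro h
      apply hw1
      exact (QuotientGroup.eq_one_iff y).2 h
    have hcomm_y : ∀ s : S, ⁅s, y⁆ ∈ Subgroup.center S := by
      intro s
      rw [← QuotientGroup.eq_one_iff]
      have h1 : ((⁅s, y⁆ : S) : S ⧸ Subgroup.center S) =
          ⁅(QuotientGroup.mk' (Subgroup.center S)) s, (QuotientGroup.mk' (Subgroup.center S)) y⁆ :=
        map_commutatorElement (QuotientGroup.mk' (Subgroup.center S)) s y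
      rw [h1, commutatorElement_eq_one_iff_mul_comm]
      exact Subgroup.mem_center_iff.1 hwc _
    set C := Subgroup.centralizer ({y} : Set S) with hC
    have hCi : C.index = p :=
      index_centralizer_eq_prime (Subgroup.center S) le_rfl hZcard y hcomm_y hyZ
    set M := Subgroup.center S ⊔ Subgroup.zpowers y with hM
    have hyC : y ∈ C := by
      rw [hC, Subgroup.mem_centralizer_iff]
      intro h hh
      rw [Set.mem_singleton_iff.1 hh]
    have hMC : M ≤ C :=
      sup_le (Subgroup.center_le_centralizer _) (by rw [Subgroup.zpowers_le]; exact hyC)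
    have hCM : C ≤ Subgroup.centralizer (M : Set S) := by
      rw [Subgroup.le_centralizer_iff]
      refine sup_le (Subgroup.center_le_centralizer _) ?_
      rw [Subgroup.zpowers_le, Subgroup.mem_centralizer_iff]
      intro c hc
      exact (Subgroup.mem_centralizer_iff.1 hc y rfl).symm
    have hCcard : Nat.card C = p ^ 3 := by
      have h1 := Subgroup.card_mul_index C
      rw [hCi, hcard] at h1
      have : Nat.card C * p = p ^ 3 * p := by rw [h1]; ring
      exact Nat.eq_of_mul_eq_mul_right hp.pos this
    have hZM : Subgroup.center S < M := by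
      refine lt_of_le_of_ne le_sup_left ?_
      intro h
      apply hyZ
      rw [h]
      exact Subgroup.mem_sup_right (Subgroup.mem_zpowers y)
    have hMcard : p < Nat.card M := by
      have := card_lt_card_of_lt hZM
      rwa [hZcard] at this
    have hrel : M.relIndex C ∣ p := by
      have h1 := card_mul_relIndex_of_le hMC
      rw [hCcard] at h1
      have h2 : Nat.card M ∣ p ^ 3 := Dvd.intro _ h1
      obtain ⟨k, hk3, hk⟩ := (Nat.dvd_prime_pow hp).1 h2
      rw [hk] at hMcard h1
      have hk2 : 1 < k := by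
        have : p ^ 1 < p ^ k := by rwa [pow_one]
        exact (Nat.pow_lt_pow_iff_right hp.one_lt).1 this
      have h3 : p ^ 3 = p ^ k * p ^ (3 - k) := by
        rw [← pow_add]; congr 1; omega
      rw [h3] at h1
      have h4 : M.relIndex C = p ^ (3 - k) :=
        Nat.eq_of_mul_eq_mul_left (pow_pos hp.pos k) h1
      rw [h4]
      have : p ^ (3 - k) ∣ p ^ 1 := pow_dvd_pow p (by omega)
      rwa [pow_one] at this
    exact ⟨C, isMulCommutative_of_central_relIndex_dvd_prime hMC hCM hrel, hCi⟩
  · -- S = Q Z(S), |Z(S)| = p^2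
    have hxZ : (x0 : S) ∉ Subgroup.center S := by
      intro h
      apply hxy
      exact Subtype.ext ((Subgroup.mem_center_iff.1 h (y0 : S)).symm)
    set A := Subgroup.center S ⊔ Subgroup.zpowers (x0 : S) with hA
    have hAab : IsMulCommutative ↥A := isMulCommutative_sup_zpowers _ le_rfl _
    have hZA : Subgroup.center S < A := by
      refine lt_of_le_of_ne le_sup_left ?_
      intro h
      apply hxZ
      rw [h]
      exact Subgroup.mem_sup_right (Subgroup.mem_zpowers _)
    have hAtop : A ≠ ⊤ := by
      intro h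
      apply hxy
      have h1 : (x0 : S) ∈ A := by rw [h]; trivial
      have h2 : (y0 : S) ∈ A := by rw [h]; trivial
      exact Subtype.ext (mul_comm_of_isMulCommutative hAab h1 h2)
    have hAcard : Nat.card A = p ^ 3 := by
      have h1 : Nat.card A ∣ p ^ 4 := by
        rw [← hcard]; exact Subgroup.card_subgroup_dvd_card A
      obtain ⟨k, hk4, hk⟩ := (Nat.dvd_prime_pow hp).1 h1
      have h2 := card_lt_card_of_lt hZA
      rw [hc, hk] at h2
      have hk2 : 2 < k := (Nat.pow_lt_pow_iff_right hp.one_lt).1 h2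
      have hk4' : k ≠ 4 := by
        rintro rfl
        apply hAtop
        apply Subgroup.eq_top_of_le_card
        rw [hcard, hk]
      have : k = 3 := by omega
      rw [hk, this]
    refine ⟨A, hAab, ?_⟩
    have h1 := Subgroup.card_mul_index A
    rw [hAcard, hcard] at h1
    have : p ^ 3 * A.index = p ^ 3 * p := by rw [h1]; ring
    exact Nat.eq_of_mul_eq_mul_left (pow_pos hp.pos 3) this

/-- Let S be a finite p-group with an extraspecial subgroup of index p. Then S has an abelian subgroup of index p if and only if S has order p⁴. -/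
theorem result {S : Type*} [Group S] [Finite S] (p : ℕ) [Fact p.Prime] (hS : IsPGroup p S) (Q : Subgroup S) (hQ : Cfsg.IsExtraspecial p ↥Q) (hQi : Q.index = p) :
    (∃ A : Subgroup S, IsMulCommutative ↥A ∧ A.index = p) ↔ Nat.card S = p ^ 4 := by
  constructor
  · rintro ⟨A, hA, hAi⟩
    exact forward p hS Q hQ hQi A hA hAi
  · exact backward p hS Q hQ hQi

end Cfsg.Agent.S3810
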