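import Cfsg.Statements.S3811
import Cfsg.Agent.H36.SoftClass

set_option autoImplicit false
open Cfsg

namespace Cfsg.Agent.S3811

/-- Let P be a finite p-group and E an abelian subgroup of P that contains its centralizer, has index p in its normalizer, and has index at least p² in P. Then the subgroups of P containing E are totally ordered by inclusion, each proper one has index p in its normalizer (so they form the normalizer tower of E, with all steps of index p), and the i-th member of the tower above E has nilpotency class i + 1 whenever it is a proper subgroup of P. -/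
theorem result {P : Type*} [Group P] [Finite P] (p : ℕ) [Fact p.Prime] (hP : IsPGroup p P)
    (E : Subgroup P) (hEab : IsMulCommutative ↥E) (hC : Subgroup.centralizer (E : Set P) ≤ E)
    (hN : (E.subgroupOf (Subgroup.normalizer (E : Set P))).index = p) (hidx : p ^ 2 ≤ E.index) :
    (∀ K L : Subgroup P, E ≤ K → E ≤ L → K ≤ L ∨ L ≤ K) ∧
      (∀ K : Subgroup P, E ≤ K → K ≠ ⊤ → (K.subgroupOf (Subgroup.normalizer (K : Set P))).index = p) ∧
      ∀ (i : ℕ) (K : Subgroup P) [Group.IsNilpotent ↥K], E ≤ K → K ≠ ⊤ → K.index * p ^ i = E.index →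
        Group.nilpotencyClass ↥K = i + 1 := by
  have hp : p.Prime := Fact.out
  have hsoft : Cfsg.Agent.H36.SoftData p E :=
    { pgroup := hP
      comm := fun a ha b hb => by
        have := mul_comm' (⟨a, ha⟩ : E) ⟨b, hb⟩
        exact congrArg Subtype.val this
      cent := hC
      idxN := hN
      idx := hidx }
  refine ⟨fun K L hK hL => hsoft.le_or_le hK hL, fun K hK hKtop => hsoft.relIndex_normalizer hK hKtop, ?_⟩
  intro i K _ hEK hKtop hidxK
  have hcard : Nat.card K = Nat.card E * p ^ i := by
    have h1 := Subgroup.index_mul_card K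
    have h2 := Subgroup.index_mul_card E
    have hKpos : 0 < K.index := Nat.pos_of_ne_zero Subgroup.index_ne_zero_of_finite
    rw [← hidxK, ← h1] at h2
    have h3 : K.index * (p ^ i * Nat.card E) = K.index * Nat.card K := by rw [← h2]; ring
    rw [mul_comm (Nat.card E)]
    exact (Nat.eq_of_mul_eq_mul_left hKpos h3).symm
  obtain ⟨h1, h2⟩ := hsoft.lcs_class i K hEK hKtop hcard
  have h3 : (⊤ : Subgroup ↥K).lowerCentralSeries (i + 1) = ⊥ := by
    rw [← Subgroup.map_eq_bot_iff_of_injective _ K.subtype_injective,
      Subgroup.top_subtype_lowerCentralSeries]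
    exact h1
  have h4 : (⊤ : Subgroup ↥K).lowerCentralSeries i ≠ ⊥ := by
    intro h5
    apply h2
    rw [← Subgroup.top_subtype_lowerCentralSeries, h5, Subgroup.map_bot]
  have h6 := Subgroup.lowerCentralSeries_eq_bot_iff_nilpotencyClass_le.mp h3
  have h7 : ¬ Group.nilpotencyClass ↥K ≤ i := fun h8 =>
    h4 (Subgroup.lowerCentralSeries_eq_bot_iff_nilpotencyClass_le.mpr h8)
  omega

end Cfsg.Agent.S3811
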