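import Mathlib
import Cfsg.Statements.S3824
import Cfsg.Agent.S0143
import Cfsg.Agent.H67.Abelian
import Cfsg.Agent.H67.Subnormal

set_option autoImplicit false
open Cfsg

namespace Cfsg.Agent.S3824

open Cfsg.Agent.H67

universe u

/-- second isomorphism theorem, as a statement about relative indices. -/
theorem relIndex_eq_relIndex_sup_of_normal {G : Type*} [Group G] [Finite G] (A N : Subgroup G)
    [N.Normal] : A.relIndex N = A.relIndex (A ⊔ N) := by
  have h1 := card_mul_relIndex_of_le (le_sup_left : A ≤ A ⊔ N)
  have h2 := card_mul_relIndex_of_le (le_sup_right : N ≤ A ⊔ N)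
  rw [Subgroup.relIndex_sup_right] at h2
  have h3 := card_eq_card_inf_mul_relIndex A N
  have h4 := card_eq_card_inf_mul_relIndex N A
  rw [inf_comm] at h4
  have hpos : 0 < Nat.card (A ⊓ N : Subgroup G) := Nat.card_pos
  have hApos : 0 < Nat.card A := Nat.card_pos
  have hrpos : 0 < N.relIndex A := by
    rcases Nat.eq_zero_or_pos (N.relIndex A) with h | h
    · rw [h, mul_zero] at h3; omega
    · exact h
  have key : Nat.card (A ⊓ N : Subgroup G) * N.relIndex A * A.relIndex N =
      Nat.card (A ⊓ N : Subgroup G) * N.relIndex A * A.relIndex (A ⊔ N) := by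
    calc Nat.card (A ⊓ N : Subgroup G) * N.relIndex A * A.relIndex N
        = (Nat.card (A ⊓ N : Subgroup G) * A.relIndex N) * N.relIndex A := by ring
      _ = Nat.card N * N.relIndex A := by rw [← h4]
      _ = Nat.card (A ⊔ N : Subgroup G) := h2
      _ = Nat.card A * A.relIndex (A ⊔ N) := h1.symm
      _ = _ := by rw [h3]
  exact Nat.eq_of_mul_eq_mul_left (Nat.mul_pos hpos hrpos) key

theorem aux (n : ℕ) : ∀ (G : Type u) [Group G] [Finite G], Nat.card G = n →
    ∀ (A : Subgroup G), IsMulCommutative A → (∃ k : ℕ, A.index = 2 ^ k) → Group.IsSolvable G := by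
  induction n using Nat.strong_induction_on with
  | _ n ih =>
    intro G _ _ hn A hA hidx
    obtain ⟨k, hk⟩ := hidx
    by_cases hN : ∃ N : Subgroup G, N.Normal ∧ N ≠ ⊥ ∧ N ≠ ⊤
    · obtain ⟨N, hNn, hNbot, hNtop⟩ := hN
      have hNcard : Nat.card N < n := hn ▸ card_lt_of_lt_top (lt_top_iff_ne_top.2 hNtop)
      have hAN : IsMulCommutative ↥(A.subgroupOf N) :=
        ⟨⟨fun a b => Subtype.ext (Subtype.ext (mul_comm_of_isMulCommutative hA
          (Subgroup.mem_subgroupOf.1 a.2) (Subgroup.mem_subgroupOf.1 b.2)))⟩⟩
      have hidxN : ∃ j : ℕ, (A.subgroupOf N).index = 2 ^ j := by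
        have h1 : A.relIndex N ∣ A.index := by
          rw [relIndex_eq_relIndex_sup_of_normal]
          exact Subgroup.relIndex_dvd_index_of_le le_sup_left
        rw [hk] at h1
        obtain ⟨j, _, hj⟩ := (Nat.dvd_prime_pow Nat.prime_two).1 h1
        exact ⟨j, hj⟩
      have hNsol : Group.IsSolvable N := ih _ hNcard N rfl _ hAN hidxN
      have hQcard : Nat.card (G ⧸ N) < n := by
        rw [← hn, ← Subgroup.index_eq_card]
        have h1 := Subgroup.card_mul_index N
        have h2 : 1 < Nat.card N := by
          rw [Finite.one_lt_card_iff_nontrivial]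
          exact (Subgroup.nontrivial_iff_ne_bot N).2 hNbot
        have h3 : 0 < N.index := Nat.pos_of_ne_zero Subgroup.index_ne_zero_of_finite
        nlinarith
      have hAQ : IsMulCommutative ↥(A.map (QuotientGroup.mk' N)) := by
        refine ⟨⟨?_⟩⟩
        rintro ⟨_, ⟨a, ha, rfl⟩⟩ ⟨_, ⟨b, hb, rfl⟩⟩
        apply Subtype.ext
        show (QuotientGroup.mk' N) a * (QuotientGroup.mk' N) b =
          (QuotientGroup.mk' N) b * (QuotientGroup.mk' N) a
        rw [← map_mul, ← map_mul, mul_comm_of_isMulCommutative hA ha hb]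
      have hidxQ : ∃ j : ℕ, (A.map (QuotientGroup.mk' N)).index = 2 ^ j := by
        have h0 : (A.map (QuotientGroup.mk' N)).index = (A ⊔ N).index := by
          rw [Subgroup.index_map, QuotientGroup.ker_mk',
            MonoidHom.range_eq_top.2 (QuotientGroup.mk'_surjective N), Subgroup.index_top, mul_one]
        have h1 : (A ⊔ N).index ∣ A.index := Subgroup.index_dvd_of_le le_sup_left
        rw [hk] at h1
        obtain ⟨j, _, hj⟩ := (Nat.dvd_prime_pow Nat.prime_two).1 h1
        exact ⟨j, by rw [h0, hj]⟩
      have hQsol : Group.IsSolvable (G ⧸ N) := ih _ hQcard (G ⧸ N) rfl _ hAQ hidxQ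
      exact Group.isSolvable_of_ker_le_range N.subtype (QuotientGroup.mk' N)
        (by rw [QuotientGroup.ker_mk', Subgroup.range_subtype])
    · by_cases hsub : Subsingleton G
      · exact Group.isSolvable_of_comm (fun a b => Subsingleton.elim _ _)
      have hnt : Nontrivial G := not_subsingleton_iff_nontrivial.1 hsub
      have hsimple : IsSimpleGroup G := by
        refine ⟨fun H hH => ?_⟩
        by_contra hcon
        rw [not_or] at hcon
        exact hN ⟨H, hH, hcon.1, hcon.2⟩
      by_cases hAbot : A = ⊥
      · have hcard : Nat.card G = 2 ^ k := by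
          rw [← Subgroup.card_mul_index A, hk, hAbot, Subgroup.card_bot, one_mul]
        have : Fact (Nat.Prime 2) := ⟨Nat.prime_two⟩
        have hP : IsPGroup 2 G := IsPGroup.of_card hcard
        have := hP.isNilpotent
        exact IsNilpotent.to_isSolvable
      · obtain ⟨a, ha1⟩ := (Subgroup.ne_bot_iff_exists_ne_one).1 hAbot
        have hle : A ≤ Subgroup.centralizer ({(a : G)} : Set G) := by
          intro b hb
          rw [Subgroup.mem_centralizer_iff]
          intro w hw
          rw [Set.mem_singleton_iff.1 hw]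
          exact mul_comm_of_isMulCommutative hA a.2 hb
        have hdvd : (Subgroup.centralizer ({(a : G)} : Set G)).index ∣ A.index :=
          Subgroup.index_dvd_of_le hle
        rw [hk] at hdvd
        obtain ⟨j, _, hj⟩ := (Nat.dvd_prime_pow Nat.prime_two).1 hdvd
        have ha1' : (a : G) ≠ 1 := by
          intro h
          exact ha1 (Subtype.ext h)
        have hprime := Cfsg.Agent.S0143.result 2 j Nat.prime_two (a : G) ha1' hj
        have : Fact (Nat.card G).Prime := ⟨hprime⟩
        have hcyc : IsCyclic G := isCyclic_of_prime_card (α := G) rfl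
        have hcomm : IsMulCommutative G := IsCyclic.isMulCommutative
        exact Group.isSolvable_of_comm (fun x y => hcomm.is_comm.comm x y)

/-- Every finite group having an abelian subgroup whose index is a power of 2 is solvable. -/
theorem result {G : Type*} [Group G] [Finite G]
    (A : Subgroup G) (hA : IsMulCommutative A) (hidx : ∃ k : ℕ, A.index = 2 ^ k) : Group.IsSolvable G := by
  exact aux _ G rfl A hA hidx

end Cfsg.Agent.S3824
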