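import Mathlib
import Cfsg.Statements.S3868
import Cfsg.Agent.H68.MinPClosed

set_option autoImplicit false
open Cfsg

namespace Cfsg.Agent.S3868

open Cfsg.Agent.H68

/-- Structure of the non-simple minimal non-p-closed groups. Call a finite group p-closed when its Sylow p-subgroups are normal, and minimal non-p-closed when it is not p-closed but every proper subgroup and every proper quotient is. If such a group G is not simple, then there is a prime q ≠ p such that G has order p · q^e, where e is the multiplicative order of q modulo p, and G has a normal subgroup A of order q^e that is elementary abelian and is a minimal normal subgroup of G (so G is the semidirect product of A by a group of order p acting irreducibly). -/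
theorem result {G : Type*} [Group G] [Finite G] {p : ℕ} [Fact p.Prime]
    (hnc : ¬ Cfsg.IsPClosed p G) (hsub : ∀ H : Subgroup G, H ≠ ⊤ → Cfsg.IsPClosed p ↥H)
    (hquo : ∀ (N : Subgroup G) [N.Normal], N ≠ ⊥ → Cfsg.IsPClosed p (G ⧸ N)) (hns : ¬ IsSimpleGroup G) :
    ∃ q : ℕ, q.Prime ∧ q ≠ p ∧ Nat.card G = p * q ^ orderOf (q : ZMod p) ∧
      ∃ A : Subgroup G, A.Normal ∧ Nat.card ↥A = q ^ orderOf (q : ZMod p) ∧ Cfsg.IsElementaryAbelian q A ∧
        ∀ B : Subgroup G, B.Normal → B ≤ A → B = ⊥ ∨ B = A := by
  classical
  have hp : p.Prime := Fact.out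
  -- no Sylow `p`-subgroup is normal
  have hPall : ∀ P : Sylow p G, ¬ (P : Subgroup G).Normal := by
    intro P hP
    apply hnc
    intro Q
    obtain ⟨g, rfl⟩ := MulAction.exists_smul_eq G P Q
    rw [Sylow.smul_eq_of_normal]
    exact hP
  have hnt : Nontrivial G := by
    by_contra h
    rw [not_nontrivial_iff_subsingleton] at h
    obtain ⟨P⟩ : Nonempty (Sylow p G) := inferInstance
    apply hPall P
    have : (P : Subgroup G) = ⊤ := Subsingleton.elim _ _
    rw [this]; infer_instance
  -- a minimal normal subgroup
  obtain ⟨N, hNn, hNbot, hNtop, hNmin⟩ : ∃ N : Subgroup G, N.Normal ∧ N ≠ ⊥ ∧ N ≠ ⊤ ∧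
      ∀ B : Subgroup G, B.Normal → B ≤ N → B = ⊥ ∨ B = N := by
    have hex : ∃ N : Subgroup G, N.Normal ∧ N ≠ ⊥ ∧ N ≠ ⊤ := by
      by_contra h
      push Not at h
      apply hns
      exact { toNontrivial := hnt
              eq_bot_or_eq_top_of_normal := fun N hN => by
                by_contra hc
                push Not at hc
                exact hc.2 (h N hN hc.1) }
    obtain ⟨N, ⟨hNn, hNbot, hNtop⟩, hmin⟩ :=
      exists_minimal_of_wellFoundedLT (fun N : Subgroup G => N.Normal ∧ N ≠ ⊥ ∧ N ≠ ⊤) hex
    refine ⟨N, hNn, hNbot, hNtop, fun B hBn hBN => ?_⟩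
    by_cases hB : B = ⊥
    · exact Or.inl hB
    · right
      have hBtop : B ≠ ⊤ := by
        rintro rfl
        exact hNtop (top_le_iff.mp hBN)
      exact le_antisymm hBN (hmin ⟨hBn, hB, hBtop⟩ hBN)
  obtain ⟨P⟩ : Nonempty (Sylow p G) := inferInstance
  have hPn := hPall P
  -- Step 1: `P N = G`
  have hPN : (P : Subgroup G) ⊔ N = ⊤ := by
    by_contra hne
    have hnorm : ((P : Subgroup G) ⊔ N).Normal :=
      sup_normal_of_pclosed_quotient N (hquo N hNbot) P
    exact hPn (sylow_normal_of_le_normal_pclosed _ P le_sup_left (hsub _ hne))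
  -- Step 2: `p` does not divide the order of `N`
  have hpN : ¬ p ∣ Nat.card N := by
    intro hdvd
    obtain ⟨S⟩ : Nonempty (Sylow p N) := inferInstance
    have hSn : (S : Subgroup N).Normal := hsub N hNtop S
    have hSc : (S : Subgroup N).Characteristic := Sylow.characteristic_of_normal S hSn
    have hSG : ((S : Subgroup N).map N.subtype).Normal :=
      ConjAct.normal_of_characteristic_of_normal
    rcases hNmin _ hSG (Subgroup.map_subtype_le _) with h | h
    · have : (S : Subgroup N) = ⊥ :=
        (Subgroup.map_eq_bot_iff_of_injective _ N.subtype_injective).mp h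
      exact Sylow.ne_bot_of_dvd_card S hdvd this
    · have hNp : IsPGroup p N := by
        have := S.isPGroup'.map N.subtype
        rw [h] at this
        exact this
      have hle : N ≤ (P : Subgroup G) := hNp.le_sylow_of_normal P
      apply hPn
      have : (P : Subgroup G) = ⊤ := by rw [← hPN]; exact (sup_eq_left.mpr hle).symm
      rw [this]; infer_instance
  have hPNdis : Disjoint (P : Subgroup G) N := by
    rw [disjoint_iff, Subgroup.eq_bot_iff_forall]
    rintro x ⟨hxP, hxN⟩
    obtain ⟨j, hj⟩ := P.isPGroup' ⟨x, hxP⟩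
    have hj' : x ^ p ^ j = 1 := by simpa using congrArg Subtype.val hj
    exact eq_one_of_pow_prime_pow_eq_one hpN hxN hj'
  -- `P` does not centralize `N`
  have hcent : ¬ N ≤ Subgroup.centralizer ((P : Subgroup G) : Set G) := by
    intro h
    apply hPn
    rw [← Subgroup.normalizer_eq_top_iff, eq_top_iff, ← hPN]
    refine sup_le Subgroup.le_normalizer ?_
    intro n hn
    apply mem_normalizer_of_conj_mem
    intro u hu
    have h1 : u * n = n * u := (Subgroup.mem_centralizer_iff.mp (h hn)) u hu
    have : n * u * n⁻¹ = u := by rw [← h1]; group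
    rwa [this]
  -- Step 3: `N` is a `q`-group for some prime `q`
  obtain ⟨q, hqprime, hNq⟩ : ∃ q : ℕ, q.Prime ∧ IsPGroup q N := by
    by_contra hcon
    push Not at hcon
    apply hcent
    have key : ∀ q : ℕ, q.Prime → q ^ (Nat.card N).factorization q ∣
        Nat.card ↥(N ⊓ Subgroup.centralizer ((P : Subgroup G) : Set G)) := by
      intro q hq
      have : Fact q.Prime := ⟨hq⟩
      obtain ⟨Q, hQN, hQcard, hQq, hPQ⟩ := exists_invariant_sylow N hpN P q
      have hpQ : ¬ p ∣ Nat.card Q := fun h => hpN (h.trans (Subgroup.card_dvd_of_le hQN))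
      by_cases htop : (P : Subgroup G) ⊔ Q = ⊤
      · exfalso
        have hQn : Q.Normal := by
          rw [← Subgroup.normalizer_eq_top_iff, eq_top_iff, ← htop]
          exact sup_le hPQ Subgroup.le_normalizer
        rcases hNmin Q hQn hQN with h | h
        · apply hPn
          rw [h, sup_bot_eq] at htop
          rw [htop]; infer_instance
        · exact hcon q hq (h ▸ hQq)
      · have hcl := hsub _ htop
        have hQC : Q ≤ N ⊓ Subgroup.centralizer ((P : Subgroup G) : Set G) := by
          refine le_inf hQN ?_
          intro y hy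
          rw [Subgroup.mem_centralizer_iff]
          intro u hu
          exact commute_of_pclosed _ hcl (P : Subgroup G) Q le_sup_left le_sup_right P.isPGroup' hpQ
            (sup_le hPQ Subgroup.le_normalizer) hu hy
        rw [← hQcard]
        exact Subgroup.card_dvd_of_le hQC
    have hdvd : Nat.card N ∣ Nat.card ↥(N ⊓ Subgroup.centralizer ((P : Subgroup G) : Set G)) := by
      rw [← Nat.factorization_prime_le_iff_dvd Nat.card_pos.ne' Nat.card_pos.ne']
      intro q hq
      exact (hq.pow_dvd_iff_le_factorization Nat.card_pos.ne').mp (key q hq)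
    have hle : Nat.card N ≤ Nat.card ↥(N ⊓ Subgroup.centralizer ((P : Subgroup G) : Set G)) :=
      Nat.le_of_dvd Nat.card_pos hdvd
    have heq : N ⊓ Subgroup.centralizer ((P : Subgroup G) : Set G) = N :=
      Subgroup.eq_of_le_of_card_ge inf_le_left hle
    rw [← heq]
    exact inf_le_right
  have : Fact q.Prime := ⟨hqprime⟩
  have hqp : q ≠ p := by
    rintro rfl
    rcases hNq.card_eq_or_dvd with h | h
    · exact hNbot (Subgroup.eq_bot_of_card_eq _ h)
    · exact hpN h
  -- Step 4: `N` is elementary abelian
  have hEA : Cfsg.IsElementaryAbelian q N := isElementaryAbelian_of_minimal_normal N hNq hNbot hNmin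
  -- Step 5: `P` acts faithfully on `N`
  have hK : (P : Subgroup G) ⊓ Subgroup.centralizer (N : Set G) = ⊥ := by
    by_contra hKne
    have hKn : ((P : Subgroup G) ⊓ Subgroup.centralizer (N : Set G)).Normal := by
      rw [← Subgroup.normalizer_eq_top_iff, eq_top_iff, ← hPN]
      refine sup_le ?_ ?_
      · intro u hu
        apply mem_normalizer_of_conj_mem
        intro k hk
        refine ⟨(P : Subgroup G).mul_mem ((P : Subgroup G).mul_mem hu hk.1)
          ((P : Subgroup G).inv_mem hu), ?_⟩
        exact (inferInstance : (Subgroup.centralizer (N : Set G)).Normal).conj_mem k hk.2 u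
      · intro n hn
        apply mem_normalizer_of_conj_mem
        intro k hk
        have h1 : n * k = k * n := (Subgroup.mem_centralizer_iff.mp hk.2) n hn
        have : n * k * n⁻¹ = k := by rw [h1]; group
        rwa [this]
    have h1 := sup_normal_of_pclosed_quotient _ (hquo _ hKne) P
    rw [sup_eq_left.mpr inf_le_left] at h1
    exact hPn h1
  -- `P` has order `p`
  have hPcard : Nat.card (P : Subgroup G) = p := by
    obtain ⟨k, hk⟩ := IsPGroup.iff_card.mp P.isPGroup'
    have hk0 : k ≠ 0 := by
      rintro rfl
      apply hPn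
      have : (P : Subgroup G) = ⊥ := Subgroup.eq_bot_of_card_eq _ (by simpa using hk)
      rw [this]; infer_instance
    obtain ⟨P₀', hP₀'⟩ := Sylow.exists_subgroup_card_pow_prime (G := (P : Subgroup G)) p
      (n := k - 1) (by rw [hk]; exact pow_dvd_pow p (Nat.sub_le k 1))
    set P₀ : Subgroup G := P₀'.map (P : Subgroup G).subtype with hP₀def
    have hP₀card : Nat.card P₀ = p ^ (k - 1) := by
      rw [← hP₀']
      exact Nat.card_congr
        (P₀'.equivMapOfInjective _ (Subgroup.subtype_injective _)).symm.toEquiv
    have hP₀le : P₀ ≤ (P : Subgroup G) := Subgroup.map_subtype_le _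
    have hP₀p : IsPGroup p P₀ := IsPGroup.of_card hP₀card
    have hprop : P₀ ⊔ N ≠ ⊤ := by
      intro htop
      have hle : (P : Subgroup G) ≤ P₀ := by
        intro u hu
        have hu' : u ∈ ((P₀ ⊔ N : Subgroup G) : Set G) := by rw [htop]; trivial
        rw [Subgroup.mul_normal] at hu'
        obtain ⟨a, ha, n, hn, rfl⟩ := Set.mem_mul.mp hu'
        have hnP : n ∈ (P : Subgroup G) := by
          have := (P : Subgroup G).mul_mem ((P : Subgroup G).inv_mem (hP₀le ha)) hu
          simpa using this
        have hn1 : n ∈ (P : Subgroup G) ⊓ N := ⟨hnP, hn⟩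
        rw [disjoint_iff.mp hPNdis, Subgroup.mem_bot] at hn1
        rw [hn1, mul_one]
        exact ha
      have h1 : Nat.card (P : Subgroup G) ≤ Nat.card P₀ := Subgroup.card_le_of_le hle
      rw [hk, hP₀card] at h1
      have h2 : p ^ (k - 1) < p ^ k := Nat.pow_lt_pow_right hp.one_lt (by omega)
      omega
    have hcen : P₀ ≤ Subgroup.centralizer (N : Set G) := by
      intro u hu
      rw [Subgroup.mem_centralizer_iff]
      intro n hn
      exact (commute_of_pclosed _ (hsub _ hprop) P₀ N le_sup_left le_sup_right hP₀p hpN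
        Subgroup.le_normalizer_of_normal hu hn).symm
    have hbot : P₀ = ⊥ := by
      have : P₀ ≤ (P : Subgroup G) ⊓ Subgroup.centralizer (N : Set G) := le_inf hP₀le hcen
      rw [hK] at this
      exact le_bot_iff.mp this
    rw [hbot, Subgroup.card_bot] at hP₀card
    have hk1 : k - 1 = 0 := by
      by_contra hne
      have : 1 < p ^ (k - 1) := Nat.one_lt_pow hne hp.one_lt
      omega
    have : k = 1 := by omega
    rw [hk, this, pow_one]
  -- the index of `N` is `p`
  have hidx : N.index = p := by
    have h1 : N.relIndex ((P : Subgroup G) ⊔ N) = N.relIndex (P : Subgroup G) :=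
      Subgroup.relIndex_sup_right (P : Subgroup G) N
    rw [hPN, Subgroup.relIndex_top_right] at h1
    have h2 : N.subgroupOf (P : Subgroup G) = ⊥ := by
      rw [Subgroup.subgroupOf_eq_bot]
      exact hPNdis.symm
    rw [h1, Subgroup.relIndex, h2, Subgroup.index_bot, hPcard]
  -- `G` is not commutative
  have hna : ¬ IsMulCommutative G := by
    intro hc
    exact hPn inferInstance
  have hNcard : Nat.card N = q ^ orderOf (q : ZMod p) :=
    card_eq_pow_orderOf_of_minimal_normal hqprime hqp hna N hEA hidx hNmin
  refine ⟨q, hqprime, hqp, ?_, N, hNn, hNcard, hEA, hNmin⟩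
  rw [← Subgroup.card_mul_index N, hidx, hNcard, mul_comm]

end Cfsg.Agent.S3868
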