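import Mathlib
import Cfsg.Statements.S3869
import Cfsg.Agent.H68.PClosed

set_option autoImplicit false
open Cfsg

namespace Cfsg.Agent.S3869

open Cfsg.Agent.H68

/-- Let p and q be distinct primes and G a finite non-abelian group with a normal elementary abelian q-subgroup A that is a minimal normal subgroup of G and has index p. Then A has order q^e with e the multiplicative order of q modulo p, and G is minimal non-p-closed: its Sylow p-subgroups are not normal, while in every proper subgroup and in every proper quotient of G the Sylow p-subgroups are normal. -/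
theorem result {G : Type*} [Group G] [Finite G] {p q : ℕ} [Fact p.Prime] (hq : q.Prime) (hpq : q ≠ p)
    (hna : ¬ IsMulCommutative G) (A : Subgroup G) [A.Normal] (hA : Cfsg.IsElementaryAbelian q A) (hidx : A.index = p)
    (hmin : ∀ B : Subgroup G, B.Normal → B ≤ A → B = ⊥ ∨ B = A) :
    Nat.card ↥A = q ^ orderOf (q : ZMod p) ∧ ¬ Cfsg.IsPClosed p G ∧ (∀ H : Subgroup G, H ≠ ⊤ → Cfsg.IsPClosed p ↥H) ∧
      ∀ (N : Subgroup G) [N.Normal], N ≠ ⊥ → Cfsg.IsPClosed p (G ⧸ N) := by
  have hp : p.Prime := Fact.out
  have : Fact q.Prime := ⟨hq⟩
  have hcomm : ∀ a ∈ A, ∀ b ∈ A, a * b = b * a := fun a ha b hb =>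
    haveI := hA.1
    setLike_mul_comm ha hb
  have hAq : IsPGroup q A := fun a => ⟨1, Subtype.ext (by simpa using hA.2 a a.2)⟩
  refine ⟨card_eq_pow_orderOf_of_minimal_normal hq hpq hna A hA hidx hmin, ?_, ?_, ?_⟩
  · -- not p-closed
    intro hcl
    obtain ⟨P⟩ : Nonempty (Sylow p G) := inferInstance
    have hPn : (P : Subgroup G).Normal := hcl P
    have hPbot : (P : Subgroup G) ≠ ⊥ := by
      apply Sylow.ne_bot_of_dvd_card
      rw [← hidx]
      exact Subgroup.index_dvd_card A
    have hdis : Disjoint (P : Subgroup G) A :=
      IsPGroup.disjoint_of_ne p q (Ne.symm hpq) _ _ P.isPGroup' hAq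
    exact hna (isMulCommutative_of_normal_disjoint A hcomm hp hidx (P : Subgroup G) hPbot hdis)
  · -- proper subgroups
    intro H hH
    by_cases hHA : H ≤ A
    · -- `H` is a `q`-group
      have hHq : IsPGroup q H := fun h => by
        obtain ⟨k, hk⟩ := hAq ⟨h, hHA h.2⟩
        exact ⟨k, Subtype.ext (by simpa using congrArg Subtype.val hk)⟩
      exact isPClosed_of_isPGroup_ne hpq hHq
    · -- `H ⊓ A` is normal in `G`, hence trivial
      obtain ⟨x, hxH, hxA⟩ := SetLike.not_le_iff_exists.mp hHA
      have hgen := sup_zpowers_eq_top_of_index_prime A hp hidx hxA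
      have hHAtop : A ⊔ H = ⊤ := by
        rw [eq_top_iff, ← hgen]
        exact sup_le_sup_left (Subgroup.zpowers_le.mpr hxH) A
      have hKn : (H ⊓ A).Normal := by
        rw [← Subgroup.normalizer_eq_top_iff, eq_top_iff, ← hHAtop]
        refine sup_le ?_ ?_
        · intro a ha
          apply mem_normalizer_of_conj_mem
          intro n hn
          have : a * n * a⁻¹ = n := by rw [hcomm a ha n hn.2]; group
          rwa [this]
        · intro h hh
          apply mem_normalizer_of_conj_mem
          intro n hn
          exact ⟨H.mul_mem (H.mul_mem hh hn.1) (H.inv_mem hh), ‹A.Normal›.conj_mem n hn.2 h⟩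
      have hK : H ⊓ A = ⊥ := by
        rcases hmin _ hKn inf_le_right with h | h
        · exact h
        · exfalso
          apply hH
          have hAH : A ≤ H := by rw [← h]; exact inf_le_left
          rw [eq_top_iff, ← hHAtop]
          exact sup_le hAH le_rfl
      -- so `H` has order dividing `p`
      have hcard : Nat.card H ∣ p := by
        have h1 : A.relIndex H ∣ A.index := Subgroup.relIndex_dvd_index_of_normal A H
        have h2 : A.subgroupOf H = ⊥ := by
          rw [Subgroup.subgroupOf_eq_bot, disjoint_iff, inf_comm]
          exact hK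
        have h3 : A.relIndex H = Nat.card H := by
          rw [Subgroup.relIndex, h2, Subgroup.index_bot]
        rw [h3, hidx] at h1
        exact h1
      exact isPClosed_of_isPGroup (IsPGroup.of_card_dvd_pow (n := 1) (by simpa using hcard))
  · -- proper quotients
    intro N hNn hN
    have hKn : (N ⊓ A).Normal := inferInstance
    rcases hmin _ hKn inf_le_right with h | h
    · exfalso
      have hdis : Disjoint N A := disjoint_iff.mpr h
      exact hna (isMulCommutative_of_normal_disjoint A hcomm hp hidx N hN hdis)
    · have hAN : A ≤ N := by rw [← h]; exact inf_le_left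
      have hdvd : N.index ∣ p := by
        rw [← hidx]; exact Subgroup.index_dvd_of_le hAN
      have hcard : Nat.card (G ⧸ N) ∣ p := by
        rw [← Subgroup.index_eq_card]; exact hdvd
      exact isPClosed_of_isPGroup (IsPGroup.of_card_dvd_pow (n := 1) (by simpa using hcard))

end Cfsg.Agent.S3869
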