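import Mathlib
import Cfsg.Statements.S3870

set_option autoImplicit false
open Cfsg

namespace Cfsg.Agent.S3870

/-- In a finite `p`-group `P ≤ G`, a proper subgroup `D < P` is properly contained in its
normalizer in `P`. -/
theorem exists_mem_normalizer_not_mem {G : Type*} [Group G] [Finite G] {p : ℕ} [Fact p.Prime]
    (P : Subgroup G) (hP : IsPGroup p ↥P) (D : Subgroup G) (hDP : D < P) :
    ∃ x ∈ P, x ∈ Subgroup.normalizer (D : Set G) ∧ x ∉ D := by
  have : Group.IsNilpotent ↥P := hP.isNilpotent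
  have nc := Group.normalizerCondition_of_isNilpotent (G := ↥P)
  have h1 : D.subgroupOf P < ⊤ := by
    rw [lt_top_iff_ne_top, Ne, Subgroup.subgroupOf_eq_top]
    exact fun h => (not_le_of_gt hDP) h
  have h2 := nc _ h1
  obtain ⟨x, hxN, hxD⟩ := SetLike.exists_of_lt h2
  rw [← Subgroup.subgroupOf_normalizer_eq hDP.le, Subgroup.mem_subgroupOf] at hxN
  rw [Subgroup.mem_subgroupOf] at hxD
  exact ⟨x, x.2, hxN, hxD⟩

/-- Let G be a finite simple group whose Sylow p-subgroups are not normal but such that every proper subgroup of G has a normal Sylow p-subgroup. Then any two distinct Sylow p-subgroups of G intersect trivially, and for every Sylow p-subgroup P the normalizer of every non-identity subgroup of P lies in the normalizer of P. -/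
theorem result {G : Type*} [Group G] [Finite G] [IsSimpleGroup G] {p : ℕ} [Fact p.Prime]
    (hnc : ¬ Cfsg.IsPClosed p G) (hsub : ∀ H : Subgroup G, H ≠ ⊤ → Cfsg.IsPClosed p ↥H) :
    (∀ P Q : Sylow p G, P ≠ Q → (P : Subgroup G) ⊓ (Q : Subgroup G) = ⊥) ∧
      ∀ (P : Sylow p G) (R : Subgroup G), R ≤ P → R ≠ ⊥ →
        Subgroup.normalizer (R : Set G) ≤ Subgroup.normalizer ((P : Subgroup G) : Set G) := by
  classical
  have hTI : ∀ P Q : Sylow p G, P ≠ Q → (P : Subgroup G) ⊓ (Q : Subgroup G) = ⊥ := by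
    by_contra hcon
    push Not at hcon
    obtain ⟨P0, Q0, hne0, hD0⟩ := hcon
    let S := {PQ : Sylow p G × Sylow p G //
      PQ.1 ≠ PQ.2 ∧ (PQ.1 : Subgroup G) ⊓ (PQ.2 : Subgroup G) ≠ ⊥}
    have : Nonempty S := ⟨⟨(P0, Q0), hne0, hD0⟩⟩
    obtain ⟨⟨⟨P, Q⟩, hne, hD⟩, hmax⟩ := Finite.exists_max
      (fun s : S => Nat.card ↥((s.1.1 : Subgroup G) ⊓ (s.1.2 : Subgroup G)))
    simp only at hne hD hmax
    -- a general step: a Sylow `T` containing `D` and an element of `P` outside `D` equals `P`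
    have step : ∀ (P1 Q1 : Sylow p G), (P1 : Subgroup G) ⊓ (Q1 : Subgroup G) = (P : Subgroup G) ⊓ (Q : Subgroup G) →
        ∀ T : Sylow p G, (P : Subgroup G) ⊓ (Q : Subgroup G) ≤ T →
        (∃ x ∈ (P1 : Subgroup G), x ∈ (T : Subgroup G) ∧ x ∉ (P : Subgroup G) ⊓ (Q : Subgroup G)) → T = P1 := by
      intro P1 Q1 hPQ1 T hDT ⟨x, hxP, hxT, hxD⟩
      by_contra hTP
      have hle : (P : Subgroup G) ⊓ (Q : Subgroup G) ≤ (T : Subgroup G) ⊓ (P1 : Subgroup G) :=
        le_inf hDT (hPQ1 ▸ inf_le_left)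
      have hne' : (T : Subgroup G) ⊓ (P1 : Subgroup G) ≠ ⊥ := by
        intro h
        rw [h, le_bot_iff] at hle
        exact hD hle
      have := hmax ⟨(T, P1), hTP, hne'⟩
      simp only at this
      have heq := Subgroup.eq_of_le_of_card_ge hle this
      exact hxD (heq ▸ ⟨hxT, hxP⟩)
    set D := (P : Subgroup G) ⊓ (Q : Subgroup G) with hDdef
    have hNtop : Subgroup.normalizer (D : Set G) ≠ ⊤ := by
      intro h
      have hnorm : D.Normal := Subgroup.normalizer_eq_top_iff.mp h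
      rcases hnorm.eq_bot_or_eq_top with h1 | h1
      · exact hD h1
      · apply hne
        apply Sylow.ext
        have hP : (P : Subgroup G) = ⊤ := top_le_iff.mp (h1 ▸ inf_le_left)
        have hQ : (Q : Subgroup G) = ⊤ := top_le_iff.mp (h1 ▸ inf_le_right)
        rw [hP, hQ]
    have hcl := hsub _ hNtop
    have hDP : D < (P : Subgroup G) := by
      refine lt_of_le_of_ne inf_le_left ?_
      intro h
      apply hne
      have hPQ : (P : Subgroup G) ≤ (Q : Subgroup G) := h ▸ inf_le_right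
      apply Sylow.ext
      exact Subgroup.eq_of_le_of_card_ge hPQ (by
        rw [Sylow.card_eq_multiplicity, Sylow.card_eq_multiplicity])
    have hDQ : D < (Q : Subgroup G) := by
      refine lt_of_le_of_ne inf_le_right ?_
      intro h
      apply hne
      have hQP : (Q : Subgroup G) ≤ (P : Subgroup G) := h ▸ inf_le_left
      apply Sylow.ext
      exact (Subgroup.eq_of_le_of_card_ge hQP (by
        rw [Sylow.card_eq_multiplicity, Sylow.card_eq_multiplicity])).symm
    obtain ⟨x, hxP, hxN, hxD⟩ := exists_mem_normalizer_not_mem (P : Subgroup G) P.isPGroup' D hDP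
    obtain ⟨y, hyQ, hyN, hyD⟩ := exists_mem_normalizer_not_mem (Q : Subgroup G) Q.isPGroup' D hDQ
    set N := Subgroup.normalizer (D : Set G) with hN
    -- Sylow subgroups of `N` containing `P ⊓ N` and `Q ⊓ N`
    have hA : IsPGroup p ↥(((P : Subgroup G) ⊓ N).subgroupOf N) :=
      (P.isPGroup'.to_le inf_le_left).comap_subtype
    have hB : IsPGroup p ↥(((Q : Subgroup G) ⊓ N).subgroupOf N) :=
      (Q.isPGroup'.to_le inf_le_left).comap_subtype
    obtain ⟨U1, hU1⟩ := hA.exists_le_sylow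
    obtain ⟨U2, hU2⟩ := hB.exists_le_sylow
    have : (U1 : Subgroup ↥N).Normal := hcl U1
    obtain ⟨n, hn⟩ := MulAction.exists_smul_eq ↥N U1 U2
    rw [Sylow.smul_eq_of_normal] at hn
    subst hn
    have hU : IsPGroup p ↥((U1 : Subgroup ↥N).map N.subtype) := U1.isPGroup'.map N.subtype
    obtain ⟨T, hT⟩ := hU.exists_le_sylow
    have hPT : ∀ z ∈ (P : Subgroup G), z ∈ N → z ∈ (T : Subgroup G) := by
      intro z hzP hzN
      apply hT
      exact ⟨⟨z, hzN⟩, hU1 (show (⟨z, hzN⟩ : ↥N) ∈ ((P : Subgroup G) ⊓ N).subgroupOf N from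
        Subgroup.mem_subgroupOf.mpr ⟨hzP, hzN⟩), rfl⟩
    have hQT : ∀ z ∈ (Q : Subgroup G), z ∈ N → z ∈ (T : Subgroup G) := by
      intro z hzQ hzN
      apply hT
      exact ⟨⟨z, hzN⟩, hU2 (show (⟨z, hzN⟩ : ↥N) ∈ ((Q : Subgroup G) ⊓ N).subgroupOf N from
        Subgroup.mem_subgroupOf.mpr ⟨hzQ, hzN⟩), rfl⟩
    have hDT : D ≤ (T : Subgroup G) := fun z hz => hPT z hz.1 (Subgroup.le_normalizer hz)
    have e1 : T = P := step P Q rfl T hDT ⟨x, hxP, hPT x hxP hxN, hxD⟩
    have e2 : T = Q := step Q P (inf_comm _ _) T hDT ⟨y, hyQ, hQT y hyQ hyN, hyD⟩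
    exact hne (e1.symm.trans e2)
  refine ⟨hTI, ?_⟩
  intro P R hRP hR g hg
  refine Sylow.smul_eq_iff_mem_normalizer.mp ?_
  by_contra hne
  have h := hTI (g • P) P hne
  apply hR
  rw [← le_bot_iff, ← h]
  refine le_inf ?_ hRP
  intro r hr
  rw [Sylow.coe_subgroup_smul, Subgroup.mem_smul_pointwise_iff_exists]
  refine ⟨g⁻¹ * r * g, hRP ?_, ?_⟩
  · have := (Subgroup.mem_normalizer_iff.mp (Subgroup.inv_mem _ hg) r).mp hr
    simpa using this
  · simp [MulAut.smul_def, mul_assoc]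

end Cfsg.Agent.S3870
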