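import Cfsg.Statements.S4225
import Cfsg.Agent.H74.Regular

set_option autoImplicit false
open Cfsg

namespace Cfsg.Agent.S4225

/-- In a regular `p`-group, for every `k` the elements whose `p^k`-th power is `1` form a characteristic subgroup. -/
theorem result {G : Type*} [Group G] [Finite G] {p : ℕ} [Fact p.Prime] (hG : Cfsg.IsRegularPGroup p G) (k : ℕ) : ∃ H : Subgroup G, H.Characteristic ∧ (H : Set G) = {x : G | x ^ p ^ k = 1} := by
  let H : Subgroup G :=
    { carrier := {x : G | x ^ p ^ k = 1}
      one_mem' := one_pow _
      mul_mem' := by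
        intro a b ha hb
        have h1 := (H74.regular_pow_eq_iff hG a b⁻¹ k).mp (by
          rw [inv_pow]
          show a ^ p ^ k = (b ^ p ^ k)⁻¹
          rw [ha, hb, inv_one])
        simpa using h1
      inv_mem' := by
        intro a ha
        show (a⁻¹) ^ p ^ k = 1
        rw [inv_pow, ha, inv_one] }
  refine ⟨H, ?_, rfl⟩
  constructor
  intro φ
  ext x
  show (φ x) ^ p ^ k = 1 ↔ x ^ p ^ k = 1
  rw [← map_pow]
  constructor
  · intro h
    have := congrArg φ.symm h
    simpa using this
  · intro h
    rw [h, map_one]

end Cfsg.Agent.S4225
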