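import Cfsg.Statements.S3872
import Cfsg.Agent.H15.RegClass
import Cfsg.Agent.S4225
import Cfsg.Agent.H59.UniqueOrderP
import Cfsg.Agent.H3.MaxClass2

set_option autoImplicit false
open Cfsg

namespace Cfsg.Agent.S3872

/-- Say that a finite group is p-exponent closed when its elements of order dividing p form a subgroup. Let G be a finite p-group that is not p-exponent closed, but all of whose proper subgroups and proper quotients are. Then G is generated by two elements, has nilpotency class at least p, has exponent p², has cyclic center, and has order at least p^(p+1). -/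
theorem result {G : Type*} [Group G] [Finite G] {p : ℕ} [Fact p.Prime] (hG : IsPGroup p G)
    (hnc : ¬ (∃ H : Subgroup G, (H : Set G) = {g : G | g ^ p = 1})) (hsub : ∀ K : Subgroup G, K ≠ ⊤ → (∃ H : Subgroup ↥K, (H : Set ↥K) = {g : ↥K | g ^ p = 1}))
    (hquo : ∀ (N : Subgroup G) [N.Normal], N ≠ ⊥ → (∃ H : Subgroup (G ⧸ N), (H : Set (G ⧸ N)) = {g : (G ⧸ N) | g ^ p = 1})) :
    (∃ x y : G, Subgroup.closure ({x, y} : Set G) = ⊤) ∧ (⊤ : Subgroup G).lowerCentralSeries (p - 1) ≠ ⊥ ∧
      Monoid.exponent G = p ^ 2 ∧ IsCyclic ↥(Subgroup.center G) ∧ p ^ (p + 1) ≤ Nat.card G := by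
  classical
  have hp : p.Prime := Fact.out
  obtain ⟨a, b, ha, hb, hab⟩ : ∃ a b : G, a ^ p = 1 ∧ b ^ p = 1 ∧ (a * b) ^ p ≠ 1 := by
    by_contra hcon
    push Not at hcon
    apply hnc
    exact ⟨{ carrier := {g : G | g ^ p = 1}
             mul_mem' := fun {x y} hx hy => hcon x y hx hy
             one_mem' := one_pow p
             inv_mem' := fun {x} hx => by
               show x⁻¹ ^ p = 1
               rw [inv_pow, show x ^ p = 1 from hx, inv_one] }, rfl⟩
  have hgen : Subgroup.closure ({a, b} : Set G) = ⊤ := by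
    by_contra hne
    obtain ⟨H, hH⟩ := hsub _ hne
    have haK : a ∈ Subgroup.closure ({a, b} : Set G) := Subgroup.subset_closure (by simp)
    have hbK : b ∈ Subgroup.closure ({a, b} : Set G) := Subgroup.subset_closure (by simp)
    have h1 : (⟨a, haK⟩ : ↥(Subgroup.closure ({a, b} : Set G))) ∈ H := by
      rw [← SetLike.mem_coe, hH]; exact Subtype.ext ha
    have h2 : (⟨b, hbK⟩ : ↥(Subgroup.closure ({a, b} : Set G))) ∈ H := by
      rw [← SetLike.mem_coe, hH]; exact Subtype.ext hb
    have h3 := H.mul_mem h1 h2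
    rw [← SetLike.mem_coe, hH] at h3
    exact hab (congrArg Subtype.val h3)
  have hL1 : ∀ (N : Subgroup G) [N.Normal], N ≠ ⊥ → ∀ g : G, g ^ p ∈ N := by
    intro N _ hN g
    obtain ⟨H, hH⟩ := hquo N hN
    have h1 : ∀ x : G, x ^ p = 1 → (QuotientGroup.mk' N x) ∈ H := by
      intro x hx
      rw [← SetLike.mem_coe, hH]
      show (QuotientGroup.mk' N x) ^ p = 1
      rw [← map_pow, hx, map_one]
    have h2 : H = ⊤ := by
      rw [eq_top_iff, ← Subgroup.map_top_of_surjective (QuotientGroup.mk' N)
        (QuotientGroup.mk'_surjective N), ← hgen, MonoidHom.map_closure, Subgroup.closure_le]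
      rintro _ ⟨x, hx, rfl⟩
      rcases hx with rfl | rfl
      · exact h1 _ ha
      · exact h1 _ hb
    have h3 : QuotientGroup.mk' N g ∈ H := by rw [h2]; exact Subgroup.mem_top _
    rw [← SetLike.mem_coe, hH] at h3
    have h4 : (QuotientGroup.mk' N g) ^ p = 1 := h3
    rw [← map_pow] at h4
    exact (QuotientGroup.eq_one_iff _).mp h4
  have hnexp : ¬ ∀ g : G, g ^ p = 1 := fun h => hab (h _)
  have hnt : Nontrivial G := by
    by_contra h
    rw [not_nontrivial_iff_subsingleton] at h
    exact hab (Subsingleton.elim _ _)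
  have hclass : (⊤ : Subgroup G).lowerCentralSeries (p - 1) ≠ ⊥ := by
    intro hcl
    have hreg : Cfsg.IsRegularPGroup p G :=
      ⟨hG, fun x y n => Cfsg.Agent.H15.rg_regular hcl x y n⟩
    obtain ⟨H, -, hH⟩ := Cfsg.Agent.S4225.result hreg 1
    exact hnc ⟨H, by rw [hH]; simp⟩
  have hcenN : ∀ N : Subgroup G, N ≤ Subgroup.center G → N.Normal := by
    intro N hle
    refine ⟨fun n hn g => ?_⟩
    have h1 := hle hn
    rw [Subgroup.mem_center_iff] at h1
    rw [h1 g, mul_inv_cancel_right]
    exact hn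
  have hZp : IsPGroup p ↥(Subgroup.center G) := hG.to_subgroup _
  refine ⟨⟨a, b, hgen⟩, hclass, ?_, ?_, ?_⟩
  · -- exponent
    have hZnt : Nontrivial ↥(Subgroup.center G) := hG.center_nontrivial
    obtain ⟨k, hk⟩ := IsPGroup.iff_card.mp hZp
    have hk0 : k ≠ 0 := by
      rintro rfl
      rw [pow_zero] at hk
      have := Finite.one_lt_card_iff_nontrivial.mpr hZnt
      omega
    have hdvd : p ∣ Nat.card ↥(Subgroup.center G) := by rw [hk]; exact dvd_pow_self p hk0
    obtain ⟨z, hz⟩ := exists_prime_orderOf_dvd_card' p hdvd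
    have hzG : orderOf (z : G) = p := by rw [Subgroup.orderOf_coe, hz]
    have hNle : Subgroup.zpowers (z : G) ≤ Subgroup.center G := by
      rw [Subgroup.zpowers_le]; exact z.2
    haveI := hcenN _ hNle
    have hNne : Subgroup.zpowers (z : G) ≠ ⊥ := by
      intro h
      rw [Subgroup.zpowers_eq_bot] at h
      rw [h, orderOf_one] at hzG
      exact hp.one_lt.ne hzG
    have hpp : ∀ g : G, g ^ (p ^ 2) = 1 := by
      intro g
      have h1 := hL1 (Subgroup.zpowers (z : G)) hNne g
      obtain ⟨i, hi⟩ := Subgroup.mem_zpowers_iff.mp h1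
      have hzp : (z : G) ^ p = 1 := by rw [← hzG]; exact pow_orderOf_eq_one _
      rw [pow_two, pow_mul, ← hi, ← zpow_natCast, ← zpow_mul, mul_comm, zpow_mul, zpow_natCast, hzp,
        one_zpow]
    have hdvd2 : Monoid.exponent G ∣ p ^ 2 := Monoid.exponent_dvd_of_forall_pow_eq_one hpp
    obtain ⟨j, hj, hje⟩ := (Nat.dvd_prime_pow hp).mp hdvd2
    have hj2 : j = 2 := by
      by_contra hne
      have hj1 : j ≤ 1 := by omega
      apply hnexp
      intro g
      have h1 : g ^ Monoid.exponent G = 1 := Monoid.pow_exponent_eq_one g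
      rw [hje] at h1
      have h2 : p ^ j ∣ p := by
        calc p ^ j ∣ p ^ 1 := pow_dvd_pow p hj1
          _ = p := pow_one p
      obtain ⟨d, hd⟩ := h2
      rw [hd, pow_mul, h1, one_pow]
    rw [hje, hj2]
  · -- cyclic centre
    by_contra hnc'
    have h1 : ¬ ∀ H K : Subgroup ↥(Subgroup.center G), Nat.card H = p → Nat.card K = p → H = K := by
      intro huniq
      apply hnc'
      obtain ⟨a0, hmax⟩ := Finite.exists_max (fun g : ↥(Subgroup.center G) => orderOf g)
      refine isCyclic_iff_exists_zpowers_eq_top.mpr ⟨a0, eq_top_iff.mpr fun b0 _ => ?_⟩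
      refine Cfsg.Agent.H59.mem_zpowers_of_commute_max p hZp huniq a0 hmax b0 ?_
      exact Subtype.ext (Subgroup.mem_center_iff.mp a0.2 b0)
    push Not at h1
    obtain ⟨H, K, hH, hK, hHK⟩ := h1
    have hinf : H ⊓ K = ⊥ := by
      have h2 : Nat.card ↥(H ⊓ K) ∣ p := by
        rw [← hH]; exact Subgroup.card_dvd_of_le inf_le_left
      rcases (Nat.dvd_prime hp).mp h2 with h3 | h3
      · exact Subgroup.eq_bot_of_card_eq _ h3
      · exfalso
        have h4 : H ⊓ K = H := Subgroup.eq_of_le_of_card_ge inf_le_left (by rw [h3, hH])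
        have h5 : H ≤ K := by rw [← h4]; exact inf_le_right
        exact hHK (Subgroup.eq_of_le_of_card_ge h5 (by rw [hH, hK]))
    have hmapne : ∀ L : Subgroup ↥(Subgroup.center G), Nat.card L = p →
        L.map (Subgroup.center G).subtype ≠ ⊥ := by
      intro L hL h
      rw [Subgroup.map_eq_bot_iff_of_injective _ (Subgroup.center G).subtype_injective] at h
      rw [h, Subgroup.card_bot] at hL
      exact hp.one_lt.ne hL
    have hmaple : ∀ L : Subgroup ↥(Subgroup.center G),
        L.map (Subgroup.center G).subtype ≤ Subgroup.center G := by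
      rintro L _ ⟨x, -, rfl⟩
      exact x.2
    apply hnexp
    intro g
    haveI := hcenN _ (hmaple H)
    haveI := hcenN _ (hmaple K)
    obtain ⟨x, hx, hxg⟩ := hL1 (H.map (Subgroup.center G).subtype) (hmapne H hH) g
    obtain ⟨y, hy, hyg⟩ := hL1 (K.map (Subgroup.center G).subtype) (hmapne K hK) g
    have hxy : x = y := Subtype.ext (hxg.trans hyg.symm)
    subst hxy
    have h2 : x ∈ H ⊓ K := ⟨hx, hy⟩
    rw [hinf, Subgroup.mem_bot] at h2
    rw [← hxg, h2]
    rfl
  · -- order
    obtain ⟨m, hm⟩ := IsPGroup.iff_card.mp hG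
    rw [hm]
    apply Nat.pow_le_pow_right hp.pos
    by_contra hlt
    have hmp : m ≤ p := by omega
    apply hclass
    have hnil : Group.IsNilpotent G := hG.isNilpotent
    rw [Subgroup.lowerCentralSeries_eq_bot_iff_nilpotencyClass_le]
    rcases Nat.lt_or_ge m 2 with hm2 | hm2
    · exfalso
      have hcyc : IsCyclic G := by
        rcases Nat.lt_succ_iff.mp hm2 with hm1
        rcases Nat.le_one_iff_eq_zero_or_eq_one.mp hm1 with rfl | rfl
        · rw [pow_zero] at hm
          have : Subsingleton G := (Nat.card_eq_one_iff_unique.mp hm).1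
          exact isCyclic_of_subsingleton
        · rw [pow_one] at hm
          exact isCyclic_of_prime_card hm
      obtain ⟨g, hg⟩ := hcyc.exists_generator
      have hcomm : Commute a b := by
        obtain ⟨i, rfl⟩ := Subgroup.mem_zpowers_iff.mp (hg a)
        obtain ⟨j, rfl⟩ := Subgroup.mem_zpowers_iff.mp (hg b)
        exact (Commute.refl g).zpow_zpow i j
      exact hab (by rw [hcomm.mul_pow, ha, hb, one_mul])
    · have h1 := Cfsg.Agent.H3.class_le_of_card p m G hm hm2
      omega

end Cfsg.Agent.S3872
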