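import Mathlib
import Cfsg.Statements.S3873
import Cfsg.Agent.S3868
import Cfsg.Agent.H68.MinPClosed

set_option autoImplicit false
open Cfsg

namespace Cfsg.Agent.S3873

open Cfsg.Agent.H68

/-- Say that a finite group is p-exponent closed when its elements of order dividing p form a subgroup. Let G be a finite group that is not p-exponent closed, but all of whose proper subgroups and proper quotients are, and suppose G is neither simple nor a p-group. Then there is a prime q ≠ p such that G has order p · q^e, where e is the multiplicative order of q modulo p, and G has a normal elementary abelian subgroup of order q^e that is a minimal normal subgroup of G. -/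
theorem result {G : Type*} [Group G] [Finite G] {p : ℕ} [Fact p.Prime]
    (hnc : ¬ (∃ H : Subgroup G, (H : Set G) = {g : G | g ^ p = 1})) (hsub : ∀ K : Subgroup G, K ≠ ⊤ → (∃ H : Subgroup ↥K, (H : Set ↥K) = {g : ↥K | g ^ p = 1}))
    (hquo : ∀ (N : Subgroup G) [N.Normal], N ≠ ⊥ → (∃ H : Subgroup (G ⧸ N), (H : Set (G ⧸ N)) = {g : (G ⧸ N) | g ^ p = 1}))
    (hns : ¬ IsSimpleGroup G) (hnp : ¬ IsPGroup p G) :
    ∃ q : ℕ, q.Prime ∧ q ≠ p ∧ Nat.card G = p * q ^ orderOf (q : ZMod p) ∧
      ∃ A : Subgroup G, A.Normal ∧ Nat.card ↥A = q ^ orderOf (q : ZMod p) ∧ Cfsg.IsElementaryAbelian q A ∧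
        ∀ B : Subgroup G, B.Normal → B ≤ A → B = ⊥ ∨ B = A := by
  classical
  have hp : p.Prime := Fact.out
  -- Step 1: two elements of order dividing `p` whose product is not
  have hxy : ∃ x y : G, x ^ p = 1 ∧ y ^ p = 1 ∧ (x * y) ^ p ≠ 1 := by
    by_contra hcon
    push Not at hcon
    apply hnc
    exact ⟨{ carrier := {g : G | g ^ p = 1}
             mul_mem' := fun {a b} ha hb => hcon a b ha hb
             one_mem' := one_pow p
             inv_mem' := fun {a} ha => by
               show a⁻¹ ^ p = 1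
               rw [inv_pow, show a ^ p = 1 from ha, inv_one] }, rfl⟩
  obtain ⟨x, y, hx, hy, hxy⟩ := hxy
  -- they generate `G`
  have hgen : Subgroup.closure ({x, y} : Set G) = ⊤ := by
    by_contra hne
    obtain ⟨H, hH⟩ := hsub _ hne
    have hxK : x ∈ Subgroup.closure ({x, y} : Set G) := Subgroup.subset_closure (by simp)
    have hyK : y ∈ Subgroup.closure ({x, y} : Set G) := Subgroup.subset_closure (by simp)
    have h1 : (⟨x, hxK⟩ : Subgroup.closure ({x, y} : Set G)) ∈ (H : Set _) := by
      rw [hH]; exact Subtype.ext (by simpa using hx)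
    have h2 : (⟨y, hyK⟩ : Subgroup.closure ({x, y} : Set G)) ∈ (H : Set _) := by
      rw [hH]; exact Subtype.ext (by simpa using hy)
    have h3 : (⟨x, hxK⟩ * ⟨y, hyK⟩ : Subgroup.closure ({x, y} : Set G)) ∈ (H : Set _) :=
      H.mul_mem h1 h2
    rw [hH] at h3
    apply hxy
    have := congrArg Subtype.val (show (⟨x, hxK⟩ * ⟨y, hyK⟩ : Subgroup.closure ({x, y} : Set G)) ^ p = 1 from h3)
    simpa using this
  -- Step 2: proper quotients have exponent `p`
  have hquo_exp : ∀ (N : Subgroup G) [N.Normal], N ≠ ⊥ → ∀ g : G ⧸ N, g ^ p = 1 := by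
    intro N _ hN g
    obtain ⟨H, hH⟩ := hquo N hN
    have hxH : (QuotientGroup.mk' N x : G ⧸ N) ∈ H := by
      have : (QuotientGroup.mk' N x : G ⧸ N) ∈ (H : Set _) := by
        rw [hH]
        show (QuotientGroup.mk' N x : G ⧸ N) ^ p = 1
        rw [← map_pow, hx, map_one]
      exact this
    have hyH : (QuotientGroup.mk' N y : G ⧸ N) ∈ H := by
      have : (QuotientGroup.mk' N y : G ⧸ N) ∈ (H : Set _) := by
        rw [hH]
        show (QuotientGroup.mk' N y : G ⧸ N) ^ p = 1
        rw [← map_pow, hy, map_one]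
      exact this
    have htop : H = ⊤ := by
      have h1 : (Subgroup.closure ({x, y} : Set G)).map (QuotientGroup.mk' N) ≤ H := by
        rw [MonoidHom.map_closure, Subgroup.closure_le]
        rintro _ ⟨z, hz, rfl⟩
        rcases hz with rfl | rfl
        · exact hxH
        · exact hyH
      rw [hgen, ← MonoidHom.range_eq_map,
        MonoidHom.range_eq_top.mpr (QuotientGroup.mk'_surjective N)] at h1
      exact top_le_iff.mp h1
    have hg : g ∈ (H : Set _) := by rw [htop]; trivial
    rw [hH] at hg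
    exact hg
  have hquo_p : ∀ (N : Subgroup G) [N.Normal], N ≠ ⊥ → IsPGroup p (G ⧸ N) := by
    intro N _ hN g
    exact ⟨1, by rw [pow_one]; exact hquo_exp N hN g⟩
  have hnt : Nontrivial G := by
    by_contra h
    rw [not_nontrivial_iff_subsingleton] at h
    apply hnp
    intro g
    exact ⟨0, Subsingleton.elim _ _⟩
  -- a minimal normal subgroup
  obtain ⟨M, hMn, hMbot, hMtop, hMmin⟩ : ∃ N : Subgroup G, N.Normal ∧ N ≠ ⊥ ∧ N ≠ ⊤ ∧
      ∀ B : Subgroup G, B.Normal → B ≤ N → B = ⊥ ∨ B = N := by
    have hex : ∃ N : Subgroup G, N.Normal ∧ N ≠ ⊥ ∧ N ≠ ⊤ := by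
      by_contra h
      push Not at h
      apply hns
      exact { toNontrivial := hnt
              eq_bot_or_eq_top_of_normal := fun N hN => by
                by_contra hc
                push Not at hc
                exact hc.2 (h N hN hc.1) }
    obtain ⟨N, ⟨hNn, hNbot, hNtop⟩, hmin⟩ :=
      exists_minimal_of_wellFoundedLT (fun N : Subgroup G => N.Normal ∧ N ≠ ⊥ ∧ N ≠ ⊤) hex
    refine ⟨N, hNn, hNbot, hNtop, fun B hBn hBN => ?_⟩
    by_cases hB : B = ⊥
    · exact Or.inl hB
    · right
      have hBtop : B ≠ ⊤ := by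
        rintro rfl
        exact hNtop (top_le_iff.mp hBN)
      exact le_antisymm hBN (hmin ⟨hBn, hB, hBtop⟩ hBN)
  have hGMp : IsPGroup p (G ⧸ M) := hquo_p M hMbot
  -- `M` has no element of order `p`
  have hMΩ : ∀ g ∈ M, g ^ p = 1 → g = 1 := by
    obtain ⟨H, hH⟩ := hsub M hMtop
    have hHn : (H.map M.subtype).Normal := by
      constructor
      rintro _ ⟨h, hh, rfl⟩ g
      have hmem : g * (h : G) * g⁻¹ ∈ M := hMn.conj_mem _ h.2 g
      refine ⟨⟨g * (h : G) * g⁻¹, hmem⟩, ?_, rfl⟩
      have hh' : h ∈ (H : Set M) := hh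
      rw [hH] at hh'
      have hh'' : (h : G) ^ p = 1 := by simpa using congrArg Subtype.val (show h ^ p = 1 from hh')
      have : (⟨g * (h : G) * g⁻¹, hmem⟩ : M) ∈ (H : Set M) := by
        rw [hH]
        apply Subtype.ext
        show (g * (h : G) * g⁻¹) ^ p = 1
        rw [conj_pow, hh'', mul_one, mul_inv_cancel]
      exact this
    rcases hMmin _ hHn (Subgroup.map_subtype_le _) with h | h
    · intro g hg hgp
      have hgH : (⟨g, hg⟩ : M) ∈ (H : Set M) := by
        rw [hH]; exact Subtype.ext (by simpa using hgp)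
      have : g ∈ H.map M.subtype := ⟨⟨g, hg⟩, hgH, rfl⟩
      rw [h] at this
      exact Subgroup.mem_bot.mp this
    · exfalso
      apply hnp
      -- `M` is a `p`-group, and so is `G ⧸ M`
      have hMp : ∀ g ∈ M, g ^ p = 1 := by
        intro g hg
        rw [← h] at hg
        obtain ⟨h', hh', rfl⟩ := hg
        have hh'' : h' ∈ (H : Set M) := hh'
        rw [hH] at hh''
        simpa using congrArg Subtype.val (show h' ^ p = 1 from hh'')
      intro g
      refine ⟨2, ?_⟩
      have h1 : (QuotientGroup.mk' M g) ^ p = 1 := hquo_exp M hMbot _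
      rw [← map_pow] at h1
      have h2 : g ^ p ∈ M := by
        rw [← QuotientGroup.ker_mk' M]; exact h1
      rw [pow_two, pow_mul]
      exact hMp _ h2
  -- every `p`-element of `G` has order dividing `p`
  have hpel : ∀ g : G, ∀ k : ℕ, g ^ p ^ k = 1 → g ^ p = 1 := by
    intro g k hg
    have h1 : (QuotientGroup.mk' M g) ^ p = 1 := hquo_exp M hMbot _
    rw [← map_pow] at h1
    have h2 : g ^ p ∈ M := by
      rw [← QuotientGroup.ker_mk' M]; exact h1
    -- `g ^ p` is a `p`-element of `M`; if nontrivial, some power has order `p`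
    by_contra hne
    have h3 : (g ^ p) ^ p ^ k = 1 := by rw [← pow_mul, mul_comm, pow_mul, hg, one_pow]
    have h4 : orderOf (g ^ p) ∣ p ^ k := orderOf_dvd_of_pow_eq_one h3
    obtain ⟨i, -, hi⟩ := (Nat.dvd_prime_pow hp).mp h4
    have hi0 : i ≠ 0 := by
      rintro rfl
      rw [pow_zero] at hi
      exact hne (orderOf_eq_one_iff.mp hi)
    have h5 : ((g ^ p) ^ p ^ (i - 1)) ^ p = 1 := by
      rw [← pow_mul, ← pow_succ, Nat.sub_add_cancel (Nat.pos_of_ne_zero hi0), ← hi]
      exact pow_orderOf_eq_one _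
    have h6 := hMΩ _ (M.pow_mem h2 _) h5
    have h7 : orderOf (g ^ p) ∣ p ^ (i - 1) := orderOf_dvd_of_pow_eq_one h6
    rw [hi] at h7
    have h8 : p ^ i ≤ p ^ (i - 1) := Nat.le_of_dvd (pow_pos hp.pos _) h7
    have h9 : p ^ (i - 1) < p ^ i := Nat.pow_lt_pow_right hp.one_lt (by omega)
    omega
  -- (a) `G` is not `p`-closed
  have hnc' : ¬ Cfsg.IsPClosed p G := by
    intro hcl
    apply hnc
    obtain ⟨P⟩ : Nonempty (Sylow p G) := inferInstance
    have hPn : (P : Subgroup G).Normal := hcl P
    refine ⟨(P : Subgroup G), ?_⟩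
    ext g
    constructor
    · intro hg
      obtain ⟨k, hk⟩ := P.isPGroup' ⟨g, hg⟩
      exact hpel g k (by simpa using congrArg Subtype.val hk)
    · intro hg
      have hz : IsPGroup p (Subgroup.zpowers g) := by
        apply IsPGroup.of_card (n := if g = 1 then 0 else 1)
        rw [Nat.card_zpowers]
        by_cases h1 : g = 1
        · simp [h1]
        · simp only [h1, if_false, pow_one]
          exact orderOf_eq_prime hg h1
      obtain ⟨Q, hQ⟩ := hz.exists_le_sylow
      obtain ⟨c, rfl⟩ := MulAction.exists_smul_eq G P Q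
      rw [Sylow.smul_eq_of_normal] at hQ
      exact hQ (Subgroup.mem_zpowers g)
  -- (b) proper subgroups are `p`-closed
  have hsub' : ∀ K : Subgroup G, K ≠ ⊤ → Cfsg.IsPClosed p ↥K := by
    intro K hK S
    obtain ⟨H, hH⟩ := hsub K hK
    have hHp : IsPGroup p H := by
      intro h
      refine ⟨1, ?_⟩
      have : (h : K) ∈ (H : Set K) := h.2
      rw [hH] at this
      apply Subtype.ext
      simpa using (show (h : K) ^ p = 1 from this)
    have hSH : (S : Subgroup K) ≤ H := by
      intro s hs
      obtain ⟨k, hk⟩ := S.isPGroup' ⟨s, hs⟩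
      have hk' : (s : G) ^ p ^ k = 1 := by
        have := congrArg (fun y : S => ((y : K) : G)) hk
        simpa using this
      have : s ∈ (H : Set K) := by
        rw [hH]
        apply Subtype.ext
        simpa using hpel (s : G) k hk'
      exact this
    have hSeq : (S : Subgroup K) = H := (S.is_maximal' hHp hSH).symm
    rw [hSeq]
    constructor
    intro h hh g
    have hh' : h ∈ (H : Set K) := hh
    rw [hH] at hh'
    have : g * h * g⁻¹ ∈ (H : Set K) := by
      rw [hH]
      show (g * h * g⁻¹) ^ p = 1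
      rw [conj_pow, show h ^ p = 1 from hh', mul_one, mul_inv_cancel]
    exact this
  -- (c) proper quotients are `p`-closed
  have hquo' : ∀ (N : Subgroup G) [N.Normal], N ≠ ⊥ → Cfsg.IsPClosed p (G ⧸ N) := by
    intro N _ hN
    exact isPClosed_of_isPGroup (hquo_p N hN)
  exact Cfsg.Agent.S3868.result hnc' hsub' hquo' hns

end Cfsg.Agent.S3873
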