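import Mathlib
import Cfsg.Statements.S3892
import Cfsg.Agent.H68.NilCover

set_option autoImplicit false
open Cfsg

namespace Cfsg.Agent.S3892

open Equiv Equiv.Perm
open scoped Pointwise

/-- Abstract criterion: a centerless finite group with a Sylow `p`-subgroup of order `p`
generated by `c`, and a proper subgroup `M` containing the centralizer of `c` but not normalizing
`⟨c⟩`, has no nilpotent minimal cover. -/
theorem no_nilcover_of_cyclic_sylow {G : Type*} [Group G] [Finite G] (hZ : Subgroup.center G = ⊥)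
    {p : ℕ} [Fact p.Prime] (c : G) (hc : orderOf c = p) (hpp : ¬ p * p ∣ Nat.card G)
    (M : Subgroup G) (hM : M ≠ ⊤) (hCM : Subgroup.centralizer {c} ≤ M)
    (g : G) (hgM : g ∈ M) (hg : g * c * g⁻¹ ∉ Subgroup.zpowers c) :
    ¬ ∃ 𝓐 : Finset (Subgroup G), ((∀ A ∈ 𝓐, A ≠ ⊤) ∧ (∀ g : G, ∃ A ∈ 𝓐, g ∈ A)) ∧
      (∀ 𝓑 : Finset (Subgroup G), (∀ A ∈ 𝓑, A ≠ ⊤) ∧ (∀ g : G, ∃ A ∈ 𝓑, g ∈ A) →
        𝓐.card ≤ 𝓑.card) ∧ (∀ A ∈ 𝓐, Group.IsNilpotent ↥A) := by
  rintro ⟨𝓐, h𝓐⟩
  have hcard : Nat.card (Subgroup.zpowers c) = p := by rw [Nat.card_zpowers, hc]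
  have hidx : ¬ p ∣ (Subgroup.zpowers c).index := by
    intro h
    apply hpp
    rw [← (Subgroup.zpowers c).card_mul_index, hcard]
    exact Nat.mul_dvd_mul_left p h
  have hPG : IsPGroup p (Subgroup.zpowers c) :=
    IsPGroup.of_card (n := 1) (by rw [hcard, pow_one])
  let P : Sylow p G := hPG.toSylow hidx
  have hPc : (P : Subgroup G) = Subgroup.zpowers c := hPG.toSylow_coe hidx
  have hab : IsMulCommutative ↥(P : Subgroup G) := by
    rw [hPc]
    infer_instance
  have hcP : c ∈ (P : Subgroup G) := by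
    rw [hPc]
    exact Subgroup.mem_zpowers c
  have hnn : ¬ (P : Subgroup G).Normal := by
    intro h
    apply hg
    rw [← hPc]
    exact h.conj_mem c hcP g
  have hne : ¬ ((∀ a ∈ (P : Subgroup G), a ^ p = 1) ∧ p < Nat.card ↥(P : Subgroup G)) := by
    rintro ⟨-, h⟩
    rw [hPc, hcard] at h
    exact lt_irrefl _ h
  have h4 := (H68.nilcover_main hZ 𝓐 h𝓐 P hab hnn hne).2.2.2 M hM
    (le_trans (Subgroup.centralizer_le (Set.singleton_subset_iff.mpr hcP)) hCM)
  have h5 := h4 hgM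
  rw [Subgroup.mem_normalizer_iff] at h5
  apply hg
  rw [← hPc]
  exact (h5 c).mp hcP

section perm

variable {α : Type*} [Fintype α] [DecidableEq α]

/-- The center of the symmetric group on at least three points is trivial. -/
theorem perm_center_eq_bot (h3 : 3 ≤ Fintype.card α) : Subgroup.center (Perm α) = ⊥ := by
  rw [eq_bot_iff]
  intro g hg
  rw [Subgroup.mem_bot]
  by_contra hne
  obtain ⟨a, ha⟩ : ∃ a, g a ≠ a := by
    by_contra h
    push Not at h
    exact hne (Equiv.ext h)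
  obtain ⟨d, hda, hdb⟩ : ∃ d, d ≠ a ∧ d ≠ g a := by
    by_contra h
    push Not at h
    have hsub : (Finset.univ : Finset α) ⊆ {a, g a} := by
      intro d _
      by_cases hd : d = a
      · simp [hd]
      · simp [h d hd]
    have h1 := Finset.card_le_card hsub
    have h2 : ({a, g a} : Finset α).card ≤ 2 := Finset.card_le_two
    rw [Finset.card_univ] at h1
    omega
  have hcomm := Subgroup.mem_center_iff.mp hg (swap (g a) d)
  have h1 := congrArg (fun f : Perm α => f a) hcomm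
  simp only [Perm.mul_apply] at h1
  rw [swap_apply_of_ne_of_ne (Ne.symm ha) (Ne.symm hda), swap_apply_left] at h1
  exact hdb h1

/-- A permutation commuting with `c` preserves the support of `c`. -/
theorem apply_mem_support_of_commute {c g : Perm α} (h : g * c = c * g) {x : α}
    (hx : x ∈ c.support) : g x ∈ c.support := by
  rw [Perm.mem_support] at hx ⊢
  intro h1
  apply hx
  have h2 := congrArg (fun f : Perm α => f x) h
  simp only [Perm.mul_apply] at h2
  rw [h1] at h2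
  exact g.injective h2

/-- A permutation commuting with `c` preserves the fixed points of `c`. -/
theorem apply_notMem_support_of_commute {c g : Perm α} (h : g * c = c * g) {x : α}
    (hx : x ∉ c.support) : g x ∉ c.support := by
  rw [Perm.notMem_support] at hx ⊢
  have h2 := congrArg (fun f : Perm α => f x) h
  simp only [Perm.mul_apply] at h2
  rw [hx] at h2
  exact h2.symm

/-- A permutation normalizing `⟨c⟩` preserves the support of `c`. -/
theorem apply_mem_support_of_conj_mem_zpowers {c g : Perm α}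
    (h : g * c * g⁻¹ ∈ Subgroup.zpowers c) {x : α} (hx : x ∈ c.support) : g x ∈ c.support := by
  obtain ⟨k, hk⟩ := Subgroup.mem_zpowers_iff.mp h
  have h1 : g x ∈ (c ^ k).support := by
    have e : g⁻¹ (g x) = x := Perm.inv_eq_iff_eq.mpr rfl
    rw [hk, Perm.mem_support, Perm.mul_apply, Perm.mul_apply, e]
    intro h2
    exact (Perm.mem_support.mp hx) (g.injective h2)
  exact Perm.support_zpow_le c k h1

/-- An even permutation moving `a` to `x` and fixing everything else except possibly `y`. -/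
theorem exists_even_moving {a x y : α} (hax : a ≠ x) (hay : a ≠ y) (hxy : x ≠ y) :
    ∃ g : Perm α, Perm.sign g = 1 ∧ g a = x ∧ ∀ z, z ≠ a → z ≠ x → z ≠ y → g z = z := by
  refine ⟨swap a x * swap x y, ?_, ?_, ?_⟩
  · rw [Perm.sign_mul, Perm.sign_swap hax, Perm.sign_swap hxy]
    decide
  · rw [Perm.mul_apply, swap_apply_of_ne_of_ne hax hay, swap_apply_left]
  · intro z hza hzx hzy
    rw [Perm.mul_apply, swap_apply_of_ne_of_ne hzx hzy, swap_apply_of_ne_of_ne hza hzx]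

/-- For a cycle `c` of prime order at least `5` there is an even permutation supported on the
support of `c` which does not normalize `⟨c⟩`. -/
theorem exists_even_not_normalizing {c : Perm α} (hc : c.IsCycle) {p : ℕ} (hp5 : 5 ≤ p)
    (hord : orderOf c = p) :
    ∃ g : Perm α, Perm.sign g = 1 ∧ (∀ x, x ∉ c.support → g x = x) ∧
      g * c * g⁻¹ ∉ Subgroup.zpowers c := by
  obtain ⟨a, ha, -⟩ := id hc
  have hab : a ≠ c a := Ne.symm ha
  have hbd : c a ≠ c (c a) := fun h => hab (c.injective h)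
  have hb : c (c a) ≠ c a := Ne.symm hbd
  have hpow : ∀ m : ℕ, 0 < m → m < 5 → (c ^ m) a ≠ a := by
    intro m hm0 hm5 h
    have h1 : c ^ m = 1 := (hc.pow_eq_one_iff' ha).mpr h
    have h2 : orderOf c ∣ m := orderOf_dvd_of_pow_eq_one h1
    rw [hord] at h2
    have := Nat.le_of_dvd hm0 h2
    omega
  have had : a ≠ c (c a) := by
    intro h
    exact hpow 2 (by norm_num) (by norm_num) (by rw [pow_two, Perm.mul_apply]; exact h.symm)
  have hda : c (c (c a)) ≠ a := by
    intro h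
    exact hpow 3 (by norm_num) (by norm_num)
      (by rw [pow_succ, pow_two, Perm.mul_apply, Perm.mul_apply]; exact h)
  have hga : (swap a (c a) * swap (c a) (c (c a))) a = c a := by
    rw [Perm.mul_apply, swap_apply_of_ne_of_ne hab had, swap_apply_left]
  have hgb : (swap a (c a) * swap (c a) (c (c a))) (c a) = c (c a) := by
    rw [Perm.mul_apply, swap_apply_left, swap_apply_of_ne_of_ne (Ne.symm had) hb]
  have hgd : (swap a (c a) * swap (c a) (c (c a))) (c (c a)) = a := by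
    rw [Perm.mul_apply, swap_apply_right, swap_apply_right]
  refine ⟨swap a (c a) * swap (c a) (c (c a)), ?_, ?_, ?_⟩
  · rw [Perm.sign_mul, Perm.sign_swap hab, Perm.sign_swap hbd]
    decide
  · intro x hx
    have hxa : x ≠ a := fun h => hx (h ▸ Perm.mem_support.mpr ha)
    have hxb : x ≠ c a := fun h => hx (h ▸ Perm.mem_support.mpr hb)
    have hxd : x ≠ c (c a) := by
      intro h
      apply hx
      rw [h, Perm.mem_support]
      exact fun h' => hb (c.injective h')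
    rw [Perm.mul_apply, swap_apply_of_ne_of_ne hxb hxd, swap_apply_of_ne_of_ne hxa hxb]
  · intro hmem
    rw [← mem_powers_iff_mem_zpowers] at hmem
    obtain ⟨k, hk⟩ := (Submonoid.mem_powers_iff _ _).mp hmem
    have h1 : (swap a (c a) * swap (c a) (c (c a)))⁻¹ (c a) = a := by
      rw [Perm.inv_eq_iff_eq]
      exact hga.symm
    have h2 : (swap a (c a) * swap (c a) (c (c a)))⁻¹ (c (c a)) = c a := by
      rw [Perm.inv_eq_iff_eq]
      exact hgb.symm
    have h3 : (c ^ k) (c a) = (c ^ 1) (c a) := by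
      rw [hk, pow_one, Perm.mul_apply, Perm.mul_apply, h1, hgb]
    have h4 : c ^ k = c ^ 1 := hc.pow_eq_pow_iff.mpr ⟨c a, hb, h3⟩
    rw [pow_one] at h4
    have h5 : (c ^ k) (c (c a)) = (swap a (c a) * swap (c a) (c (c a)) * c *
        (swap a (c a) * swap (c a) (c (c a)))⁻¹) (c (c a)) := by rw [hk]
    rw [h4, Perm.mul_apply, Perm.mul_apply, h2, hgd] at h5
    exact hda h5

/-- A permutation commuting with a cycle `c` agrees with a power of `c` on the support of `c`. -/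
theorem exists_zpow_eq_on_support {c g : Perm α} (hc : c.IsCycle) (h : g * c = c * g) :
    ∃ k : ℤ, ∀ x ∈ c.support, g x = (c ^ k) x := by
  obtain ⟨a, ha, -⟩ := id hc
  have hga : c (g a) ≠ g a := Perm.mem_support.mp
    (apply_mem_support_of_commute h (Perm.mem_support.mpr ha))
  obtain ⟨k, hk⟩ := hc.exists_zpow_eq ha hga
  refine ⟨k, fun x hx => ?_⟩
  obtain ⟨j, hj⟩ := hc.exists_zpow_eq ha (Perm.mem_support.mp hx)
  have hcomm : Commute g c := h
  have h1 : g * c ^ j = c ^ j * g := (hcomm.zpow_right j).eq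
  have h2 := congrArg (fun f : Perm α => f a) h1
  simp only [Perm.mul_apply] at h2
  rw [← hj, h2, ← hk, ← Perm.mul_apply, ← Perm.mul_apply, ← zpow_add, ← zpow_add, add_comm]

/-- A permutation commuting with a cycle `c` having at most one fixed point is a power of `c`. -/
theorem sign_eq_one_of_commute {c g : Perm α} (hc : c.IsCycle) (hs : Perm.sign c = 1)
    (h : g * c = c * g) (hcard : (c.supportᶜ).card ≤ 1) : Perm.sign g = 1 := by
  obtain ⟨k, hk⟩ := exists_zpow_eq_on_support hc h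
  have : g = c ^ k := by
    ext x
    by_cases hx : x ∈ c.support
    · exact hk x hx
    · have h1 : g x ∉ c.support := apply_notMem_support_of_commute h hx
      have h2 : g x = x := Finset.card_le_one.mp hcard _ (Finset.mem_compl.mpr h1) _
        (Finset.mem_compl.mpr hx)
      rw [h2]
      exact (Perm.zpow_apply_eq_self_of_apply_eq_self (Perm.notMem_support.mp hx) k).symm
  rw [this, map_zpow, hs, one_zpow]

/-- An even permutation commuting with a cycle `c` having exactly two fixed points fixes them. -/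
theorem apply_eq_of_commute_of_even {c g : Perm α} (hc : c.IsCycle) (hs : Perm.sign c = 1)
    (h : g * c = c * g) (hg : Perm.sign g = 1) {x₀ x₁ : α} (hx : x₀ ≠ x₁)
    (hcompl : c.supportᶜ = {x₀, x₁}) : g x₀ = x₀ := by
  obtain ⟨k, hk⟩ := exists_zpow_eq_on_support hc h
  have hx₀ : x₀ ∉ c.support := by
    rw [← Finset.mem_compl, hcompl]
    simp
  have hx₁ : x₁ ∉ c.support := by
    rw [← Finset.mem_compl, hcompl]
    simp
  have hmem : ∀ y, y ∉ c.support → y = x₀ ∨ y = x₁ := by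
    intro y hy
    rw [← Finset.mem_compl, hcompl] at hy
    simpa using hy
  by_contra hne
  have h0 : g x₀ = x₁ := (hmem _ (apply_notMem_support_of_commute h hx₀)).resolve_left hne
  have h1 : g x₁ = x₀ := by
    rcases hmem _ (apply_notMem_support_of_commute h hx₁) with h1 | h1
    · exact h1
    · exfalso
      exact hx (g.injective (h0.trans h1.symm))
  have hfix : ∀ y, y ∉ c.support → (c ^ k) y = y := fun y hy =>
    Perm.zpow_apply_eq_self_of_apply_eq_self (Perm.notMem_support.mp hy) k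
  have : g = c ^ k * swap x₀ x₁ := by
    ext x
    rw [Perm.mul_apply]
    by_cases hxs : x ∈ c.support
    · have hxx₀ : x ≠ x₀ := fun h => hx₀ (h ▸ hxs)
      have hxx₁ : x ≠ x₁ := fun h => hx₁ (h ▸ hxs)
      rw [swap_apply_of_ne_of_ne hxx₀ hxx₁]
      exact hk x hxs
    · rcases hmem x hxs with rfl | rfl
      · rw [swap_apply_left, hfix _ hx₁, h0]
      · rw [swap_apply_right, hfix _ hx₀, h1]
  rw [this, Perm.sign_mul, map_zpow, hs, one_zpow, Perm.sign_swap hx] at hg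
  revert hg
  decide

end perm

/-- The square of a prime `p` with `p ≤ n < 2p` does not divide `n!`. -/
theorem not_sq_dvd_factorial {p n : ℕ} (hp : p.Prime) (hpn : p ≤ n) (hn : n < 2 * p) :
    ¬ p * p ∣ n.factorial := by
  have hp2 := hp.two_le
  have hlog : Nat.log p n < 2 := Nat.log_lt_of_lt_pow (by omega) (by nlinarith)
  rw [← pow_two, hp.pow_dvd_factorial_iff hlog]
  simp only [Nat.Ico_succ_singleton, Finset.sum_singleton, pow_one, not_le]
  exact Nat.div_lt_of_lt_mul (by omega)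

/-- Existence of a `p`-cycle in `Perm (Fin n)`. -/
theorem exists_cycle_fin {n p : ℕ} (hp : p.Prime) (hpn : p ≤ n) :
    ∃ c : Perm (Fin n), c.IsCycle ∧ orderOf c = p ∧ c.support.card = p ∧
      (p ≠ 2 → Perm.sign c = 1) := by
  obtain ⟨c, hc⟩ := (Equiv.Perm.exists_with_cycleType_iff (Fin n) (m := {p})).mpr
    ⟨by simpa using hpn, by simpa using hp.two_le⟩
  refine ⟨c, ?_, ?_, ?_, ?_⟩
  · rw [← Perm.card_cycleType_eq_one, hc]
    simp
  · rw [← Perm.lcm_cycleType, hc]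
    simp
  · rw [← Perm.sum_cycleType, hc]
    simp
  · intro hp2
    rw [Perm.sign_of_cycleType, hc]
    have hodd : Odd p := hp.odd_of_ne_two hp2
    simp only [Multiset.sum_singleton, Multiset.card_singleton]
    exact Even.neg_one_pow (by simpa using hodd.add_one)

/-- Criterion for the symmetric group. -/
theorem no_nilcover_perm {n : ℕ} (hn : 3 ≤ n) {p : ℕ} (hp : p.Prime) (c : Perm (Fin n))
    (hc : orderOf c = p) (hpp : ¬ p * p ∣ n.factorial)
    (M : Subgroup (Perm (Fin n))) (hM : ∃ g, g ∉ M) (hCM : ∀ g, g * c = c * g → g ∈ M)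
    (g : Perm (Fin n)) (hgM : g ∈ M) (hg : g * c * g⁻¹ ∉ Subgroup.zpowers c) :
    ¬ ∃ 𝓐 : Finset (Subgroup (Equiv.Perm (Fin n))), ((∀ A ∈ 𝓐, A ≠ ⊤) ∧ (∀ g : (Equiv.Perm (Fin n)), ∃ A ∈ 𝓐, g ∈ A)) ∧ (∀ 𝓑 : Finset (Subgroup (Equiv.Perm (Fin n))), (∀ A ∈ 𝓑, A ≠ ⊤) ∧ (∀ g : (Equiv.Perm (Fin n)), ∃ A ∈ 𝓑, g ∈ A) → 𝓐.card ≤ 𝓑.card) ∧ (∀ A ∈ 𝓐, Group.IsNilpotent ↥A) := by
  have : Fact p.Prime := ⟨hp⟩
  refine no_nilcover_of_cyclic_sylow (perm_center_eq_bot (by simpa using hn)) c hc ?_ M ?_ ?_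
    g hgM hg
  · rw [Nat.card_perm, Nat.card_fin]
    exact hpp
  · obtain ⟨g', hg'⟩ := hM
    intro h
    exact hg' (h ▸ Subgroup.mem_top g')
  · intro g' hg'
    apply hCM
    exact (Subgroup.mem_centralizer_iff.mp hg' c rfl).symm

/-- Criterion for the alternating group. -/
theorem no_nilcover_alt {n : ℕ} (hn : 4 ≤ n) {p : ℕ} (hp : p.Prime) (c : Perm (Fin n))
    (hs : Perm.sign c = 1) (hc : orderOf c = p) (hpp : ¬ p * p ∣ n.factorial)
    (M : Subgroup (Perm (Fin n))) (hM : ∃ g, Perm.sign g = 1 ∧ g ∉ M)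
    (hCM : ∀ g, Perm.sign g = 1 → g * c = c * g → g ∈ M)
    (g : Perm (Fin n)) (hgs : Perm.sign g = 1) (hgM : g ∈ M)
    (hg : g * c * g⁻¹ ∉ Subgroup.zpowers c) :
    ¬ ∃ 𝓐 : Finset (Subgroup ↥(alternatingGroup (Fin n))), ((∀ A ∈ 𝓐, A ≠ ⊤) ∧ (∀ g : ↥(alternatingGroup (Fin n)), ∃ A ∈ 𝓐, g ∈ A)) ∧ (∀ 𝓑 : Finset (Subgroup ↥(alternatingGroup (Fin n))), (∀ A ∈ 𝓑, A ≠ ⊤) ∧ (∀ g : ↥(alternatingGroup (Fin n)), ∃ A ∈ 𝓑, g ∈ A) → 𝓐.card ≤ 𝓑.card) ∧ (∀ A ∈ 𝓐, Group.IsNilpotent ↥A) := by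
  have : Fact p.Prime := ⟨hp⟩
  have hcA : c ∈ alternatingGroup (Fin n) := Perm.mem_alternatingGroup.mpr hs
  have hgA : g ∈ alternatingGroup (Fin n) := Perm.mem_alternatingGroup.mpr hgs
  have hc' : orderOf (⟨c, hcA⟩ : alternatingGroup (Fin n)) = p := by
    rw [Subgroup.orderOf_mk]
    exact hc
  refine no_nilcover_of_cyclic_sylow (p := p) (alternatingGroup.center_eq_bot (by simpa using hn))
    (⟨c, hcA⟩ : alternatingGroup (Fin n)) hc' ?_
    (M.subgroupOf (alternatingGroup (Fin n))) ?_ ?_ ⟨g, hgA⟩ (Subgroup.mem_subgroupOf.mpr hgM) ?_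
  · intro h
    apply hpp
    have h1 : Nat.card (alternatingGroup (Fin n)) ∣ Nat.card (Perm (Fin n)) :=
      Subgroup.card_subgroup_dvd_card _
    rw [Nat.card_perm, Nat.card_fin] at h1
    exact h.trans h1
  · obtain ⟨g', hg's, hg'⟩ := hM
    intro h
    apply hg'
    have h1 : (⟨g', Perm.mem_alternatingGroup.mpr hg's⟩ : alternatingGroup (Fin n)) ∈
        M.subgroupOf (alternatingGroup (Fin n)) := h ▸ Subgroup.mem_top _
    exact Subgroup.mem_subgroupOf.mp h1
  · intro g' hg'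
    rw [Subgroup.mem_subgroupOf]
    apply hCM _ (Perm.mem_alternatingGroup.mp g'.2)
    have h1 := Subgroup.mem_centralizer_iff.mp hg' ⟨c, hcA⟩ rfl
    exact (congrArg Subtype.val h1).symm
  · intro h
    apply hg
    obtain ⟨k, hk⟩ := Subgroup.mem_zpowers_iff.mp h
    rw [Subgroup.mem_zpowers_iff]
    exact ⟨k, by simpa using congrArg Subtype.val hk⟩

/-- A prime `p ≥ 5` with `p < n < 2p`, for `n ≥ 6`. -/
theorem exists_prime_mid {n : ℕ} (hn : 6 ≤ n) : ∃ p, p.Prime ∧ 5 ≤ p ∧ p < n ∧ n < 2 * p := by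
  obtain ⟨p, hp, h1, h2⟩ := Nat.exists_prime_lt_and_le_two_mul (n / 2) (by omega)
  refine ⟨p, hp, ?_, ?_, by omega⟩
  · have h4 : p ≠ 4 := by
      rintro rfl
      norm_num at hp
    omega
  · rcases Nat.lt_or_ge p n with h | h
    · exact h
    · exfalso
      have heven : p = 2 * (n / 2) := by omega
      rcases (Nat.dvd_prime hp).mp ⟨n / 2, heven⟩ with h3 | h3
      · omega
      · omega

/-- The data for `n ≥ 6`: a `p`-cycle `c`, the setwise stabilizer `M` of its support and an even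
permutation `g` in `M` not normalizing `⟨c⟩`. -/
theorem data_ge_six {n : ℕ} (hn : 6 ≤ n) :
    ∃ (p : ℕ) (c : Perm (Fin n)) (M : Subgroup (Perm (Fin n))) (g : Perm (Fin n)),
      p.Prime ∧ Perm.sign c = 1 ∧ orderOf c = p ∧ ¬ p * p ∣ n.factorial ∧
      (∃ g, Perm.sign g = 1 ∧ g ∉ M) ∧ (∀ g, g * c = c * g → g ∈ M) ∧
      Perm.sign g = 1 ∧ g ∈ M ∧ g * c * g⁻¹ ∉ Subgroup.zpowers c := by
  obtain ⟨p, hp, hp5, hpn, hn2⟩ := exists_prime_mid hn
  obtain ⟨c, hc, hord, hsupp, hsign⟩ := exists_cycle_fin hp hpn.le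
  have hs : Perm.sign c = 1 := hsign (by omega)
  obtain ⟨g, hgs, hgfix, hg⟩ := exists_even_not_normalizing hc hp5 hord
  have hmemM : ∀ f : Perm (Fin n),
      f ∈ MulAction.stabilizer (Perm (Fin n)) (c.support : Set (Fin n)) ↔
        ∀ x ∈ c.support, f x ∈ c.support := by
    intro f
    rw [MulAction.mem_stabilizer_set' (Set.toFinite _)]
    constructor
    · intro h x hx
      exact h (Finset.mem_coe.mpr hx)
    · intro h x hx
      exact Finset.mem_coe.mpr (h x (Finset.mem_coe.mp hx))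
  refine ⟨p, c, MulAction.stabilizer (Perm (Fin n)) (c.support : Set (Fin n)), g, hp, hs, hord,
    not_sq_dvd_factorial hp hpn.le hn2, ?_, ?_, hgs, ?_, hg⟩
  · obtain ⟨a, ha, -⟩ := id hc
    obtain ⟨x, hx⟩ : ∃ x, x ∉ c.support := by
      by_contra h
      push Not at h
      have h1 : c.support = Finset.univ := Finset.eq_univ_iff_forall.mpr h
      rw [h1, Finset.card_univ, Fintype.card_fin] at hsupp
      omega
    have hax : a ≠ x := fun h => hx (h ▸ Perm.mem_support.mpr ha)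
    have hb : c a ∈ c.support := Perm.apply_mem_support.mpr (Perm.mem_support.mpr ha)
    have hxy : x ≠ c a := fun h => hx (h ▸ hb)
    obtain ⟨f, hfs, hfa, -⟩ := exists_even_moving hax (Ne.symm ha) hxy
    refine ⟨f, hfs, fun hf => hx ?_⟩
    rw [← hfa]
    exact (hmemM f).mp hf a (Perm.mem_support.mpr ha)
  · intro f hf
    rw [hmemM]
    intro x hx
    exact apply_mem_support_of_commute hf hx
  · rw [hmemM]
    intro x hx
    by_contra h
    have h1 : g x = x := g.injective (hgfix _ h)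
    rw [h1] at h
    exact h hx

/-- No nilpotent minimal cover of `S_4`. -/
theorem perm_four :
    ¬ ∃ 𝓐 : Finset (Subgroup (Equiv.Perm (Fin 4))), ((∀ A ∈ 𝓐, A ≠ ⊤) ∧ (∀ g : (Equiv.Perm (Fin 4)), ∃ A ∈ 𝓐, g ∈ A)) ∧ (∀ 𝓑 : Finset (Subgroup (Equiv.Perm (Fin 4))), (∀ A ∈ 𝓑, A ≠ ⊤) ∧ (∀ g : (Equiv.Perm (Fin 4)), ∃ A ∈ 𝓑, g ∈ A) → 𝓐.card ≤ 𝓑.card) ∧ (∀ A ∈ 𝓐, Group.IsNilpotent ↥A) := by
  obtain ⟨c, hc, hord, hsupp, hsign⟩ := exists_cycle_fin (n := 4) Nat.prime_three (by norm_num)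
  have hs := hsign (by norm_num)
  have hcompl : c.supportᶜ.card = 1 := by rw [Finset.card_compl, hsupp, Fintype.card_fin]
  obtain ⟨a, ha, -⟩ := id hc
  obtain ⟨x, hx⟩ := Finset.card_pos.mp (by rw [hcompl]; norm_num : 0 < c.supportᶜ.card)
  rw [Finset.mem_compl] at hx
  have hax : a ≠ x := fun h => hx (h ▸ Perm.mem_support.mpr ha)
  have hb : c a ∈ c.support := Perm.apply_mem_support.mpr (Perm.mem_support.mpr ha)
  have hxy : x ≠ c a := fun h => hx (h ▸ hb)
  obtain ⟨g, hgs, hga, -⟩ := exists_even_moving hax (Ne.symm ha) hxy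
  refine no_nilcover_perm (by norm_num) Nat.prime_three c hord
    (not_sq_dvd_factorial Nat.prime_three (by norm_num) (by norm_num))
    (alternatingGroup (Fin 4)) ⟨swap 0 1, ?_⟩ ?_ g (Perm.mem_alternatingGroup.mpr hgs) ?_
  · rw [Perm.mem_alternatingGroup, Perm.sign_swap (by decide)]
    decide
  · intro f hf
    exact Perm.mem_alternatingGroup.mpr (sign_eq_one_of_commute hc hs hf hcompl.le)
  · intro h
    have h1 := apply_mem_support_of_conj_mem_zpowers h (Perm.mem_support.mpr ha)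
    rw [hga] at h1
    exact hx h1

/-- No nilpotent minimal cover of `S_5`. -/
theorem perm_five :
    ¬ ∃ 𝓐 : Finset (Subgroup (Equiv.Perm (Fin 5))), ((∀ A ∈ 𝓐, A ≠ ⊤) ∧ (∀ g : (Equiv.Perm (Fin 5)), ∃ A ∈ 𝓐, g ∈ A)) ∧ (∀ 𝓑 : Finset (Subgroup (Equiv.Perm (Fin 5))), (∀ A ∈ 𝓑, A ≠ ⊤) ∧ (∀ g : (Equiv.Perm (Fin 5)), ∃ A ∈ 𝓑, g ∈ A) → 𝓐.card ≤ 𝓑.card) ∧ (∀ A ∈ 𝓐, Group.IsNilpotent ↥A) := by
  obtain ⟨c, hc, hord, hsupp, hsign⟩ := exists_cycle_fin (n := 5) Nat.prime_five (by norm_num)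
  have hs := hsign (by norm_num)
  have hcompl : c.supportᶜ.card = 0 := by rw [Finset.card_compl, hsupp, Fintype.card_fin]
  obtain ⟨g, hgs, -, hg⟩ := exists_even_not_normalizing hc (le_refl 5) hord
  refine no_nilcover_perm (by norm_num) Nat.prime_five c hord
    (not_sq_dvd_factorial Nat.prime_five (by norm_num) (by norm_num))
    (alternatingGroup (Fin 5)) ⟨swap 0 1, ?_⟩ ?_ g (Perm.mem_alternatingGroup.mpr hgs) hg
  · rw [Perm.mem_alternatingGroup, Perm.sign_swap (by decide)]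
    decide
  · intro f hf
    exact Perm.mem_alternatingGroup.mpr (sign_eq_one_of_commute hc hs hf (by omega))

/-- No nilpotent minimal cover of `A_5`. -/
theorem alt_five :
    ¬ ∃ 𝓐 : Finset (Subgroup ↥(alternatingGroup (Fin 5))), ((∀ A ∈ 𝓐, A ≠ ⊤) ∧ (∀ g : ↥(alternatingGroup (Fin 5)), ∃ A ∈ 𝓐, g ∈ A)) ∧ (∀ 𝓑 : Finset (Subgroup ↥(alternatingGroup (Fin 5))), (∀ A ∈ 𝓑, A ≠ ⊤) ∧ (∀ g : ↥(alternatingGroup (Fin 5)), ∃ A ∈ 𝓑, g ∈ A) → 𝓐.card ≤ 𝓑.card) ∧ (∀ A ∈ 𝓐, Group.IsNilpotent ↥A) := by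
  obtain ⟨c, hc, hord, hsupp, hsign⟩ := exists_cycle_fin (n := 5) Nat.prime_three (by norm_num)
  have hs := hsign (by norm_num)
  have hcompl : c.supportᶜ.card = 2 := by rw [Finset.card_compl, hsupp, Fintype.card_fin]
  obtain ⟨x₀, x₁, hx, hset⟩ := Finset.card_eq_two.mp hcompl
  have hx₀ : x₀ ∉ c.support := by
    rw [← Finset.mem_compl, hset]
    simp
  have hx₁ : x₁ ∉ c.support := by
    rw [← Finset.mem_compl, hset]
    simp
  obtain ⟨a, ha, -⟩ := id hc
  have has : a ∈ c.support := Perm.mem_support.mpr ha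
  have hb : c a ∈ c.support := Perm.apply_mem_support.mpr has
  have hx₀a : x₀ ≠ a := fun h => hx₀ (h ▸ has)
  have hx₁a : x₁ ≠ a := fun h => hx₁ (h ▸ has)
  have hx₀b : x₀ ≠ c a := fun h => hx₀ (h ▸ hb)
  have hx₁b : x₁ ≠ c a := fun h => hx₁ (h ▸ hb)
  obtain ⟨f, hfs, hfx, -⟩ := exists_even_moving hx₀a hx₀b (Ne.symm ha)
  obtain ⟨g, hgs, hga, hgfix⟩ := exists_even_moving (Ne.symm hx₁a) (Ne.symm ha) hx₁b
  refine no_nilcover_alt (by norm_num) Nat.prime_three c hs hord
    (not_sq_dvd_factorial Nat.prime_three (by norm_num) (by norm_num))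
    (MulAction.stabilizer (Perm (Fin 5)) x₀) ⟨f, hfs, ?_⟩ ?_ g hgs ?_ ?_
  · rw [MulAction.mem_stabilizer_iff, Perm.smul_def, hfx]
    exact Ne.symm hx₀a
  · intro f' hf's hf'
    rw [MulAction.mem_stabilizer_iff, Perm.smul_def]
    exact apply_eq_of_commute_of_even hc hs hf' hf's hx hset
  · rw [MulAction.mem_stabilizer_iff, Perm.smul_def]
    exact hgfix x₀ hx₀a hx hx₀b
  · intro h
    have h1 := apply_mem_support_of_conj_mem_zpowers h has
    rw [hga] at h1
    exact hx₁ h1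

/-- A cover of a group is a finite set of proper subgroups whose union is the whole group; it is minimal when no cover has fewer members, and nilpotent when all its members are nilpotent. The alternating groups of degree at least 5 and the symmetric groups of degree at least 4 have no nilpotent minimal cover. -/
theorem result (n : ℕ) :
    (5 ≤ n → ¬ ∃ 𝓐 : Finset (Subgroup ↥(alternatingGroup (Fin n))), ((∀ A ∈ 𝓐, A ≠ ⊤) ∧ (∀ g : ↥(alternatingGroup (Fin n)), ∃ A ∈ 𝓐, g ∈ A)) ∧ (∀ 𝓑 : Finset (Subgroup ↥(alternatingGroup (Fin n))), (∀ A ∈ 𝓑, A ≠ ⊤) ∧ (∀ g : ↥(alternatingGroup (Fin n)), ∃ A ∈ 𝓑, g ∈ A) → 𝓐.card ≤ 𝓑.card) ∧ (∀ A ∈ 𝓐, Group.IsNilpotent ↥A)) ∧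
    (4 ≤ n → ¬ ∃ 𝓐 : Finset (Subgroup (Equiv.Perm (Fin n))), ((∀ A ∈ 𝓐, A ≠ ⊤) ∧ (∀ g : (Equiv.Perm (Fin n)), ∃ A ∈ 𝓐, g ∈ A)) ∧ (∀ 𝓑 : Finset (Subgroup (Equiv.Perm (Fin n))), (∀ A ∈ 𝓑, A ≠ ⊤) ∧ (∀ g : (Equiv.Perm (Fin n)), ∃ A ∈ 𝓑, g ∈ A) → 𝓐.card ≤ 𝓑.card) ∧ (∀ A ∈ 𝓐, Group.IsNilpotent ↥A)) := by
  constructor
  · intro hn
    rcases Nat.lt_or_ge n 6 with h | h
    · have h5 : n = 5 := by omega
      subst h5
      exact alt_five
    · obtain ⟨p, c, M, g, hp, hs, hord, hpp, hM, hCM, hgs, hgM, hg⟩ := data_ge_six h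
      exact no_nilcover_alt (by omega) hp c hs hord hpp M hM (fun f _ hf => hCM f hf) g hgs hgM hg
  · intro hn
    rcases Nat.lt_or_ge n 6 with h | h
    · have h45 : n = 4 ∨ n = 5 := by omega
      rcases h45 with rfl | rfl
      · exact perm_four
      · exact perm_five
    · obtain ⟨p, c, M, g, hp, hs, hord, hpp, ⟨f, -, hf⟩, hCM, hgs, hgM, hg⟩ := data_ge_six h
      exact no_nilcover_perm (by omega) hp c hord hpp M ⟨f, hf⟩ hCM g hgM hg

end Cfsg.Agent.S3892
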