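import Cfsg.Statements.S4020
import Cfsg.Agent.H25.EqOrdB
import Cfsg.Agent.H25.EqOrdD
import Cfsg.Agent.H11.EqOrdA
import Cfsg.Agent.H11.EqOrdB
import Cfsg.Agent.H67.EqOrdC

set_option autoImplicit false
open Cfsg

namespace Cfsg.Agent.S4020

/-- Let G be a finite group in which, for every prime p, any two p-subgroups of the same order are conjugate. Then every Sylow subgroup of G is cyclic, elementary abelian, or a quaternion group of order 8. -/
theorem result {G : Type*} [Group G] [Finite G]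
    (hD : ∀ p : ℕ, p.Prime → ∀ H K : Subgroup G, IsPGroup p H → IsPGroup p K → Nat.card H = Nat.card K →
      ∃ g : G, K = H.map (MulAut.conj g).toMonoidHom) {p : ℕ} [Fact p.Prime] (P : Sylow p G) :
    IsCyclic P ∨ Cfsg.IsElementaryAbelian p (P : Subgroup G) ∨ Nonempty ((P : Subgroup G) ≃* QuaternionGroup 2) := by
  have hp : p.Prime := Fact.out
  have hDp : Cfsg.Agent.H25.EqOrd.HD p G := hD p hp
  have hD2 : Cfsg.Agent.H25.EqOrd.HD 2 G := hD 2 Nat.prime_two
  have h2 : ∀ S : Sylow 2 G, IsCyclic S ∨ Cfsg.IsElementaryAbelian 2 (S : Subgroup G) ∨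
      Nonempty ((S : Subgroup G) ≃* QuaternionGroup 2) := by
    intro S
    rcases Cfsg.Agent.H25.EqOrd.weak_tri 2 Cfsg.Agent.H11.EqOrd.quat_two_subgroups hD2 S with
      h | h | h | ⟨h, -⟩
    · exact Or.inl h
    · exact Or.inr (Or.inl h)
    · exact Or.inr (Or.inr h)
    · exact absurd rfl h
  rcases Cfsg.Agent.H25.EqOrd.weak_tri p Cfsg.Agent.H11.EqOrd.quat_two_subgroups hDp P with
    h | h | h | ⟨hp2, hnab, hexp⟩
  · exact Or.inl h
  · exact Or.inr (Or.inl h)
  · exact Or.inr (Or.inr h)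
  · exfalso
    obtain ⟨a, b, d, ha, hb, hd, hd1, hn⟩ := Cfsg.Agent.H25.EqOrd.exists_rel p hDp
      (P : Subgroup G) P.isPGroup' P.card_eq_multiplicity
      (fun u v c hu hv hc huc hvc huv =>
        Cfsg.Agent.H11.EqOrd.card_closure_heis_le p hp.pos u v c hu hv hc huc hvc huv)
      hnab hexp
    exact Cfsg.Agent.H67.EqOrd.two_part_contra p hp2 (hD p hp) h2 a b d ha hb hd hd1 hn

end Cfsg.Agent.S4020
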