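import Cfsg.Statements.S4068
import Cfsg.Agent.H93.AOrbMain
import Cfsg.Agent.H1.AOrbEpoCN
import Cfsg.Agent.H1.AOrbEpoInv
import Cfsg.Agent.H1.AOrbOrbCount
import Cfsg.Agent.H39.AOCyc
import Cfsg.Agent.H39.AONorm
import Cfsg.Agent.H39.AOThreePrimes
import Cfsg.Agent.H26.AOrbSL8
import Cfsg.Agent.H26.AOrbSLArith
import Cfsg.Agent.H93.AOrbSLA
import Cfsg.Agent.H93.AOrbSLTorus
import Cfsg.Agent.S0183
import Cfsg.Agent.S2202
import Cfsg.Agent.S0494
import Cfsg.Agent.H97.Ord120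
import Cfsg.Agent.H7.SL2
import Cfsg.Agent.H4.PaQb

set_option autoImplicit false
open Cfsg

namespace Cfsg.Agent.S4068

/-- A finite non-solvable group on which its automorphism group has exactly four orbits is isomorphic to the alternating group of degree 5. -/
theorem result {G : Type*} [Group G] [Finite G] (hns : ¬ Group.IsSolvable G)
    (h4 : Nat.card (MulAction.orbitRel.Quotient (MulAut G) G) = 4) : Nonempty (G ≃* alternatingGroup (Fin 5)) := by
  refine Cfsg.Agent.H93.AOrb.main_of Cfsg.Agent.H1.AOrb.orbCount Cfsg.Agent.H39.AO.threePrimes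
    Cfsg.Agent.H1.AOrb.epoCN Cfsg.Agent.H1.AOrb.epoInv Cfsg.Agent.H39.AO.cyc
    Cfsg.Agent.H39.AO.norm Cfsg.Agent.H93.AOrb.slA Cfsg.Agent.H93.AOrb.slTorus
    Cfsg.Agent.H26.AOrb.sl8 Cfsg.Agent.H26.AOrb.slArith ?_ ?_ ?_ ?_ ?_ hns h4
  · intro K _ _ hodd hCN
    exact Cfsg.Agent.S0183.result hodd hCN
  · intro K _ _ hev h
    exact Cfsg.Agent.S2202.result hev h
  · intro K _ _ p q a b hp hq hcard
    exact Cfsg.Agent.H4.isSolvable_of_card_eq_prime_pow_mul_prime_pow p q a b hp hq hcard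
  · intro K _ _ hcard hnsK
    have := Cfsg.Agent.H97.Ord120.simple_of_card_60 K hcard hnsK
    exact Cfsg.Agent.S0494.result hcard
  · intro F _ _
    exact Cfsg.Agent.H7.card_SL2

end Cfsg.Agent.S4068
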