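import Mathlib
import Cfsg.Statements.S4113

set_option autoImplicit false
open Cfsg
open scoped Pointwise

namespace Cfsg.Agent.S4113

theorem result {G : Type*} [Group G] [Finite G] (N M : Subgroup G) [N.Normal] [M.Normal] (hMN : M ≤ N) (hM1 : M ≠ ⊥) (hN2 : N ≠ ⊤)
    (H : Subgroup G) (hHM : H ⊔ M = ⊤) (hHM' : H ⊓ M = ⊥) :
    (∀ x ∈ M, x ≠ 1 → Subgroup.centralizer ({x} : Set G) ≤ N) ↔
      (H ≠ ⊥ ∧ H ≠ ⊤ ∧ H ⊓ N < H ∧ ∀ g : G, g ∉ H → H ⊓ H.map (MulAut.conj g).toMonoidHom ≤ N) := by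
  have hMnorm : M.Normal := inferInstance
  -- decomposition g = m * h
  have hdec : ∀ g : G, ∃ m ∈ M, ∃ h ∈ H, g = m * h := by
    intro g
    have hg : g ∈ (M ⊔ H : Subgroup G) := by rw [sup_comm, hHM]; exact Subgroup.mem_top g
    have : g ∈ ((M : Set G) * (H : Set G)) := by
      rw [← Subgroup.normal_mul]; exact hg
    obtain ⟨m, hm, h, hh, rfl⟩ := Set.mem_mul.mp this
    exact ⟨m, hm, h, hh, rfl⟩
  have htriv : ∀ z : G, z ∈ H → z ∈ M → z = 1 := by
    intro z hz1 hz2
    have : z ∈ H ⊓ M := ⟨hz1, hz2⟩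
    rw [hHM'] at this
    exact Subgroup.mem_bot.mp this
  constructor
  · intro ha
    refine ⟨?_, ?_, ?_, ?_⟩
    · rintro rfl
      rw [bot_sup_eq] at hHM
      apply hN2
      rw [eq_top_iff, ← hHM]; exact hMN
    · rintro rfl
      rw [top_inf_eq] at hHM'
      exact hM1 hHM'
    · refine lt_of_le_of_ne inf_le_left ?_
      intro h
      have hHN : H ≤ N := by rw [← h]; exact inf_le_right
      apply hN2
      rw [eq_top_iff, ← hHM]
      exact sup_le hHN hMN
    · intro g hg y hy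
      obtain ⟨hy1, hy2⟩ := hy
      obtain ⟨m, hm, h, hh, rfl⟩ := hdec g
      have hm1 : m ≠ 1 := by
        rintro rfl
        apply hg
        rw [one_mul]; exact hh
      obtain ⟨y0, hy0, hy0e⟩ := Subgroup.mem_map.mp hy2
      have hy0e' : m * h * y0 * (m * h)⁻¹ = y := hy0e
      set y' := h * y0 * h⁻¹ with hy'
      have hy'H : y' ∈ H := H.mul_mem (H.mul_mem hh hy0) (H.inv_mem hh)
      have hyy' : y = m * y' * m⁻¹ := by
        rw [← hy0e', hy']; group
      have h1 : y'⁻¹ * y ∈ M := by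
        have : y'⁻¹ * y = (y'⁻¹ * m * y'⁻¹⁻¹) * m⁻¹ := by rw [hyy']; group
        rw [this]
        exact M.mul_mem (hMnorm.conj_mem m hm _) (M.inv_mem hm)
      have h2 : y'⁻¹ * y ∈ H := H.mul_mem (H.inv_mem hy'H) hy1
      have h3 : y'⁻¹ * y = 1 := htriv _ h2 h1
      have h4 : y = y' := by
        have := congrArg (y' * ·) h3
        simpa using this
      have h5 : y ∈ Subgroup.centralizer ({m} : Set G) := by
        rw [Subgroup.mem_centralizer_singleton_iff]
        rw [← h4] at hyy'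
        calc y * m = m * y * m⁻¹ * m := by rw [← hyy']
          _ = m * y := by group
      exact ha m hm hm1 h5
  · rintro ⟨-, -, -, hb⟩ x hx hx1 c hc
    rw [Subgroup.mem_centralizer_singleton_iff] at hc
    by_contra hcN
    obtain ⟨m, hm, h, hh, rfl⟩ := hdec c
    have hhN : h ∉ N := by
      intro hhN
      exact hcN (N.mul_mem (hMN hm) hhN)
    -- Claim A
    have claimA : ∀ u ∈ M, u ≠ 1 → u * h ≠ h * u := by
      intro u hu hu1 huh
      have huH : u ∉ H := fun huH => hu1 (htriv u huH hu)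
      have h1 : h ∈ H.map (MulAut.conj u).toMonoidHom := by
        refine Subgroup.mem_map.mpr ⟨h, hh, ?_⟩
        change u * h * u⁻¹ = h
        rw [huh]; group
      exact hhN (hb u huH ⟨hh, h1⟩)
    -- Claim B: injectivity of u ↦ u h u⁻¹ h⁻¹ on M
    let φ : M → M := fun u => ⟨(u : G) * h * (u : G)⁻¹ * h⁻¹, by
      have : (u : G) * h * (u : G)⁻¹ * h⁻¹ = (u : G) * (h * (u : G)⁻¹ * h⁻¹) := by group
      rw [this]
      exact M.mul_mem u.2 (hMnorm.conj_mem _ (M.inv_mem u.2) _)⟩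
    have hφinj : Function.Injective φ := by
      intro u v huv
      have huv' : (u : G) * h * (u : G)⁻¹ * h⁻¹ = (v : G) * h * (v : G)⁻¹ * h⁻¹ :=
        congrArg Subtype.val huv
      have h1 : (u : G) * h * (u : G)⁻¹ = (v : G) * h * (v : G)⁻¹ := mul_right_cancel huv'
      by_contra hne
      have hw : ((v : G)⁻¹ * (u : G)) ∈ M := M.mul_mem (M.inv_mem v.2) u.2
      have hw1 : ((v : G)⁻¹ * (u : G)) ≠ 1 := by
        intro h0
        apply hne
        apply Subtype.ext
        have := congrArg ((v : G) * ·) h0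
        simpa using this
      apply claimA _ hw hw1
      calc (v : G)⁻¹ * (u : G) * h = (v : G)⁻¹ * ((u : G) * h * (u : G)⁻¹) * u := by group
        _ = (v : G)⁻¹ * ((v : G) * h * (v : G)⁻¹) * u := by rw [h1]
        _ = h * ((v : G)⁻¹ * (u : G)) := by group
    have hφsurj : Function.Surjective φ := Finite.injective_iff_surjective.mp hφinj
    obtain ⟨u, hu⟩ := hφsurj ⟨m, hm⟩
    have hu' : (u : G) * h * (u : G)⁻¹ * h⁻¹ = m := congrArg Subtype.val hu
    have hc' : m * h = (u : G) * h * (u : G)⁻¹ := by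
      rw [← hu']; group
    rw [hc'] at hc
    -- h commutes with u⁻¹ x u
    have hw : (u : G)⁻¹ * x * (u : G) ∈ M := by
      have := hMnorm.conj_mem x hx (u : G)⁻¹
      simpa using this
    have hw1 : (u : G)⁻¹ * x * (u : G) ≠ 1 := by
      intro h0
      apply hx1
      have := congrArg (fun t => (u : G) * t * (u : G)⁻¹) h0
      simpa [mul_assoc] using this
    apply claimA _ hw hw1
    calc (u : G)⁻¹ * x * (u : G) * h = (u : G)⁻¹ * (x * ((u : G) * h * (u : G)⁻¹)) * u := by group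
      _ = (u : G)⁻¹ * ((u : G) * h * (u : G)⁻¹ * x) * u := by rw [hc]
      _ = h * ((u : G)⁻¹ * x * (u : G)) := by group

end Cfsg.Agent.S4113
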