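import Cfsg.Statements.S4125
import Cfsg.Agent.H72.BaerT12
import Cfsg.Agent.H72.Subn
import Cfsg.Agent.H13.BaerG4
import Cfsg.Agent.Lib.Helper30.BaerG1b

set_option autoImplicit false
open Cfsg

namespace Cfsg.Agent.S4125

/-- Let G be a finite group and q a prime dividing its order such that every element of q-power order has a conjugacy class of prime-power size. Then G is q-solvable of q-length 1: there are normal subgroups K ≤ L of G with K of order prime to q, L/K a q-group and L of index prime to q. Moreover there is a prime p such that every element of q-power order has a class of p-power size (one prime serving for all of them), and for a Sylow q-subgroup Q: if p = q then Q is normal with a normal complement (a direct factor), while if p ≠ q then Q is abelian, the product of Q with the largest normal p-subgroup O_p(G) is normal in G, and G/O_{q'}(G) is solvable, where O_{q'}(G) is the largest normal subgroup of order prime to q. -/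
theorem result {G : Type*} [Group G] [Finite G] (q : ℕ) [Fact q.Prime] (hq : q ∣ Nat.card G)
    (hBaer : ∀ x : G, (∃ k : ℕ, orderOf x = q ^ k) → ∃ (r : ℕ) (a : ℕ), r.Prime ∧ (Subgroup.centralizer ({x} : Set G)).index = r ^ a) (Q : Sylow q G) :
    (∃ K L : Subgroup G, K.Normal ∧ L.Normal ∧ K ≤ L ∧ (Nat.card K).Coprime q ∧ (∃ m : ℕ, K.relIndex L = q ^ m) ∧ L.index.Coprime q) ∧
    ∃ p : ℕ, p.Prime ∧ (∀ x : G, (∃ k : ℕ, orderOf x = q ^ k) → ∃ a : ℕ, (Subgroup.centralizer ({x} : Set G)).index = p ^ a) ∧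
      (p = q → (Q : Subgroup G).Normal ∧ ∃ N : Subgroup G, N.Normal ∧ N.IsComplement' (Q : Subgroup G)) ∧
      (p ≠ q → IsMulCommutative (Q : Subgroup G) ∧ (Cfsg.pCore p G ⊔ (Q : Subgroup G)).Normal ∧
        ∀ _h : (Cfsg.pPrimeCore q G).Normal, Group.IsSolvable (G ⧸ Cfsg.pPrimeCore q G)) := by
  have hqp : q.Prime := Fact.out
  obtain ⟨p, hp, hall⟩ := Cfsg.Agent.Lib.Helper30.Baer.exists_prime q hBaer
  have hQco : Q.index.Coprime q :=
    ((Nat.Prime.coprime_iff_not_dvd hqp).mpr Q.not_dvd_index).symm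
  obtain ⟨n, hn⟩ := IsPGroup.iff_card.mp Q.2
  by_cases hpq : p = q
  · subst hpq
    obtain ⟨hQn, N, hNn, hNc⟩ := Cfsg.Agent.Lib.Helper30.Baer.case_eq p hall Q
    refine ⟨⟨N, ⊤, hNn, inferInstance, le_top, ?_, ⟨n, ?_⟩, ?_⟩, p, hp, hall,
      fun _ => ⟨hQn, N, hNn, hNc⟩, fun h => absurd rfl h⟩
    · have h1 : Nat.card N = Q.index := by
        have := hNc.card_mul_card
        have h2 := Subgroup.card_mul_index (Q : Subgroup G)
        rw [← h2, mul_comm] at this
        exact Nat.eq_of_mul_eq_mul_left Nat.card_pos this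
      rw [h1]; exact hQco
    · rw [Subgroup.relIndex_top_right, ← hn]
      exact hNc.symm.index_eq_card
    · rw [Subgroup.index_top]; exact Nat.coprime_one_left p
  · obtain ⟨hQc, hLn⟩ := Cfsg.Agent.H13.Baer.case_ne q p hp hpq hall Q
    have hKn : (Cfsg.pCore p G).Normal := Cfsg.Agent.H72.pCore_normal p G
    have hKp : IsPGroup p (Cfsg.pCore p G) := Cfsg.Agent.H72.pCore_isPGroup p G
    refine ⟨⟨Cfsg.pCore p G, Cfsg.pCore p G ⊔ (Q : Subgroup G), hKn, hLn, le_sup_left, ?_, ?_, ?_⟩,
      p, hp, hall, fun h => absurd h hpq,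
      fun _ => ⟨hQc, hLn, fun hN => Cfsg.Agent.H13.Baer.case_ne_solvable q p hp hpq hall
        (fun A hA => Cfsg.Agent.H72.BaerT.lemmaT p q A hA) hN⟩⟩
    · have : Fact p.Prime := ⟨hp⟩
      obtain ⟨k, hk⟩ := IsPGroup.iff_card.mp hKp
      rw [hk]
      exact Nat.Coprime.pow_left k ((Nat.coprime_primes hp hqp).mpr hpq)
    · have h1 : (Cfsg.pCore p G).relIndex (Cfsg.pCore p G ⊔ (Q : Subgroup G)) =
          (Cfsg.pCore p G).relIndex (Q : Subgroup G) := by
        rw [Subgroup.relIndex_sup_left]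
      have h2 : (Cfsg.pCore p G).relIndex (Q : Subgroup G) ∣ q ^ n := by
        rw [← hn]; exact Subgroup.relIndex_dvd_card _ _
      obtain ⟨m, _, hm⟩ := (Nat.dvd_prime_pow hqp).mp h2
      exact ⟨m, by rw [h1, hm]⟩
    · exact Nat.Coprime.coprime_dvd_left (Subgroup.index_dvd_of_le le_sup_right) hQco

end Cfsg.Agent.S4125
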