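import Cfsg.Statements.S4130
import Cfsg.Agent.H13.SqfB
import Cfsg.Agent.H67.SqfSuper
import Cfsg.Agent.H64.SqfP3b
import Cfsg.Agent.H79.SqfComm

set_option autoImplicit false
open Cfsg

namespace Cfsg.Agent.S4130

/-- Let G be a finite group all of whose conjugacy class sizes are square-free. Then G is supersolvable, G/F(G) and the derived subgroup G′ are cyclic of square-free order (F(G) the Fitting subgroup, which is normal), F(G) has nilpotency class at most 2, and G is metabelian. -/
theorem result {G : Type*} [Group G] [Finite G]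
    (h : ∀ x : G, Squarefree (Subgroup.centralizer ({x} : Set G)).index) :
    Cfsg.IsSupersolvable G ∧ (Cfsg.fittingSubgroup G).Normal ∧
    (∀ _h : (Cfsg.fittingSubgroup G).Normal, IsCyclic (G ⧸ Cfsg.fittingSubgroup G) ∧ Squarefree (Cfsg.fittingSubgroup G).index) ∧
    IsCyclic (commutator G) ∧ Squarefree (Nat.card (commutator G)) ∧
    Subgroup.upperCentralSeries ↥(Cfsg.fittingSubgroup G) 2 = ⊤ ∧ commutator ↥(commutator G) = ⊥ := by
  -- P0 (helper13): solvability; P1 (helper67): supersolvability; P2, P3 (helper64): Fitting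
  -- subgroup; P4 (helper79): commutator subgroup.
  have hsol := Cfsg.Agent.H13.Sqf.solvable h
  have hss := Cfsg.Agent.H67.Sqf.supersolvable h hsol
  have hcyc := Cfsg.Agent.H79.Sqf.commutator_cyclic h hss
  refine ⟨hss, Cfsg.Agent.H64.Sqf.fitting_normal G,
    fun hn => Cfsg.Agent.H64.Sqf.fitting_quot h hss hn, hcyc.1, hcyc.2,
    Cfsg.Agent.H64.Sqf.fitting_class2 h, ?_⟩
  haveI := hcyc.1
  change ⁅(⊤ : Subgroup ↥(commutator G)), (⊤ : Subgroup ↥(commutator G))⁆ = ⊥
  rw [Subgroup.commutator_eq_bot_iff_le_centralizer]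
  intro x _
  rw [Subgroup.mem_centralizer_iff]
  intro y _
  exact Cfsg.Agent.H13.Sqf.comm_of_isCyclic y x

end Cfsg.Agent.S4130
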