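import Mathlib
import Cfsg.Statements.S4134
import Cfsg.Agent.H72.ItoBasic

set_option autoImplicit false
open Cfsg

namespace Cfsg.Agent.S4134

open Subgroup Cfsg.Agent.H72 Cfsg.Agent.H72.Ito

/-- the third part: an abelian normal subgroup containing all `p`-th powers -/
theorem part_three {G : Type*} [Group G] [Finite G] {n : ℕ}
    (h : ∀ x : G, (cen x).index = 1 ∨ (cen x).index = n) {p : ℕ} [Fact p.Prime]
    (hQ : IsPGroup p (G ⧸ center G)) {x₀ : G} (hx₀ : x₀ ∉ center G) (P : Subgroup G) :
    ∃ A : Subgroup P, A.Normal ∧ IsMulCommutative A ∧ ∀ y : P, y ^ p ∈ A := by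
  have hna : ∃ a b : G, a * b ≠ b * a := by
    by_contra hcon
    push Not at hcon
    exact hx₀ (Subgroup.mem_center_iff.mpr fun g => hcon g x₀)
  obtain ⟨z, hz1, hz2, hz3⟩ := exists_second_center' hQ hna
  -- conjugates of `z` are central multiples of `z`
  have hzconj : ∀ g : G, ∃ c ∈ center G, g * z * g⁻¹ = c * z := by
    intro g
    refine ⟨(z * g * z⁻¹ * g⁻¹)⁻¹, (center G).inv_mem (hz3 g), ?_⟩
    group
  have hcenN : ∀ g : G, ∀ w ∈ cen z, g * w * g⁻¹ ∈ cen z := by
    intro g w hw
    obtain ⟨c, hc, hcz⟩ := hzconj g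
    have e : cen (g * z * g⁻¹) = cen z := by rw [hcz]; exact cen_central_mul hc
    rw [← e, mem_cen_conj]
    have e2 : g⁻¹ * (g * w * g⁻¹) * g = w := by group
    rw [e2]; exact hw
  -- the key claim
  have hkey : ∀ a : G, a ^ p ∉ center G → cen a = cen z := by
    intro a hap
    have ha : a ∉ center G := fun hac => hap ((center G).pow_mem hac p)
    have hcomm : Commute ((a : G) : G ⧸ center G) ((z : G) : G ⧸ center G) := by
      have h1 := (QuotientGroup.eq_one_iff (N := center G) _).mpr (hz3 a⁻¹)
      rw [QuotientGroup.mk_mul, QuotientGroup.mk_mul, QuotientGroup.mk_mul, QuotientGroup.mk_inv,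
        QuotientGroup.mk_inv, inv_inv] at h1
      have h2 : ((z : G) : G ⧸ center G) * ((a : G) : G ⧸ center G)⁻¹
          = ((a : G) : G ⧸ center G)⁻¹ * ((z : G) : G ⧸ center G) := by
        calc ((z : G) : G ⧸ center G) * ((a : G) : G ⧸ center G)⁻¹
            = (((z : G) : G ⧸ center G) * ((a : G) : G ⧸ center G)⁻¹ *
                ((z : G) : G ⧸ center G)⁻¹ * ((a : G) : G ⧸ center G)) *
                (((a : G) : G ⧸ center G)⁻¹ * ((z : G) : G ⧸ center G)) := by group
          _ = ((a : G) : G ⧸ center G)⁻¹ * ((z : G) : G ⧸ center G) := by rw [h1, one_mul]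
      show ((a : G) : G ⧸ center G) * ((z : G) : G ⧸ center G)
        = ((z : G) : G ⧸ center G) * ((a : G) : G ⧸ center G)
      calc ((a : G) : G ⧸ center G) * ((z : G) : G ⧸ center G)
          = ((a : G) : G ⧸ center G) * (((z : G) : G ⧸ center G) * ((a : G) : G ⧸ center G)⁻¹) *
              ((a : G) : G ⧸ center G) := by group
        _ = ((z : G) : G ⧸ center G) * ((a : G) : G ⧸ center G) := by rw [h2]; group
    have hpow : (((a * z) ^ p : G) : G ⧸ center G) = ((a ^ p : G) : G ⧸ center G) := by
      rw [QuotientGroup.mk_pow, QuotientGroup.mk_mul, hcomm.mul_pow, ← QuotientGroup.mk_pow,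
        ← QuotientGroup.mk_pow, (QuotientGroup.eq_one_iff (N := center G) (z ^ p)).mpr hz2, mul_one]
    have hc : (a ^ p)⁻¹ * (a * z) ^ p ∈ center G := QuotientGroup.eq.mp hpow.symm
    set c : G := (a ^ p)⁻¹ * (a * z) ^ p with hcdef
    have hazp : (a * z) ^ p = c * a ^ p := by
      have h1 : (a * z) ^ p = a ^ p * c := by rw [hcdef]; group
      rw [h1]
      exact Subgroup.mem_center_iff.mp hc (a ^ p)
    have e1 : cen ((a * z) ^ p) = cen (a ^ p) := by rw [hazp]; exact cen_central_mul hc
    have e2 : cen a = cen (a ^ p) :=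
      cen_eq_of_le h ha hap (cen_le_of_mem_zpowers (npow_mem_zpowers a p))
    have hazp' : (a * z) ^ p ∉ center G := by
      intro hcon
      rw [hazp] at hcon
      apply hap
      have : a ^ p = c⁻¹ * (c * a ^ p) := by group
      rw [this]
      exact (center G).mul_mem ((center G).inv_mem hc) hcon
    have haz : a * z ∉ center G := fun hac => hazp' ((center G).pow_mem hac p)
    have e3 : cen (a * z) = cen ((a * z) ^ p) :=
      cen_eq_of_le h haz hazp' (cen_le_of_mem_zpowers (npow_mem_zpowers (a * z) p))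
    have e4 : cen (a * z) = cen a := by rw [e3, e1, ← e2]
    refine cen_eq_of_le h ha hz1 ?_
    intro g hg
    have hg1 : g * a = a * g := mem_cen.mp hg
    have hg2 : g * (a * z) = a * z * g := mem_cen.mp (e4 ▸ hg)
    rw [mem_cen]
    have : a * (g * z) = a * (z * g) := by
      calc a * (g * z) = (a * g) * z := by group
        _ = g * (a * z) := by rw [← hg1]; group
        _ = a * z * g := hg2
        _ = a * (z * g) := by group
    exact mul_left_cancel this
  -- the subgroup
  set A' : Subgroup G := centralizer (cen z : Set G) ⊓ cen z with hA'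
  have hA'n : A'.Normal := by
    constructor
    intro y hy g
    rw [hA', Subgroup.mem_inf] at hy ⊢
    refine ⟨?_, hcenN g y hy.2⟩
    rw [Subgroup.mem_centralizer_iff]
    intro w hw
    have hw' : g⁻¹ * w * g ∈ cen z := by
      have := hcenN g⁻¹ w hw
      rwa [inv_inv] at this
    have h1 := Subgroup.mem_centralizer_iff.mp hy.1 _ hw'
    calc w * (g * y * g⁻¹) = g * ((g⁻¹ * w * g) * y) * g⁻¹ := by group
      _ = g * (y * (g⁻¹ * w * g)) * g⁻¹ := by rw [h1]
      _ = g * y * g⁻¹ * w := by group
  refine ⟨A'.subgroupOf P, inferInstance, ⟨⟨?_⟩⟩, ?_⟩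
  · intro a b
    apply Subtype.ext
    apply Subtype.ext
    have ha : ((a : P) : G) ∈ A' := mem_subgroupOf.mp a.2
    have hb : ((b : P) : G) ∈ A' := mem_subgroupOf.mp b.2
    have ha' := Subgroup.mem_inf.mp ha
    have hb' := Subgroup.mem_inf.mp hb
    exact (Subgroup.mem_centralizer_iff.mp ha'.1 _ hb'.2).symm
  · intro y
    rw [mem_subgroupOf]
    show (y : G) ^ p ∈ A'
    rw [hA', Subgroup.mem_inf]
    by_cases hyp : (y : G) ^ p ∈ center G
    · refine ⟨?_, center_le_cen z hyp⟩
      rw [Subgroup.mem_centralizer_iff]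
      intro w _
      exact Subgroup.mem_center_iff.mp hyp w
    · have e := hkey (y : G) hyp
      refine ⟨?_, ?_⟩
      · rw [Subgroup.mem_centralizer_iff]
        intro w hw
        have hw' : w * (y : G) = (y : G) * w := mem_cen.mp (e ▸ hw)
        have hc : Commute w (y : G) := hw'
        exact (hc.pow_right p).eq
      · rw [← e]
        exact (cen (y : G)).pow_mem (self_mem_cen _) p

/-- Let G be a finite group whose conjugacy classes have exactly two sizes, 1 and n > 1. Then n is a power of a prime p and G is the direct product of a p-group and an abelian group of order prime to p: its Sylow p-subgroup P is normal with an abelian normal complement centralizing it; moreover P has an abelian normal subgroup A with P/A of exponent dividing p. -/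
theorem result {G : Type*} [Group G] [Finite G] (n : ℕ) (hn : 1 < n)
    (h : ∀ x : G, (Subgroup.centralizer ({x} : Set G)).index = 1 ∨ (Subgroup.centralizer ({x} : Set G)).index = n) (hex : ∃ x : G, (Subgroup.centralizer ({x} : Set G)).index = n) :
    ∃ (p : ℕ) (_ : Fact p.Prime) (a : ℕ), n = p ^ a ∧ ∀ P : Sylow p G, (P : Subgroup G).Normal ∧
      (∃ N : Subgroup G, N.Normal ∧ N.IsComplement' (P : Subgroup G) ∧ IsMulCommutative N ∧
        ∀ x ∈ N, ∀ y ∈ (P : Subgroup G), x * y = y * x) ∧
      ∃ A : Subgroup (P : Subgroup G), A.Normal ∧ IsMulCommutative A ∧ ∀ y : (P : Subgroup G), y ^ p ∈ A := by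
  obtain ⟨x₀, hx₀⟩ := hex
  have hx₀Z : x₀ ∉ center G := by
    intro hc
    have : Subgroup.centralizer ({x₀} : Set G) = ⊤ := cen_eq_top_iff.mpr hc
    rw [this, Subgroup.index_top] at hx₀
    omega
  obtain ⟨p, hp, hpdvd⟩ := exists_prime_dvd_orderOf h hx₀Z
  have hfact : Fact p.Prime := ⟨hp⟩
  have hcoZ : ∀ g : G, (orderOf g).Coprime p → g ∈ center G := by
    intro g hg
    by_contra hgZ
    exact (Nat.Prime.coprime_iff_not_dvd hp).mp hg.symm (hpdvd g hgZ)
  -- indices of subgroups containing the centre are powers of `p`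
  have hidx : ∀ H : Subgroup G, center G ≤ H → ∃ a : ℕ, H.index = p ^ a := by
    intro H hH
    refine ⟨_, Nat.eq_prime_pow_of_unique_prime_dvd Subgroup.index_ne_zero_of_finite ?_⟩
    intro ℓ hℓ hℓd
    by_contra hne
    have : Fact ℓ.Prime := ⟨hℓ⟩
    obtain ⟨L⟩ : Nonempty (Sylow ℓ G) := inferInstance
    have hL : (L : Subgroup G) ≤ center G := by
      intro s hs
      apply hcoZ
      obtain ⟨j, hj⟩ := (IsPGroup.iff_orderOf.mp L.isPGroup') ⟨s, hs⟩
      rw [← Subgroup.orderOf_coe] at hj
      rw [hj]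
      exact Nat.Coprime.pow_left _ ((Nat.coprime_primes hℓ hp).mpr hne)
    exact L.not_dvd_index (hℓd.trans (Subgroup.index_dvd_of_le (hL.trans hH)))
  obtain ⟨a, ha⟩ := hidx (cen x₀) (center_le_cen x₀)
  have hQ : IsPGroup p (G ⧸ center G) := by
    obtain ⟨b, hb⟩ := hidx (center G) le_rfl
    exact IsPGroup.of_card (n := b) hb
  refine ⟨p, hfact, a, by rw [← hx₀]; exact ha, ?_⟩
  intro P
  -- `G = P Z(G)`
  have hPZ : (P : Subgroup G) ⊔ center G = ⊤ := by
    obtain ⟨b, hb⟩ := hidx ((P : Subgroup G) ⊔ center G) le_sup_right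
    have hd : ((P : Subgroup G) ⊔ center G).index ∣ (P : Subgroup G).index :=
      Subgroup.index_dvd_of_le le_sup_left
    have hb0 : b = 0 := by
      by_contra hb0
      apply P.not_dvd_index
      refine Dvd.dvd.trans ?_ hd
      rw [hb]; exact dvd_pow_self p hb0
    rw [hb0, pow_zero] at hb
    exact Subgroup.index_eq_one.mp hb
  have hPn : (P : Subgroup G).Normal := by
    rw [← normalizer_eq_top_iff, eq_top_iff, ← hPZ]
    exact sup_le le_normalizer (Subgroup.center_le_normalizer _)
  refine ⟨hPn, ?_, part_three h hQ hx₀Z (P : Subgroup G)⟩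
  -- the complement: all `p'`-elements
  let N : Subgroup G :=
    { carrier := {g | (orderOf g).Coprime p}
      mul_mem' := by
        intro a b ha hb
        have hc : Commute a b := (Subgroup.mem_center_iff.mp (hcoZ a ha) b).symm
        exact Nat.Coprime.coprime_dvd_left hc.orderOf_mul_dvd_mul_orderOf
          (Nat.Coprime.mul_left ha hb)
      one_mem' := by simp
      inv_mem' := by
        intro a ha
        simpa using ha }
  have hNmem : ∀ g : G, g ∈ N ↔ (orderOf g).Coprime p := fun _ => Iff.rfl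
  have hNZ : N ≤ center G := fun g hg => hcoZ g hg
  refine ⟨N, ?_, ?_, ⟨⟨?_⟩⟩, ?_⟩
  · constructor
    intro y hy g
    have := Subgroup.mem_center_iff.mp (hNZ hy) g
    have e : g * y * g⁻¹ = y := by rw [this]; group
    rw [e]; exact hy
  · apply Subgroup.isComplement'_of_disjoint_and_mul_eq_univ
    · rw [Subgroup.disjoint_def]
      intro g hgN hgP
      obtain ⟨j, hj⟩ := (IsPGroup.iff_orderOf.mp P.isPGroup') ⟨g, hgP⟩
      rw [← Subgroup.orderOf_coe] at hj
      have hco : (orderOf g).Coprime p := hgN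
      rw [hj] at hco
      have hj0 : j = 0 := by
        by_contra hj0
        have h1 : p ∣ p ^ j := dvd_pow_self p hj0
        have := Nat.Coprime.eq_one_of_dvd (Nat.Coprime.coprime_dvd_left h1 hco) (dvd_refl p)
        exact hp.one_lt.ne' this
      rw [hj0, pow_zero, orderOf_eq_one_iff] at hj
      exact hj
    · rw [Set.eq_univ_iff_forall]
      intro g
      obtain ⟨i, l, hil, ⟨k, hk⟩, hl⟩ := exists_pparts p hp g
      obtain ⟨c, -, hc⟩ := exists_conj_mem_sylow_of_le P ⊤ le_top (g ^ i) (mem_top _) k hk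
      have hgi : g ^ i ∈ (P : Subgroup G) := by
        have := hPn.conj_mem _ hc c⁻¹
        have e : c⁻¹ * (c * g ^ i * c⁻¹) * c⁻¹⁻¹ = g ^ i := by group
        rwa [e] at this
      refine Set.mem_mul.mpr ⟨g ^ l, hl, g ^ i, hgi, ?_⟩
      rw [(Commute.pow_pow_self g l i).eq]
      exact hil
  · intro a b
    apply Subtype.ext
    exact (Subgroup.mem_center_iff.mp (hNZ a.2) b).symm
  · intro x hx y _
    exact (Subgroup.mem_center_iff.mp (hNZ hx) y).symm

end Cfsg.Agent.S4134
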