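import Cfsg.Statements.S4135
import Cfsg.Agent.H36.NItoFinal

set_option autoImplicit false
open Cfsg

namespace Cfsg.Agent.S4135

open Subgroup Cfsg.Agent.H72 Cfsg.Agent.H72.Ito Cfsg.Agent.H36.NIto

/-- Let G be a finite group, r a prime and R a Sylow r-subgroup of G that is not central, N a normal subgroup of G containing R, and m a natural number such that every element of N has a conjugacy class in G of size 1 or m. Then N is nilpotent. -/
theorem result {G : Type*} [Group G] [Finite G] (r : ℕ) [Fact r.Prime]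
    (R : Sylow r G) (hR : ¬ (R : Subgroup G) ≤ Subgroup.center G) (N : Subgroup G) [N.Normal] (hRN : (R : Subgroup G) ≤ N)
    (m : ℕ) (h : ∀ x ∈ N, (Subgroup.centralizer ({x} : Set G)).index = 1 ∨ (Subgroup.centralizer ({x} : Set G)).index = m) : Group.IsNilpotent N := by
  have hr : r.Prime := Fact.out
  have hNn : N.Normal := inferInstance
  -- all `r`-elements lie in `N`
  have hrelts : ∀ x : G, (∃ k : ℕ, orderOf x = r ^ k) → x ∈ N := by
    intro x ⟨k, hk⟩
    obtain ⟨c, -, hc⟩ := exists_conj_mem_sylow_of_le R ⊤ le_top x (mem_top x) k hk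
    have h1 : c * x * c⁻¹ ∈ N := hRN hc
    have h2 := hNn.conj_mem _ h1 c⁻¹
    have e : c⁻¹ * (c * x * c⁻¹) * c⁻¹⁻¹ = x := by group
    rwa [e] at h2
  have hexr : ∃ x₀ : G, x₀ ∉ center G ∧ ∃ k : ℕ, orderOf x₀ = r ^ k := by
    obtain ⟨x₀, hx₀R, hx₀Z⟩ := SetLike.not_le_iff_exists.mp hR
    obtain ⟨k, hk⟩ := (IsPGroup.iff_orderOf.mp R.isPGroup') ⟨x₀, hx₀R⟩
    rw [← Subgroup.orderOf_coe] at hk
    exact ⟨x₀, hx₀Z, k, hk⟩
  have hyp : Hyp N m r := ⟨hNn, h, hr, hrelts, hexr⟩
  obtain ⟨x₀, hx₀Z, k₀, hx₀o⟩ := hexr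
  have hx₀N : x₀ ∈ N := hrelts x₀ ⟨k₀, hx₀o⟩
  by_cases hrm : r ∣ m
  · -- all `r'`-elements of `N` are central
    have hB1 : ∀ b ∈ N, (orderOf b).Coprime r → b ∈ center G := by
      intro b hb hbo
      by_contra hbZ
      exact false_of_good hyp hrm (hyp.good_of_coprime hb hbZ hbo)
    let f : ↥N →* G ⧸ center G := (QuotientGroup.mk' (center G)).comp N.subtype
    have hker : f.rangeRestrict.ker ≤ center ↥N := by
      intro x hx
      rw [MonoidHom.ker_rangeRestrict, MonoidHom.mem_ker] at hx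
      have hx' : (x : G) ∈ center G := (QuotientGroup.eq_one_iff _).mp hx
      rw [Subgroup.mem_center_iff]
      intro y
      exact Subtype.ext (Subgroup.mem_center_iff.mp hx' y)
    have hp : IsPGroup r f.range := by
      rintro ⟨g, n, rfl⟩
      obtain ⟨i, l, hil, ⟨k, hk⟩, hl⟩ := exists_pparts r hr (n : G)
      have hlZ : (n : G) ^ l ∈ center G := hB1 _ (N.pow_mem n.2 l) hl
      have hpow : (n : G) ^ r ^ k ∈ center G := by
        have e1 : (n : G) ^ r ^ k = ((n : G) ^ i * (n : G) ^ l) ^ r ^ k := by rw [hil]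
        have hc : Commute ((n : G) ^ i) ((n : G) ^ l) := (Commute.refl (n : G)).pow_pow i l
        rw [e1, hc.mul_pow, ← hk, pow_orderOf_eq_one, one_mul]
        exact (center G).pow_mem hlZ _
      refine ⟨k, Subtype.ext ?_⟩
      have : f n ^ r ^ k = 1 := by
        rw [← map_pow]
        exact (QuotientGroup.eq_one_iff _).mpr hpow
      simpa using this
    have : Group.IsNilpotent f.range := hp.isNilpotent
    exact Subgroup.isNilpotent_of_ker_le_center f.rangeRestrict hker
  · -- `N` is abelian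
    have hsyl : ∀ n ∈ N, ∃ Q : Sylow r G, (Q : Subgroup G) ≤ cen n := by
      intro n hn
      apply exists_sylow_le_of_not_dvd_index
      rcases h n hn with h1 | h1
      · rw [h1]; exact hr.one_lt.ne' ∘ Nat.dvd_one.mp
      · rw [h1]; exact hrm
    have hA1 : ∀ x : G, (∃ k : ℕ, orderOf x = r ^ k) → N ≤ cen x := by
      intro x ⟨k, hk⟩
      have hxN : x ∈ N := hrelts x ⟨k, hk⟩
      have htop : (cen x).subgroupOf N = ⊤ := by
        apply eq_top_of_conj_cover
        intro g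
        obtain ⟨Q, hQ⟩ := hsyl (g : G) g.2
        obtain ⟨c, hcN, hc⟩ := exists_conj_mem_sylow_of_le Q N (sylow_le hyp Q) x hxN k hk
        refine ⟨⟨c, hcN⟩, ?_⟩
        rw [Subgroup.mem_subgroupOf]
        have h1 : (c * x * c⁻¹) * (g : G) = (g : G) * (c * x * c⁻¹) := mem_cen.mp (hQ hc)
        change c⁻¹ * (g : G) * c ∈ cen x
        rw [mem_cen]
        calc c⁻¹ * (g : G) * c * x = c⁻¹ * ((g : G) * (c * x * c⁻¹)) * c := by group
          _ = c⁻¹ * ((c * x * c⁻¹) * (g : G)) * c := by rw [h1]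
          _ = x * (c⁻¹ * (g : G) * c) := by group
      intro n hn
      have : (⟨n, hn⟩ : N) ∈ (cen x).subgroupOf N := by rw [htop]; exact mem_top _
      exact Subgroup.mem_subgroupOf.mp this
    have hcomm : ∀ n ∈ N, ∀ y ∈ N, y * n = n * y := by
      intro n hn y hy
      obtain ⟨i, l, hil, hi, hl⟩ := exists_pparts r hr n
      have e1 : y * n ^ i = n ^ i * y := mem_cen.mp (hA1 _ hi hy)
      have hlx : n ^ l ∈ cen x₀ := hA1 x₀ ⟨k₀, hx₀o⟩ (N.pow_mem hn l)
      have h2 : cen x₀ ≤ cen (n ^ l) := hyp.cen_le_of_coprime hx₀N hx₀Z (N.pow_mem hn l) hlx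
        (by rw [hx₀o]; exact Nat.Coprime.pow_left k₀ hl.symm)
      have e2 : y * n ^ l = n ^ l * y := mem_cen.mp (h2 (hA1 x₀ ⟨k₀, hx₀o⟩ hy))
      rw [← hil]
      calc y * (n ^ i * n ^ l) = (y * n ^ i) * n ^ l := by group
        _ = n ^ i * (y * n ^ l) := by rw [e1]; group
        _ = n ^ i * n ^ l * y := by rw [e2]; group
    refine ⟨⟨1, ?_⟩⟩
    rw [Subgroup.upperCentralSeries_one, eq_top_iff]
    intro x _
    rw [Subgroup.mem_center_iff]
    intro y
    exact Subtype.ext (hcomm x x.2 y y.2)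

end Cfsg.Agent.S4135
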