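import Cfsg.Statements.S4138
import Cfsg.Agent.H72.BHM4

set_option autoImplicit false
open Cfsg

namespace Cfsg.Agent.S4138

open scoped Pointwise
open Cfsg.Agent.H72.Ito Cfsg.Agent.H72.BHM

/-- Let G be a finite group whose two largest conjugacy class sizes m > n > 1 are coprime, and let x, y ∈ G have classes of sizes n and m respectively. Then C_G(x) and C_G(y) are abelian, and G/Z(G) is a Frobenius group with kernel C_G(x)/Z(G) and complement C_G(y)/Z(G). -/
theorem result {G : Type*} [Group G] [Finite G] (m n : ℕ) (hmn : n < m) (hn : 1 < n)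
    (hcop : m.Coprime n) (htop : ∀ z : G, (Subgroup.centralizer ({z} : Set G)).index ≤ m) (hsecond : ∀ z : G, (Subgroup.centralizer ({z} : Set G)).index < m → (Subgroup.centralizer ({z} : Set G)).index ≤ n)
    (x y : G) (hx : (Subgroup.centralizer ({x} : Set G)).index = n) (hy : (Subgroup.centralizer ({y} : Set G)).index = m) :
    IsMulCommutative (Subgroup.centralizer ({x} : Set G)) ∧ IsMulCommutative (Subgroup.centralizer ({y} : Set G)) ∧
    Cfsg.IsFrobeniusComplement ((Subgroup.centralizer ({y} : Set G)).map (QuotientGroup.mk' (Subgroup.center G))) ∧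
    Cfsg.frobeniusKernel ((Subgroup.centralizer ({y} : Set G)).map (QuotientGroup.mk' (Subgroup.center G))) =
      ((Subgroup.centralizer ({x} : Set G)).map (QuotientGroup.mk' (Subgroup.center G)) : Set (G ⧸ Subgroup.center G)) := by
  have h : Hyp G m n := ⟨hmn, hn, hcop, htop, hsecond⟩
  have hx' : (cen x).index = n := hx
  have hy' : (cen y).index = m := hy
  have hxZ : x ∉ Subgroup.center G := not_mem_center_of_n h hx'
  have hyZ : y ∉ Subgroup.center G := not_mem_center_of_m h hy'
  have hconjmap : ∀ g a : G, MulAut.conj ((QuotientGroup.mk' (Subgroup.center G)) g) •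
      (QuotientGroup.mk' (Subgroup.center G)) a
        = (QuotientGroup.mk' (Subgroup.center G)) (g * a * g⁻¹) := by
    intro g a
    rw [MulAut.smul_def, MulAut.conj_apply, map_mul, map_mul, map_inv]
  refine ⟨⟨⟨fun a b => Subtype.ext (cen_n_comm h hx' hy' a.2 b.2)⟩⟩,
    ⟨⟨fun a b => Subtype.ext (cen_m_comm h hx' hy' a.2 b.2)⟩⟩, ⟨?_, ?_, ?_⟩, ?_⟩
  · intro hbot
    have hmem : (QuotientGroup.mk' (Subgroup.center G)) y ∈
        (Subgroup.centralizer ({y} : Set G)).map (QuotientGroup.mk' (Subgroup.center G)) :=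
      Subgroup.mem_map_of_mem _ (self_mem_cen y)
    rw [hbot, Subgroup.mem_bot] at hmem
    exact hyZ ((QuotientGroup.eq_one_iff y).mp hmem)
  · intro htop'
    have hmem : (QuotientGroup.mk' (Subgroup.center G)) x ∈
        (Subgroup.centralizer ({y} : Set G)).map (QuotientGroup.mk' (Subgroup.center G)) := by
      rw [htop']
      exact Subgroup.mem_top _
    obtain ⟨h₁, hh₁, he⟩ := Subgroup.mem_map.mp hmem
    have hz : h₁⁻¹ * x ∈ Subgroup.center G := QuotientGroup.eq.mp he
    have hxy : x ∈ cen y := by
      have e : x = h₁ * (h₁⁻¹ * x) := by group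
      rw [e]
      exact (cen y).mul_mem hh₁ (center_le_cen y hz)
    exact hxZ (mem_center_of_comm h hx' hy' rfl (mem_cen.mp hxy))
  · intro gbar hgbar
    obtain ⟨g, rfl⟩ := QuotientGroup.mk'_surjective (Subgroup.center G) gbar
    have hg : g ∉ cen y := fun hg => hgbar (Subgroup.mem_map_of_mem _ hg)
    rw [eq_bot_iff]
    rintro w ⟨hw1, hw2⟩
    rw [Subgroup.mem_bot]
    have hw2' : w ∈ MulAut.conj ((QuotientGroup.mk' (Subgroup.center G)) g) •
        (Subgroup.centralizer ({y} : Set G)).map (QuotientGroup.mk' (Subgroup.center G)) := hw2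
    rw [Subgroup.mem_smul_pointwise_iff_exists] at hw2'
    obtain ⟨s, hs, hse⟩ := hw2'
    obtain ⟨h₂, hh₂, rfl⟩ := Subgroup.mem_map.mp hs
    obtain ⟨h₁, hh₁, rfl⟩ := Subgroup.mem_map.mp hw1
    rw [hconjmap] at hse
    have hz : (g * h₂ * g⁻¹)⁻¹ * h₁ ∈ Subgroup.center G := QuotientGroup.eq.mp hse
    by_cases hh₂Z : h₂ ∈ Subgroup.center G
    · have e : g * h₂ * g⁻¹ = h₂ := by
        rw [Subgroup.mem_center_iff.mp hh₂Z g]
        group
      rw [e] at hz
      have hh₁Z : h₁ ∈ Subgroup.center G := by
        have e2 : h₁ = h₂ * (h₂⁻¹ * h₁) := by group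
        rw [e2]
        exact Subgroup.mul_mem _ hh₂Z hz
      exact (QuotientGroup.eq_one_iff h₁).mpr hh₁Z
    · exfalso
      apply hg
      refine mem_of_conj_mem h hx' hy' hh₂ hh₂Z ?_
      have e : g * h₂ * g⁻¹ = h₁ * ((g * h₂ * g⁻¹)⁻¹ * h₁)⁻¹ := by group
      rw [e]
      exact (cen y).mul_mem hh₁ ((cen y).inv_mem (center_le_cen y hz))
  · ext w
    change (w = 1 ∨ ∀ g, w ∉ MulAut.conj g •
      (Subgroup.centralizer ({y} : Set G)).map (QuotientGroup.mk' (Subgroup.center G))) ↔
      w ∈ (Subgroup.centralizer ({x} : Set G)).map (QuotientGroup.mk' (Subgroup.center G))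
    constructor
    · rintro (rfl | hw)
      · exact Subgroup.one_mem _
      · obtain ⟨g, rfl⟩ := QuotientGroup.mk'_surjective (Subgroup.center G) w
        apply Subgroup.mem_map_of_mem
        by_cases hgZ : g ∈ Subgroup.center G
        · exact center_le_cen x hgZ
        · by_cases hgn : (cen g).index = n
          · exact (index_eq_n_iff h hx' hy' hgZ).mpr hgn
          · exfalso
            have hgm : (cen g).index = m := by
              have h1 := index_ge_n h hx' hy' hgZ
              have h2 := h.htop g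
              by_contra hne
              have h3 := h.hsec g (lt_of_le_of_ne h2 hne)
              omega
            obtain ⟨c, hc⟩ := exists_conj_mem_cen_m h hx' hy' hgm
            apply hw ((QuotientGroup.mk' (Subgroup.center G)) c⁻¹)
            rw [Subgroup.mem_smul_pointwise_iff_exists]
            refine ⟨(QuotientGroup.mk' (Subgroup.center G)) (c * g * c⁻¹),
              Subgroup.mem_map_of_mem _ hc, ?_⟩
            rw [hconjmap]
            congr 1
            group
    · intro hw
      obtain ⟨k, hk, rfl⟩ := Subgroup.mem_map.mp hw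
      by_cases hkZ : k ∈ Subgroup.center G
      · left
        exact (QuotientGroup.eq_one_iff k).mpr hkZ
      · right
        intro gbar hmem
        obtain ⟨g, rfl⟩ := QuotientGroup.mk'_surjective (Subgroup.center G) gbar
        rw [Subgroup.mem_smul_pointwise_iff_exists] at hmem
        obtain ⟨s, hs, hse⟩ := hmem
        obtain ⟨h₂, hh₂, rfl⟩ := Subgroup.mem_map.mp hs
        rw [hconjmap] at hse
        have hz : (g * h₂ * g⁻¹)⁻¹ * k ∈ Subgroup.center G := QuotientGroup.eq.mp hse
        have hzc : g⁻¹ * ((g * h₂ * g⁻¹)⁻¹ * k) * g ∈ Subgroup.center G := by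
          have := (Subgroup.center G).normal_of_characteristic.conj_mem _ hz g⁻¹
          rwa [inv_inv] at this
        have hky : g⁻¹ * k * g ∈ cen y := by
          have e : g⁻¹ * k * g = h₂ * (g⁻¹ * ((g * h₂ * g⁻¹)⁻¹ * k) * g) := by group
          rw [e]
          exact (cen y).mul_mem hh₂ (center_le_cen y hzc)
        have hkx : g⁻¹ * k * g ∈ cen x := by
          have := cen_n_conj h hx' hy' hk g⁻¹
          rwa [inv_inv] at this
        have hkc : g⁻¹ * k * g ∈ Subgroup.center G :=
          mem_center_of_comm h hx' hy' (mem_cen.mp hkx) (mem_cen.mp hky)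
        apply hkZ
        have := (Subgroup.center G).normal_of_characteristic.conj_mem _ hkc g
        have e : g * (g⁻¹ * k * g) * g⁻¹ = k := by group
        rwa [e] at this

end Cfsg.Agent.S4138
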