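import Cfsg.Statements.S4146
import Cfsg.Agent.H72.Four5

set_option autoImplicit false
open Cfsg

namespace Cfsg.Agent.S4146

open Cfsg.Agent.H72 Cfsg.Agent.H72.Ito Cfsg.Agent.H72.Four

/-- Let G be a finite group whose conjugacy class sizes are exactly 1, n, m and nm for coprime integers n, m > 1. Then G is nilpotent and n and m are prime powers. -/
theorem result {G : Type*} [Group G] [Finite G] (n m : ℕ) (hn : 1 < n) (hm : 1 < m) (hcop : n.Coprime m)
    (h : Set.range (fun x : G => (Subgroup.centralizer ({x} : Set G)).index) = ({1, n, m, n * m} : Set ℕ)) :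
    Group.IsNilpotent G ∧ IsPrimePow n ∧ IsPrimePow m := by
  have hcs : CS G n m := by
    intro x
    have hx : (cen x).index ∈ Set.range (fun x : G => (Subgroup.centralizer ({x} : Set G)).index) :=
      ⟨x, rfl⟩
    rw [h] at hx
    simpa using hx
  have hex : ∀ k ∈ ({1, n, m, n * m} : Set ℕ), ∃ x : G, (cen x).index = k := by
    intro k hk
    rw [← h] at hk
    exact hk
  obtain ⟨t, p, a, b, ht, hp, ha, hb, hia, hib, hba⟩ :=
    exists_ppo_pair hn hm hcop hcs (hex n (by simp)) (hex m (by simp)) (hex (n * m) (by simp))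
  have hab : a ∈ cen b := mem_cen_symm.mp hba
  by_cases htm : t ∣ m
  swap
  · exact of_natural hn hm hcop hcs ht ha hia htm hib hba
  by_cases hpn : p ∣ n
  swap
  · have h1 := of_natural hm hn hcop.symm hcs.symm hp hb hib hpn hia hab
    exact ⟨h1.1, h1.2.2, h1.2.1⟩
  have htn : ¬ t ∣ n := fun hd =>
    ht.one_lt.ne' (Nat.Coprime.eq_one_of_dvd (Nat.Coprime.coprime_dvd_left hd hcop) htm)
  have hpm : ¬ p ∣ m := fun hd =>
    hp.one_lt.ne' (Nat.Coprime.eq_one_of_dvd (Nat.Coprime.coprime_dvd_left hpn hcop) hd)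
  have htp : t ≠ p := by
    rintro rfl
    exact htn hpn
  by_cases hN1 : ∃ (r : ℕ) (x y : G), r.Prime ∧ ¬ r ∣ m ∧ PE r x ∧ (cen x).index = n ∧
      (cen y).index = m ∧ y ∈ cen x
  · obtain ⟨r, x, y, hr, hrm, hx, hix, hiy, hyx⟩ := hN1
    exact of_natural hn hm hcop hcs hr hx hix hrm hiy hyx
  by_cases hN2 : ∃ (r : ℕ) (x y : G), r.Prime ∧ ¬ r ∣ n ∧ PE r y ∧ (cen y).index = m ∧
      (cen x).index = n ∧ y ∈ cen x
  · obtain ⟨r, x, y, hr, hrn, hy, hiy, hix, hyx⟩ := hN2
    have h1 := of_natural hm hn hcop.symm hcs.symm hr hy hiy hrn hix (mem_cen_symm.mp hyx)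
    exact ⟨h1.1, h1.2.2, h1.2.1⟩
  exfalso
  have hnm : n ≠ m := by
    rintro rfl
    have := (Nat.coprime_self n).mp hcop
    omega
  rcases Nat.lt_or_gt_of_ne hnm with hlt | hlt
  · exact false_of_weird hn hm hcop hcs hlt ht hp htp hpm htn ha hb hia hib hba
      (fun r x y hr hrn hy hiy hix hyx => hN2 ⟨r, x, y, hr, hrn, hy, hiy, hix, hyx⟩)
  · exact false_of_weird hm hn hcop.symm hcs.symm hlt hp ht (Ne.symm htp) htn hpm hb ha hib hia hab
      (fun r x y hr hrm hy hiy hix hyx =>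
        hN1 ⟨r, y, x, hr, hrm, hy, hiy, hix, mem_cen_symm.mp hyx⟩)

end Cfsg.Agent.S4146
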