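import Mathlib
import Cfsg.Statements.S4346
import Cfsg.Agent.S4303
import Cfsg.Agent.H70.N22e

set_option autoImplicit false
open Cfsg

namespace Cfsg.Agent.S4346

/-- No finite group has exactly 22 Sylow 3-subgroups. -/
theorem result {G : Type*} [Group G] [Finite G] : Nat.card (Sylow 3 G) ≠ 22 := by
  intro h22
  have hf3 : Fact (Nat.Prime 3) := ⟨by norm_num⟩
  obtain ⟨l, hprod, hl⟩ := Cfsg.Agent.S4303.result (G := G) 3
  rw [h22] at hprod
  have hmem : ∀ m ∈ l, m = 1 ∨ m = 22 := by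
    intro m hm
    have hdvd : m ∣ 22 := by rw [← hprod]; exact List.dvd_prod hm
    have hmod : m % 3 = 1 := by
      rcases hl m hm with ⟨_, h⟩ | ⟨S, _, _, _, rfl⟩
      · exact h
      · exact card_sylow_modEq_one 3 S
    have hle := Nat.le_of_dvd (by norm_num) hdvd
    interval_cases m <;> omega
  have hex : ∃ m ∈ l, m = 22 := by
    by_contra hcon
    push Not at hcon
    have : l.prod = 1 := List.prod_eq_one (fun m hm => (hmem m hm).resolve_right (hcon m hm))
    omega
  obtain ⟨m, hm, rfl⟩ := hex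
  rcases hl 22 hm with ⟨hpp, _⟩ | ⟨S, hgS, hfS, hsS, hS⟩
  · obtain ⟨p, k, hp, hk, hpk⟩ := (isPrimePow_nat_iff 22).mp hpp
    have h2 : 2 ∣ p ^ k := by rw [hpk]; norm_num
    have h11 : 11 ∣ p ^ k := by rw [hpk]; norm_num
    have e2 := (Nat.prime_dvd_prime_iff_eq Nat.prime_two hp).mp
      (Nat.Prime.dvd_of_dvd_pow Nat.prime_two h2)
    have e11 := (Nat.prime_dvd_prime_iff_eq (by norm_num) hp).mp
      (Nat.Prime.dvd_of_dvd_pow (by norm_num) h11)
    omega
  · exact Cfsg.Agent.H70.N22.simple_case hS.symm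
      (fun P => Cfsg.Agent.H70.N22.card_three_of_simple hS.symm P)

end Cfsg.Agent.S4346
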