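import Cfsg.Statements.S4347
import Cfsg.Agent.H76.SylowBasics

set_option autoImplicit false
open Cfsg

namespace Cfsg.Agent.S4347

open Cfsg.Agent.H76

theorem mem_smul_sylow {G : Type*} [Group G] {p : ℕ} (a : G) (R : Sylow p G) (y : G) :
    y ∈ a • R ↔ a⁻¹ * y * a ∈ R := by
  show y ∈ ((a • R : Sylow p G) : Subgroup G) ↔ _
  rw [Sylow.coe_subgroup_smul, Subgroup.mem_pointwise_smul_iff_inv_smul_mem]
  simp [MulAut.smul_def]
  rfl

theorem orderOf_conj_eq {G : Type*} [Group G] (g x : G) : orderOf (g * x * g⁻¹) = orderOf x :=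
  (MulAut.conj g).orderOf_eq x

/-- Let G be a finite group and p a prime. Say a Sylow p-subgroup Q is redundant when every element of p-power order lies in some Sylow p-subgroup other than Q. Then G has no redundant Sylow p-subgroup if and only if some element of p-power order lies in exactly one Sylow p-subgroup. -/
theorem result {G : Type*} [Group G] [Finite G]
    (p : ℕ) [Fact p.Prime] :
    (¬ ∃ Q : Sylow p G, ∀ x : G, (∃ k : ℕ, orderOf x = p ^ k) → ∃ P : Sylow p G, P ≠ Q ∧ x ∈ P) ↔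
      ∃ x : G, (∃ k : ℕ, orderOf x = p ^ k) ∧ ∃! P : Sylow p G, x ∈ P := by
  constructor
  · intro h
    obtain ⟨Q⟩ : Nonempty (Sylow p G) := inferInstance
    have hQ : ¬ ∀ x : G, (∃ k : ℕ, orderOf x = p ^ k) → ∃ P : Sylow p G, P ≠ Q ∧ x ∈ P :=
      fun hh => h ⟨Q, hh⟩
    rw [not_forall] at hQ
    obtain ⟨x, hx⟩ := hQ
    rw [Classical.not_imp] at hx
    obtain ⟨hxp, hx2⟩ := hx
    refine ⟨x, hxp, ?_⟩
    obtain ⟨P, hP⟩ := exists_sylow_mem_of_orderOf hxp
    have hall : ∀ P' : Sylow p G, x ∈ P' → P' = Q := by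
      intro P' hP'
      by_contra hne
      exact hx2 ⟨P', hne, hP'⟩
    refine ⟨Q, ?_, hall⟩
    have := hall P hP
    rw [← this]; exact hP
  · rintro ⟨x, hxp, P₀, hP₀, huniq⟩ ⟨Q, hQ⟩
    obtain ⟨g, hg⟩ := MulAction.exists_smul_eq G P₀ Q
    have hyp : ∃ k : ℕ, orderOf (g * x * g⁻¹) = p ^ k := by
      obtain ⟨k, hk⟩ := hxp
      exact ⟨k, by rw [orderOf_conj_eq, hk]⟩
    obtain ⟨P, hPQ, hyP⟩ := hQ _ hyp
    have h1 : x ∈ g⁻¹ • P := by
      rw [mem_smul_sylow]
      simpa using hyP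
    have h2 := huniq _ h1
    apply hPQ
    rw [← hg, ← h2, smul_inv_smul]

end Cfsg.Agent.S4347
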