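import Mathlib
import Cfsg.Statements.S4356
import Cfsg.Agent.H7.RedundantSL2
-- import your own Cfsg.Agent.* helpers here

set_option autoImplicit false
open Cfsg

namespace Cfsg.Agent.S4356

/-- Let F be a finite field with q elements, p a prime and G = PSL(2, F). Say a Sylow p-subgroup Q of G is redundant when every element of p-power order lies in some Sylow p-subgroup other than Q. Then G has a redundant Sylow p-subgroup if and only if p = 2 and q is not of any of the forms 2ᵏ - 1, 2ᵏ, 2ᵏ + 1. -/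
theorem result {F : Type*} [Field F] [Fintype F] (p : ℕ) [Fact p.Prime] :
    (∃ Q : Sylow p (Matrix.ProjectiveSpecialLinearGroup (Fin 2) F), ∀ x : Matrix.ProjectiveSpecialLinearGroup (Fin 2) F,
        (∃ k : ℕ, orderOf x = p ^ k) → ∃ P : Sylow p (Matrix.ProjectiveSpecialLinearGroup (Fin 2) F), P ≠ Q ∧ x ∈ P) ↔
      (p = 2 ∧ (¬ ∃ k : ℕ, Fintype.card F + 1 = 2 ^ k) ∧ (¬ ∃ k : ℕ, Fintype.card F = 2 ^ k) ∧
        ¬ ∃ k : ℕ, Fintype.card F = 2 ^ k + 1) := by
  have hc2 : ∀ z ∈ Subgroup.center (Matrix.SpecialLinearGroup (Fin 2) F), z * z = 1 := by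
    intro z hz
    exact Cfsg.Agent.H18.Dk.Ze_mul_self (by rw [Cfsg.Agent.H18.Dk.Ze_eq_center]; exact hz)
  have h := Cfsg.Agent.H7.redundant_quotient_iff (p := p)
    (Subgroup.center (Matrix.SpecialLinearGroup (Fin 2) F)) le_rfl hc2
  exact h.trans (Cfsg.Agent.H7.sl2_redundant_iff p)

end Cfsg.Agent.S4356
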