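import Cfsg.Statements.S4358
import Cfsg.Agent.H64.Red5

set_option autoImplicit false
open Cfsg

namespace Cfsg.Agent.S4358

/-- Let p be an odd prime and F a finite field with q elements such that p divides q - 1 but p² does not. Then GL(p, F) has a Sylow p-subgroup Q such that every element of p-power order lies in some Sylow p-subgroup other than Q (a redundant Sylow p-subgroup). -/
theorem result {F : Type*} [Field F] [Fintype F] (p : ℕ) [Fact p.Prime]
    (hp : p ≠ 2) (h1 : p ∣ Fintype.card F - 1) (h2 : ¬ p ^ 2 ∣ Fintype.card F - 1) :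
    ∃ Q : Sylow p (Matrix.GeneralLinearGroup (Fin p) F), ∀ x : Matrix.GeneralLinearGroup (Fin p) F,
      (∃ k : ℕ, orderOf x = p ^ k) → ∃ P : Sylow p (Matrix.GeneralLinearGroup (Fin p) F), P ≠ Q ∧ x ∈ P := by
  classical
  have hpp : p.Prime := Fact.out
  have : NeZero p := ⟨hpp.ne_zero⟩
  have hp3 : 3 ≤ p := by
    have := hpp.two_le
    omega
  have hq : 1 < Fintype.card F := Fintype.one_lt_card
  have hcardU : Nat.card Fˣ = Fintype.card F - 1 := by
    rw [Nat.card_eq_fintype_card, Fintype.card_units]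
  obtain ⟨ζu, hζu⟩ := exists_prime_orderOf_dvd_card' (G := Fˣ) p (by rw [hcardU]; exact h1)
  have hζup : ζu ^ p = 1 := by rw [← hζu]; exact pow_orderOf_eq_one ζu
  have hζ : ((ζu : Fˣ) : F) ^ p = 1 := by
    rw [← Units.val_pow_eq_pow_val, hζup, Units.val_one]
  have hζ1 : ((ζu : Fˣ) : F) ≠ 1 := by
    intro h
    have h3 : ζu = 1 := Units.ext (by rw [h, Units.val_one])
    rw [h3, orderOf_one] at hζu
    exact hpp.one_lt.ne hζu
  have hprim : IsPrimitiveRoot ζu p := by
    have := IsPrimitiveRoot.orderOf ζu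
    rwa [hζu] at this
  have hμ : Nat.card {a : F // a ^ p = 1} = p := by
    refine (Nat.card_congr ?_).trans hprim.card_rootsOfUnity'
    refine
      { toFun := fun a => ⟨Units.ofPowEqOne a.1 p a.2 (NeZero.ne p), ?_⟩
        invFun := fun u => ⟨((u : Fˣ) : F), ?_⟩
        left_inv := fun a => ?_
        right_inv := fun u => ?_ }
    · rw [mem_rootsOfUnity]
      exact Units.pow_ofPowEqOne a.2 (NeZero.ne p)
    · have := u.2
      rw [mem_rootsOfUnity] at this
      rw [← Units.val_pow_eq_pow_val, this, Units.val_one]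
    · rfl
    · apply Subtype.ext
      apply Units.ext
      rfl
  have hpF : (p : F) ≠ 0 := by
    intro h
    obtain ⟨t, ht⟩ := h1
    have h3 : Fintype.card F = p * t + 1 := by omega
    have h4 : ((Fintype.card F : ℕ) : F) = 0 := Nat.cast_card_eq_zero F
    rw [h3] at h4
    push_cast at h4
    rw [h, zero_mul, zero_add] at h4
    exact one_ne_zero h4
  have hcardQ : Nat.card (Cfsg.Agent.H64.Red.Q0 F p)
      = p ^ (Nat.card (Matrix.GeneralLinearGroup (Fin p) F)).factorization p := by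
    rw [Cfsg.Agent.H64.Red.card_Q0 hμ, Matrix.card_GL_field,
      Cfsg.Agent.H64.Red.factorization_prod_GL hp hq h1 h2]
  let Q : Sylow p (Matrix.GeneralLinearGroup (Fin p) F) :=
    Sylow.ofCard (Cfsg.Agent.H64.Red.Q0 F p) hcardQ
  have hQ : (Q : Subgroup (Matrix.GeneralLinearGroup (Fin p) F)) = Cfsg.Agent.H64.Red.Q0 F p :=
    Sylow.coe_ofCard _ hcardQ
  refine ⟨Q, fun x hxo => ?_⟩
  by_cases hxQ : x ∈ Cfsg.Agent.H64.Red.Q0 F p
  · have hxQ' := hxQ
    obtain ⟨d, k, hd, hx⟩ := hxQ'
    by_cases hk : k = 0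
    · subst hk
      by_cases hinj : Function.Injective d
      · exact Cfsg.Agent.H64.Red.case2 Q hQ _ hζ hζ1 hp3 x d hd hx hinj
      · unfold Function.Injective at hinj
        push Not at hinj
        obtain ⟨i, j, hij, hne⟩ := hinj
        exact Cfsg.Agent.H64.Red.case1 Q hQ _ hζ hζ1 x d hx hxQ i j hne hij
    · by_cases hxp : Cfsg.Agent.H64.Red.mono d k ^ p = 1
      · exact Cfsg.Agent.H64.Red.case3a Q hQ _ hζ hζ1 hpF hp3 x hxo d k hd hx hk hxp
      · exact Cfsg.Agent.H64.Red.case3b Q hQ _ hζ hζ1 hp3 x d k hd hx hxQ hk hxp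
  · have hpg : IsPGroup p (Subgroup.zpowers x) := by
      obtain ⟨k, hk⟩ := hxo
      exact IsPGroup.of_card (n := k) (by rw [Nat.card_zpowers, hk])
    obtain ⟨P, hP⟩ := hpg.exists_le_sylow
    refine ⟨P, ?_, hP (Subgroup.mem_zpowers x)⟩
    intro h
    apply hxQ
    rw [← hQ, ← h]
    exact hP (Subgroup.mem_zpowers x)

end Cfsg.Agent.S4358
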