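import Cfsg.Statements.S4394
import Cfsg.Agent.H13.SchCore
import Cfsg.Agent.H27.SchP1
import Cfsg.Agent.H98.SchP5
import Cfsg.Agent.H66.PLength

set_option autoImplicit false
set_option linter.unusedVariables false
set_option linter.style.haveILetI false
open Cfsg

namespace Cfsg.Agent.S4394

/-- Let X be a finite minimal non-nilpotent group (not nilpotent, every proper subgroup nilpotent) with a nontrivial normal Sylow p-subgroup P. If G is a finite p-solvable group whose Sylow p-subgroups are isomorphic to P, then G has p-length at most 1. -/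
theorem result {G X : Type*} [Group G] [Finite G] [Group X] [Finite X] (p : ℕ) [Fact p.Prime]
    (hX : Cfsg.IsMinimalNonNilpotent X) (P : Sylow p X) (hPn : (P : Subgroup X).Normal) (hP1 : (P : Subgroup X) ≠ ⊥)
    (hG : Cfsg.IsPSolvable p G) (Q : Sylow p G) (hQ : Nonempty (↥(Q : Subgroup G) ≃* ↥(P : Subgroup X))) : Cfsg.PLengthLE p 1 G := by
  classical
  have hp : p.Prime := Fact.out
  obtain ⟨e⟩ := hQ
  have hSLP := Cfsg.Agent.H27.Sch.sLike_of_schmidt p hX P hPn hP1
  have hSLQ : Cfsg.Agent.H13.Sch.SLike p ↥(Q : Subgroup G) :=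
    Cfsg.Agent.H98.Sch.sLike_of_equiv p e.symm hSLP
  -- pass to `G ⧸ O_{p'}(G)`
  obtain ⟨N, hNdef⟩ : ∃ N : Subgroup G, N = pPrimeCore p G := ⟨_, rfl⟩
  haveI hNn : N.Normal := by rw [hNdef]; exact Cfsg.Agent.H80.pPrimeCore_normal p G
  have hNcop : (Nat.card N).Coprime p := by rw [hNdef]; exact Cfsg.Agent.H80.pPrimeCore_coprime p G
  have hsol' : IsPSolvable p (G ⧸ N) := Cfsg.Agent.H80.isPSolvable_quotient p N hG
  have hO' : pPrimeCore p (G ⧸ N) = ⊥ := by
    subst hNdef; exact Cfsg.Agent.H80.pPrimeCore_quotient_eq_bot p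
  have hsurj : Function.Surjective (QuotientGroup.mk' N) := QuotientGroup.mk'_surjective N
  obtain ⟨Qt, hQtdef⟩ : ∃ Qt : Sylow p (G ⧸ N), Qt = Q.mapSurjective hsurj := ⟨_, rfl⟩
  have hQt : (Qt : Subgroup (G ⧸ N)) = (Q : Subgroup G).map (QuotientGroup.mk' N) := by
    rw [hQtdef, Sylow.coe_mapSurjective]
  -- the isomorphism `Q ≃* Qt`
  let f : ↥(Q : Subgroup G) →* G ⧸ N := (QuotientGroup.mk' N).comp (Q : Subgroup G).subtype
  have hf : Function.Injective f := by
    rw [injective_iff_map_eq_one]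
    intro a ha
    have haN : (a : G) ∈ N := (QuotientGroup.eq_one_iff (a : G)).mp ha
    obtain ⟨k, hk⟩ := Q.isPGroup' a
    have hk' : (a : G) ^ p ^ k = 1 := by
      have := congrArg Subtype.val hk
      simpa using this
    have h1 : orderOf (a : G) ∣ p ^ k := orderOf_dvd_of_pow_eq_one hk'
    have h2 : orderOf (a : G) ∣ Nat.card N := by
      have := orderOf_dvd_natCard (⟨(a : G), haN⟩ : N)
      rwa [Subgroup.orderOf_mk] at this
    have h3 : orderOf (a : G) ∣ Nat.gcd (Nat.card N) (p ^ k) := Nat.dvd_gcd h2 h1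
    rw [Nat.Coprime.pow_right k hNcop, Nat.dvd_one, orderOf_eq_one_iff] at h3
    exact Subtype.ext h3
  have hrange : f.range = (Qt : Subgroup (G ⧸ N)) := by
    rw [hQt, MonoidHom.range_comp, Subgroup.range_subtype]
  have e' : ↥(Q : Subgroup G) ≃* ↥(Qt : Subgroup (G ⧸ N)) :=
    (MonoidHom.ofInjective hf).trans (MulEquiv.subgroupCongr hrange)
  have hSLt : Cfsg.Agent.H13.Sch.SLike p ↥(Qt : Subgroup (G ⧸ N)) :=
    Cfsg.Agent.H98.Sch.sLike_of_equiv p e' hSLQ
  have hcore : (Qt : Subgroup (G ⧸ N)) ≤ pCore p (G ⧸ N) :=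
    Cfsg.Agent.H13.Sch.sylow_le_pCore_of_sLike p hsol' hO' Qt hSLt
  -- the chain `1 ≤ N ≤ B ≤ G`
  rw [Cfsg.Agent.H66.pLengthLE_iff_plenRel]
  obtain ⟨B, hBdef⟩ : ∃ B : Subgroup G, B = (pCore p (G ⧸ N)).comap (QuotientGroup.mk' N) :=
    ⟨_, rfl⟩
  have hBn : B.Normal := by
    rw [hBdef]
    haveI := Cfsg.Agent.H80.pCore_normal p (G ⧸ N)
    infer_instance
  have hNB : N ≤ B := by
    rw [hBdef]
    intro n hn
    rw [Subgroup.mem_comap]
    have : QuotientGroup.mk' N n = 1 := (QuotientGroup.eq_one_iff n).mpr hn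
    rw [this]; exact Subgroup.one_mem _
  have hQB : (Q : Subgroup G) ≤ B := by
    rw [hBdef, ← Subgroup.map_le_iff_le_comap, ← hQt]; exact hcore
  refine ⟨N, B, inferInstance, hNn, bot_le, ?_, hNB, ?_, hBn, inferInstance, le_top, ?_⟩
  · rw [Subgroup.relIndex_bot_left]; exact hNcop
  · rw [hBdef, Cfsg.Agent.H66.relIndex_comap_mk']
    exact (IsPGroup.iff_card (p := p)).mp (Cfsg.Agent.H80.pCore_isPGroup p (G ⧸ N))
  · rw [Subgroup.relIndex_top_right]
    have h1 : B.index ∣ (Q : Subgroup G).index := Subgroup.index_dvd_of_le hQB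
    have h2 : ¬ p ∣ (Q : Subgroup G).index := Q.not_dvd_index
    exact ((Nat.Prime.coprime_iff_not_dvd hp).mpr (fun h => h2 (h.trans h1))).symm

end Cfsg.Agent.S4394
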