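import Mathlib
import Cfsg.Statements.S4466
import Cfsg.Agent.H59.PrimeDegD
import Cfsg.Agent.Lib.ItoConv

set_option autoImplicit false
set_option linter.style.haveILetI false
open Cfsg

namespace Cfsg.Agent.S4466

universe u

/-- Reduction to groups without proper normal subgroups, by induction on the order. -/
theorem solvable_aux : ∀ (n : ℕ) (G : Type u) [Group G] [Finite G], Nat.card G = n →
    (∀ χ : Cfsg.IrrCharacter G, Cfsg.charDegree (χ : G → ℂ) ≠ 1 →
      (Cfsg.charDegree (χ : G → ℂ)).Prime) → Group.IsSolvable G := by
  intro n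
  induction n using Nat.strong_induction_on with
  | _ n ih =>
    intro G _ _ hn h
    by_cases hsimp : ∃ N : Subgroup G, N.Normal ∧ N ≠ ⊥ ∧ N ≠ ⊤
    · obtain ⟨N, hN, hNbot, hNtop⟩ := hsimp
      haveI := hN
      have hmul : Nat.card G = Nat.card (G ⧸ N) * Nat.card N :=
        Subgroup.card_eq_card_quotient_mul_card_subgroup N
      have hNpos : 0 < Nat.card N := Nat.card_pos
      have hQpos : 0 < Nat.card (G ⧸ N) := Nat.card_pos
      have hN1 : Nat.card N ≠ 1 := fun h => hNbot (Subgroup.card_eq_one.mp h)
      have hQ1 : Nat.card (G ⧸ N) ≠ 1 := by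
        intro h
        apply hNtop
        rw [← Subgroup.index_eq_card] at h
        exact Subgroup.index_eq_one.mp h
      have hNlt : Nat.card N < n := by
        rw [← hn, hmul]
        have : 2 ≤ Nat.card (G ⧸ N) := by omega
        nlinarith
      have hQlt : Nat.card (G ⧸ N) < n := by
        rw [← hn, hmul]
        have : 2 ≤ Nat.card N := by omega
        nlinarith
      have hN' : ∀ θ : Cfsg.IrrCharacter N, Cfsg.charDegree (θ : N → ℂ) ≠ 1 →
          (Cfsg.charDegree (θ : N → ℂ)).Prime := by
        intro θ hθ
        classical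
        haveI := Fintype.ofFinite G
        haveI : Fintype N := Fintype.ofFinite N
        obtain ⟨χ, hχ, hne⟩ := Cfsg.Agent.ItoConv.exists_irr_over N θ.2
        obtain ⟨f, hf⟩ := Cfsg.Agent.ItoConv.degree_over N θ ⟨χ, hχ⟩ hne
        have hdvd : Cfsg.charDegree (θ : N → ℂ) ∣ Cfsg.charDegree χ :=
          ⟨(Cfsg.Agent.Clifford.inertia N θ.1).index * f, by rw [hf]; ring⟩
        have hχ1 : Cfsg.charDegree χ ≠ 1 := by
          intro h1
          rw [h1] at hdvd
          exact hθ (Nat.dvd_one.mp hdvd)
        have hpr := h ⟨χ, hχ⟩ hχ1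
        rcases (Nat.dvd_prime hpr).mp hdvd with h1 | h1
        · exact absurd h1 hθ
        · rw [h1]; exact hpr
      have hQ' : ∀ χ : Cfsg.IrrCharacter (G ⧸ N), Cfsg.charDegree (χ : G ⧸ N → ℂ) ≠ 1 →
          (Cfsg.charDegree (χ : G ⧸ N → ℂ)).Prime := by
        intro χ hχ
        have h2 := h (Cfsg.Agent.H82.inflate N χ)
          (by rw [Cfsg.Agent.H82.charDegree_inflate]; exact hχ)
        rwa [Cfsg.Agent.H82.charDegree_inflate] at h2
      haveI : Group.IsSolvable N := ih _ hNlt N rfl hN'
      haveI : Group.IsSolvable (G ⧸ N) := ih _ hQlt (G ⧸ N) rfl hQ'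
      exact Group.isSolvable_of_ker_le_range N.subtype (QuotientGroup.mk' N) (by simp)
    · push Not at hsimp
      by_cases htriv : Subsingleton G
      · infer_instance
      · haveI : Nontrivial G := not_subsingleton_iff_nontrivial.mp htriv
        have hsimple : ∀ N : Subgroup G, N.Normal → N = ⊥ ∨ N = ⊤ := fun N hN => by
          by_contra hcon
          push Not at hcon
          exact hcon.2 (hsimp N hN hcon.1)
        by_cases hcomm : ∀ a b : G, a * b = b * a
        · exact Group.isSolvable_of_comm hcomm
        · exfalso
          have hcenter : ∀ g : G, (∀ x : G, g * x = x * g) → g = 1 := by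
            intro z hz
            rcases hsimple (Subgroup.center G) inferInstance with h1 | h1
            · have hzc : z ∈ Subgroup.center G :=
                Subgroup.mem_center_iff.mpr (fun x => (hz x).symm)
              rw [h1] at hzc
              exact Subgroup.mem_bot.mp hzc
            · exfalso
              apply hcomm
              intro a b
              have hac : a ∈ Subgroup.center G := h1 ▸ Subgroup.mem_top a
              exact (Subgroup.mem_center_iff.mp hac b).symm
          exact Cfsg.Agent.H59.PD.no_simple hsimple hcenter h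

/-- If every irreducible character of the finite group G of degree greater than one has prime degree, then G is solvable. -/
theorem result {G : Type*} [Group G] [Finite G] (h : ∀ χ : Cfsg.IrrCharacter G, Cfsg.charDegree (χ : G → ℂ) ≠ 1 → (Cfsg.charDegree (χ : G → ℂ)).Prime) : Group.IsSolvable G := by
  exact solvable_aux _ G rfl h

end Cfsg.Agent.S4466
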