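import Cfsg.Statements.S4482
import Cfsg.Agent.H84.DihGlueC
import Cfsg.Agent.H11.DihQJ0Core
import Cfsg.Agent.H80.DihQInv
import Cfsg.Agent.H71.DihQIOTA
import Cfsg.Agent.H54.DihQS0

set_option autoImplicit false
open Cfsg

namespace Cfsg.Agent.S4482

/-- An order formula for groups with dihedral Sylow 2-subgroups and one class of involutions. Let G be a finite group whose Sylow 2-subgroup P = ⟨σ, τ⟩ is dihedral of order 2^n ≥ 8 (σ of order 2^(n−1), τ an involution inverting σ), let J be the central involution σ^(2^(n−2)), and suppose J, τ and στ are conjugate in G. Fix M over 2 and let χ₁ be an irreducible character in the principal 2-block taking one constant value δ₁ = ±1 at every non-identity power of σ, with χ₁ ≠ 1. Then, with x₁ = χ₁(1) and c(·) denoting orders of centralizers, x₁ ≠ δ₁ and #G · (x₁ − δ₁)² = 2·x₁(x₁ + δ₁)·c(J)³·(1/c(J, τ) + 1/c(J, στ))²,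 where c(J, y) is the order of the joint centralizer of J and y. -/
theorem result {G : Type*} [Group G] [Finite G] (M : Ideal Cfsg.AlgInt) (hM : Cfsg.IsPModular 2 M) (n : ℕ) (hn : 3 ≤ n) (P : Sylow 2 G) (σ τ : G) (hσ : σ ∈ (P : Subgroup G)) (hτ : τ ∈ (P : Subgroup G)) (hσo : orderOf σ = 2 ^ (n - 1)) (hτo : orderOf τ = 2) (hrel : τ * σ * τ⁻¹ = σ⁻¹) (hgen : Subgroup.closure ({σ, τ} : Set G) = (P : Subgroup G)) (hconj : IsConj (σ ^ (2 ^ (n - 2))) τ ∧ IsConj (σ ^ (2 ^ (n - 2))) (σ * τ)) (χ₁ : Cfsg.IrrCharacter G) (hχ₁ : χ₁ ∈ Cfsg.principalBlock M G) (h1 : (χ₁ : G → ℂ) ≠ (fun _ => 1)) (δ₁ : ℤ) (hδ₁ : δ₁ = 1 ∨ δ₁ = -1) (hval : ∀ l : ℕ, 0 < l → l < 2 ^ (n - 1) → (χ₁ : G → ℂ) (σ ^ l) = δ₁) : (Cfsg.charDegree (χ₁ : G → ℂ) : ℤ) ≠ δ₁ ∧ (Nat.card G : ℚ) * ((Cfsg.charDegree (χ₁ : G → ℂ) : ℚ) - δ₁) ^ 2 = 2 * (Cfsg.charDegree (χ₁ : G → ℂ) : ℚ) * ((Cfsg.charDegree (χ₁ : G →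 ℂ) : ℚ) + δ₁) * (Nat.card (Subgroup.centralizer ({σ ^ (2 ^ (n - 2))} : Set G)) : ℚ) ^ 3 * (1 / (Nat.card (Subgroup.centralizer ({σ ^ (2 ^ (n - 2)), τ} : Set G)) : ℚ) + 1 / (Nat.card (Subgroup.centralizer ({σ ^ (2 ^ (n - 2)), σ * τ} : Set G)) : ℚ)) ^ 2 := by
  have h : Cfsg.Agent.H84.Dih.Hyp n P σ τ := ⟨hn, hσ, hτ, hσo, hτo, hrel, hgen⟩
  exact Cfsg.Agent.H84.DihGlue.dih_order_formula_aux M hM n hn P σ τ hσ hτ hσo hτo hrel hgen hconj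
    χ₁ hχ₁ h1 δ₁ hδ₁ hval
    (fun X hX => Cfsg.Agent.H11.Dih.card_invol_pairs_J_core h hX hconj
      (fun u hu huC huJ => Cfsg.Agent.H80.Dih.invol_class h hX u hu huC huJ)
      (fun g hg => Cfsg.Agent.H80.Dih.invol_not_conj h hX g hg)
      (fun g hg => Cfsg.Agent.H71.DihC.iota_J_τ h hX g hg)
      (fun g hg => Cfsg.Agent.H71.DihC.iota_J_στ h hX g hg)
      (Cfsg.Agent.H75.Dih.card_cent_τ h hX) (Cfsg.Agent.H75.Dih.card_cent_στ h hX))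
    (fun X hX => Cfsg.Agent.H54.Dih.card_invol_pairs_σ h hX hconj)

end Cfsg.Agent.S4482
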