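import Cfsg.Statements.S4625
import Cfsg.Agent.H56.SqAsm
import Cfsg.Agent.H18.SqPSL
import Cfsg.Agent.H48.SqPSp
import Cfsg.Agent.H88.SqPSU
import Cfsg.Agent.H18.SqPlus
import Cfsg.Agent.H88.SqMinus
import Cfsg.Agent.H24.SqChev
import Cfsg.Agent.H46.SqTwE6
import Cfsg.Agent.H46.SqTwD4
import Cfsg.Agent.H56.SqSz
import Cfsg.Agent.H22.SqTwF4

set_option autoImplicit false
open Cfsg

namespace Cfsg.Agent.S4625

/-- Let G be a finite simple group of Lie type in characteristic 2, not counting the Tits group ²F₄(2)′. Then a Sylow 2-subgroup P of G has P/P' elementary abelian: the square of every element of P lies in the derived subgroup of P. -/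
theorem result {G : Type*} [Group G] [Finite G] [IsSimpleGroup G] (hG : Cfsg.IsLieTypeChar 2 G) (P : Sylow 2 G) :
    ∀ x : (P : Subgroup G), x ^ 2 ∈ commutator (P : Subgroup G) :=
  Cfsg.Agent.H56.Sq.asm Cfsg.Agent.H18.Sq.psl Cfsg.Agent.H48.Sq.psp Cfsg.Agent.H88.Sq.psu
    Cfsg.Agent.H18.Sq.pplus Cfsg.Agent.H88.Sq.pminus Cfsg.Agent.H24.Sq.chevG2_good
    Cfsg.Agent.H24.Sq.chevF4_good Cfsg.Agent.H24.Sq.chevE6_good Cfsg.Agent.H24.Sq.chevE7_good
    Cfsg.Agent.H24.Sq.chevE8_good Cfsg.Agent.H46.Sq.twE6 Cfsg.Agent.H46.Sq.twD4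
    Cfsg.Agent.H56.Sq.sz Cfsg.Agent.H22.Sq.twF4 hG P

end Cfsg.Agent.S4625
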