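import Cfsg.Statements.S4756
import Cfsg.Agent.H74.MCMain
import Cfsg.Agent.H16.MCCard
import Cfsg.Agent.H16.MCCpa
import Cfsg.Agent.H16.MCSplit
import Cfsg.Agent.H16.MCUniq
import Cfsg.Agent.H24.MCConvCent
import Cfsg.Agent.H25.MCAbel
import Cfsg.Agent.H25.MCBig
import Cfsg.Agent.H25.MCConj
import Cfsg.Agent.H25.MCDEq
import Cfsg.Agent.H25.MCFpf
import Cfsg.Agent.H32.MCCent
import Cfsg.Agent.H32.MCConvVan
import Cfsg.Agent.H43.MCConvA
import Cfsg.Agent.H43.MCConvB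
import Cfsg.Agent.H43.MCConvComm
import Cfsg.Agent.H43.MCConvOut
import Cfsg.Agent.H54.MCLin
import Cfsg.Agent.H54.MCNonlin
import Cfsg.Agent.H54.MCNotComm
import Cfsg.Agent.H54.MCVan1
import Cfsg.Agent.H66.MCCAb
import Cfsg.Agent.H66.MCCyc1
import Cfsg.Agent.H66.MCCyc2
import Cfsg.Agent.H71.MCDvd
import Cfsg.Agent.H71.MCSetup
import Cfsg.Agent.H75.MCCentLe
import Cfsg.Agent.H75.MCChar

set_option autoImplicit false
open Cfsg

namespace Cfsg.Agent.S4756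

/-- For a finite group G the following are equivalent. (1) χ(x y) = χ(x) χ(y) for every irreducible character χ and all non-identity elements x, y of prime power orders for two different primes. (2) G is a p-group for some prime p, or G is abelian, or for some prime p: G = A P with P a normal Sylow p-subgroup and A a nontrivial cyclic subgroup of order prime to p such that, with C = C_P(A) and D = [A, P], one has P = C D, C abelian, D normal in G, C ∩ D = 1, and A acts fixed-point-freely on D (no non-identity element of A centralizes a non-identity element of D). -/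
theorem result {G : Type*} [Group G] [Finite G] : (∀ (x y : G) (χ : Cfsg.IrrCharacter G), x ≠ 1 → y ≠ 1 → (∃ p q a b : ℕ, p.Prime ∧ q.Prime ∧ p ≠ q ∧ orderOf x = p ^ a ∧ orderOf y = q ^ b) → (χ : G → ℂ) (x * y) = (χ : G → ℂ) x * (χ : G → ℂ) y) ↔ ((∃ p : ℕ, p.Prime ∧ IsPGroup p G) ∨ IsMulCommutative G ∨ ∃ (p : ℕ) (_ : Fact p.Prime) (P : Sylow p G) (A : Subgroup G), (P : Subgroup G).Normal ∧ IsCyclic ↥A ∧ A ≠ ⊥ ∧ (Nat.card ↥A).Coprime p ∧ A ⊔ (P : Subgroup G) = ⊤ ∧ IsMulCommutative ↥((P : Subgroup G) ⊓ Subgroup.centralizer (A : Set G)) ∧ (⁅A, (P : Subgroup G)⁆).Normal ∧ ((P : Subgroup G) ⊓ Subgroup.centralizer (A : Set G)) ⊔ ⁅A, (P : Subgroup G)⁆ = (P : Subgroup G) ∧ ((P : Subgroup G) ⊓ Subgroup.centralizer (A : Set G)) ⊓ ⁅A, (P : Subgroup G)⁆ = ⊥ ∧ ∀ a ∈ A, a ≠ 1 → ∀ d ∈ ⁅A, (P : Subgroup G)⁆, a * d = d * a → d = 1) := by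
  exact Cfsg.Agent.H74.MC.main (Cfsg.Agent.H75.MC.char Cfsg.Agent.H54.MC.van1 Cfsg.Agent.H71.MC.dvd Cfsg.Agent.H25.MC.big Cfsg.Agent.H16.MC.uniq Cfsg.Agent.H54.MC.nonlin Cfsg.Agent.H54.MC.notComm Cfsg.Agent.H32.MC.cent Cfsg.Agent.H75.MC.centLe)
    (Cfsg.Agent.H74.MC.struct_of Cfsg.Agent.H71.MC.setup (Cfsg.Agent.H25.MC.fpf Cfsg.Agent.H25.MC.conj) (Cfsg.Agent.H25.MC.dEq Cfsg.Agent.H25.MC.conj) (Cfsg.Agent.H16.MC.split (Cfsg.Agent.H25.MC.fpf Cfsg.Agent.H25.MC.conj) (Cfsg.Agent.H25.MC.dEq Cfsg.Agent.H25.MC.conj) (Cfsg.Agent.H16.MC.card (Cfsg.Agent.H16.MC.cpa (Cfsg.Agent.H25.MC.fpf Cfsg.Agent.H25.MC.conj)))) Cfsg.Agent.H66.MC.cAb Cfsg.Agent.H66.MC.cyc1 Cfsg.Agent.H66.MC.cyc2)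
    Cfsg.Agent.H43.MC.convOut (Cfsg.Agent.H24.MC.convCent Cfsg.Agent.H43.MC.convComm Cfsg.Agent.H43.MC.convA Cfsg.Agent.H43.MC.convB) Cfsg.Agent.H32.MC.convVan Cfsg.Agent.H54.MC.lin Cfsg.Agent.H25.MC.abel

end Cfsg.Agent.S4756
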