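import Cfsg.Statements.S4813
import Cfsg.Agent.H4.PrimeDegB
import Cfsg.Agent.S4466

set_option autoImplicit false
open Cfsg

namespace Cfsg.Agent.S4813

/-- If every irreducible complex character of the finite group G of degree greater than one has prime degree, then G has at most three distinct irreducible character degrees. -/
theorem result {G : Type*} [Group G] [Finite G] (hprime : ∀ d ∈ Cfsg.charDegrees G, d = 1 ∨ d.Prime) : Nat.card ↥(Cfsg.charDegrees G) ≤ 3 := by
  have hp' : ∀ χ : IrrCharacter G, charDegree χ.1 = 1 ∨ (charDegree χ.1).Prime :=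
    fun χ => hprime _ ⟨χ, rfl⟩
  have hsolv : Group.IsSolvable G := Cfsg.Agent.S4466.result (fun χ h => (hp' χ).resolve_left h)
  obtain ⟨a, b, hab⟩ := Cfsg.Agent.H4.pd_main hp'
  have hsub : Cfsg.charDegrees G ⊆ ({1, a, b} : Set ℕ) := by
    rintro d ⟨χ, rfl⟩
    rcases hab χ with h | h | h
    · left; exact h
    · right; left; exact h
    · right; right; exact h
  have hfin : ({1, a, b} : Set ℕ).Finite := Set.toFinite _
  calc Nat.card ↥(Cfsg.charDegrees G) = (Cfsg.charDegrees G).ncard := Nat.card_coe_set_eq _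
    _ ≤ ({1, a, b} : Set ℕ).ncard := Set.ncard_le_ncard hsub hfin
    _ ≤ 3 := by
        calc ({1, a, b} : Set ℕ).ncard ≤ ({a, b} : Set ℕ).ncard + 1 := Set.ncard_insert_le _ _
          _ ≤ (({b} : Set ℕ).ncard + 1) + 1 := by gcongr; exact Set.ncard_insert_le _ _
          _ = 3 := by rw [Set.ncard_singleton]

end Cfsg.Agent.S4813
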