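import Cfsg.Statements.S5185
import Cfsg.Agent.H86.FusExt
import Cfsg.Agent.H86.SLTwo

set_option autoImplicit false
universe u
open Cfsg

namespace Cfsg.Agent.S5185

/-- Let F be a saturated fusion system over a finite p-group S and H an essential subgroup of order p². Then H is elementary abelian (isomorphic to C_p × C_p) and its F-automorphism group contains a subgroup isomorphic to SL(2,p). -/
theorem result {Ω : Type u} [Group Ω] {S : Subgroup Ω} [Finite S] (p : ℕ) [Fact p.Prime] (hS : IsPGroup p S)
    (F : Cfsg.FusionSystem S) (hF : F.IsSaturated p) (H : Subgroup Ω) (hH : F.IsEssential p H) (hcard : Nat.card H = p ^ 2) :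
    Cfsg.IsElementaryAbelian p H ∧
      ∃ K : Subgroup ↥(F.autGroup H), Nonempty (↥K ≃* Matrix.SpecialLinearGroup (Fin 2) (ZMod p)) := by
  have hHS : H ≤ S := hH.1.1
  haveI : Finite H := Cfsg.Agent.H86.finite_of_le hHS
  have hrad := Cfsg.Agent.H86.radical_of_essential hS hH
  have hcomm : ∀ x y : H, x * y = y * x := IsPGroup.commutative_of_card_eq_prime_sq hcard
  -- the inner automorphisms of `H` are trivial
  have hInn : Inn H = ⊥ := by
    rw [eq_bot_iff]
    rintro _ ⟨g, rfl⟩
    rw [Subgroup.mem_bot]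
    ext h
    rw [MulAut.conj_apply, hcomm g h, mul_inv_cancel_right]
    rfl
  have hcore : pCore p (F.autGroup H) = ⊥ := by
    have h1 := hrad.2
    rw [hInn] at h1
    exact (Subgroup.map_eq_bot_iff_of_injective _ (Subgroup.subtype_injective _)).1 h1
  obtain ⟨-, -, hnorm, E, hE⟩ := hH
  have hdvd : p ∣ Nat.card (F.autGroup H) := hE.1.trans (Subgroup.card_quotient_dvd_card _)
  have hcore' : ∀ N : Subgroup (F.autGroup H), N.Normal → IsPGroup p N → N = ⊥ := by
    intro N hN hNp
    have := Cfsg.Agent.H86.le_pCore hN hNp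
    rw [hcore] at this
    exact eq_bot_iff.2 this
  obtain ⟨a, b, hao, hbo, hab⟩ := Cfsg.Agent.H86.exists_two_orderOf_eq_prime hdvd hcore'
  -- `H` has exponent `p`: otherwise it is cyclic and its automorphism group is abelian
  have hexp : ∀ x : H, x ^ p = 1 := by
    by_contra hne
    push Not at hne
    obtain ⟨x, hx⟩ := hne
    have hox : orderOf x ∣ p ^ 2 := by rw [← hcard]; exact orderOf_dvd_natCard x
    obtain ⟨k, hk, hkk⟩ := (Nat.dvd_prime_pow (Fact.out : p.Prime)).1 hox
    have hk2 : k = 2 := by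
      by_contra hk2
      have hk1 : k ≤ 1 := by omega
      apply hx
      have h1 : orderOf x ∣ p := by
        rw [hkk]
        calc p ^ k ∣ p ^ 1 := pow_dvd_pow p hk1
          _ = p := pow_one p
      exact orderOf_dvd_iff_pow_eq_one.1 h1
    rw [hk2, ← hcard] at hkk
    haveI : IsCyclic H := isCyclic_of_orderOf_eq_card x hkk
    have hN : (Subgroup.zpowers a).Normal := by
      constructor
      intro n hn g
      have h1 : g * n * g⁻¹ = n := by
        apply Subtype.ext
        have h2 := Cfsg.Agent.H86.mulAut_comm_of_isCyclic (g : MulAut H) (n : MulAut H)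
        rw [Subgroup.coe_mul, Subgroup.coe_mul, Subgroup.coe_inv, h2, mul_inv_cancel_right]
      rw [h1]
      exact hn
    have hP : IsPGroup p (Subgroup.zpowers a) := by
      apply IsPGroup.of_card (n := 1)
      rw [Nat.card_zpowers, hao, pow_one]
    have hbot := hcore' _ hN hP
    have ha1 : a = 1 := by
      have : a ∈ Subgroup.zpowers a := Subgroup.mem_zpowers a
      rw [hbot, Subgroup.mem_bot] at this
      exact this
    rw [ha1, orderOf_one] at hao
    exact (Fact.out : p.Prime).one_lt.ne hao
  refine ⟨⟨⟨⟨fun x y => hcomm x y⟩⟩, fun x hx => ?_⟩, ?_⟩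
  · have := congrArg Subtype.val (hexp ⟨x, hx⟩)
    simpa using this
  · have hao' : orderOf (a : MulAut H) = p := by rw [Subgroup.orderOf_coe]; exact hao
    have hbo' : orderOf (b : MulAut H) = p := by rw [Subgroup.orderOf_coe]; exact hbo
    have hab' : (b : MulAut H) ∉ Subgroup.zpowers (a : MulAut H) := by
      intro hmem
      apply hab
      obtain ⟨k, hk⟩ := Subgroup.mem_zpowers_iff.1 hmem
      rw [Subgroup.mem_zpowers_iff]
      refine ⟨k, Subtype.ext ?_⟩
      rw [Subgroup.coe_zpow]
      exact hk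
    obtain ⟨ρ, hρ, hρG⟩ := Cfsg.Agent.H86.exists_sl2_hom' hcomm hcard hexp (F.autGroup H) a.2 b.2
      hao' hbo' hab'
    have hle : ρ.range ≤ F.autGroup H := by
      rintro _ ⟨M, rfl⟩
      exact hρG M
    refine ⟨ρ.range.subgroupOf (F.autGroup H), ⟨?_⟩⟩
    exact (Subgroup.subgroupOfEquivOfLe hle).trans (MonoidHom.ofInjective hρ).symm

end Cfsg.Agent.S5185
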