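import Cfsg.Statements.S5191
-- import your own Cfsg.Agent.* helpers here

set_option autoImplicit false
open Cfsg

namespace Cfsg.Agent.S5191

/-- Fusion in a finite group G and in its quotient by O_{p'}(G) agree. Let S be a Sylow p-subgroup of G, N = O_{p'}(G) and P ≤ S. If an element of G/N conjugates the image of P into the image of S, then some element g of G conjugates P into S and induces the same map on P modulo N. (Together with the injectivity of S → G/N this says that g ↦ gN induces an isomorphism of the fusion system of G on S with that of G/N on SN/N.) -/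
theorem result {G : Type*} [Group G] [Finite G] {p : ℕ} [Fact p.Prime]
    [hN : (Cfsg.pPrimeCore p G).Normal] (S : Sylow p G) (P : Subgroup G) (hP : P ≤ (S : Subgroup G))
    (γ : G ⧸ Cfsg.pPrimeCore p G)
    (hγ : ∀ x ∈ P, γ * QuotientGroup.mk x * γ⁻¹ ∈ ((S : Subgroup G).map (QuotientGroup.mk' (Cfsg.pPrimeCore p G)))) :
    ∃ g : G, ∀ x ∈ P, g * x * g⁻¹ ∈ S ∧
      (QuotientGroup.mk (g * x * g⁻¹) : G ⧸ Cfsg.pPrimeCore p G) = γ * QuotientGroup.mk x * γ⁻¹ := by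
  classical
  obtain ⟨g₀, hg₀⟩ := QuotientGroup.mk_surjective γ
  subst hg₀
  have hSH : (S : Subgroup G) ≤ (S : Subgroup G) ⊔ Cfsg.pPrimeCore p G := le_sup_left
  have hNH : Cfsg.pPrimeCore p G ≤ (S : Subgroup G) ⊔ Cfsg.pPrimeCore p G := le_sup_right
  -- the conjugate of `P` by `g₀` lies in `H = S N`
  have hconj : ∀ x ∈ P, g₀ * x * g₀⁻¹ ∈ (S : Subgroup G) ⊔ Cfsg.pPrimeCore p G := by
    intro x hx
    obtain ⟨s, hs, hs'⟩ := hγ x hx
    have h1 : (QuotientGroup.mk s : G ⧸ Cfsg.pPrimeCore p G) = QuotientGroup.mk (g₀ * x * g₀⁻¹) := by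
      simpa using hs'
    have h2 : s⁻¹ * (g₀ * x * g₀⁻¹) ∈ Cfsg.pPrimeCore p G := QuotientGroup.eq.mp h1
    have h3 : g₀ * x * g₀⁻¹ = s * (s⁻¹ * (g₀ * x * g₀⁻¹)) := by group
    rw [h3]
    exact Subgroup.mul_mem _ (hSH hs) (hNH h2)
  -- the conjugate, as a `p`-subgroup of `H`
  have hPp : IsPGroup p P := S.isPGroup'.to_le hP
  have hQp : IsPGroup p (P.map (MulAut.conj g₀).toMonoidHom) := hPp.map _
  have hQ'p : IsPGroup p ((P.map (MulAut.conj g₀).toMonoidHom).subgroupOf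
      ((S : Subgroup G) ⊔ Cfsg.pPrimeCore p G)) :=
    hQp.comap_of_injective _ (Subgroup.subtype_injective _)
  obtain ⟨R, hR⟩ := hQ'p.exists_le_sylow
  obtain ⟨h, hh⟩ := MulAction.exists_smul_eq ((S : Subgroup G) ⊔ Cfsg.pPrimeCore p G : Subgroup G)
    R (S.subtype hSH)
  -- decompose `h = s * n`
  have hhH : (h : G) ∈ ((S : Subgroup G) ⊔ Cfsg.pPrimeCore p G : Subgroup G) := h.2
  rw [← SetLike.mem_coe, Subgroup.mul_normal] at hhH
  obtain ⟨s, hs, n, hn, hsn⟩ := Set.mem_mul.mp hhH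
  have key : ∀ x ∈ P, (h : G) * (g₀ * x * g₀⁻¹) * (h : G)⁻¹ ∈ (S : Subgroup G) := by
    intro x hx
    have hxQ : (⟨g₀ * x * g₀⁻¹, hconj x hx⟩ : ((S : Subgroup G) ⊔ Cfsg.pPrimeCore p G : Subgroup G)) ∈
        (P.map (MulAut.conj g₀).toMonoidHom).subgroupOf ((S : Subgroup G) ⊔ Cfsg.pPrimeCore p G) := by
      rw [Subgroup.mem_subgroupOf]
      exact ⟨x, hx, by simp⟩
    have hxR := hR hxQ
    have h4 : h * ⟨g₀ * x * g₀⁻¹, hconj x hx⟩ * h⁻¹ ∈ ((h • R : Sylow p _) : Subgroup _) := by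
      rw [Sylow.coe_subgroup_smul, Subgroup.mem_pointwise_smul_iff_inv_smul_mem]
      simpa [MulAut.smul_def, mul_assoc] using hxR
    rw [hh, Sylow.coe_subtype] at h4
    exact Subgroup.mem_subgroupOf.mp h4
  refine ⟨n * g₀, fun x hx => ⟨?_, ?_⟩⟩
  · have h6 := key x hx
    rw [← hsn] at h6
    have h7 : n * g₀ * x * (n * g₀)⁻¹ = s⁻¹ * (s * n * (g₀ * x * g₀⁻¹) * (s * n)⁻¹) * s := by
      group
    rw [h7]
    exact (S : Subgroup G).mul_mem ((S : Subgroup G).mul_mem ((S : Subgroup G).inv_mem hs) h6) hs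
  · have hn1 : (QuotientGroup.mk n : G ⧸ Cfsg.pPrimeCore p G) = 1 :=
      (QuotientGroup.eq_one_iff n).mpr hn
    simp only [QuotientGroup.mk_mul, QuotientGroup.mk_inv, hn1, one_mul, inv_one, mul_one, mul_inv_rev]

end Cfsg.Agent.S5191
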