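import Cfsg.Statements.S5220
import Cfsg.Agent.H86.GenMain
import Cfsg.Agent.H86.JQuad
import Cfsg.Agent.H86.JCenter
import Cfsg.Agent.H38.ZJFunctor

set_option autoImplicit false
open Cfsg

namespace Cfsg.Agent.S5220

/-- Let F be a saturated fusion system over a nontrivial finite p-group S, let J(S) be the subgroup generated by the abelian subgroups of S of largest order, and let V be the subgroup generated by the p-th powers of the elements of Z(S). Then F is generated by the centralizer fusion system of V and the normalizer fusion system of J(S): every fusion system over S containing the maps of both contains every map of F. -/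
theorem result {Ω : Type*} [Group Ω] {S : Subgroup Ω} [Finite S] (p : ℕ) [Fact p.Prime] (hS : IsPGroup p S) (F : Cfsg.FusionSystem S) (hF : F.IsSaturated p) (hS1 : S ≠ ⊥) (C : Cfsg.FusionSystem (Cfsg.FusionSystem.centralizerIn S (Cfsg.powerClosure p 1 (S ⊓ Subgroup.centralizer (S : Set Ω))))) (hC : F.IsCentralizerSystem (Cfsg.powerClosure p 1 (S ⊓ Subgroup.centralizer (S : Set Ω))) C) (N : Cfsg.FusionSystem (Cfsg.FusionSystem.normalizerIn S (Cfsg.thompsonSubgroupAOf S))) (hN : F.IsNormalizerSystem (Cfsg.thompsonSubgroupAOf S) N) (E : Cfsg.FusionSystem S) (hCE : C.IsSubsystemOf E) (hNE : N.IsSubsystemOf E) : F.IsSubsystemOf E := by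
  classical
  have hgood : Cfsg.Agent.H86.GoodPred F (fun P f => Cfsg.Agent.H86.Mor E P f) :=
    Cfsg.Agent.H86.goodPred_mor F E
  have hJn : S ≤ Cfsg.FusionSystem.normalizerIn S (Cfsg.thompsonSubgroupAOf S) :=
    Cfsg.Agent.H86.le_normalizerIn_WS (W := fun Q _ => Cfsg.thompsonSubgroupA Q)
      (fun Q R _ _ _ _ φ => Cfsg.Agent.H38.thompsonA_map φ) hS le_rfl
  have key := Cfsg.Agent.H86.gen_main (p := p) (W := fun Q _ => Cfsg.thompsonSubgroupA Q)
    (good := fun P f => Cfsg.Agent.H86.Mor E P f)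
    (fun Q R _ _ _ _ φ => Cfsg.Agent.H38.thompsonA_map φ)
    (fun Q _ _ _ => Cfsg.Agent.H86.center_le_thompsonSubgroupA Q)
    (fun G _ _ P hnot => Cfsg.Agent.H86.thompsonA_quadratic P hnot)
    (Nat.card S) S rfl hS F hF hgood ?_ ?_
  · intro P φ hφ
    obtain ⟨φ', hφ', hφ'f⟩ := key P _ (Cfsg.Agent.H86.mor_extFun hφ)
    have heq : φ' = φ := by
      ext x
      rw [hφ'f x]
      exact Cfsg.Agent.H86.extFun_apply P φ x
    rw [← heq]
    exact hφ'
  · -- maps fixing the `p`-th powers of `Z(S)` lie in the centralizer system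
    intro A f hf hfix
    have hAS : A ≤ S := hf.le
    have hVle : Cfsg.powerClosure p 1 (S ⊓ Subgroup.centralizer (S : Set Ω)) ≤ A := by
      refine (Subgroup.closure_le A).2 ?_
      rintro y ⟨x, hx, rfl⟩
      rw [pow_one]
      refine (hfix x hx.1 (fun s hs => ?_)).1
      exact Subgroup.mem_centralizer_iff.1 hx.2 s hs
    have hVfix : ∀ y ∈ Cfsg.powerClosure p 1 (S ⊓ Subgroup.centralizer (S : Set Ω)), f y = y := by
      refine Cfsg.Agent.H86.Mor.fix_closure hf ?_ ?_
      · rintro y ⟨x, hx, rfl⟩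
        rw [pow_one]
        exact (hfix x hx.1 (fun s hs => Subgroup.mem_centralizer_iff.1 hx.2 s hs)).1
      · rintro y ⟨x, hx, rfl⟩
        rw [pow_one]
        exact (hfix x hx.1 (fun s hs => Subgroup.mem_centralizer_iff.1 hx.2 s hs)).2
    have hVZ : ∀ y ∈ Cfsg.powerClosure p 1 (S ⊓ Subgroup.centralizer (S : Set Ω)),
        ∀ s ∈ S, y * s = s * y := by
      intro y hy
      have hle : Cfsg.powerClosure p 1 (S ⊓ Subgroup.centralizer (S : Set Ω)) ≤
          Subgroup.centralizer (S : Set Ω) := by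
        refine (Subgroup.closure_le _).2 ?_
        rintro y ⟨x, hx, rfl⟩
        exact Subgroup.pow_mem _ hx.2 _
      intro s hs
      exact (Subgroup.mem_centralizer_iff.1 (hle hy) s hs).symm
    have hScent : S ≤ Cfsg.FusionSystem.centralizerIn S
        (Cfsg.powerClosure p 1 (S ⊓ Subgroup.centralizer (S : Set Ω))) := by
      intro s hs
      rw [Cfsg.Agent.H86.mem_centralizerIn_iff]
      exact ⟨hs, fun u hu => hVZ u hu s hs⟩
    obtain ⟨φ, hφ, hφf⟩ := hf
    have hf' : Cfsg.Agent.H86.Mor F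
        (A ⊔ Cfsg.powerClosure p 1 (S ⊓ Subgroup.centralizer (S : Set Ω))) f := by
      rw [sup_eq_left.2 hVle]
      exact ⟨φ, hφ, hφf⟩
    obtain ⟨ψ, hψ, hψf⟩ := hf'
    refine ⟨φ, hCE A ?_, hφf⟩
    rw [hC A]
    refine ⟨hφ, hAS.trans hScent, fun x => hScent ((F.le_of_mem hφ).2 x), ψ, hψ, fun x => ?_,
      fun x => ?_⟩
    · rw [hψf, hφf]
      rfl
    · rw [hψf]
      exact hVfix _ x.2
  · -- maps normalizing `J(S)` lie in the normalizer system
    intro A f hf hJA himg
    have hAS : A ≤ S := hf.le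
    have hfN : Cfsg.Agent.H86.Mor N A f := by
      rw [Cfsg.Agent.H88.mor_normalizerSystem_iff hN]
      refine ⟨hAS.trans hJn, fun y hy => hJn (hf.mem hy), f, ?_, fun _ _ => rfl, himg⟩
      have hJA' : Cfsg.thompsonSubgroupAOf S ≤ A := hJA
      rw [sup_eq_left.2 hJA']
      exact hf
    obtain ⟨φ, hφ, hφf⟩ := hfN
    exact ⟨φ, hNE A hφ, hφf⟩

end Cfsg.Agent.S5220
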