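import Cfsg.Statements.S5265
import Cfsg.Agent.H89.CenterIdxTwoMain
import Cfsg.Agent.H89.CenterIdxExp
import Cfsg.Agent.H89.Extra3

set_option autoImplicit false
open Cfsg

namespace Cfsg.Agent.S5265

open Cfsg.FusionSystem Cfsg.Agent.H86 Cfsg.Agent.H89 in
/-- Let p be a prime, S a nontrivial finite p-group whose centre has index at most p², and F a saturated fusion system over S with no nontrivial normal subgroup and with hyperfocal subgroup equal to S. Then S is extraspecial of order p³; for odd p it has exponent p, and for p = 2 it is dihedral of order 8. -/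
theorem result {Ω : Type*} [Group Ω] {S : Subgroup Ω} [Finite S] (p : ℕ) [Fact p.Prime] (hS : IsPGroup p ↥S) (F : Cfsg.FusionSystem S) (hF : F.IsSaturated p) (hS1 : S ≠ ⊥) (hcore : F.core = ⊥) (hhyp : F.hyperfocalSubgroup p = S) (hZ : (Subgroup.center ↥S).index ≤ p ^ 2) : Cfsg.IsExtraspecial p ↥S ∧ Nat.card S = p ^ 3 ∧ (p ≠ 2 → Monoid.exponent ↥S = p) ∧ (p = 2 → Nonempty (↥S ≃* DihedralGroup 4)) := by
  have hna := noncomm_of_core hS hF hS1 hcore
  have hci := CIdx.of_index hS hna hZ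
  have hna' : ∃ a b : ↥S, a * b ≠ b * a := by
    obtain ⟨g, hg, k, hk, hgk⟩ := hna
    exact ⟨⟨g, hg⟩, ⟨k, hk⟩, fun h => hgk (congrArg Subtype.val h)⟩
  by_cases hp2 : p = 2
  · subst hp2
    obtain ⟨u₁, u₂, z₁, hu₁S, hu₂S, hu₁, hu₂, hz1, hzz, h21, hzc, hzS, hcard⟩ :=
      ci2_main hS hF hci hcore hhyp
    have hc8 := card_eq_cube hS hna hZ hcard
    exact ⟨extraspecial_of_card_cube hc8 hna', hc8, fun h => absurd rfl h,
      fun _ => dihedral_of_gens hu₁S hu₂S hu₁ hu₂ hz1 hzz h21 hzc hzS hc8⟩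
  · obtain ⟨-, hZcard⟩ := ci_odd_core hp2 hS hF hci hcore
    have hc3 := card_eq_cube hS hna hZ hZcard
    exact ⟨extraspecial_of_card_cube hc3 hna', hc3,
      fun _ => exponent_eq_prime (ci_odd_exponent hp2 hS hF hci hcore hZcard) hS1,
      fun h => absurd h hp2⟩

end Cfsg.Agent.S5265
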