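-- Statement S5279 (helper57): a p-stable group fusion system (p odd) has a nontrivial normal subgroup.
import Cfsg.Statements.S5279
import Cfsg.Agent.H89.GroupStable
import Cfsg.Agent.H29.ZJCtl
import Cfsg.Agent.H29.ZJ3
import Cfsg.Agent.H57.QSLOdd
import Cfsg.Agent.H57.QSLFus

set_option autoImplicit false
open Cfsg

namespace Cfsg.Agent.S5279

/-- Let p be an odd prime, G a finite group with a nontrivial Sylow p-subgroup P, and F the fusion system of G on P. Suppose F is p-stable: for every fully normalized subgroup Q and every χ in Aut_F(Q) acting quadratically on Q (χ(a⁻¹)·a·χ(a⁻¹)·χ(χ(a)) = 1 for all a in Q), χ lies in O_p(Aut_F(Q)). Then some nontrivial subgroup of P is normal in F. -/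
theorem result {Ω : Type*} [Group Ω] [Finite Ω] (p : ℕ) [Fact p.Prime] (hp : p ≠ 2) (P : Sylow p Ω) (hP : (P : Subgroup Ω) ≠ ⊥) (hst : (∀ Q : Subgroup Ω, (Cfsg.groupFusionSystem (P : Subgroup Ω)).IsFullyNormalized Q → ∀ χ : MulAut ↥Q, χ ∈ (Cfsg.groupFusionSystem (P : Subgroup Ω)).autGroup Q → (∀ a : ↥Q, (χ a⁻¹) * a * (χ a⁻¹) * (χ (χ a)) = 1) → χ ∈ ((Cfsg.pCore p ↥((Cfsg.groupFusionSystem (P : Subgroup Ω)).autGroup Q)).map ((Cfsg.groupFusionSystem (P : Subgroup Ω)).autGroup Q).subtype : Subgroup (MulAut ↥Q)))) : (Cfsg.groupFusionSystem (P : Subgroup Ω)).core ≠ ⊥ := by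
  have hstG : IsNormalizerPStable p Ω :=
    (Cfsg.Agent.H89.isNormalizerPStable_iff_pStable P).mpr hst
  have hfsf := Cfsg.Agent.H57.QSL.fsf_of_stable_odd hp _ Ω rfl hstG P
  have hnorm : (groupFusionSystem (P : Subgroup Ω)).IsNormal
      (Cfsg.Agent.H29.nZ 0 (P : Subgroup Ω)) := by
    refine Cfsg.Agent.H57.QSL.isNormal_of_control (P : Subgroup Ω) _
      (Cfsg.Agent.H29.nZ_le 0 _) ?_
    intro A hA g hg
    obtain ⟨x, hx, hxa⟩ := Cfsg.Agent.H29.ZC.ctl_of_fsf hfsf (A : Set Ω) hA g (by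
      rintro _ ⟨a, ha, rfl⟩
      exact hg a ha)
    rw [Cfsg.Agent.H29.ZC.induced_WJo] at hx
    exact ⟨x, hx, hxa⟩
  have hle : Cfsg.Agent.H29.nZ 0 (P : Subgroup Ω) ≤ (groupFusionSystem (P : Subgroup Ω)).core :=
    le_sSup hnorm
  have hne : Cfsg.Agent.H29.nZ 0 (P : Subgroup Ω) ≠ ⊥ :=
    Cfsg.Agent.H29.nZ_zero_ne_bot P.isPGroup' hP
  intro hbot
  rw [hbot] at hle
  exact hne (le_bot_iff.mp hle)

end Cfsg.Agent.S5279
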