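import Cfsg.Statements.S5299

set_option autoImplicit false
universe u
open Cfsg

namespace Cfsg.Agent.S5299

theorem involves_of_injective_of_surjective {A G Q : Type*} [Group A] [Group G] [Group Q]
    (j : A →* G) (hj : Function.Injective j) (ψ : A →* Q) (hψ : Function.Surjective ψ) :
    Involves Q G := by
  let e : A ≃* j.range := MonoidHom.ofInjective hj
  let ψ' : j.range →* Q := ψ.comp e.symm.toMonoidHom
  have hψ' : Function.Surjective ψ' := hψ.comp e.symm.surjective
  let R : Subgroup G := (ψ'.ker).map j.range.subtype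
  have hR : R.subgroupOf j.range = ψ'.ker :=
    Subgroup.comap_map_eq_self_of_injective (Subgroup.subtype_injective _) _
  have hn : (R.subgroupOf j.range).Normal := by rw [hR]; infer_instance
  refine ⟨j.range, R, hn, ⟨?_⟩⟩
  exact (QuotientGroup.quotientMulEquivOfEq hR).trans
    (QuotientGroup.quotientKerEquivOfSurjective ψ' hψ')

/-- Let F be a saturated fusion system over a finite p-group S, H a finite group and Q a p-subgroup of H. If Q is not involved in S (no section of S is isomorphic to Q), then F is H-free: H is involved in no model of the normalizer system of a fully normalized centric subgroup. -/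
theorem result {Ω : Type u} [Group Ω] {S : Subgroup Ω} [Finite S] (p : ℕ) [Fact p.Prime] (hS : IsPGroup p S)
    (F : Cfsg.FusionSystem S) (hF : F.IsSaturated p) (H : Type*) [Group H] [Finite H] (Q : Subgroup H) (hQ : IsPGroup p Q)
    (hfree : ¬ Cfsg.Involves (↥Q) (↥S)) : F.IsSectionFree p H := by
  intro Q₀ _ _ N _ L _ ι hmodel hinv
  obtain ⟨hLfin, ⟨hιinj, _⟩, ⟨T, hT⟩, _⟩ := hmodel
  apply hfree
  obtain ⟨K, R, hn, ⟨e⟩⟩ := hinv
  let π : K →* H := e.toMonoidHom.comp (QuotientGroup.mk' (R.subgroupOf K))
  have hπ : Function.Surjective π := e.surjective.comp (QuotientGroup.mk'_surjective _)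
  let K₁ : Subgroup K := Q.comap π
  let π₁ : K₁ →* Q := (π.comp K₁.subtype).codRestrict Q (fun x => x.2)
  have hπ₁ : Function.Surjective π₁ := by
    rintro ⟨q, hq⟩
    obtain ⟨k, rfl⟩ := hπ q
    exact ⟨⟨k, hq⟩, rfl⟩
  let P : Sylow p K₁ := default
  have hPQ : (P : Subgroup K₁).map π₁ = ⊤ := by
    have htop : IsPGroup p (⊤ : Subgroup Q) := hQ.to_subgroup ⊤
    have h1 := (P.mapSurjective hπ₁).3 htop le_top
    rw [← Sylow.coe_mapSurjective hπ₁]
    exact h1.symm
  let ψ : (P : Subgroup K₁) →* Q := π₁.comp (P : Subgroup K₁).subtype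
  have hψ : Function.Surjective ψ := by
    intro q
    have : q ∈ (P : Subgroup K₁).map π₁ := by rw [hPQ]; trivial
    obtain ⟨x, hx, rfl⟩ := this
    exact ⟨⟨x, hx⟩, rfl⟩
  let i : (P : Subgroup K₁) →* L := K.subtype.comp (K₁.subtype.comp (P : Subgroup K₁).subtype)
  have hi : Function.Injective i :=
    K.subtype_injective.comp (K₁.subtype_injective.comp (P : Subgroup K₁).subtype_injective)
  have hp : IsPGroup p i.range := by
    have h1 : IsPGroup p (P : Subgroup K₁) := P.isPGroup'
    exact h1.of_surjective i.rangeRestrict i.rangeRestrict_surjective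
  obtain ⟨T', hT'⟩ := hp.exists_le_sylow
  obtain ⟨g, hg⟩ := MulAction.exists_smul_eq L T' T
  have hmem : ∀ x : (P : Subgroup K₁), ((MulAut.conj g).toMonoidHom.comp i) x ∈ ι.range := by
    intro x
    rw [← hT, ← hg]
    exact Subgroup.smul_mem_pointwise_smul _ (MulAut.conj g) _ (hT' ⟨x, rfl⟩)
  let ιe : FusionSystem.normalizerIn S Q₀ ≃* ι.range := MonoidHom.ofInjective hιinj
  let j₁ : (P : Subgroup K₁) →* ι.range :=
    ((MulAut.conj g).toMonoidHom.comp i).codRestrict ι.range hmem
  have hj₁ : Function.Injective j₁ := by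
    intro a b hab
    have h2 := congrArg Subtype.val hab
    have h3 : g * i a * g⁻¹ = g * i b * g⁻¹ := h2
    apply hi
    simpa using h3
  let j : (P : Subgroup K₁) →* S :=
    (Subgroup.inclusion (inf_le_left : FusionSystem.normalizerIn S Q₀ ≤ S)).comp
      (ιe.symm.toMonoidHom.comp j₁)
  have hjinj : Function.Injective j :=
    (Subgroup.inclusion_injective (inf_le_left : FusionSystem.normalizerIn S Q₀ ≤ S)).comp
      (ιe.symm.injective.comp hj₁)
  exact involves_of_injective_of_surjective j hjinj ψ hψ

end Cfsg.Agent.S5299
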