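import Cfsg.Statements.S5700
import Cfsg.Agent.H96.GuTop
import Cfsg.Agent.H73.GuInd
import Cfsg.Agent.H73.GuExtA
import Cfsg.Agent.H73.GuGP
import Cfsg.Agent.H12.GuNorm
import Cfsg.Agent.H12.GuExtB
import Cfsg.Agent.H95.GuKappa
import Cfsg.Agent.H95.GuFull1
import Cfsg.Agent.H95.GuVI
import Cfsg.Agent.H95.GuProper
import Cfsg.Agent.H49.GuHperp
import Cfsg.Agent.H28.GuProp
import Cfsg.Agent.H28.GuV
import Cfsg.Agent.H32.GuFT
import Cfsg.Agent.H95.GuTauSnm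

set_option autoImplicit false
open Cfsg

namespace Cfsg.Agent.S5700

/-- Let F be a finite field with q elements, n ≥ 13 even, Q a non-degenerate quadratic form on F^n (of either type), and Ω the commutator subgroup of the isometry group of Q, viewed inside GL_n(F). Let K be a subfield of the algebra of n × n matrices over F containing the scalars, of degree 2 over F, closed under adjoints for the polar form of Q but not consisting of self-adjoint elements, and such that every k in K rescales Q (Q(k v) = c Q(v) for a constant c depending on k). Then the elements of Ω normalising K form a maximal subgroup of Ω. -/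
theorem result {F : Type*} [Field F] [Fintype F] {n : ℕ} (hn : 13 ≤ n) (heven : Even n) (Q : (Fin n → F) → F) (hQ : Cfsg.Geo.IsNondegenerateQuadraticForm Q) (K : Subalgebra F (Matrix (Fin n) (Fin n) F)) (hK : Cfsg.Geo.IsFieldSubalgebra 2 K) (hac : Cfsg.Geo.IsAdjointClosedFor (QuadraticMap.polar Q) K) (hnsa : ¬ Cfsg.Geo.IsSelfAdjointFor (QuadraticMap.polar Q) K) (hsc : ∀ k ∈ K, ∃ c : F, ∀ v : (Fin n → F), Q (Matrix.mulVec k v) = c * Q v) : Cfsg.Geo.IsMaximalIn (Cfsg.Geo.omegaGL Q) (Cfsg.Geo.subalgebraNormalizer K ⊓ Cfsg.Geo.omegaGL Q) := by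
  exact Cfsg.Agent.H96.Gu.top Cfsg.Agent.H73.Gu.extA Cfsg.Agent.H12.Gu.extB
    Cfsg.Agent.H12.Gu.normG Cfsg.Agent.H95.Gu.tau
    (Cfsg.Agent.H95.Gu.proper Cfsg.Agent.H73.Gu.ind
      (Cfsg.Agent.H73.Gu.gp Cfsg.Agent.H73.Gu.ind) Cfsg.Agent.H95.Gu.snm)
    (Cfsg.Agent.H32.Gu.ft Cfsg.Agent.H73.Gu.ind Cfsg.Agent.H95.Gu.snm)
    (Cfsg.Agent.H95.Gu.full1 Cfsg.Agent.H95.Gu.kappa)
    (Cfsg.Agent.H49.Gu.hperp Cfsg.Agent.H73.Gu.ind
      (Cfsg.Agent.H73.Gu.gp Cfsg.Agent.H73.Gu.ind) Cfsg.Agent.H95.Gu.kappa)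
    (Cfsg.Agent.H28.Gu.prop Cfsg.Agent.H95.Gu.snm
      (Cfsg.Agent.H49.Gu.hperp Cfsg.Agent.H73.Gu.ind
        (Cfsg.Agent.H73.Gu.gp Cfsg.Agent.H73.Gu.ind) Cfsg.Agent.H95.Gu.kappa))
    (Cfsg.Agent.H28.Gu.v
      (Cfsg.Agent.H32.Gu.ft Cfsg.Agent.H73.Gu.ind Cfsg.Agent.H95.Gu.snm))
    (Cfsg.Agent.H95.Gu.vi (Cfsg.Agent.H73.Gu.gp Cfsg.Agent.H73.Gu.ind)
      (Cfsg.Agent.H95.Gu.full1 Cfsg.Agent.H95.Gu.kappa))
    hn heven Q hQ K hK hac hnsa hsc

end Cfsg.Agent.S5700
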