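import Cfsg.Statements.S5726
import Cfsg.Agent.Lib.Helper96.SylowOrbit

set_option autoImplicit false
open Cfsg

namespace Cfsg.Agent.S5726

open MulAction in
/-- If a finite group acts faithfully and transitively on a set with p^k elements, p a prime and k ≥ 1, then some element of order p fixes no point. -/
theorem result {G Ω : Type*} [Group G] [Finite G] [MulAction G Ω] [FaithfulSMul G Ω] [Fintype Ω] (htr : MulAction.IsPretransitive G Ω)
    (p k : ℕ) (hp : p.Prime) (hk : 1 ≤ k) (hΩ : Fintype.card Ω = p ^ k) :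
    ∃ g : G, orderOf g = p ∧ ∀ ω : Ω, g • ω ≠ ω := by
  classical
  have : Fact p.Prime := ⟨hp⟩
  -- a Sylow p-subgroup
  obtain ⟨P⟩ : Nonempty (Sylow p G) := inferInstance
  -- Ω is nonempty
  have hcard_pos : 0 < Fintype.card Ω := by rw [hΩ]; exact pow_pos hp.pos k
  obtain ⟨ω₀⟩ : Nonempty Ω := Fintype.card_pos_iff.mp hcard_pos
  have hidx : (stabilizer G ω₀).index = p ^ k := by
    rw [index_stabilizer_of_transitive, Nat.card_eq_fintype_card, hΩ]
  have hdvd : p ^ k ∣ (stabilizer (P : Subgroup G) ω₀).index :=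
    Cfsg.Agent.Lib.Helper96.pow_dvd_card_sylow_orbit P ω₀ k (by rw [hidx])
  -- P acts transitively on Ω
  have horb : orbit (P : Subgroup G) ω₀ = Set.univ := by
    rw [index_stabilizer] at hdvd
    rw [Set.eq_univ_iff_ncard]
    have hle : (orbit (P : Subgroup G) ω₀).ncard ≤ Nat.card Ω := Set.ncard_le_card _
    have hpos : 0 < (orbit (P : Subgroup G) ω₀).ncard := by
      rw [Set.ncard_pos]
      exact ⟨ω₀, mem_orbit_self ω₀⟩
    rw [Nat.card_eq_fintype_card, hΩ] at hle ⊢
    exact le_antisymm hle (Nat.le_of_dvd hpos hdvd)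
  have hPtrans : ∀ ω : Ω, ∃ x : (P : Subgroup G), x • ω₀ = ω := by
    intro ω
    have : ω ∈ orbit (P : Subgroup G) ω₀ := by rw [horb]; trivial
    exact this
  -- P is nontrivial
  have hPcard : p ∣ Nat.card (P : Subgroup G) := by
    have h1 : p ^ k ∣ Nat.card (P : Subgroup G) :=
      hdvd.trans (Subgroup.index_dvd_card _)
    exact (dvd_pow_self p (by omega)).trans h1
  have hPnt : Nontrivial (P : Subgroup G) := by
    rw [← Finite.one_lt_card_iff_nontrivial]
    have hpos : 0 < Nat.card (P : Subgroup G) := Nat.card_pos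
    have := Nat.le_of_dvd hpos hPcard
    have := hp.two_le
    omega
  have hPgrp : IsPGroup p (P : Subgroup G) := P.isPGroup'
  have hZnt : Nontrivial (Subgroup.center (P : Subgroup G)) := hPgrp.center_nontrivial
  have hZp : IsPGroup p (Subgroup.center (P : Subgroup G)) := hPgrp.to_subgroup _
  have hZcard : p ∣ Nat.card (Subgroup.center (P : Subgroup G)) := by
    rcases hZp.card_eq_or_dvd with h | h
    · have := Finite.one_lt_card_iff_nontrivial.mpr hZnt
      omega
    · exact h
  obtain ⟨z, hz⟩ := exists_prime_orderOf_dvd_card' p hZcard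
  -- z as an element of P, central
  have hzc : ∀ y : (P : Subgroup G), y * (z : (P : Subgroup G)) = (z : (P : Subgroup G)) * y := by
    intro y
    exact (Subgroup.mem_center_iff.mp z.2 y)
  refine ⟨((z : (P : Subgroup G)) : G), ?_, ?_⟩
  · rw [Subgroup.orderOf_coe, Subgroup.orderOf_coe]
    exact hz
  · intro ω hω
    -- z fixes ω, so z fixes ω₀, so z fixes everything
    have hz0 : ((z : (P : Subgroup G)) : G) • ω₀ = ω₀ := by
      obtain ⟨x, hx⟩ := hPtrans ω
      rw [← hx] at hω
      have h1 : (x * (z : (P : Subgroup G))) • ω₀ = x • ω₀ := by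
        rw [hzc x, mul_smul]
        exact hω
      rw [mul_smul] at h1
      exact smul_left_cancel x h1
    have hall : ∀ ω' : Ω, ((z : (P : Subgroup G)) : G) • ω' = ω' := by
      intro ω'
      obtain ⟨y, hy⟩ := hPtrans ω'
      rw [← hy]
      change ((z : (P : Subgroup G)) : G) • ((y : G) • ω₀) = (y : G) • ω₀
      rw [smul_smul]
      have : ((z : (P : Subgroup G)) : G) * (y : G) = (y : G) * ((z : (P : Subgroup G)) : G) := by
        have := congrArg (Subtype.val) (hzc y)
        simpa using this.symm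
      rw [this, mul_smul, hz0]
    have h1 : ((z : (P : Subgroup G)) : G) = 1 := by
      apply FaithfulSMul.eq_of_smul_eq_smul (α := Ω)
      intro a
      rw [hall a, one_smul]
    have h2 : orderOf (z : (P : Subgroup G)) = 1 := by
      rw [orderOf_eq_one_iff]
      exact Subtype.ext h1
    rw [Subgroup.orderOf_coe] at h2
    rw [hz] at h2
    exact hp.one_lt.ne' h2

end Cfsg.Agent.S5726
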