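import Cfsg.Statements.S5727
import Cfsg.Agent.Lib.Helper96.SylowOrbit
import Cfsg.Agent.S5726

set_option autoImplicit false
open Cfsg

namespace Cfsg.Agent.S5727

open MulAction

/-- The case `m < p`. -/
theorem result_lt {G Ω : Type*} [Group G] [Finite G] [MulAction G Ω] [FaithfulSMul G Ω] [Fintype Ω] (htr : MulAction.IsPretransitive G Ω)
    (p m : ℕ) (hp : p.Prime) (hm : 1 ≤ m) (hmp : m < p) (hΩ : Fintype.card Ω = m * p) :
    ∃ g : G, orderOf g = p ∧ ∀ ω : Ω, g • ω ≠ ω := by
  classical
  have : Fact p.Prime := ⟨hp⟩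
  obtain ⟨P⟩ : Nonempty (Sylow p G) := inferInstance
  have : Fintype (P : Subgroup G) := Fintype.ofFinite _
  have hcard_pos : 0 < Fintype.card Ω := by rw [hΩ]; exact Nat.mul_pos hm hp.pos
  obtain ⟨ω₀⟩ : Nonempty Ω := Fintype.card_pos_iff.mp hcard_pos
  have hPgrp : IsPGroup p (P : Subgroup G) := P.isPGroup'
  obtain ⟨a, ha⟩ := IsPGroup.iff_card.mp hPgrp
  -- every point stabilizer in P has index p
  have hidx : ∀ ω : Ω, (stabilizer (P : Subgroup G) ω).index = p := by
    intro ω
    have h1 : p ^ 1 ∣ (stabilizer (P : Subgroup G) ω).index := by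
      apply Cfsg.Agent.Lib.Helper96.pow_dvd_card_sylow_orbit P ω 1
      rw [index_stabilizer_of_transitive, Nat.card_eq_fintype_card, hΩ, pow_one]
      exact Dvd.intro_left m rfl
    rw [pow_one] at h1
    have h2 : (stabilizer (P : Subgroup G) ω).index ∣ p ^ a := by
      rw [← ha]; exact Subgroup.index_dvd_card _
    obtain ⟨j, -, hj⟩ := (Nat.dvd_prime_pow hp).mp h2
    have h3 : (stabilizer (P : Subgroup G) ω).index ≤ m * p := by
      rw [index_stabilizer, ← hΩ, ← Nat.card_eq_fintype_card]
      exact Set.ncard_le_card _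
    have h4 : p ^ j < p ^ 2 := by
      rw [← hj, sq]
      exact lt_of_le_of_lt h3 (Nat.mul_lt_mul_of_pos_right hmp hp.pos)
    have h5 : j < 2 := (Nat.pow_lt_pow_iff_right hp.one_lt).mp h4
    have h6 : j ≠ 0 := by
      rintro rfl
      rw [hj, pow_zero] at h1
      exact hp.one_lt.ne' (Nat.dvd_one.mp h1)
    have : j = 1 := by omega
    rw [hj, this, pow_one]
  have ha0 : a ≠ 0 := by
    rintro rfl
    rw [pow_zero] at ha
    have h1 := Subgroup.index_dvd_card (stabilizer (P : Subgroup G) ω₀)
    rw [hidx ω₀, ha] at h1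
    exact hp.one_lt.ne' (Nat.dvd_one.mp h1)
  -- every point stabilizer in P is normal
  have hnormal : ∀ ω : Ω, (stabilizer (P : Subgroup G) ω).Normal := by
    intro ω
    apply Subgroup.normal_of_index_eq_minFac_card
    rw [hidx ω, ha, hp.pow_minFac ha0]
  -- stabilizers are constant on P-orbits
  have hconst : ∀ (ω : Ω) (x g : (P : Subgroup G)), g • ω = ω → g • (x • ω) = x • ω := by
    intro ω x g hg
    have h1 : g ∈ stabilizer (P : Subgroup G) ω := hg
    have h2 : x⁻¹ * g * x⁻¹⁻¹ ∈ stabilizer (P : Subgroup G) ω := (hnormal ω).conj_mem g h1 x⁻¹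
    rw [inv_inv, mem_stabilizer_iff, mul_smul, mul_smul] at h2
    have := congrArg (fun y => x • y) h2
    simpa using this
  -- the number of fixed points of g
  set c : ↥(P : Subgroup G) → ℕ := fun g => (Finset.univ.filter (fun ω : Ω => g • ω = ω)).card with hc
  have hc_ge : ∀ g : (P : Subgroup G), (∃ ω : Ω, g • ω = ω) → p ≤ c g := by
    rintro g ⟨ω, hω⟩
    have h1 : (orbit (P : Subgroup G) ω).ncard = p := by rw [← index_stabilizer, hidx]
    have h2 : orbit (P : Subgroup G) ω ⊆ ((Finset.univ.filter (fun ω : Ω => g • ω = ω) : Finset Ω) : Set Ω) := by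
      rintro _ ⟨x, rfl⟩
      simp only [Finset.coe_filter, Finset.mem_univ, true_and, Set.mem_ofPred_eq]
      exact hconst ω x g hω
    have h3 := Set.ncard_le_ncard h2 (Finset.finite_toSet _)
    rw [h1, Set.ncard_coe_finset] at h3
    exact h3
  -- double counting
  have hdc : ∑ g : (P : Subgroup G), c g = ∑ ω : Ω, (Finset.univ.filter (fun g : (P : Subgroup G) => g • ω = ω)).card :=
    Finset.sum_card_bipartiteAbove_eq_sum_card_bipartiteBelow (fun (g : (P : Subgroup G)) (ω : Ω) => g • ω = ω)
  have hstab : ∀ ω : Ω, (Finset.univ.filter (fun g : (P : Subgroup G) => g • ω = ω)).card * p = p ^ a := by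
    intro ω
    have h1 : (Finset.univ.filter (fun g : (P : Subgroup G) => g • ω = ω)).card
        = Nat.card (stabilizer (P : Subgroup G) ω) := by
      rw [Nat.card_eq_fintype_card, Fintype.card_subtype]
      rfl
    have h2 := Subgroup.card_mul_index (stabilizer (P : Subgroup G) ω)
    rw [hidx ω, ha] at h2
    rw [h1, h2]
  have hsum : (∑ g : (P : Subgroup G), c g) * p = m * p * p ^ a := by
    rw [hdc, Finset.sum_mul, Finset.sum_congr rfl (fun ω _ => hstab ω), Finset.sum_const,
      Finset.card_univ, hΩ, smul_eq_mul]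
  set A : Finset (P : Subgroup G) := Finset.univ.filter (fun g => ∃ ω : Ω, g • ω = ω) with hA
  have hAle : p * A.card ≤ ∑ g : (P : Subgroup G), c g := by
    calc p * A.card = ∑ g ∈ A, p := by rw [Finset.sum_const, smul_eq_mul, mul_comm]
      _ ≤ ∑ g ∈ A, c g := Finset.sum_le_sum (fun g hg => hc_ge g (Finset.mem_filter.mp hg).2)
      _ ≤ ∑ g : (P : Subgroup G), c g := Finset.sum_le_sum_of_subset (Finset.subset_univ _)
  have hAlt : A.card < Fintype.card (P : Subgroup G) := by
    have hN : Fintype.card (P : Subgroup G) = p ^ a := by rw [← Nat.card_eq_fintype_card, ha]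
    rw [hN]
    have h1 : p * A.card * p ≤ m * p * p ^ a := by
      rw [← hsum]; exact Nat.mul_le_mul_right p hAle
    have h2 : m * p * p ^ a < p * p * p ^ a := by
      apply Nat.mul_lt_mul_of_pos_right _ (pow_pos hp.pos a)
      exact Nat.mul_lt_mul_of_pos_right hmp hp.pos
    have h3 : p * p * A.card < p * p * p ^ a := by
      calc p * p * A.card = p * A.card * p := by ring
        _ ≤ m * p * p ^ a := h1
        _ < p * p * p ^ a := h2
    exact Nat.lt_of_mul_lt_mul_left h3
  obtain ⟨g, hg⟩ : ∃ g : (P : Subgroup G), g ∉ A := by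
    by_contra hcon
    push Not at hcon
    have : A = Finset.univ := Finset.eq_univ_iff_forall.mpr hcon
    rw [this, Finset.card_univ] at hAlt
    exact lt_irrefl _ hAlt
  have hgfix : ∀ ω : Ω, (g : G) • ω ≠ ω := by
    intro ω hω
    apply hg
    rw [hA, Finset.mem_filter]
    exact ⟨Finset.mem_univ _, ω, hω⟩
  refine ⟨(g : G), ?_, hgfix⟩
  have hpow : (g : G) ^ p = 1 := by
    apply FaithfulSMul.eq_of_smul_eq_smul (α := Ω)
    intro ω
    rw [one_smul]
    have := hnormal ω
    have h1 : g ^ (stabilizer (P : Subgroup G) ω).index ∈ stabilizer (P : Subgroup G) ω :=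
      Subgroup.pow_index_mem _ g
    rw [hidx ω, mem_stabilizer_iff] at h1
    exact h1
  have hne : (g : G) ≠ 1 := by
    intro h
    apply hgfix ω₀
    rw [h, one_smul]
  have hdvd : orderOf (g : G) ∣ p := orderOf_dvd_of_pow_eq_one hpow
  rcases (Nat.dvd_prime hp).mp hdvd with h | h
  · exact absurd (orderOf_eq_one_iff.mp h) hne
  · exact h

/-- If a finite group acts faithfully and transitively on a set with m·p elements, where p is a prime and 1 ≤ m ≤ p, then some element of order p fixes no point. -/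
theorem result {G Ω : Type*} [Group G] [Finite G] [MulAction G Ω] [FaithfulSMul G Ω] [Fintype Ω] (htr : MulAction.IsPretransitive G Ω)
    (p m : ℕ) (hp : p.Prime) (hm : 1 ≤ m) (hmp : m ≤ p) (hΩ : Fintype.card Ω = m * p) :
    ∃ g : G, orderOf g = p ∧ ∀ ω : Ω, g • ω ≠ ω := by
  rcases lt_or_eq_of_le hmp with h | h
  · exact result_lt htr p m hp hm h hΩ
  · subst h
    exact Cfsg.Agent.S5726.result htr m 2 hp (by norm_num) (by rw [hΩ, sq])

end Cfsg.Agent.S5727
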