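import Cfsg.Statements.S5728

set_option autoImplicit false
open Cfsg

namespace Cfsg.Agent.S5728

open Polynomial

/-- An element of a field of characteristic `p` fixed by the Frobenius lies in the prime field. -/
theorem exists_algebraMap_of_pow_eq {K : Type*} [Field K] (p : ℕ) [Fact p.Prime] [Algebra (ZMod p) K]
    (α : K) (hα : α ^ p = α) : ∃ a : ZMod p, algebraMap (ZMod p) K a = α := by
  classical
  have hp : p.Prime := Fact.out
  set f : K[X] := X ^ p - X with hf
  have hf0 : f ≠ 0 := FiniteField.X_pow_card_sub_X_ne_zero K hp.one_lt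
  have hdeg : f.natDegree = p := FiniteField.X_pow_card_sub_X_natDegree_eq K hp.one_lt
  set S : Finset K := Finset.univ.image (algebraMap (ZMod p) K) with hS
  have hScard : S.card = p := by
    rw [hS, Finset.card_image_of_injective _ (algebraMap (ZMod p) K).injective, Finset.card_univ,
      ZMod.card]
  have hsub : S ⊆ f.roots.toFinset := by
    intro x hx
    rw [hS, Finset.mem_image] at hx
    obtain ⟨a, -, rfl⟩ := hx
    rw [Multiset.mem_toFinset, mem_roots hf0, IsRoot.def, hf, eval_sub, eval_pow, eval_X, ← map_pow,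
      ZMod.pow_card, sub_self]
  have hle : f.roots.toFinset.card ≤ S.card := by
    rw [hScard, ← hdeg]
    exact (Multiset.toFinset_card_le _).trans (card_roots' f)
  have heq : S = f.roots.toFinset := Finset.eq_of_subset_of_card_le hsub hle
  have hmem : α ∈ f.roots.toFinset := by
    rw [Multiset.mem_toFinset, mem_roots hf0, IsRoot.def, hf, eval_sub, eval_pow, eval_X, hα, sub_self]
  rw [← heq, hS, Finset.mem_image] at hmem
  obtain ⟨a, -, ha⟩ := hmem
  exact ⟨a, ha⟩

/-- An elusive transitive action. Let p = 2^s − 1 be a prime and let F be the field with p² elements. Inside the group of affine maps x ↦ a·x + b of F (a ≠ 0), consider the subgroup of maps with both coefficients in the prime field. Then every element of prime order of the affine group is conjugate, within the affine group, to an element of that subgroup; equivalently, in the transitive action of the affine group on the cosets of that subgroup (of degree p(p + 1)) every element of prime order fixes a point. -/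
theorem result (p s : ℕ) [Fact p.Prime] (hs : p = 2 ^ s - 1)
    (g : Equiv.Perm (GaloisField p 2)) (hg : g ∈ Cfsg.affineGroup (GaloisField p 2)) (hord : (orderOf g).Prime) :
    ∃ x ∈ Cfsg.affineGroup (GaloisField p 2), ∃ a b : ZMod p, a ≠ 0 ∧
      ∀ y : GaloisField p 2, (x * g * x⁻¹) y = algebraMap (ZMod p) (GaloisField p 2) a * y + algebraMap (ZMod p) (GaloisField p 2) b := by
  classical
  have hp : p.Prime := Fact.out
  obtain ⟨α, β, hαβ⟩ := hg
  by_cases hα : (α : GaloisField p 2) = 1
  · -- a translation
    have hβ : β ≠ 0 := by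
      rintro rfl
      have : g = 1 := by
        ext y
        simp [hαβ, hα]
      rw [this, orderOf_one] at hord
      exact Nat.not_prime_one hord
    refine ⟨Equiv.mulLeft₀ β⁻¹ (inv_ne_zero hβ), ⟨Units.mk0 β⁻¹ (inv_ne_zero hβ), 0, fun y => by simp⟩,
      1, 1, one_ne_zero, fun y => ?_⟩
    obtain ⟨z, rfl⟩ := (Equiv.mulLeft₀ β⁻¹ (inv_ne_zero hβ)).surjective y
    simp [Equiv.Perm.mul_apply, hαβ, hα, mul_add, hβ]
  · -- a map with a fixed point
    have hα1 : (1 : GaloisField p 2) - α ≠ 0 := sub_ne_zero.mpr (Ne.symm hα)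
    set y₀ : GaloisField p 2 := β / (1 - α) with hy₀
    set x : Equiv.Perm (GaloisField p 2) := Equiv.subRight y₀ with hx
    have hxmem : x ∈ Cfsg.affineGroup (GaloisField p 2) :=
      ⟨1, -y₀, fun y => by simp [hx, sub_eq_add_neg]⟩
    have hconj : ∀ y : GaloisField p 2, (x * g * x⁻¹) y = α * y := by
      intro y
      obtain ⟨z, rfl⟩ := x.surjective y
      have hinv : x⁻¹ (x z) = z := by rw [Equiv.Perm.inv_def, Equiv.symm_apply_apply]
      simp only [Equiv.Perm.mul_apply, hinv, hαβ]
      simp only [hx, Equiv.subRight_apply, hy₀]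
      field_simp
      ring
    have hpow : ∀ (k : ℕ) (y : GaloisField p 2), ((x * g * x⁻¹) ^ k) y = (α : GaloisField p 2) ^ k * y := by
      intro k
      induction k with
      | zero => intro y; simp
      | succ k ih =>
        intro y
        rw [pow_succ, Equiv.Perm.mul_apply, hconj, ih, pow_succ, mul_assoc]
    set r := orderOf g with hr
    have hαr : (α : GaloisField p 2) ^ r = 1 := by
      have h1 : (x * g * x⁻¹) ^ r = 1 := by
        rw [conj_pow, hr, pow_orderOf_eq_one, mul_one, mul_inv_cancel]
      have h2 := hpow r 1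
      rw [h1, mul_one] at h2
      exact h2.symm
    have : Fintype (GaloisField p 2) := Fintype.ofFinite _
    have hcard : Fintype.card (GaloisField p 2) = p ^ 2 := by
      rw [← Nat.card_eq_fintype_card, GaloisField.card p 2 (by norm_num)]
    have hα0 : (α : GaloisField p 2) ≠ 0 := α.ne_zero
    have hαq : (α : GaloisField p 2) ^ (p ^ 2 - 1) = 1 := by
      rw [← hcard]
      exact FiniteField.pow_card_sub_one_eq_one _ hα0
    have hp2 : 2 ≤ p := hp.two_le
    have hs1 : 2 ^ s = p + 1 := by omega
    have hs0 : s ≠ 0 := by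
      rintro rfl
      simp at hs1
      omega
    have hfac : p ^ 2 - 1 = (p - 1) * 2 ^ s := by
      rw [hs1]
      obtain ⟨q, rfl⟩ : ∃ q, p = q + 1 := ⟨p - 1, by omega⟩
      simp only [Nat.add_sub_cancel]
      have : (q + 1) ^ 2 = q * (q + 1 + 1) + 1 := by ring
      rw [this, Nat.add_sub_cancel]
    have hrdvd : r ∣ p ^ 2 - 1 := by
      by_contra hnd
      have hcop : Nat.Coprime r (p ^ 2 - 1) := (Nat.Prime.coprime_iff_not_dvd hord).mpr hnd
      have h1 : (α : GaloisField p 2) ^ (Nat.gcd r (p ^ 2 - 1)) = 1 := pow_gcd_eq_one.mpr ⟨hαr, hαq⟩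
      rw [hcop.gcd_eq_one, pow_one] at h1
      exact hα h1
    have hrp : r ∣ p - 1 := by
      rw [hfac] at hrdvd
      rcases (Nat.Prime.dvd_mul hord).mp hrdvd with h | h
      · exact h
      · have h2 : r ∣ 2 := hord.dvd_of_dvd_pow h
        have hr2 : r = 2 := (Nat.prime_dvd_prime_iff_eq hord Nat.prime_two).mp h2
        rw [hr2]
        have h3 : 2 ∣ 2 ^ s := dvd_pow_self 2 hs0
        rw [hs1] at h3
        omega
    have hαp1 : (α : GaloisField p 2) ^ (p - 1) = 1 := by
      obtain ⟨k, hk⟩ := hrp
      rw [hk, pow_mul, hαr, one_pow]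
    have hαp : (α : GaloisField p 2) ^ p = α := by
      have h1 : (α : GaloisField p 2) ^ (p - 1 + 1) = α := by rw [pow_succ, hαp1, one_mul]
      rwa [Nat.sub_add_cancel hp.pos] at h1
    obtain ⟨a, ha⟩ := exists_algebraMap_of_pow_eq p (α : GaloisField p 2) hαp
    refine ⟨x, hxmem, a, 0, ?_, fun y => ?_⟩
    · rintro rfl
      rw [map_zero] at ha
      exact hα0 ha.symm
    · rw [hconj, ha, map_zero, add_zero]

end Cfsg.Agent.S5728
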