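import Cfsg.Statements.S5748
import Cfsg.Agent.S0182
import Cfsg.Agent.H43.CTMain
import Cfsg.Agent.S2202
import Cfsg.Agent.H28.CTCyc2
import Cfsg.Agent.H28.CTPsl
import Cfsg.Agent.H18.CTNorm2
import Cfsg.Agent.H18.CTProd

set_option autoImplicit false
open Cfsg

namespace Cfsg.Agent.S5748

/-- A finite non-abelian simple group in which commuting is a transitive relation on the non-identity elements (equivalently, every non-identity element has abelian centraliser) is isomorphic to PSL₂ over a field with 2^f elements for some f ≥ 2; conversely these groups have that property. -/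
theorem result {G : Type*} [Group G] [Finite G] [IsSimpleGroup G] (hG : ¬ IsMulCommutative G) :
    (∀ a b c : G, a ≠ 1 → b ≠ 1 → c ≠ 1 → Commute a b → Commute b c → Commute a c) ↔
    ∃ (F : Type) (_ : Field F) (_ : Fintype F) (f : ℕ), 2 ≤ f ∧ Fintype.card F = 2 ^ f ∧ Nonempty (G ≃* Matrix.ProjectiveSpecialLinearGroup (Fin 2) F) := by
  constructor
  · intro hct
    have hcc := Cfsg.Agent.H43.CT.cent_comm hct
    rcases Nat.even_or_odd (Nat.card G) with heven | hodd
    · have h2 : ∀ t : G, orderOf t = 2 →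
          IsMulCommutative ↥(Subgroup.centralizer ({t} : Set G)) := by
        intro t ht
        have ht1 : t ≠ 1 := by
          rintro rfl
          simp at ht
        exact ⟨⟨fun a b => Subtype.ext (hcc t ht1 a a.2 b b.2)⟩⟩
      rcases Cfsg.Agent.S2202.result heven h2 with hc | hn | ⟨F, _, _, A, _, _, hchar, -, ⟨e⟩⟩
      · exact absurd (Cfsg.Agent.H28.CT.comm_of_cyclic_sylow2 heven hc) hG
      · exact absurd (Cfsg.Agent.H18.CT.comm_of_normal_sylow2 heven hn) hG
      · obtain ⟨f, hf, hF, he⟩ := Cfsg.Agent.H18.CT.psl_of_sl_prod hG F A hchar e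
        exact ⟨F, inferInstance, inferInstance, f, hf, hF, he⟩
    · exfalso
      have hsol : Group.IsSolvable G := Cfsg.Agent.S0182.result hodd hcc
      exact hG ⟨⟨fun a b => IsSimpleGroup.comm_iff_isSolvable.mpr hsol a b⟩⟩
  · rintro ⟨F, _, _, f, -, hF, ⟨e⟩⟩
    exact Cfsg.Agent.H43.CT.ct_of_equiv e
      (fun a b c ha hb hc hab hbc =>
        Cfsg.Agent.H28.CT.psl2_char2_ct F f hF a b c ha hb hc hab hbc)

end Cfsg.Agent.S5748
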