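import Cfsg.Statements.S5965
import Cfsg.Agent.H14.SubEXCD
import Cfsg.Agent.H14.SubIDX2
import Cfsg.Agent.H16.SubCENT
import Cfsg.Agent.H16.SubKUMNONE
import Cfsg.Agent.H18.SubSYM
import Cfsg.Agent.H18.SubWA
import Cfsg.Agent.H18.SubWC
import Cfsg.Agent.H24.SubIDXN2
import Cfsg.Agent.H36.SubCOMB
import Cfsg.Agent.H36.SubIDX1
import Cfsg.Agent.H54.SubC2
import Cfsg.Agent.H61.SubDIAGZ
import Cfsg.Agent.H61.SubSTRUCT1
import Cfsg.Agent.H67.TenNT2
import Cfsg.Agent.H69.TenWIT
import Cfsg.Agent.H77.SubNT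
import Cfsg.Agent.H77.SubRANKEXT
import Cfsg.Agent.H77.SubWB
import Cfsg.Agent.H77.SubWE
import Cfsg.Agent.H82.SubRAT
import Cfsg.Agent.H82.SubSTRUCT2
import Cfsg.Agent.H99.SubGlue

set_option autoImplicit false
open scoped MatrixGroups
open Cfsg

namespace Cfsg.Agent.S5965

theorem seven_le_of_prime (r : ℕ) (hr : r.Prime) (h2 : r ≠ 2) (h3 : r ≠ 3) (h5 : r ≠ 5) :
    7 ≤ r := by
  by_contra hlt
  have hlt' : r < 7 := by omega
  have h2' := hr.two_le
  interval_cases r <;> first | omega | (exact absurd hr (by norm_num))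

theorem toLin_pow_eq_one {F : Type*} [Field F] {n : ℕ} (y : Matrix (Fin n) (Fin n) F) (r : ℕ)
    (hy : y ^ r = 1) : (Matrix.toLin' y : Module.End F (Fin n → F)) ^ r = 1 := by
  have h1 : (Matrix.toLinAlgEquiv' y : Module.End F (Fin n → F)) ^ r = 1 := by
    rw [← map_pow, hy, map_one]
  exact h1

/-- Elements of odd prime order r ≠ p of PSL_n(q) and subfield subgroups. Here `T = PSL_n(F)` for a field `F` with `q = p^f` elements (`n ≥ 2`, `(n, q) ≠ (2, 2), (2, 3)`), `F₀` is the subfield with `q₀` elements where `q = q₀^k` for a prime `k`, and `H` is the subgroup of matrices of determinant 1 lying in the subfield group of `F₀` (invertible matrices over `F₀` times scalars) — a maximal subgroup of type GL_n(q₀) (the case `n = 2`, `q₀ = 2` is excluded); Ω is the set of `T`-conjugates of `H` (cosets of `H`), so an element of `T` of prime order `r` (a matrix `x` of determinant 1 with `x^r` scalar, `x` not scalar) fixes a point of Ω when some conjugate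 of `x` by a matrix of determinant 1 lies in `H`. Let `r ≠ p` be an odd prime dividing the index of `H`, with `(n, r) ≠ (6, 3)` and, when `r = k` divides `q₀ − 1`, with `(n)_r ≤ (q − 1)_r`. Then every element of `T` of order `r` is conjugate in `T` into `H` if and only if `r = k`, or `k = 2`, `r = n ∈ {3, 5}` and `(q₀ + 1)_r = r`. The two excluded cases, `(n, r) = (6, 3)` and `r = k ∣ q₀ − 1` with `(n)_r > (q − 1)_r`, are ones where this criterion can fail, so they are left out. -/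
theorem result {F : Type*} [Field F] [Fintype F] {p : ℕ} [Fact p.Prime] [CharP F p] {q : ℕ} (hq : Fintype.card F = q)
    (n : ℕ) (hn : 2 ≤ n) (hT : (n, q) ≠ (2, 2) ∧ (n, q) ≠ (2, 3))
    (F₀ : Subfield F) (k q₀ : ℕ) (hk : k.Prime) (hF₀ : Nat.card ↥F₀ = q₀) (hqk : q = q₀ ^ k) (hC5 : ¬ (n = 2 ∧ q₀ = 2)) (r : ℕ) [Fact r.Prime] (hr2 : r ≠ 2) (hrp : r ≠ p) (hgap : ¬ (n = 6 ∧ r = 3)) (hgapk : r = k → r ∣ q₀ - 1 → padicValNat r n ≤ padicValNat r (q - 1)) (hΩ : r ∣ ((Cfsg.Geo.subfieldSubgroup F₀ 1).comap (Matrix.SpecialLinearGroup.toGL : Matrix.SpecialLinearGroup (Fin n) F →* GL (Fin n) F)).index) :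
    (∀ x : Matrix.SpecialLinearGroup (Fin n) F,
      (∃ z : F, ((x ^ r : Matrix.SpecialLinearGroup (Fin n) F) : Matrix (Fin n) (Fin n) F) = z • (1 : Matrix (Fin n) (Fin n) F)) →
      (∀ z : F, (x : Matrix (Fin n) (Fin n) F) ≠ z • (1 : Matrix (Fin n) (Fin n) F)) →
      ∃ P : Matrix.SpecialLinearGroup (Fin n) F, P⁻¹ * x * P ∈ ((Cfsg.Geo.subfieldSubgroup F₀ 1).comap (Matrix.SpecialLinearGroup.toGL : Matrix.SpecialLinearGroup (Fin n) F →* GL (Fin n) F))) ↔
    (r = k ∨ (k = 2 ∧ r = n ∧ (n = 3 ∨ n = 5) ∧ padicValNat r (q₀ + 1) = 1)) := by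
  classical
  subst hq
  subst hF₀
  have hr : r.Prime := Fact.out
  have hp : p.Prime := Fact.out
  have hn0 : 0 < n := by omega
  have hrF : (r : F) ≠ 0 := by
    intro h0
    have h1 := (CharP.cast_eq_zero_iff F p r).mp h0
    exact hrp ((Nat.prime_dvd_prime_iff_eq hp hr).mp h1).symm
  have hq1 : 1 < Fintype.card F := Fintype.one_lt_card
  have hq₀ : 1 < Nat.card ↥F₀ := Finite.one_lt_card
  have hrq : ¬ r ∣ Fintype.card F := by
    intro h
    obtain ⟨f, -, hf⟩ := FiniteField.card F p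
    rw [hf] at h
    exact hrp ((Nat.prime_dvd_prime_iff_eq hr hp).mp (hr.dvd_of_dvd_pow h))
  have hrq₀ : ¬ r ∣ Nat.card ↥F₀ := by
    intro h
    apply hrq
    rw [hqk]
    exact dvd_pow h hk.ne_zero
  have hcast : (Fintype.card F : ZMod r) ≠ 0 := by
    intro h
    exact hrq ((ZMod.natCast_eq_zero_iff _ _).mp h)
  have hcast₀ : (Nat.card ↥F₀ : ZMod r) ≠ 0 := by
    intro h
    exact hrq₀ ((ZMod.natCast_eq_zero_iff _ _).mp h)
  have hr1 : 0 < r - 1 := by
    have := hr.two_le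
    omega
  have hc_dvd : orderOf (Fintype.card F : ZMod r) ∣ r - 1 :=
    orderOf_dvd_of_pow_eq_one (ZMod.pow_card_sub_one_eq_one hcast)
  have hcpos : 0 < orderOf (Fintype.card F : ZMod r) := Nat.pos_of_dvd_of_pos hc_dvd hr1
  have hc₀_dvd : orderOf (Nat.card ↥F₀ : ZMod r) ∣ r - 1 :=
    orderOf_dvd_of_pow_eq_one (ZMod.pow_card_sub_one_eq_one hcast₀)
  have hrank₀ : ∀ M : Matrix (Fin n) (Fin n) ↥F₀, (M.map F₀.subtype).rank = M.rank :=
    fun M => Cfsg.Agent.H77.Sub.rank_map_field F₀.subtype M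
  have hrankF : ∀ (f : F →+* F) (M : Matrix (Fin n) (Fin n) F), (M.map f).rank = M.rank :=
    fun f M => Cfsg.Agent.H77.Sub.rank_map_field f M
  constructor
  · intro hL
    by_cases hrk : r = k
    · exact Or.inl hrk
    right
    have key : ∀ M : Matrix (Fin n) (Fin n) F, M.det = 1 →
        (∃ z : F, M ^ r = z • (1 : Matrix (Fin n) (Fin n) F)) →
        (∀ z : F, M ≠ z • (1 : Matrix (Fin n) (Fin n) F)) →
        ∃ (P : Matrix (Fin n) (Fin n) F) (Y₀ : Matrix (Fin n) (Fin n) ↥F₀) (l : F),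
          IsUnit P.det ∧ l ≠ 0 ∧ M * P = P * (l • Y₀.map F₀.subtype) := by
      intro M hdet ⟨z, hz⟩ hns
      obtain ⟨X, hX⟩ : ∃ X : Matrix.SpecialLinearGroup (Fin n) F,
          (X : Matrix (Fin n) (Fin n) F) = M := ⟨⟨M, hdet⟩, rfl⟩
      obtain ⟨P, hP⟩ := hL X
        ⟨z, by rw [Matrix.SpecialLinearGroup.coe_pow, hX]; exact hz⟩ (by rw [hX]; exact hns)
      obtain ⟨Y₀, l, hl, h⟩ := Cfsg.Agent.H99.Sub.subfield_of_mem F₀ X P hP
      rw [hX] at h
      exact ⟨P, Y₀, l, by rw [P.det_coe]; exact isUnit_one, hl, h⟩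
    have h1 := Cfsg.Agent.H36.Sub.val_lt_of_dvd_index F₀ n r hr hΩ
    rw [hqk] at h1
    obtain ⟨hcn, hc₀⟩ := Cfsg.Agent.H14.Sub.order_facts_arith (Nat.card ↥F₀) k n r hq₀ hk hr hr2 hrq₀ h1
    rw [← hqk] at hcn hc₀
    have hc₀' := hc₀ hrk
    by_cases hc2 : 2 ≤ orderOf (Fintype.card F : ZMod r)
    · exfalso
      obtain ⟨M, hdet, hMr, hns, hrk'⟩ :=
        Cfsg.Agent.H69.Ten.exists_one_block_matrix r hr hrF n hc2 hcn
      obtain ⟨P, Y₀, l, hP, hl, h⟩ := key M hdet ⟨1, by rw [hMr, one_smul]⟩ hns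
      have h2 := Cfsg.Agent.H54.Sub.order_dvd_of_conj_subfield F₀ n r hn0 hr hrF hc2 hrank₀ M P hP Y₀ l hl hMr h
      rw [hrk', hc₀'] at h2
      have h3 := Nat.le_of_dvd hcpos h2
      have hk2 := hk.two_le
      nlinarith
    have hc1 : orderOf (Fintype.card F : ZMod r) = 1 := by omega
    rw [hc1, mul_one] at hc₀'
    have hNR : ¬ r ∣ Nat.card ↥F₀ - 1 := by
      intro h
      have h2 := (Cfsg.Agent.H77.Sub.dvd_sub_one_iff_order_one (Nat.card ↥F₀) r hr (by omega)).mp h
      rw [hc₀'] at h2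
      exact hk.one_lt.ne' h2
    obtain ⟨ζ, hζ, hζ1⟩ := Cfsg.Agent.H67.Ten.exists_root_of_unity r hr hrF hc1
    have hζ0 : ζ ≠ 0 := by
      rintro rfl
      rw [zero_pow hr.ne_zero] at hζ
      exact zero_ne_one hζ
    have hζord : orderOf ζ = r := orderOf_eq_prime hζ hζ1
    have keysym : ∀ M : Matrix (Fin n) (Fin n) F, M.det = 1 →
        (∃ z : F, M ^ r = z • (1 : Matrix (Fin n) (Fin n) F)) →
        (∀ z : F, M ≠ z • (1 : Matrix (Fin n) (Fin n) F)) →
        (¬ ∃ τ : F, τ ≠ 0 ∧ ∀ ν : F, (M - ν • (1 : Matrix (Fin n) (Fin n) F)).rank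
          = (M - (τ * ν ^ Nat.card ↥F₀) • (1 : Matrix (Fin n) (Fin n) F)).rank) → False := by
      intro M hdet hz hns hno
      obtain ⟨P, Y₀, l, hP, hl, h⟩ := key M hdet hz hns
      apply hno
      refine ⟨l * (l⁻¹) ^ Nat.card ↥F₀, mul_ne_zero hl (pow_ne_zero _ (inv_ne_zero hl)),
        fun ν => ?_⟩
      have h2 := Cfsg.Agent.H18.Sub.rank_symm_of_conj_subfield F₀ n hrankF M P hP Y₀ l hl h ν
      rw [h2, mul_pow, mul_assoc]
    have hrdvd : r ∣ Fintype.card F - 1 :=
      (Cfsg.Agent.H77.Sub.dvd_sub_one_iff_order_one (Fintype.card F) r hr (by omega)).mpr hc1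
    have hv1 : 1 ≤ padicValNat r (Fintype.card F - 1) :=
      one_le_padicValNat_of_dvd (by omega) hrdvd
    by_cases hn2 : n = 2
    · exfalso
      subst hn2
      by_cases hk2 : k = 2
      · subst hk2
        have hr₀ : r ∣ Nat.card ↥F₀ + 1 :=
          (Cfsg.Agent.H77.Sub.dvd_add_one_iff_order_two (Nat.card ↥F₀) r hr hr2).mpr hc₀'
        exact Cfsg.Agent.H24.Sub.not_dvd_index_two F₀ r hr hr2 hqk hr₀ hΩ
      · have hNR' : ¬ r ∣ Nat.card ↥F₀ + 1 := by
          intro h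
          have h2 := (Cfsg.Agent.H77.Sub.dvd_add_one_iff_order_two (Nat.card ↥F₀) r hr hr2).mp h
          rw [hc₀'] at h2
          exact hk2 h2
        obtain ⟨M, hdet, hMr, hns, hno⟩ := Cfsg.Agent.H77.Sub.exists_witness_E F₀ r hr hr2 hNR hNR' ζ hζ hζ1
        exact keysym M hdet ⟨1, by rw [hMr, one_smul]⟩ hns hno
    have hn3 : 3 ≤ n := by omega
    by_cases hrn : r ∣ n
    swap
    · exfalso
      have h1 : ζ ^ n ≠ 1 := by
        intro h
        apply hrn
        rw [← hζord]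
        exact orderOf_dvd_of_pow_eq_one h
      have hr1 : (ζ ^ n) ^ r = 1 := by
        rw [← pow_mul, mul_comm, pow_mul, hζ, one_pow]
      obtain ⟨M, hdet, hMr, hns, hno⟩ := Cfsg.Agent.H18.Sub.exists_witness_A F₀ n r hn3 hr hNR ζ hζ0 h1 hr1
      exact keysym M hdet ⟨_, hMr⟩ hns hno
    by_cases hnr : n = r
    · by_cases hv2 : 2 ≤ padicValNat r (Fintype.card F - 1)
      · exfalso
        obtain ⟨u, hu2, hu1⟩ := Cfsg.Agent.H77.Sub.exists_order_sq (F := F) r hr hv2
        have hu0 : u ≠ 0 := by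
          rintro rfl
          rw [zero_pow (pow_ne_zero _ hr.ne_zero)] at hu2
          exact zero_ne_one hu2
        have h1 : u ^ n ≠ 1 := by rw [hnr]; exact hu1
        have hr1 : (u ^ n) ^ r = 1 := by rw [hnr, ← pow_mul, ← sq]; exact hu2
        obtain ⟨M, hdet, hMr, hns, hno⟩ := Cfsg.Agent.H18.Sub.exists_witness_A F₀ n r hn3 hr hNR u hu0 h1 hr1
        exact keysym M hdet ⟨_, hMr⟩ hns hno
      · have hv : padicValNat r (Fintype.card F - 1) = 1 := by omega
        by_cases hr35 : r = 3 ∨ r = 5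
        · have hkd : k ∣ r - 1 := by rw [← hc₀']; exact hc₀_dvd
          have hk2 : k = 2 := by
            rcases hr35 with h3 | h5
            · have h4 : r - 1 = 2 := by omega
              rw [h4] at hkd
              exact (Nat.prime_dvd_prime_iff_eq hk Nat.prime_two).mp hkd
            · have h4 : r - 1 = 2 ^ 2 := by omega
              rw [h4] at hkd
              exact (Nat.prime_dvd_prime_iff_eq hk Nat.prime_two).mp (hk.dvd_of_dvd_pow hkd)
          subst hk2
          have hr₀ : r ∣ Nat.card ↥F₀ + 1 :=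
            (Cfsg.Agent.H77.Sub.dvd_add_one_iff_order_two (Nat.card ↥F₀) r hr hr2).mpr hc₀'
          have h3 := Cfsg.Agent.H77.Sub.val_sq_sub_one (Nat.card ↥F₀) r hr hr2 hq₀ hr₀
          rw [← hqk, hv] at h3
          refine ⟨rfl, hnr.symm, ?_, h3.symm⟩
          rcases hr35 with h | h
          · left; omega
          · right; omega
        · exfalso
          have hr3 : r ≠ 3 := fun h => hr35 (Or.inl h)
          have hr5 : r ≠ 5 := fun h => hr35 (Or.inr h)
          have h7 := seven_le_of_prime r hr hr2 hr3 hr5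
          obtain ⟨M, hdet, hMr, hns, hno⟩ :=
            Cfsg.Agent.H18.Sub.exists_witness_C F₀ n r hr hr2 hr3 hNR (by omega) ζ hζ hζ1
          exact keysym M hdet ⟨1, by rw [hMr, one_smul]⟩ hns hno
    · exfalso
      have hrn' : r < n := by
        have h2 := Nat.le_of_dvd hn0 hrn
        omega
      by_cases hn2r : n = 2 * r
      · have hr3 : r ≠ 3 := by
          intro h
          exact hgap ⟨by omega, h⟩
        have h2 := hr.two_le
        obtain ⟨M, hdet, hMr, hns, hno⟩ :=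
          Cfsg.Agent.H18.Sub.exists_witness_C F₀ n r hr hr2 hr3 hNR (by omega) ζ hζ hζ1
        exact keysym M hdet ⟨1, by rw [hMr, one_smul]⟩ hns hno
      · obtain ⟨M, hdet, hMr, hns, hno⟩ := Cfsg.Agent.H77.Sub.exists_witness_B F₀ n r hr hNR hrn' hn2r ζ hζ hζ1
        exact keysym M hdet ⟨1, by rw [hMr, one_smul]⟩ hns hno
  · intro hR x ⟨z, hz⟩ hns
    rw [Matrix.SpecialLinearGroup.coe_pow] at hz
    have hdet : (x : Matrix (Fin n) (Fin n) F).det = 1 := x.det_coe
    have fin : ∀ (y Q : Matrix (Fin n) (Fin n) F) (Y₀ : Matrix (Fin n) (Fin n) ↥F₀) (l : F),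
        l ≠ 0 → (x : Matrix (Fin n) (Fin n) F) = l • y → y ^ r = 1 → IsUnit Q.det →
        y * Q = Q * Y₀.map F₀.subtype →
        ∃ P : Matrix.SpecialLinearGroup (Fin n) F, P⁻¹ * x * P ∈
          ((Cfsg.Geo.subfieldSubgroup F₀ 1).comap (Matrix.SpecialLinearGroup.toGL :
            Matrix.SpecialLinearGroup (Fin n) F →* GL (Fin n) F)) := by
      intro y Q Y₀ l hl hx hy hQ hyQ
      obtain ⟨h, hh, hcomm⟩ :=
        Cfsg.Agent.H16.Sub.exists_commuting_det n r hn0 hr hrF y hy (Q.det)⁻¹ (inv_ne_zero hQ.ne_zero)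
      have hPdet : (h * Q).det = 1 := by
        rw [Matrix.det_mul, hh, inv_mul_cancel₀ hQ.ne_zero]
      obtain ⟨P, hP⟩ : ∃ P : Matrix.SpecialLinearGroup (Fin n) F,
          (P : Matrix (Fin n) (Fin n) F) = h * Q := ⟨⟨h * Q, hPdet⟩, rfl⟩
      refine ⟨P, Cfsg.Agent.H99.Sub.mem_of_subfield F₀ x P Y₀ l hl ?_⟩
      rw [hP, hx, Matrix.smul_mul, ← Matrix.mul_assoc y h Q, ← hcomm, Matrix.mul_assoc h y Q, hyQ,
        Matrix.mul_smul, Matrix.mul_assoc h Q]
    have hred : ∀ lam : F, lam ^ r = z → lam ≠ 0 ∧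
        (lam⁻¹ • (x : Matrix (Fin n) (Fin n) F)) ^ r = 1 ∧
        (x : Matrix (Fin n) (Fin n) F) = lam • (lam⁻¹ • (x : Matrix (Fin n) (Fin n) F)) := by
      intro lam hlam
      have hz0 : z ≠ 0 := by
        rintro rfl
        rw [zero_smul] at hz
        have h1 := congrArg Matrix.det hz
        haveI : Nonempty (Fin n) := ⟨⟨0, hn0⟩⟩
        rw [Matrix.det_pow, hdet, one_pow, Matrix.det_zero] at h1
        exact one_ne_zero h1
      have hlam0 : lam ≠ 0 := by
        rintro rfl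
        rw [zero_pow hr.ne_zero] at hlam
        exact hz0 hlam.symm
      refine ⟨hlam0, ?_, ?_⟩
      · rw [smul_pow, hz, smul_smul, inv_pow, ← hlam, inv_mul_cancel₀ (pow_ne_zero _ hlam0),
          one_smul]
      · rw [smul_inv_smul₀ hlam0]
    rcases hR with hrk | ⟨hk2, hrn, hn35, hvq⟩
    · subst hrk
      by_cases hzpow : ∃ lam : F, lam ^ r = z
      · obtain ⟨lam, hlam⟩ := hzpow
        obtain ⟨hlam0, hy, hxy⟩ := hred lam hlam
        have hT := toLin_pow_eq_one _ r hy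
        obtain ⟨m, w, g, hg, hli, hspan⟩ := Cfsg.Agent.H61.Sub.exists_cyclic_decomposition
          (Matrix.toLin' (lam⁻¹ • (x : Matrix (Fin n) (Fin n) F)) : Module.End F (Fin n → F))
          r hr hrF hT
        have hg' : ∀ s, (g s).Monic ∧ (∀ i, (g s).coeff i ∈ F₀) ∧
            Polynomial.aeval (Matrix.toLin' (lam⁻¹ • (x : Matrix (Fin n) (Fin n) F)) :
              Module.End F (Fin n → F)) (g s) (w s) = 0 := by
          intro s
          obtain ⟨h1, h2, h3, h4⟩ := hg s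
          exact ⟨h1, fun i => Cfsg.Agent.H82.Sub.coeff_mem_of_irreducible_dvd F₀ r hr hqk (g s) h2 h1 h3 i, h4⟩
        obtain ⟨Q, Y₀, hQ, hyQ⟩ := Cfsg.Agent.H82.Sub.exists_rational_form F₀ n _ m w g hg' hli hspan
        exact fin _ Q Y₀ lam hlam0 hxy hy hQ hyQ
      · exfalso
        push Not at hzpow
        have hv : r ∣ Fintype.card F - 1 →
            padicValNat r n ≤ padicValNat r (Fintype.card F - 1) := by
          intro h
          apply hgapk rfl
          rw [Cfsg.Agent.H77.Sub.dvd_sub_one_iff_order_one (Nat.card ↥F₀) r hr (by omega)]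
          have h1 := (Cfsg.Agent.H77.Sub.dvd_sub_one_iff_order_one (Fintype.card F) r hr (by omega)).mp h
          have h2 : (Fintype.card F : ZMod r) = (Nat.card ↥F₀ : ZMod r) := by
            rw [hqk, Nat.cast_pow, ZMod.pow_card]
          rw [← h2]
          exact h1
        exact Cfsg.Agent.H16.Sub.no_kummer_of_val_le n r hn0 hr hr2 hv (x : Matrix (Fin n) (Fin n) F) hdet z
          hzpow hz
    · subst hk2
      subst hrn
      have hr₀ : r ∣ Nat.card ↥F₀ + 1 := by
        apply dvd_of_one_le_padicValNat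
        rw [hvq]
      have hc₀2 := (Cfsg.Agent.H77.Sub.dvd_add_one_iff_order_two (Nat.card ↥F₀) r hr hr2).mp hr₀
      have hc1 : orderOf (Fintype.card F : ZMod r) = 1 := by
        rw [orderOf_eq_one_iff, hqk, Nat.cast_pow]
        have h1 := pow_orderOf_eq_one (Nat.card ↥F₀ : ZMod r)
        rw [hc₀2] at h1
        exact h1
      have hv : padicValNat r (Fintype.card F - 1) = 1 := by
        rw [hqk, Cfsg.Agent.H77.Sub.val_sq_sub_one (Nat.card ↥F₀) r hr hr2 hq₀ hr₀, hvq]
      by_cases hzpow : ∃ lam : F, lam ^ r = z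
      · obtain ⟨lam, hlam⟩ := hzpow
        obtain ⟨hlam0, hy, hxy⟩ := hred lam hlam
        obtain ⟨Q₁, d, hQ₁, hd, hyQ₁⟩ := Cfsg.Agent.H61.Sub.exists_diagonalization r r hr hrF hc1 _ hy
        have hdety : (lam⁻¹ • (x : Matrix (Fin r) (Fin r) F)).det = ∏ i, d i := by
          have h1 := congrArg Matrix.det hyQ₁
          rw [Matrix.det_mul, Matrix.det_mul, Matrix.det_diagonal, mul_comm] at h1
          exact mul_left_cancel₀ hQ₁.ne_zero h1
        have hprodr : (∏ i, d i) ^ r = 1 := by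
          rw [← Finset.prod_pow]
          exact Finset.prod_eq_one (fun i _ => hd i)
        have hzr : z ^ r = 1 := by
          rw [Matrix.det_smul, hdet, mul_one, Fintype.card_fin, inv_pow, hlam] at hdety
          rw [← hdety, inv_pow] at hprodr
          exact inv_eq_one.mp hprodr
        have hlamr : lam ^ r = 1 := by
          apply Cfsg.Agent.H77.Sub.pow_eq_one_of_val_one r hr hv lam
          rw [sq, pow_mul, hlam, hzr]
        have hprod : ∏ i, d i = 1 := by
          rw [← hdety, Matrix.det_smul, hdet, mul_one, Fintype.card_fin, inv_pow, hlamr, inv_one]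
        obtain ⟨ζ, hζ, hζ1⟩ := Cfsg.Agent.H67.Ten.exists_root_of_unity r hr hrF hc1
        have hζ0 : ζ ≠ 0 := by
          rintro rfl
          rw [zero_pow hr.ne_zero] at hζ
          exact zero_ne_one hζ
        obtain ⟨j, hj⟩ := Cfsg.Agent.H36.Sub.exists_symm_shift r hn35 ζ hζ hζ1 d hd hprod
        have hζj0 : ζ ^ j ≠ 0 := pow_ne_zero _ hζ0
        have hζjr : (ζ ^ j) ^ r = 1 := by
          rw [← pow_mul, mul_comm, pow_mul, hζ, one_pow]
        have hd' : ∀ i, (ζ ^ j * d i) ^ r = 1 := by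
          intro i
          rw [mul_pow, hd i, mul_one, hζjr]
        obtain ⟨Q₂, Y₀, hQ₂, hdQ₂⟩ := Cfsg.Agent.H14.Sub.exists_rational_form_of_symm F₀ r r hr hr2 hr₀
          (fun i => ζ ^ j * d i) hd' hj
        have hdiag : Matrix.diagonal (fun i => ζ ^ j * d i) = ζ ^ j • Matrix.diagonal d := by
          rw [← Matrix.diagonal_smul]
          rfl
        refine fin (ζ ^ j • (lam⁻¹ • (x : Matrix (Fin r) (Fin r) F))) (Q₁ * Q₂) Y₀
          (lam * (ζ ^ j)⁻¹) (mul_ne_zero hlam0 (inv_ne_zero hζj0)) ?_ ?_ ?_ ?_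
        · rw [mul_smul, inv_smul_smul₀ hζj0, smul_inv_smul₀ hlam0]
        · rw [smul_pow, hy, hζjr, one_smul]
        · rw [Matrix.det_mul]
          exact hQ₁.mul hQ₂
        · rw [Matrix.smul_mul, ← Matrix.mul_assoc, hyQ₁, Matrix.mul_assoc Q₁ Q₂, ← hdQ₂, hdiag,
            Matrix.smul_mul, Matrix.mul_smul, Matrix.mul_assoc]
      · exfalso
        push Not at hzpow
        have hvn : r ∣ Fintype.card F - 1 →
            padicValNat r r ≤ padicValNat r (Fintype.card F - 1) := by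
          intro _
          rw [hv, padicValNat_self]
        exact Cfsg.Agent.H16.Sub.no_kummer_of_val_le r r hn0 hr hr2 hvn (x : Matrix (Fin r) (Fin r) F) hdet z
          hzpow hz

end Cfsg.Agent.S5965
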