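import Cfsg.Statements.S5973
import Cfsg.Agent.H49.PtMain
import Cfsg.Agent.H49.PtWire
import Cfsg.Agent.H49.PtExTransP
import Cfsg.Agent.H3.CqCntPP
import Cfsg.Agent.H8.TmXAll
import Cfsg.Agent.H63.TmXBlockEx
import Cfsg.Agent.H27.TmXBlockOne
import Cfsg.Agent.H79.TmXPowers
import Cfsg.Agent.H79.TmXSum
import Cfsg.Agent.H87.CqAvg
import Cfsg.Agent.H87.CqPerp
import Cfsg.Agent.H38.CqCardP
import Cfsg.Agent.H86.Ev2Fin
import Cfsg.Agent.H32.Ev2InvExP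
import Cfsg.Agent.H84.PtExProdFix
import Cfsg.Agent.H84.PtExTsProd
import Cfsg.Agent.H84.PtExNonScal
import Cfsg.Agent.H19.PtExMinusProd
import Cfsg.Agent.H3.CqCntPl
import Cfsg.Agent.H25.CqTuples
import Cfsg.Agent.H25.CqExt
import Cfsg.Agent.H14.CqFib
import Cfsg.Agent.H84.CqZPlus
import Cfsg.Agent.H24.TmOrd
import Cfsg.Agent.H35.PtScal
import Cfsg.Agent.H35.PtSign
import Cfsg.Agent.H40.PtMOdd
import Cfsg.Agent.H15.PtMEven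
import Cfsg.Agent.H11.TmQStruct
import Cfsg.Agent.H8.TmQTrick
import Cfsg.Agent.H18.TmComplPlus
import Cfsg.Agent.H3.TmQWitt
import Cfsg.Agent.H28.TmTypeU
import Cfsg.Agent.H28.TmBlockMinus
import Cfsg.Agent.H3.TmMinusSum
import Cfsg.Agent.H19.TmAnisoStd
import Cfsg.Agent.H19.TmAnisoIso
import Cfsg.Agent.H15.PtExOdd
import Cfsg.Agent.H85.PtExEven
import Cfsg.Agent.H85.PtExBridge
import Cfsg.Agent.H28.TmOddMem
import Cfsg.Agent.H19.PtExAnisoEx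
import Cfsg.Agent.Helper55.PtExToMat
import Cfsg.Agent.H20.PtArOddFix
import Cfsg.Agent.H20.PtArOddEx
import Cfsg.Agent.H65.PtArEF
import Cfsg.Agent.H65.PtArEE
import Cfsg.Agent.H86.OtSplit
import Cfsg.Agent.H16.SpdBlock
import Cfsg.Agent.H67.SpdRel
import Cfsg.Agent.H77.SpdHyp
import Cfsg.Agent.H77.SpdFix
import Cfsg.Agent.H77.SpdCompl
import Cfsg.Agent.H18.SpdSum
import Cfsg.Agent.H24.SpdModc
import Cfsg.Agent.H24.SpdSub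
import Cfsg.Agent.H51.SpdDecomp
import Cfsg.Agent.H3.TiPrim
import Cfsg.Agent.H3.TiCompDvd
import Cfsg.Agent.H3.TiIrrSub
import Cfsg.Agent.H3.TiCycSet
import Cfsg.Agent.H3.TiPair
import Cfsg.Agent.H3.TiStepEven
import Cfsg.Agent.H3.TiUpper
import Cfsg.Agent.H72.TiHalf
import Cfsg.Agent.H72.TiPeel
import Cfsg.Agent.H32.TiAnti
import Cfsg.Agent.H14.TiStepOdd
import Cfsg.Agent.H14.TiBuild
import Cfsg.Agent.H16.TiHypClose
import Cfsg.Agent.H16.TiCompNd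
import Cfsg.Agent.H60.TiUpperEven

set_option autoImplicit false
open scoped MatrixGroups
open Cfsg

namespace Cfsg.Agent.S5973

/-- Elements of prime order of PΩ⁺_n(q), n = 2d ≥ 8, with no fixed totally singular `m`-space, `m < n/2`. Here `T = PΩ⁺_n(q)` is realised through `Ω⁺_n(q)`, the commutator subgroup of the isometry group of the quadratic form `Σ xᵢyᵢ` over the field `F` with `q` elements; an element of `T` of prime order `r` is an element `x` of `Ω⁺_n(q)` with `x^r` scalar and `x` not scalar. Let `1 ≤ m < d` and let `r` be a prime dividing the number of totally singular `m`-spaces. For `r ≠ p` let `i` be the multiplicative order of `q` modulo `r`, `c = i` for `i` even and `c = 2i` for `i` odd, and write `k = n mod c`, `ℓ = m mod i`, `n' = ⌊n/i⌋`, `m' = ⌊m/i⌋`, `t = (r−1)/i`. Then every element of `T` of order `r` fixes some totally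 singular `m`-space if and only if one of: (i) `r = 2 ≠ p` and either `q ≡ 1 (mod 4)`, or `q ≡ 3 (mod 4)`, `m ≤ n/2 − 2` and (`m` even or `n ≡ 2 (mod 4)`); (ii) `r ≠ p` odd, `i` odd, `i ≤ m` and `k ≥ 2ℓ`; (iii) `r ≠ p` odd, `i` even, `i ≤ m`, `n' − 2m' ≥ t`, and one of: `i ≥ 2ℓ`, `k = 0`, `n/i` odd and `n' − 2m' > t`; or `k ≥ 2ℓ` and `n'` even; or `k > 2ℓ` and `n'` odd. -/
theorem result {F : Type*} [Field F] [Fintype F] {p : ℕ} [Fact p.Prime] [CharP F p] {q : ℕ} (hq : Fintype.card F = q)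
    (d m : ℕ) (hd : 4 ≤ d) (hm : 1 ≤ m) (hmd : m < d)
    (r : ℕ) [Fact r.Prime]
    (hrΩ : r ∣ Nat.card {W : Submodule F (Fin d ⊕ Fin d → F) // Module.finrank F ↥W = m ∧ (∀ w ∈ W, Cfsg.quadFormPlus d F w = 0)})
    (i c : ℕ) (hi : i = orderOf (q : ZMod r)) (hc : c = if Even i then i else 2 * i) :
    (∀ x : GL (Fin d ⊕ Fin d) F, x ∈ Cfsg.Geo.omegaGL (Cfsg.quadFormPlus d F) →
      (∃ z : F, ((x ^ r : GL (Fin d ⊕ Fin d) F) : Matrix (Fin d ⊕ Fin d) (Fin d ⊕ Fin d) F) = z • (1 : Matrix (Fin d ⊕ Fin d) (Fin d ⊕ Fin d) F)) →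
      (∀ z : F, (x : Matrix (Fin d ⊕ Fin d) (Fin d ⊕ Fin d) F) ≠ z • (1 : Matrix (Fin d ⊕ Fin d) (Fin d ⊕ Fin d) F)) →
      ∃ W : Submodule F (Fin d ⊕ Fin d → F), Module.finrank F ↥W = m ∧ (∀ w ∈ W, Cfsg.quadFormPlus d F w = 0) ∧
        W.map (Matrix.toLin' (x : Matrix (Fin d ⊕ Fin d) (Fin d ⊕ Fin d) F)) ≤ W) ↔
    ((r = 2 ∧ p ≠ 2 ∧ (q % 4 = 1 ∨ (q % 4 = 3 ∧ m + 2 ≤ d ∧ (Even m ∨ (2 * d) % 4 = 2)))) ∨
     (r ≠ p ∧ 2 < r ∧ Odd i ∧ i ≤ m ∧ 2 * (m % i) ≤ (2 * d) % c) ∨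
     (r ≠ p ∧ 2 < r ∧ Even i ∧ i ≤ m ∧ (r - 1) / i + 2 * (m / i) ≤ (2 * d) / i ∧
       ((2 * (m % i) ≤ i ∧ (2 * d) % c = 0 ∧ Odd ((2 * d) / i) ∧ (r - 1) / i + 2 * (m / i) < (2 * d) / i) ∨
        (2 * (m % i) ≤ (2 * d) % c ∧ Even ((2 * d) / i)) ∨
        (2 * (m % i) < (2 * d) % c ∧ Odd ((2 * d) / i))))) := by
  -- Spd / Ti / Ot generic pieces
  have hBlockRel := Cfsg.Agent.H67.Spd.blockRel Cfsg.Agent.H16.Spd.block
  have hModc := Cfsg.Agent.H24.Spd.modc hBlockRel Cfsg.Agent.H77.Spd.fix Cfsg.Agent.H77.Spd.compl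
  have hSub := Cfsg.Agent.H24.Spd.sub hBlockRel Cfsg.Agent.H77.Spd.hyp Cfsg.Agent.H77.Spd.fix
    Cfsg.Agent.H77.Spd.compl Cfsg.Agent.H18.Spd.sum
  have hDecomp := Cfsg.Agent.H51.Spd.decomp hSub hModc Cfsg.Agent.H77.Spd.compl
  have hCyc := Cfsg.Agent.H3.Ti.cycSet
  have hUpper := Cfsg.Agent.H3.Ti.tiUpper Cfsg.Agent.H72.Ti.tiHalf
  have hPrim := Cfsg.Agent.H3.Ti.tiPrim Cfsg.Agent.H3.Ti.cycSet
  have hUpperEven := Cfsg.Agent.H60.Ti.tiUpperEven Cfsg.Agent.H3.Ti.cycSet hPrim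
    Cfsg.Agent.H3.Ti.tiCompDvd Cfsg.Agent.H16.Ti.tiCompNd Cfsg.Agent.H72.Ti.tiHalf
  have hHypClose := Cfsg.Agent.H16.Ti.tiHypClose Cfsg.Agent.H3.Ti.tiCompDvd Cfsg.Agent.H3.Ti.tiIrrSub
  have hPair := Cfsg.Agent.H3.Ti.tiPair Cfsg.Agent.H3.Ti.tiCompDvd Cfsg.Agent.H3.Ti.tiIrrSub
    hHypClose Cfsg.Agent.H32.Ti.tiAnti
  have hStepEven := Cfsg.Agent.H3.Ti.tiStepEven Cfsg.Agent.H3.Ti.cycSet hPrim
    Cfsg.Agent.H3.Ti.tiCompDvd Cfsg.Agent.H16.Ti.tiCompNd hPair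
  have hBuild := Cfsg.Agent.H14.Ti.tiBuild Cfsg.Agent.H72.Ti.tiPeel Cfsg.Agent.H14.Ti.tiStepOdd
    hStepEven
  have hOSplit := Cfsg.Agent.H86.Ot.oSplit
  -- generic quadratic pieces (helper77's S5987 project)
  have hQT := Cfsg.Agent.H8.Tm.qTrick
  have hQS := Cfsg.Agent.H11.Tm.qStruct hQT hOSplit hModc hUpper hUpperEven
    Cfsg.Agent.H72.Ti.tiHalf hBuild
  have hCP := Cfsg.Agent.H18.Tm.complPlus
  have hQW := Cfsg.Agent.H3.Tm.qWitt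
  have hMS := Cfsg.Agent.H3.Tm.minusSum Cfsg.Agent.H19.Tm.anisoStd Cfsg.Agent.H19.Tm.anisoIso
  have hTU := Cfsg.Agent.H28.Tm.typeU hQT hDecomp Cfsg.Agent.H28.Tm.blockMinus' hMS hCP
  have hOM := Cfsg.Agent.H28.Tm.oddMemAll
  -- count
  have hCqT := Cfsg.Agent.H25.Cq.tuples
    (Cfsg.Agent.H25.Cq.ext (Cfsg.Agent.H87.Cq.avg Cfsg.Agent.H87.Cq.perp))
  have hCardP := Cfsg.Agent.H38.Cq.cardP hCqT Cfsg.Agent.H14.Cq.fib Cfsg.Agent.H84.Cq.zPlus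
  have hCntP := Cfsg.Agent.H49.Pt.cntP_of (Cfsg.Agent.H3.Cq.cntPP hCardP)
  have hCnt := Cfsg.Agent.H49.Pt.cnt_of (Cfsg.Agent.H3.Cq.cntPl hCardP)
  -- sign, r = 2
  have hSign := Cfsg.Agent.H35.Pt.sign Cfsg.Agent.H35.Pt.scal
  have hTwo := Cfsg.Agent.H49.Pt.two_of_r2 (Cfsg.Agent.H86.Ev2.fin_r2P73_of
    (Cfsg.Agent.H32.Ev2.invExP Cfsg.Agent.H86.Ev2.fin_sumType Cfsg.Agent.H86.Ev2.fin_oHalf))
  -- structure
  have hMOdd := Cfsg.Agent.H40.Pt.mOdd hQS hCP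
  have hMEven := Cfsg.Agent.H15.Pt.mEven hQS hQW hTU hCP
  -- existence
  have hModAll := Cfsg.Agent.H8.Tm.modAll
    (Cfsg.Agent.H63.Tm.blockEx Cfsg.Agent.H27.Tm.blockOne Cfsg.Agent.H79.Tm.powers)
    Cfsg.Agent.H79.Tm.modSum
  have hExEven := Cfsg.Agent.H85.PtEx.exEven_of hCyc hModAll Cfsg.Agent.H19.PtEx.anisoEx
    Cfsg.Agent.H49.PtEx.transP Cfsg.Agent.H84.PtEx.prodFix Cfsg.Agent.H84.PtEx.tsProd
    (Cfsg.Agent.H19.PtEx.minusProd hMS) Cfsg.Agent.Helper55.PtEx.toMat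
    Cfsg.Agent.H84.PtEx.nonScal hTU hOM
  exact Cfsg.Agent.H49.Pt.pt_main hCntP hCnt Cfsg.Agent.H24.Tm.ord hSign hTwo hMOdd hMEven
    Cfsg.Agent.H15.Pt.exOdd hExEven Cfsg.Agent.H20.Pt.arOddFix Cfsg.Agent.H20.Pt.arOddEx
    Cfsg.Agent.H65.Pt.arEvenFix Cfsg.Agent.H65.Pt.arEvenEx hCyc hq d m hd hm hmd r hrΩ i c hi hc

end Cfsg.Agent.S5973
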