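import Cfsg.Statements.S5975
import Cfsg.Agent.H77.FxMain
import Cfsg.Agent.H77.FxStruct
import Cfsg.Agent.H77.FxEmb
import Cfsg.Agent.H77.FxMinEl
import Cfsg.Agent.H77.FxConj1
import Cfsg.Agent.H14.FxSympBasis
import Cfsg.Agent.H15.FxTrForm
import Cfsg.Agent.H15.FxConjK
import Cfsg.Agent.H15.FxInvA
import Cfsg.Agent.H15.FxInvB
import Cfsg.Agent.H89.FxInvol
import Cfsg.Agent.H54.FxAut
import Cfsg.Agent.H18.FxTransv
import Cfsg.Agent.H18.FxIdx
import Cfsg.Agent.H15.FxKDim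
import Cfsg.Agent.H54.FxSemi
import Cfsg.Agent.H51.FxConj2
import Cfsg.Agent.H89.FxKDvd

set_option autoImplicit false
open scoped MatrixGroups
open scoped Matrix
open Cfsg

namespace Cfsg.Agent.S5975

/-- Elements of prime order of PSp_n(q) and the field-extension subgroups of type Sp_{n/k}(q^k). Here `T = PSp_{2d}(F)` for a field `F` with `q` elements (`d ≥ 2`, `(d, q) ≠ (2, 2)`), realised through the matrices preserving the standard alternating form `f`; `k` is a prime and `K` is a subalgebra of the `2d × 2d` matrices that is a field of degree `k` over `F` whose elements are self-adjoint for `f` and satisfy `f(a v, v) = 0` (so `F^{2d}` becomes a vector space over `K ≅ F_{q^k}` on which `f` is the trace of a `K`-bilinear alternating form); `H` is the subgroup of `T` normalizing `K` — the symplectic maps that are `K`-linear or `K`-semilinear, a subgroup of type Sp_{2d/k}(q^k) (maximality is not assumed). Ω is the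 set of cosets of `H` in `T`, so an element of `T` of prime order `r` (`x ∈ T` with `x^r` scalar, `x` not scalar) fixes a point of Ω exactly when some `T`-conjugate of `x` normalizes `K`. Let `r` be a prime dividing the index of `H`. Then every element of `T` of order `r` fixes a point of Ω if and only if `r = 2`, `d = 2`, `k = 2` and `q` is odd. -/
theorem result {F : Type*} [Field F] [Fintype F] {p : ℕ} [Fact p.Prime] [CharP F p] {q : ℕ} (hq : Fintype.card F = q)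
    (d : ℕ) (hd : 2 ≤ d) (hT : (d, q) ≠ (2, 2)) (k : ℕ) (hk : k.Prime)
    (K : Subalgebra F (Matrix (Fin d ⊕ Fin d) (Fin d ⊕ Fin d) F)) (hK : Cfsg.Geo.IsFieldSubalgebra k K)
    (hKf : Cfsg.Geo.IsSelfAdjointFor (Cfsg.sympForm d F) K) (hKalt : ∀ a ∈ K, ∀ v : Fin d ⊕ Fin d → F, Cfsg.sympForm d F (a *ᵥ v) v = 0)
    (r : ℕ) [Fact r.Prime]
    (hΩ : r ∣ (Cfsg.Geo.subalgebraNormalizer K).relIndex (Cfsg.spGL d F)) :
    (∀ x ∈ Cfsg.spGL d F, (∃ z : F, ((x ^ r : GL (Fin d ⊕ Fin d) F) : Matrix (Fin d ⊕ Fin d) (Fin d ⊕ Fin d) F) = z • (1 : Matrix (Fin d ⊕ Fin d) (Fin d ⊕ Fin d) F)) →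
      (∀ z : F, (x : Matrix (Fin d ⊕ Fin d) (Fin d ⊕ Fin d) F) ≠ z • (1 : Matrix (Fin d ⊕ Fin d) (Fin d ⊕ Fin d) F)) →
      ∃ g ∈ Cfsg.spGL d F, g⁻¹ * x * g ∈ Cfsg.Geo.subalgebraNormalizer K) ↔
    (r = 2 ∧ d = 2 ∧ k = 2 ∧ Odd q) := by
  have hS := Cfsg.Agent.H77.Fx.struct Cfsg.Agent.H15.Fx.trForm Cfsg.Agent.H14.Fx.sympBasis
  exact Cfsg.Agent.H77.Fx.fx_main Cfsg.Agent.H89.Fx.kDvd Cfsg.Agent.H15.Fx.kDim Cfsg.Agent.H54.Fx.semi
    Cfsg.Agent.H54.Fx.aut Cfsg.Agent.H15.Fx.conjK (Cfsg.Agent.H77.Fx.emb hS)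
    (Cfsg.Agent.H15.Fx.invA hS) (Cfsg.Agent.H15.Fx.invB hS) Cfsg.Agent.H77.Fx.conj1
    Cfsg.Agent.H51.Fx.conj2 Cfsg.Agent.H18.Fx.transv Cfsg.Agent.H89.Fx.invol
    Cfsg.Agent.H77.Fx.minEl Cfsg.Agent.H18.Fx.idx hq d hd k hk K hK hKf hKalt r hΩ

end Cfsg.Agent.S5975
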