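import Cfsg.Statements.S5977
import Cfsg.Agent.Lib.Helper96.TqPlusMain
import Cfsg.Agent.Lib.Helper96.TqPlusSemi
import Cfsg.Agent.H27.TqDiag
import Cfsg.Agent.H77.TqStruct
import Cfsg.Agent.H77.TqLin
import Cfsg.Agent.H27.TqNormSq
import Cfsg.Agent.H40.TqPlane
import Cfsg.Agent.H98.TqOrdDiagOdd
import Cfsg.Agent.H3.TqArithCC
import Cfsg.Agent.H11.TqAutG
import Cfsg.Agent.H40.TqRankTwo
import Cfsg.Agent.H3.TqKBound
import Cfsg.Agent.H36.TqSq
import Cfsg.Agent.H36.TqARank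
import Cfsg.Agent.H32.TqAModel
import Cfsg.Agent.H3.TqAConjO
import Cfsg.Agent.H48.TqAdjA
import Cfsg.Agent.H24.TqTypeA
import Cfsg.Agent.H48.TqBAdapt
import Cfsg.Agent.H25.TqBConjO
import Cfsg.Agent.H48.TqpCosets
import Cfsg.Agent.H18.TqpDisc
import Cfsg.Agent.H85.TqpBCond
import Cfsg.Agent.H98.TqpOrdDiagEven
import Cfsg.Agent.H85.TqpCentOrd
import Cfsg.Agent.H85.TqpArithOrd
import Cfsg.Agent.H24.TqpKOrd
import Cfsg.Agent.H24.TqpIdx
import Cfsg.Agent.H98.TqpSiegel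
import Cfsg.Agent.H28.TqpMinElOdd
import Cfsg.Agent.H48.TqpEmb
import Cfsg.Agent.H4.TqpMinElEven
import Cfsg.Agent.H18.TqpReflN

set_option autoImplicit false
open scoped MatrixGroups
open Cfsg

namespace Cfsg.Agent.S5977

/-- Elements of prime order of PΩ⁺_n(q), q odd, and the field-extension subgroups of degree 2 (orthogonal type over F_{q²}). Here `T = PΩ⁺_{2d}(F)` for a field `F` with `q` elements, `q` odd, `d ≥ 4`, realised through `Ω⁺_{2d}(q)`, the commutator subgroup of the isometry group of `Q = Σ xᵢyᵢ`, with polar form `B`; `K` is a subalgebra of the `2d × 2d` matrices that is a field of degree 2 over `F` whose elements are self-adjoint for `B` (so `F^{2d}` becomes a `d`-dimensional space over `K ≅ F_{q²}` on which `B` is the trace of a `K`-bilinear symmetric form); `H` is the subgroup of `Ω⁺_{2d}(q)` normalizing `K` — the elements of `Ω⁺_{2d}(q)` that are `K`-linear or `K`-semilinear,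 a subgroup of orthogonal type over the quadratic extension (maximality is not assumed). Ω is the set of cosets of `H`, so an element of `T` of prime order `r` (`x ∈ Ω⁺_{2d}(q)` with `x^r` scalar, `x` not scalar) fixes a point of Ω exactly when some `Ω⁺_{2d}(q)`-conjugate of `x` normalizes `K`. Let `r` be a prime dividing the index of `H`. Then every element of `T` of order `r` fixes a point of Ω if and only if `r = 2`. -/
theorem result {F : Type*} [Field F] [Fintype F] {p : ℕ} [Fact p.Prime] [CharP F p] {q : ℕ} (hq : Fintype.card F = q)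
    (hodd : Odd q) (d : ℕ) (hd : 4 ≤ d)
    (K : Subalgebra F (Matrix (Fin d ⊕ Fin d) (Fin d ⊕ Fin d) F)) (hK : Cfsg.Geo.IsFieldSubalgebra 2 K)
    (hKf : Cfsg.Geo.IsSelfAdjointFor (QuadraticMap.polar (Cfsg.quadFormPlus d F)) K)
    (r : ℕ) [Fact r.Prime]
    (hΩ : r ∣ (Cfsg.Geo.subalgebraNormalizer K).relIndex (Cfsg.Geo.omegaGL (Cfsg.quadFormPlus d F))) :
    (∀ x ∈ Cfsg.Geo.omegaGL (Cfsg.quadFormPlus d F), (∃ z : F, ((x ^ r : GL (Fin d ⊕ Fin d) F) : Matrix (Fin d ⊕ Fin d) (Fin d ⊕ Fin d) F) = z • (1 : Matrix (Fin d ⊕ Fin d) (Fin d ⊕ Fin d) F)) →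
      (∀ z : F, (x : Matrix (Fin d ⊕ Fin d) (Fin d ⊕ Fin d) F) ≠ z • (1 : Matrix (Fin d ⊕ Fin d) (Fin d ⊕ Fin d) F)) →
      ∃ g ∈ Cfsg.Geo.omegaGL (Cfsg.quadFormPlus d F), g⁻¹ * x * g ∈ Cfsg.Geo.subalgebraNormalizer K) ↔ r = 2 := by
  have hDiag := Cfsg.Agent.H27.Tq.diag.{u_1}
  have hStruct := Cfsg.Agent.H77.Tq.struct hDiag
  have hLin := Cfsg.Agent.H77.Tq.lin.{u_1}
  have hLift := Cfsg.Agent.H77.Tq.lift.{u_1}
  have hNormSq := Cfsg.Agent.H27.Tq.normSq.{u_1}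
  have hPlane := Cfsg.Agent.H40.Tq.plane hNormSq
  have hOrdOdd := Cfsg.Agent.H98.Tq.ordDiagOdd.{u_1}
  have hArithCC := Cfsg.Agent.H3.Tq.arithCC
  have hAutG := Cfsg.Agent.H11.Tq.autG.{u_1}
  have hRankTwo := Cfsg.Agent.H40.Tq.rankTwo.{u_1}
  have hKBound := Cfsg.Agent.H3.Tq.kBound hStruct hLin
  have hSqMem := Cfsg.Agent.H36.Tq.sqMem.{u_1}
  have hOddMem := Cfsg.Agent.H36.Tq.oddMem.{u_1}
  have hARank := Cfsg.Agent.H36.Tq.aRank.{u_1}
  have hAModel := Cfsg.Agent.H32.Tq.aModel hStruct hLift hPlane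
  have hAConjO := Cfsg.Agent.H3.Tq.aConjO hDiag
  have hAdjA := Cfsg.Agent.H48.Tq.adjA.{u_1}
  have hTypeA := Cfsg.Agent.H24.Tq.typeA hARank hAModel hAConjO hAdjA
  have hBAdapt := Cfsg.Agent.H48.Tq.bAdapt.{u_1}
  have hBConjO := Cfsg.Agent.H25.Tq.bConjO hBAdapt
  -- plus-specific pieces
  have hSemiPl := Cfsg.Agent.Lib.Helper96.TqP.semiPl.{u_1}
  have hReflN := Cfsg.Agent.H18.Tqp.reflN.{u_1}
  have hCosets := Cfsg.Agent.H48.Tqp.cosets.{u_1}
  have hDiscP := Cfsg.Agent.H18.Tqp.discP hNormSq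
  have hBCondP := Cfsg.Agent.H85.Tqp.bCondP hBAdapt
  have hOrdEvenP := Cfsg.Agent.H98.Tqp.ordDiagEvenP.{u_1}
  have hCentOrdP := Cfsg.Agent.H85.Tqp.centOrdP hStruct hLift hDiscP hOrdOdd hOrdEvenP
  have hArithOrdP := Cfsg.Agent.H85.Tqp.arithOrdP
  have hKOrdP := Cfsg.Agent.H24.Tqp.kOrdP hCentOrdP hArithOrdP hSqMem
  have hIdxP := Cfsg.Agent.H24.Tqp.idxP hKOrdP
  have hSiegelP := Cfsg.Agent.H98.Tqp.siegelP hOddMem
  have hMinOddP := Cfsg.Agent.H28.Tqp.minElOddP hOddMem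
  have hEmbMP := Cfsg.Agent.H48.Tqp.embMP.{u_1}
  have hMinEvenP := Cfsg.Agent.H4.Tqp.minElEvenP hEmbMP hOddMem
  have hFwdP := Cfsg.Agent.Lib.Helper96.TqP.fwdP hSiegelP hAutG hRankTwo hIdxP hMinOddP hMinEvenP
    hKBound hArithCC
  have hTypeBP := Cfsg.Agent.Lib.Helper96.TqP.typeBP hBCondP hStruct hDiscP hSemiPl hReflN hCosets
    hBConjO
  exact Cfsg.Agent.Lib.Helper96.TqP.tqp_main hFwdP hTypeA hTypeBP hq hodd d hd K hK hKf r hΩ

end Cfsg.Agent.S5977
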