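import Cfsg.Statements.S5978
import Cfsg.Agent.H77.TqMain
import Cfsg.Agent.H77.TqStruct
import Cfsg.Agent.H77.TqLin
import Cfsg.Agent.H77.TqSiegel
import Cfsg.Agent.H77.TqAdjB
import Cfsg.Agent.H3.TqFwd
import Cfsg.Agent.H3.TqKBound
import Cfsg.Agent.H3.TqArithOrd
import Cfsg.Agent.H3.TqArithCC
import Cfsg.Agent.H11.TqAutG
import Cfsg.Agent.H40.TqRankTwo
import Cfsg.Agent.H40.TqPlane
import Cfsg.Agent.H40.TqDisc
import Cfsg.Agent.H40.TqSemi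
import Cfsg.Agent.H25.TqIdx
import Cfsg.Agent.H25.TqKOrd
import Cfsg.Agent.H25.TqBCond
import Cfsg.Agent.H25.TqBConjO
import Cfsg.Agent.H32.TqCentOrd
import Cfsg.Agent.H32.TqAModel
import Cfsg.Agent.H27.TqDiag
import Cfsg.Agent.H27.TqNormSq
import Cfsg.Agent.H98.TqOrdDiagOdd
import Cfsg.Agent.H98.TqOrdDiagEven
import Cfsg.Agent.H36.TqSq
import Cfsg.Agent.H36.TqARank
import Cfsg.Agent.H28.TqMinElOdd
import Cfsg.Agent.H4.TqMinElEven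
import Cfsg.Agent.H24.TqTypeA
import Cfsg.Agent.H24.TqTypeB
import Cfsg.Agent.H48.TqAdjA
import Cfsg.Agent.H48.TqBAdapt
import Cfsg.Agent.H3.TqAConjO

set_option autoImplicit false
open scoped MatrixGroups
open Cfsg

namespace Cfsg.Agent.S5978

/-- Elements of prime order of PΩ⁻_n(q), q odd, and the field-extension subgroups of degree 2 (orthogonal type over F_{q²}). Here `T = PΩ⁻_{2d}(F)` for a field `F` with `q` elements, `q` odd, `d ≥ 4`, realised through `Ω⁻_{2d}(q)`, the commutator subgroup of the isometry group of `Q = Σ_{i<d−1} xᵢyᵢ + z₁² + a z₁z₂ + b z₂²` with `z₁² + a z₁z₂ + b z₂²` anisotropic, with polar form `B`; `K` is a subalgebra of the `2d × 2d` matrices that is a field of degree 2 over `F` whose elements are self-adjoint for `B` (so `F^{2d}` becomes a `d`-dimensional space over `K ≅ F_{q²}` on which `B` is the trace of a `K`-bilinear symmetric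 form); `H` is the subgroup of `Ω⁻_{2d}(q)` normalizing `K` — the elements of `Ω⁻_{2d}(q)` that are `K`-linear or `K`-semilinear, a subgroup of orthogonal type over the quadratic extension (maximality is not assumed). Ω is the set of cosets of `H`, so an element of `T` of prime order `r` (`x ∈ Ω⁻_{2d}(q)` with `x^r` scalar, `x` not scalar) fixes a point of Ω exactly when some `Ω⁻_{2d}(q)`-conjugate of `x` normalizes `K`. Let `r` be a prime dividing the index of `H`. Then every element of `T` of order `r` fixes a point of Ω if and only if `r = 2`. -/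
theorem result {F : Type*} [Field F] [Fintype F] {p : ℕ} [Fact p.Prime] [CharP F p] {q : ℕ} (hq : Fintype.card F = q)
    (hodd : Odd q) (d : ℕ) (hd : 4 ≤ d) (a b : F) (hab : ∀ x y : F, x ^ 2 + a * x * y + b * y ^ 2 = 0 → x = 0 ∧ y = 0)
    (K : Subalgebra F (Matrix ((Fin (d - 1) ⊕ Fin (d - 1)) ⊕ Fin 2) ((Fin (d - 1) ⊕ Fin (d - 1)) ⊕ Fin 2) F)) (hK : Cfsg.Geo.IsFieldSubalgebra 2 K)
    (hKf : Cfsg.Geo.IsSelfAdjointFor (QuadraticMap.polar (Cfsg.quadFormMinus (d - 1) F a b)) K)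
    (r : ℕ) [Fact r.Prime]
    (hΩ : r ∣ (Cfsg.Geo.subalgebraNormalizer K).relIndex (Cfsg.Geo.omegaGL (Cfsg.quadFormMinus (d - 1) F a b))) :
    (∀ x ∈ Cfsg.Geo.omegaGL (Cfsg.quadFormMinus (d - 1) F a b), (∃ z : F, ((x ^ r : GL ((Fin (d - 1) ⊕ Fin (d - 1)) ⊕ Fin 2) F) : Matrix ((Fin (d - 1) ⊕ Fin (d - 1)) ⊕ Fin 2) ((Fin (d - 1) ⊕ Fin (d - 1)) ⊕ Fin 2) F) = z • (1 : Matrix ((Fin (d - 1) ⊕ Fin (d - 1)) ⊕ Fin 2) ((Fin (d - 1) ⊕ Fin (d - 1)) ⊕ Fin 2) F)) →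
      (∀ z : F, (x : Matrix ((Fin (d - 1) ⊕ Fin (d - 1)) ⊕ Fin 2) ((Fin (d - 1) ⊕ Fin (d - 1)) ⊕ Fin 2) F) ≠ z • (1 : Matrix ((Fin (d - 1) ⊕ Fin (d - 1)) ⊕ Fin 2) ((Fin (d - 1) ⊕ Fin (d - 1)) ⊕ Fin 2) F)) →
      ∃ g ∈ Cfsg.Geo.omegaGL (Cfsg.quadFormMinus (d - 1) F a b), g⁻¹ * x * g ∈ Cfsg.Geo.subalgebraNormalizer K) ↔ r = 2 := by
  exact Cfsg.Agent.H77.Tq.tq_main
    (Cfsg.Agent.H3.Tq.fwd Cfsg.Agent.H77.Tq.siegelM Cfsg.Agent.H11.Tq.autG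
      Cfsg.Agent.H40.Tq.rankTwo
      (Cfsg.Agent.H25.Tq.idx
        (Cfsg.Agent.H25.Tq.kOrd
          (Cfsg.Agent.H32.Tq.centOrd (Cfsg.Agent.H77.Tq.struct Cfsg.Agent.H27.Tq.diag)
            Cfsg.Agent.H77.Tq.lift (Cfsg.Agent.H40.Tq.disc Cfsg.Agent.H27.Tq.normSq)
            Cfsg.Agent.H98.Tq.ordDiagOdd Cfsg.Agent.H98.Tq.ordDiagEven)
          Cfsg.Agent.H3.Tq.arithOrd Cfsg.Agent.H36.Tq.sqMem))
      (Cfsg.Agent.H28.Tq.minElOdd Cfsg.Agent.H36.Tq.oddMem)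
      (Cfsg.Agent.H4.Tq.minElEven Cfsg.Agent.H36.Tq.oddMem)
      (Cfsg.Agent.H3.Tq.kBound (Cfsg.Agent.H77.Tq.struct Cfsg.Agent.H27.Tq.diag)
        Cfsg.Agent.H77.Tq.lin)
      Cfsg.Agent.H3.Tq.arithCC)
    (Cfsg.Agent.H24.Tq.typeA Cfsg.Agent.H36.Tq.aRank
      (Cfsg.Agent.H32.Tq.aModel (Cfsg.Agent.H77.Tq.struct Cfsg.Agent.H27.Tq.diag)
        Cfsg.Agent.H77.Tq.lift (Cfsg.Agent.H40.Tq.plane Cfsg.Agent.H27.Tq.normSq))
      (Cfsg.Agent.H3.Tq.aConjO Cfsg.Agent.H27.Tq.diag) Cfsg.Agent.H48.Tq.adjA)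
    (Cfsg.Agent.H24.Tq.typeB (Cfsg.Agent.H25.Tq.bCond Cfsg.Agent.H48.Tq.bAdapt)
      (Cfsg.Agent.H77.Tq.struct Cfsg.Agent.H27.Tq.diag)
      (Cfsg.Agent.H40.Tq.disc Cfsg.Agent.H27.Tq.normSq) Cfsg.Agent.H40.Tq.semi
      (Cfsg.Agent.H25.Tq.bConjO Cfsg.Agent.H48.Tq.bAdapt)
      (Cfsg.Agent.H77.Tq.adjB Cfsg.Agent.H48.Tq.bAdapt))
    hq hodd d hd a b hab K hK hKf r hΩ

end Cfsg.Agent.S5978
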