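import Cfsg.Statements.S5980
import Cfsg.Agent.H77.TpMain
import Cfsg.Agent.H77.TpGlue
import Cfsg.Agent.H77.TpConjInv
import Cfsg.Agent.H77.TpIdxLe
import Cfsg.Agent.H77.FxMinEl
import Cfsg.Agent.H51.FxConj2
import Cfsg.Agent.H18.FxTransv
import Cfsg.Agent.H89.FxInvol
import Cfsg.Agent.H70.TpTri
import Cfsg.Agent.H70.TpOrthInv
import Cfsg.Agent.H11.TpVec
import Cfsg.Agent.H3.TpGen
import Cfsg.Agent.H3.TpArith
import Cfsg.Agent.H3.TpKronOne
import Cfsg.Agent.H3.TpIntwMat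
import Cfsg.Agent.H27.TpIntwLin
import Cfsg.Agent.H13.TpGram
import Cfsg.Agent.H13.TpForm
import Cfsg.Agent.H40.TpLift
import Cfsg.Agent.H40.TpInvModel
import Cfsg.Agent.H69.TpParity
import Cfsg.Agent.H4.TpOdd
import Cfsg.Agent.H4.TpNeg

set_option autoImplicit false
open scoped MatrixGroups
open Cfsg

namespace Cfsg.Agent.S5980

/-- Elements of prime order of PSp_n(q), q odd, and the stabilizers of tensor decompositions Sp_a(q) ⊗ O_b(q). Here `T = PSp_{2d}(F)` for a field `F` with `q` elements, `q` odd, `d ≥ 2`, realised through the matrices preserving the standard alternating form `f`; `2d = a·b` with `a` even, `b ≥ 3`, and the bijection `e` and change of basis `P` exhibit `f` as a non-zero scalar multiple of the tensor product of a non-degenerate alternating form `f₁` on `F^a` and a non-degenerate symmetric bilinear form `f₂` on `F^b`; `H` is the subgroup of `T` stabilizing this tensor decomposition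 (the elements of `T` in the conjugate by `P` of the group of Kronecker products) — a subgroup of type Sp_a(q) ⊗ O^ε_b(q) (maximality is not assumed). Ω is the set of cosets of `H` in `T`, so an element of `T` of prime order `r` (`x ∈ T` with `x^r` scalar, `x` not scalar) fixes a point of Ω exactly when some `T`-conjugate of `x` lies in `H`. Let `r` be a prime dividing the index of `H`. Then every element of `T` of order `r` fixes a point of Ω if and only if `r = 2` and `a = 2`. -/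
theorem result {F : Type*} [Field F] [Fintype F] {p : ℕ} [Fact p.Prime] [CharP F p] {q : ℕ} (hq : Fintype.card F = q)
    (hodd : Odd q) (d : ℕ) (hd : 2 ≤ d) (a b : ℕ) (hab : 2 * d = a * b) (ha : Even a) (ha2 : 2 ≤ a) (hb : 3 ≤ b)
    (e : (Fin d ⊕ Fin d) ≃ Fin a × Fin b) (P : GL (Fin d ⊕ Fin d) F)
    (f₁ : (Fin a → F) → (Fin a → F) → F) (f₂ : (Fin b → F) → (Fin b → F) → F)
    (hf₁ : Cfsg.Geo.IsSymplecticForm f₁) (hf₂ : Cfsg.Geo.IsSymmetricForm f₂)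
    (hS : Cfsg.Geo.IsTensorFormStructure id (Cfsg.sympForm d F) f₁ f₂ e P)
    (r : ℕ) [Fact r.Prime]
    (hΩ : r ∣ (Cfsg.Geo.tensorProductSubgroup a b e P).relIndex (Cfsg.spGL d F)) :
    (∀ x ∈ Cfsg.spGL d F, (∃ z : F, ((x ^ r : GL (Fin d ⊕ Fin d) F) : Matrix (Fin d ⊕ Fin d) (Fin d ⊕ Fin d) F) = z • (1 : Matrix (Fin d ⊕ Fin d) (Fin d ⊕ Fin d) F)) →
      (∀ z : F, (x : Matrix (Fin d ⊕ Fin d) (Fin d ⊕ Fin d) F) ≠ z • (1 : Matrix (Fin d ⊕ Fin d) (Fin d ⊕ Fin d) F)) →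
      ∃ g ∈ Cfsg.spGL d F, g⁻¹ * x * g ∈ Cfsg.Geo.tensorProductSubgroup a b e P) ↔ (r = 2 ∧ a = 2) := by
  exact Cfsg.Agent.H77.Tp.tp_main Cfsg.Agent.H77.Tp.glue Cfsg.Agent.H70.Tp.tri
    (Cfsg.Agent.H4.Tp.oddOut Cfsg.Agent.H77.Tp.glue (Cfsg.Agent.H13.Tp.form Cfsg.Agent.H13.Tp.gram)
      Cfsg.Agent.H70.Tp.tri Cfsg.Agent.H13.Tp.gram Cfsg.Agent.H3.Tp.kronOne Cfsg.Agent.H69.Tp.parity
      Cfsg.Agent.H11.Tp.vec (Cfsg.Agent.H3.Tp.intwMat (Cfsg.Agent.H27.Tp.intwLin Cfsg.Agent.H3.Tp.gen))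
      Cfsg.Agent.H3.Tp.arith)
    (Cfsg.Agent.H40.Tp.invModel Cfsg.Agent.H40.Tp.lift
      (Cfsg.Agent.H70.Tp.orthInv Cfsg.Agent.H13.Tp.gram) Cfsg.Agent.H70.Tp.tri)
    (Cfsg.Agent.H4.Tp.negModel Cfsg.Agent.H40.Tp.lift Cfsg.Agent.H70.Tp.tri Cfsg.Agent.H13.Tp.gram)
    Cfsg.Agent.H77.Tp.conjInv Cfsg.Agent.H77.Tp.invDim Cfsg.Agent.H77.Tp.idxLe
    Cfsg.Agent.H51.Fx.conj2 Cfsg.Agent.H18.Fx.transv Cfsg.Agent.H89.Fx.invol Cfsg.Agent.H77.Fx.minEl
    hq hodd d hd a b hab ha ha2 hb e P f₁ f₂ hf₁ hf₂ hS r hΩ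

end Cfsg.Agent.S5980
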