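import Cfsg.Statements.S5987
import Cfsg.Agent.H77.TmMain
import Cfsg.Agent.H77.TmDefs2
import Cfsg.Agent.H24.TmOrd
import Cfsg.Agent.H24.TmScal
import Cfsg.Agent.H24.TmSign
import Cfsg.Agent.H29.TmArOF
import Cfsg.Agent.H29.TmArOE
import Cfsg.Agent.H11.TmArEF
import Cfsg.Agent.H11.TmArEE
import Cfsg.Agent.H28.TmExOdd
import Cfsg.Agent.H28.TmOddMem
import Cfsg.Agent.H3.TmQWitt
import Cfsg.Agent.H24.TmFib
import Cfsg.Agent.H24.TmNegOdd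
import Cfsg.Agent.H24.TmNegEven
import Cfsg.Agent.H24.TmMOdd
import Cfsg.Agent.Helper55.TmCnt
import Cfsg.Agent.Helper55.TmTwo
import Cfsg.Agent.H18.TmTuples
import Cfsg.Agent.H18.TmComplPlus
import Cfsg.Agent.H11.TmZeros
import Cfsg.Agent.H11.TmQStruct
import Cfsg.Agent.H8.TmQTrick
import Cfsg.Agent.H3.TmMinusSum
import Cfsg.Agent.H3.TmInvOne
import Cfsg.Agent.H19.TmAnisoStd
import Cfsg.Agent.H19.TmAnisoIso
import Cfsg.Agent.H28.TmBlockMinus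
import Cfsg.Agent.H28.TmTypeU
import Cfsg.Agent.H54.TmMEven
import Cfsg.Agent.H98.TmNegMem
import Cfsg.Agent.H98.TmNegEx
import Cfsg.Agent.H61.TmExEvenFinal
import Cfsg.Agent.H86.OtSplit
import Cfsg.Agent.H86.OtHalf
import Cfsg.Agent.H86.OtWitt
import Cfsg.Agent.H16.SpdBlock
import Cfsg.Agent.H67.SpdRel
import Cfsg.Agent.H77.SpdFix
import Cfsg.Agent.H77.SpdCompl
import Cfsg.Agent.H24.SpdModc
import Cfsg.Agent.H51.SpdDecomp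
import Cfsg.Agent.H3.TiPrim
import Cfsg.Agent.H3.TiCompDvd
import Cfsg.Agent.H3.TiIrrSub
import Cfsg.Agent.H3.TiCycSet
import Cfsg.Agent.H3.TiPair
import Cfsg.Agent.H3.TiStepEven
import Cfsg.Agent.H3.TiUpper
import Cfsg.Agent.H72.TiSpread
import Cfsg.Agent.H72.TiHalf
import Cfsg.Agent.H72.TiPeel
import Cfsg.Agent.H32.TiAnti
import Cfsg.Agent.H14.TiStepOdd
import Cfsg.Agent.H14.TiBuild
import Cfsg.Agent.H16.TiHypClose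
import Cfsg.Agent.H16.TiCompNd
import Cfsg.Agent.H60.TiUpperEven
import Cfsg.Agent.H48.TqBAdapt
import Cfsg.Agent.H25.TqBCond

set_option autoImplicit false
open scoped MatrixGroups
open Cfsg

namespace Cfsg.Agent.S5987

/-- Elements of prime order of PΩ⁻_n(q) with no fixed totally singular `m`-space. Here `T = PΩ⁻_n(F)`, `n = 2d ≥ 8`, realised through `Ω⁻_n(q)`, the commutator subgroup of the isometry group of `Q = Σ_{i<d−1} xᵢyᵢ + z₁² + a z₁z₂ + b z₂²` with `z₁² + a z₁z₂ + b z₂²` anisotropic, over the field `F` with `q` elements; an element of `T` of prime order `r` is an element `x` of `Ω⁻_n(q)` with `x^r` scalar and `x` not scalar. Let `1 ≤ m ≤ d − 1` and let `r` be a prime dividing the number of totally singular `m`-spaces (subspaces of dimension `m` on which `Q` vanishes); for `r ≠ p` let `i` be the multiplicative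 order of `q` modulo `r`, `c = i` for `i` even and `c = 2i` for `i` odd, and write `k = n mod c`, `ℓ = m mod i`, `n' = ⌊n/i⌋`, `m' = ⌊m/i⌋`, `t = (r−1)/i`. Then every element of `T` of order `r` fixes some totally singular `m`-space if and only if one of: (i) `r = 2 ≠ p` and (`n ≡ 0 (mod 4)`, or `m` is even, or `q ≢ 7 (mod 8)`); (ii) `r ≠ p` odd, `i` odd, `i ≤ m` and (`k = 0` or `k > 2ℓ`); (iii) `r ≠ p` odd, `i` even, `i ≤ m`, `n' − 2m' ≥ t`, and one of: (a) `i ≥ 2ℓ`, `k = 0`, `n/i` even and `n' − 2m' > t` (all four); (b) `k ≥ 2ℓ` and `n'` odd; (c) `k > 2ℓ` and `n'` even. -/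
theorem result {F : Type*} [Field F] [Fintype F] {p : ℕ} [Fact p.Prime] [CharP F p] {q : ℕ} (hq : Fintype.card F = q)
    (d m : ℕ) (hd : 4 ≤ d) (hm : 1 ≤ m) (hmd : m + 1 ≤ d) (a b : F) (hab : ∀ x y : F, x ^ 2 + a * x * y + b * y ^ 2 = 0 → x = 0 ∧ y = 0)
    (r : ℕ) [Fact r.Prime]
    (hrΩ : r ∣ Nat.card {W : Submodule F ((Fin (d - 1) ⊕ Fin (d - 1)) ⊕ Fin 2 → F) // Module.finrank F ↥W = m ∧ Cfsg.Geo.IsTotallySingularQuad (Cfsg.quadFormMinus (d - 1) F a b) W})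
    (i c : ℕ) (hi : i = orderOf (q : ZMod r)) (hc : c = if Even i then i else 2 * i) :
    (∀ x : GL ((Fin (d - 1) ⊕ Fin (d - 1)) ⊕ Fin 2) F, x ∈ Cfsg.Geo.omegaGL (Cfsg.quadFormMinus (d - 1) F a b) →
      (∃ z : F, ((x ^ r : GL ((Fin (d - 1) ⊕ Fin (d - 1)) ⊕ Fin 2) F) : Matrix ((Fin (d - 1) ⊕ Fin (d - 1)) ⊕ Fin 2) ((Fin (d - 1) ⊕ Fin (d - 1)) ⊕ Fin 2) F) = z • (1 : Matrix ((Fin (d - 1) ⊕ Fin (d - 1)) ⊕ Fin 2) ((Fin (d - 1) ⊕ Fin (d - 1)) ⊕ Fin 2) F)) →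
      (∀ z : F, (x : Matrix ((Fin (d - 1) ⊕ Fin (d - 1)) ⊕ Fin 2) ((Fin (d - 1) ⊕ Fin (d - 1)) ⊕ Fin 2) F) ≠ z • (1 : Matrix ((Fin (d - 1) ⊕ Fin (d - 1)) ⊕ Fin 2) ((Fin (d - 1) ⊕ Fin (d - 1)) ⊕ Fin 2) F)) →
      ∃ W : Submodule F ((Fin (d - 1) ⊕ Fin (d - 1)) ⊕ Fin 2 → F), (Module.finrank F ↥W = m ∧ Cfsg.Geo.IsTotallySingularQuad (Cfsg.quadFormMinus (d - 1) F a b) W) ∧ W.map (Matrix.toLin' (x : Matrix ((Fin (d - 1) ⊕ Fin (d - 1)) ⊕ Fin 2) ((Fin (d - 1) ⊕ Fin (d - 1)) ⊕ Fin 2) F)) ≤ W) ↔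
    ((r = 2 ∧ p ≠ 2 ∧ (Even d ∨ Even m ∨ q % 8 ≠ 7)) ∨
     (r ≠ p ∧ 2 < r ∧ Odd i ∧ i ≤ m ∧ ((2 * d) % c = 0 ∨ 2 * (m % i) < (2 * d) % c)) ∨
     (r ≠ p ∧ 2 < r ∧ Even i ∧ i ≤ m ∧ (r - 1) / i + 2 * (m / i) ≤ (2 * d) / i ∧
       ((2 * (m % i) ≤ i ∧ (2 * d) % c = 0 ∧ Even ((2 * d) / i) ∧ (r - 1) / i + 2 * (m / i) < (2 * d) / i) ∨
        (2 * (m % i) ≤ (2 * d) % c ∧ Odd ((2 * d) / i)) ∨
        (2 * (m % i) < (2 * d) % c ∧ Even ((2 * d) / i))))) := by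
  -- Spd / TI infrastructure
  have hCyc := Cfsg.Agent.H3.Ti.cycSet
  have hBlockRel : Cfsg.Agent.H42.Spd.StBlockRel.{u_1, u_1} :=
    Cfsg.Agent.H67.Spd.blockRel Cfsg.Agent.H16.Spd.block
  have hModc : Cfsg.Agent.H42.Spd.StModc.{u_1, u_1} :=
    Cfsg.Agent.H24.Spd.modc hBlockRel Cfsg.Agent.H77.Spd.fix Cfsg.Agent.H77.Spd.compl
  have hTiHalf : Cfsg.Agent.H42.Ti.StTiHalf.{u_1, u_1} := Cfsg.Agent.H72.Ti.tiHalf
  have hUpper : Cfsg.Agent.H42.Ti.StTiUpper.{u_1, u_1} := Cfsg.Agent.H3.Ti.tiUpper hTiHalf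
  have hPrim : Cfsg.Agent.H42.Ti.StTiPrim.{u_1, u_1} :=
    Cfsg.Agent.H3.Ti.tiPrim Cfsg.Agent.H3.Ti.cycSet
  have hUpperEven : Cfsg.Agent.H42.Ti.StTiUpperEven.{u_1, u_1} :=
    Cfsg.Agent.H60.Ti.tiUpperEven Cfsg.Agent.H3.Ti.cycSet hPrim
      Cfsg.Agent.H3.Ti.tiCompDvd Cfsg.Agent.H16.Ti.tiCompNd hTiHalf
  have hHypClose : Cfsg.Agent.H42.Ti.StTiHypClose.{u_1, u_1} :=
    Cfsg.Agent.H16.Ti.tiHypClose Cfsg.Agent.H3.Ti.tiCompDvd Cfsg.Agent.H3.Ti.tiIrrSub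
  have hPair : Cfsg.Agent.H42.Ti.StTiPair.{u_1, u_1} :=
    Cfsg.Agent.H3.Ti.tiPair Cfsg.Agent.H3.Ti.tiCompDvd Cfsg.Agent.H3.Ti.tiIrrSub
      hHypClose Cfsg.Agent.H32.Ti.tiAnti
  have hStepEven : Cfsg.Agent.H42.Ti.StTiStepEven.{u_1, u_1} :=
    Cfsg.Agent.H3.Ti.tiStepEven Cfsg.Agent.H3.Ti.cycSet hPrim
      Cfsg.Agent.H3.Ti.tiCompDvd Cfsg.Agent.H16.Ti.tiCompNd hPair
  have hBuild : Cfsg.Agent.H42.Ti.StTiBuild.{u_1, u_1} :=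
    Cfsg.Agent.H14.Ti.tiBuild Cfsg.Agent.H72.Ti.tiPeel Cfsg.Agent.H14.Ti.tiStepOdd hStepEven
  have hOSplit : Cfsg.Agent.H14.Ot.StOSplit.{u_1, u_1} := Cfsg.Agent.H86.Ot.oSplit
  have hOHalf : Cfsg.Agent.H14.Ot.StOHalf.{u_1, u_1} := Cfsg.Agent.H86.Ot.oHalf
  have hDecomp : Cfsg.Agent.H42.Spd.StDecomp.{u_1, u_1} :=
    Cfsg.Agent.H51.Spd.decomp Cfsg.Agent.H14.Ti.spdSub hModc Cfsg.Agent.H77.Spd.compl
  -- S5987 pieces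
  have hOrd : Cfsg.Agent.H77.Tm.StOrd := Cfsg.Agent.H24.Tm.ord
  have hScal : Cfsg.Agent.H77.Tm.StScal.{u_1} := Cfsg.Agent.H24.Tm.scal
  have hSign : Cfsg.Agent.H77.Tm.StSign.{u_1} := Cfsg.Agent.H24.Tm.sign hScal
  have hQWitt : Cfsg.Agent.H77.Tm.StQWitt.{u_1, u_1} := Cfsg.Agent.H3.Tm.qWitt
  have hOddMem : Cfsg.Agent.H77.Tm.StOddMemAll.{u_1} := Cfsg.Agent.H28.Tm.oddMemAll
  have hAnisoStd : Cfsg.Agent.H77.Tm.StAnisoStd.{u_1, u_1} := Cfsg.Agent.H19.Tm.anisoStd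
  have hAnisoIso : Cfsg.Agent.H77.Tm.StAnisoIso.{u_1} := Cfsg.Agent.H19.Tm.anisoIso
  have hMinusSum : Cfsg.Agent.H77.Tm.StMinusSum.{u_1, u_1} :=
    Cfsg.Agent.H3.Tm.minusSum hAnisoStd hAnisoIso
  have hComplPlus : Cfsg.Agent.H77.Tm.StComplPlus.{u_1, u_1} := Cfsg.Agent.H18.Tm.complPlus
  have hQTrick : Cfsg.Agent.H77.Tm.StQTrick.{u_1, u_1} := Cfsg.Agent.H8.Tm.qTrick
  have hQStruct : Cfsg.Agent.H77.Tm.StQStruct.{u_1, u_1} :=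
    Cfsg.Agent.H11.Tm.qStruct hQTrick hOSplit hModc hUpper hUpperEven hTiHalf hBuild
  have hBlockMinus : Cfsg.Agent.H77.Tm.StBlockMinus.{u_1, u_1} :=
    Cfsg.Agent.H28.Tm.blockMinus hOrd
  have hTypeU : Cfsg.Agent.H77.Tm.StTypeU.{u_1, u_1} :=
    Cfsg.Agent.H28.Tm.typeU hQTrick hDecomp hBlockMinus hMinusSum hComplPlus
  have hMOdd : Cfsg.Agent.H77.Tm.StMOdd.{u_1} := Cfsg.Agent.H24.Tm.mOdd hQStruct hQWitt
  have hMEven : Cfsg.Agent.H77.Tm.StMEven.{u_1} :=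
    Cfsg.Agent.H54.Tm.mEven hQStruct hQWitt hTypeU hMinusSum hOHalf
  have hExEven : Cfsg.Agent.H77.Tm.StExEven.{u_1} :=
    Cfsg.Agent.H61.Tm.exEven hAnisoStd hAnisoIso hOddMem hQStruct hTypeU hComplPlus
  have hTuples : Cfsg.Agent.H77.Tm.StTuplesM.{u_1} :=
    Cfsg.Agent.H18.Tm.tuplesM Cfsg.Agent.H11.Tm.zerosM
  have hFib : Cfsg.Agent.H77.Tm.StFibM.{u_1} := Cfsg.Agent.H24.Tm.fibM
  have hCntP : Cfsg.Agent.H77.Tm.StCntP.{u_1} := Cfsg.Agent.Helper55.Tm.cntP hTuples hFib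
  have hCnt : Cfsg.Agent.H77.Tm.StCnt.{u_1} := Cfsg.Agent.Helper55.Tm.cnt hTuples hFib
  have hInvOne : Cfsg.Agent.H77.Tm.StInvOne.{u_1} := Cfsg.Agent.H3.Tm.invOne hQWitt hMinusSum
  have hBAdapt : Cfsg.Agent.H77.Tq.StBAdapt.{u_1} := Cfsg.Agent.H48.Tq.bAdapt
  have hBCond : Cfsg.Agent.H77.Tq.StBCond.{u_1} := Cfsg.Agent.H25.Tq.bCond hBAdapt
  have hNegEven : Cfsg.Agent.H77.Tm.StNegEven.{u_1} := Cfsg.Agent.H24.Tm.negEven hBAdapt hBCond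
  have hNegOdd : Cfsg.Agent.H77.Tm.StNegOdd.{u_1} := Cfsg.Agent.H24.Tm.negOdd hBCond
  have hNegMem : Cfsg.Agent.H77.Tm.StNegMem.{u_1} := Cfsg.Agent.H98.Tm.negMem hBAdapt hBCond
  have hNegEx : Cfsg.Agent.H77.Tm.StNegEx.{u_1} := Cfsg.Agent.H98.Tm.negEx
  have hTwo : Cfsg.Agent.H77.Tm.StTwo.{u_1} :=
    Cfsg.Agent.Helper55.Tm.two hScal hInvOne hNegEven hNegOdd hNegMem hNegEx
  exact Cfsg.Agent.H77.Tm.tm_main hCntP hCnt hOrd hSign hTwo hMOdd hMEven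
    Cfsg.Agent.H28.Tm.exOdd hExEven Cfsg.Agent.H29.Tm.arOddFix Cfsg.Agent.H29.Tm.arOddEx
    Cfsg.Agent.H11.Tm.arEvenFix Cfsg.Agent.H11.Tm.arEvenEx hCyc
    hq d m hd hm hmd a b hab r hrΩ i c hi hc

end Cfsg.Agent.S5987
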