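import Cfsg.Statements.S5988
import Cfsg.Agent.H42.EqMain
import Cfsg.Agent.H72.EqUnip
import Cfsg.Agent.H75.EqR2
import Cfsg.Agent.H8.EqArBack
import Cfsg.Agent.H8.EqArFwd
import Cfsg.Agent.H53.EqCntB
import Cfsg.Agent.H98.EqCntA
import Cfsg.Agent.H28.EmCntOrb
import Cfsg.Agent.H3.EmOrbTrans
import Cfsg.Agent.H98.EpBridge
import Cfsg.Agent.H27.EpSign
import Cfsg.Agent.H8.EpExist
import Cfsg.Agent.H70.EpType0
import Cfsg.Agent.H70.EpQSum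
import Cfsg.Agent.H40.EpQBoth2
import Cfsg.Agent.H95.EpStructEven
import Cfsg.Agent.H95.EpStructOdd2
import Cfsg.Agent.H8.TmXAll
import Cfsg.Agent.H63.TmXBlockEx
import Cfsg.Agent.H27.TmXBlockOne
import Cfsg.Agent.H79.TmXPowers
import Cfsg.Agent.H79.TmXSum
import Cfsg.Agent.H84.PtExProdFix
import Cfsg.Agent.H84.PtExTsProd
import Cfsg.Agent.H84.PtExNonScal
import Cfsg.Agent.H19.PtExMinusProd
import Cfsg.Agent.H11.TmQStruct
import Cfsg.Agent.H8.TmQTrick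
import Cfsg.Agent.H18.TmComplPlus
import Cfsg.Agent.H28.TmTypeU
import Cfsg.Agent.H28.TmBlockMinus
import Cfsg.Agent.H3.TmMinusSum
import Cfsg.Agent.H19.TmAnisoStd
import Cfsg.Agent.H19.TmAnisoIso
import Cfsg.Agent.H15.PtExOdd
import Cfsg.Agent.H85.PtExEven
import Cfsg.Agent.H85.PtExBridge
import Cfsg.Agent.H28.TmOddMem
import Cfsg.Agent.H19.PtExAnisoEx
import Cfsg.Agent.H49.PtExTransP
import Cfsg.Agent.Helper55.PtExToMat
import Cfsg.Agent.H86.OtSplit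
import Cfsg.Agent.H16.SpdBlock
import Cfsg.Agent.H67.SpdRel
import Cfsg.Agent.H77.SpdHyp
import Cfsg.Agent.H77.SpdFix
import Cfsg.Agent.H77.SpdCompl
import Cfsg.Agent.H18.SpdSum
import Cfsg.Agent.H24.SpdModc
import Cfsg.Agent.H24.SpdSub
import Cfsg.Agent.H51.SpdDecomp
import Cfsg.Agent.H3.TiPrim
import Cfsg.Agent.H3.TiCompDvd
import Cfsg.Agent.H3.TiIrrSub
import Cfsg.Agent.H3.TiCycSet
import Cfsg.Agent.H3.TiPair
import Cfsg.Agent.H3.TiStepEven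
import Cfsg.Agent.H3.TiUpper
import Cfsg.Agent.H72.TiHalf
import Cfsg.Agent.H72.TiPeel
import Cfsg.Agent.H32.TiAnti
import Cfsg.Agent.H14.TiStepOdd
import Cfsg.Agent.H14.TiBuild
import Cfsg.Agent.H16.TiHypClose
import Cfsg.Agent.H16.TiCompNd
import Cfsg.Agent.H60.TiUpperEven

set_option autoImplicit false
open scoped MatrixGroups
open Cfsg

namespace Cfsg.Agent.S5988

/-- Elements of prime order of PΩ⁺_n(q) with no fixed elliptic `m`-space. Here `T = PΩ⁺_n(F)`, `n = 2d ≥ 8`, realised through `Ω⁺_n(q)`, the commutator subgroup of the isometry group of `Q = Σ xᵢyᵢ` over the field `F` with `q` elements; an element of `T` of prime order `r` is an element `x` of `Ω⁺_n(q)` with `x^r` scalar and `x` not scalar; a nondegenerate `m`-space (even `m`) is a subspace on which the polar form of `Q` is nondegenerate; it is hyperbolic if it contains an `m/2`-dimensional subspace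 on which `Q` vanishes, elliptic otherwise. Let `m` be even with `2 ≤ m < n/2` and let `r` be a prime dividing the number of elliptic `m`-spaces; for `r ≠ p` let `i` be the multiplicative order of `q` modulo `r`, `c = i` for `i` even and `c = 2i` for `i` odd, and write `k = n mod c`, `ℓ = m mod i`, `ℓ' = m mod c`, `n' = ⌊n/i⌋`, `m' = ⌊m/i⌋`, `t = (r−1)/i`. Then every element of `T` of order `r` fixes some elliptic `m`-space if and only if one of: (i) `r = 2 ≠ p` and either `n ≡ 0 (mod 4)`, `q ≡ 3 (mod 4)` and `m ≡ 2 (mod 4)`, or `n ≡ 2 (mod 4)` and `q ≢ 1 (mod 8)`; (ii) `r ≠ p` odd, `i` odd, `c ≤ m` and `k > ℓ' > 0`; (iii) `r ≠ p` odd, `i` even, and either `k = 0` and (`n/i` odd, or `ℓ' = 0` and `m/i` odd), or `i ≤ m` and (`k > ℓ' > 0`, or `k = ℓ' > 0` and `(n + m − 2k)/i` odd, or `k > ℓ' = 0` and `m/i` odd). (For `r = p` there is always an element of order `p`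 fixing no elliptic `m`-space.) -/
theorem result {F : Type*} [Field F] [Fintype F] {p : ℕ} [Fact p.Prime] [CharP F p] {q : ℕ} (hq : Fintype.card F = q)
    (d m : ℕ) (hd : 4 ≤ d) (hm : 2 ≤ m) (hme : Even m) (hmd : m < d)
    (r : ℕ) [Fact r.Prime]
    (hrΩ : r ∣ Nat.card {W : Submodule F (Fin d ⊕ Fin d → F) // Module.finrank F ↥W = m ∧ Cfsg.Geo.IsNondegenerateOn (QuadraticMap.polar (Cfsg.quadFormPlus d F)) W ∧ ¬ Cfsg.Geo.IsPlusTypeOn (Cfsg.quadFormPlus d F) W})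
    (i c : ℕ) (hi : i = orderOf (q : ZMod r)) (hc : c = if Even i then i else 2 * i) :
    (∀ x : GL (Fin d ⊕ Fin d) F, x ∈ Cfsg.Geo.omegaGL (Cfsg.quadFormPlus d F) →
      (∃ z : F, ((x ^ r : GL (Fin d ⊕ Fin d) F) : Matrix (Fin d ⊕ Fin d) (Fin d ⊕ Fin d) F) = z • (1 : Matrix (Fin d ⊕ Fin d) (Fin d ⊕ Fin d) F)) →
      (∀ z : F, (x : Matrix (Fin d ⊕ Fin d) (Fin d ⊕ Fin d) F) ≠ z • (1 : Matrix (Fin d ⊕ Fin d) (Fin d ⊕ Fin d) F)) →
      ∃ W : Submodule F (Fin d ⊕ Fin d → F), (Module.finrank F ↥W = m ∧ Cfsg.Geo.IsNondegenerateOn (QuadraticMap.polar (Cfsg.quadFormPlus d F)) W ∧ ¬ Cfsg.Geo.IsPlusTypeOn (Cfsg.quadFormPlus d F) W) ∧ W.map (Matrix.toLin' (x : Matrix (Fin d ⊕ Fin d) (Fin d ⊕ Fin d) F)) ≤ W) ↔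
    ((r = 2 ∧ p ≠ 2 ∧ ((Even d ∧ q % 4 = 3 ∧ m % 4 = 2) ∨ (Odd d ∧ q % 8 ≠ 1))) ∨
     (r ≠ p ∧ 2 < r ∧ Odd i ∧ c ≤ m ∧ 0 < m % c ∧ m % c < (2 * d) % c) ∨
     (r ≠ p ∧ 2 < r ∧ Even i ∧
       (((2 * d) % c = 0 ∧ (Odd ((2 * d) / i) ∨ (m % c = 0 ∧ Odd (m / i)))) ∨
        (i ≤ m ∧ ((0 < m % c ∧ m % c < (2 * d) % c) ∨
                  (0 < m % c ∧ m % c = (2 * d) % c ∧ Odd ((2 * d + m - 2 * ((2 * d) % c)) / i)) ∨
                  (m % c = 0 ∧ 0 < (2 * d) % c ∧ Odd (m / i))))))) := by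
  have hBlockRel := Cfsg.Agent.H67.Spd.blockRel Cfsg.Agent.H16.Spd.block
  have hModc := Cfsg.Agent.H24.Spd.modc hBlockRel Cfsg.Agent.H77.Spd.fix Cfsg.Agent.H77.Spd.compl
  have hSub := Cfsg.Agent.H24.Spd.sub hBlockRel Cfsg.Agent.H77.Spd.hyp Cfsg.Agent.H77.Spd.fix
    Cfsg.Agent.H77.Spd.compl Cfsg.Agent.H18.Spd.sum
  have hDecomp := Cfsg.Agent.H51.Spd.decomp hSub hModc Cfsg.Agent.H77.Spd.compl
  have hCyc := Cfsg.Agent.H3.Ti.cycSet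
  have hUpper := Cfsg.Agent.H3.Ti.tiUpper Cfsg.Agent.H72.Ti.tiHalf
  have hPrim := Cfsg.Agent.H3.Ti.tiPrim Cfsg.Agent.H3.Ti.cycSet
  have hUpperEven := Cfsg.Agent.H60.Ti.tiUpperEven Cfsg.Agent.H3.Ti.cycSet hPrim
    Cfsg.Agent.H3.Ti.tiCompDvd Cfsg.Agent.H16.Ti.tiCompNd Cfsg.Agent.H72.Ti.tiHalf
  have hHypClose := Cfsg.Agent.H16.Ti.tiHypClose Cfsg.Agent.H3.Ti.tiCompDvd Cfsg.Agent.H3.Ti.tiIrrSub
  have hPair := Cfsg.Agent.H3.Ti.tiPair Cfsg.Agent.H3.Ti.tiCompDvd Cfsg.Agent.H3.Ti.tiIrrSub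
    hHypClose Cfsg.Agent.H32.Ti.tiAnti
  have hStepEven := Cfsg.Agent.H3.Ti.tiStepEven Cfsg.Agent.H3.Ti.cycSet hPrim
    Cfsg.Agent.H3.Ti.tiCompDvd Cfsg.Agent.H16.Ti.tiCompNd hPair
  have hBuild := Cfsg.Agent.H14.Ti.tiBuild Cfsg.Agent.H72.Ti.tiPeel Cfsg.Agent.H14.Ti.tiStepOdd
    hStepEven
  have hOSplit := Cfsg.Agent.H86.Ot.oSplit
  have hQT := Cfsg.Agent.H8.Tm.qTrick
  have hQS := Cfsg.Agent.H11.Tm.qStruct hQT hOSplit hModc hUpper hUpperEven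
    Cfsg.Agent.H72.Ti.tiHalf hBuild
  have hCP := Cfsg.Agent.H18.Tm.complPlus
  have hMS := Cfsg.Agent.H3.Tm.minusSum Cfsg.Agent.H19.Tm.anisoStd Cfsg.Agent.H19.Tm.anisoIso
  have hTU := Cfsg.Agent.H28.Tm.typeU hQT hDecomp Cfsg.Agent.H28.Tm.blockMinus' hMS hCP
  have hOM := Cfsg.Agent.H28.Tm.oddMemAll
  -- existence of elements of odd prime order
  have hModAll := Cfsg.Agent.H8.Tm.modAll
    (Cfsg.Agent.H63.Tm.blockEx Cfsg.Agent.H27.Tm.blockOne Cfsg.Agent.H79.Tm.powers)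
    Cfsg.Agent.H79.Tm.modSum
  have hExEven := Cfsg.Agent.H85.PtEx.exEven_of hCyc hModAll Cfsg.Agent.H19.PtEx.anisoEx
    Cfsg.Agent.H49.PtEx.transP Cfsg.Agent.H84.PtEx.prodFix Cfsg.Agent.H84.PtEx.tsProd
    (Cfsg.Agent.H19.PtEx.minusProd hMS) Cfsg.Agent.Helper55.PtEx.toMat
    Cfsg.Agent.H84.PtEx.nonScal hTU hOM
  have hExist := Cfsg.Agent.H8.Ep.exist Cfsg.Agent.H15.Pt.exOdd hExEven
  -- structure theorem, all characteristics
  have hQSum := Cfsg.Agent.H70.Ep.qSum hMS hCP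
  have hType0 := Cfsg.Agent.H70.Ep.type0 hQS hTU
  have hQBoth2 := Cfsg.Agent.H40.Ep.qBoth2 hQSum
  have hStruct := Cfsg.Agent.H48.Ep.struct_of Cfsg.Agent.H95.Ep.structOdd'
    (Cfsg.Agent.H95.Ep.structEven hType0 hQSum hQBoth2)
  have hBr := Cfsg.Agent.H98.Ep.bridge
  -- counting
  have hCO := Cfsg.Agent.H28.Em.cntOrb Cfsg.Agent.H3.Em.orbTransC
  have hCA := Cfsg.Agent.H98.Eq.cntA hStruct hBr hCO
  have hCB := Cfsg.Agent.H53.Eq.cntB hStruct hBr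
  exact Cfsg.Agent.H42.Eq.eq_main Cfsg.Agent.H72.Eq.unip Cfsg.Agent.H75.Eq.r2
    Cfsg.Agent.H8.Eq.arBack Cfsg.Agent.H8.Eq.arFwd hStruct hBr Cfsg.Agent.H27.Ep.sign hExist
    hCA hCB hq d m hd hm hme hmd r hrΩ i c hi hc

end Cfsg.Agent.S5988
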