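import Cfsg.Statements.S6001
import Cfsg.Agent.H83.UPTop
import Cfsg.Agent.H83.UPUInvA
import Cfsg.Agent.H83.UPUInvB
import Cfsg.Agent.H83.UPUHyp5
import Cfsg.Agent.H53.UPPBASIC
import Cfsg.Agent.H53.UPNDIAG
import Cfsg.Agent.H53.UPN3
import Cfsg.Agent.H53.UPN5
import Cfsg.Agent.H16.UPPli
import Cfsg.Agent.H16.UPPavg
import Cfsg.Agent.H16.UPGens
import Cfsg.Agent.H16.UPUHyp3
import Cfsg.Agent.H35.UPPCENT
import Cfsg.Agent.H35.UPTDET
import Cfsg.Agent.H35.UPUGLUE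
import Cfsg.Agent.H18.UPPerm
import Cfsg.Agent.H18.UPCount
import Cfsg.Agent.H5.UPFix
import Cfsg.Agent.H75.UPTV3
import Cfsg.Agent.H75.UPCENT
import Cfsg.Agent.H75.UPSTDU
import Cfsg.Agent.H54.UPW3
import Cfsg.Agent.H54.UPW5
import Cfsg.Agent.H54.UPWTV
import Cfsg.Agent.H54.UPROOTS
import Cfsg.Agent.H99.UPStruct
import Cfsg.Agent.H71.UPBasis
import Cfsg.Agent.H71.UPStdCount
import Cfsg.Agent.H38.UPNGlue

set_option autoImplicit false
open scoped MatrixGroups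
open Cfsg

namespace Cfsg.Agent.S6001

/-- Elements of prime order of PSU_4(p), p ≡ 3 (mod 4), and the normalizer of a 2-group of symplectic type of order 2⁶. Here `T = PSU_4(p)` for a prime `p ≡ 3 (mod 4)`, realised through `SU_4(p)`, the matrices of determinant 1 over the field `F` with `p²` elements preserving the hermitian form `f = Σ uᵢvᵢ^p`; `R` is an absolutely irreducible subgroup of the full unitary group of `f` of order 2⁶ that is a 2-group of symplectic type of exponent 4 with centre of order 4, and `H` is the subgroup of `SU_4(p)` normalizing `R` — a subgroup of type 2⁴.Sp₄(2) (maximality is not assumed). Ω is the set of cosets of `H`, so an element of `T` of prime order `r` (`x ∈ SU_4(p)` with `x^r` scalar, `x` not scalar) fixes a point of Ω exactly when some `SU_4(p)`-conjugate of `x` normalizes `R`. Let `r` be a prime dividing the index of `H`. Then every element of `T`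 of order `r` fixes a point of Ω if and only if `r = 2`, or `r = 3` and `p ≡ 1 (mod 3)`, or `r = 5` and `p ≡ ±2 (mod 5)` (`p` has multiplicative order 4 modulo 5). -/
theorem result {F : Type*} [Field F] [Fintype F] {p : ℕ} [Fact p.Prime] [CharP F p] (hF : Fintype.card F = p ^ 2) (hp4 : p % 4 = 3)
    (R : Subgroup (GL (Fin 4) F)) (hRs : Cfsg.Geo.IsSymplecticTypeGroup 2 R) (hRi : Cfsg.Geo.ActsAbsolutelyIrreducibly (Cfsg.Geo.matrixSet R))
    (hRU : R ≤ Cfsg.GU 4 F p) (hR6 : Nat.card R = 2 ^ 6) (hRZ : Nat.card (Subgroup.center R) = 4)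
    (r : ℕ) [Fact r.Prime]
    (hΩ : r ∣ (Cfsg.Geo.subgroupNormalizer R).relIndex (Cfsg.GU 4 F p ⊓ Cfsg.Geo.specialLinear (Fin 4) F)) :
    (∀ x ∈ Cfsg.GU 4 F p ⊓ Cfsg.Geo.specialLinear (Fin 4) F, (∃ z : F, ((x ^ r : GL (Fin 4) F) : Matrix (Fin 4) (Fin 4) F) = z • (1 : Matrix (Fin 4) (Fin 4) F)) →
      (∀ z : F, (x : Matrix (Fin 4) (Fin 4) F) ≠ z • (1 : Matrix (Fin 4) (Fin 4) F)) →
      ∃ g ∈ Cfsg.GU 4 F p ⊓ Cfsg.Geo.specialLinear (Fin 4) F, g⁻¹ * x * g ∈ Cfsg.Geo.subgroupNormalizer R) ↔ (r = 2 ∨ (r = 3 ∧ p % 3 = 1) ∨ (r = 5 ∧ orderOf (p : ZMod 5) = 4)) := by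
  have pb := Cfsg.Agent.H53.UP.pbasic
  have pl := Cfsg.Agent.H16.UP.pli
  have pc := Cfsg.Agent.H35.UP.pcent
  have pm := Cfsg.Agent.H18.UP.perm pb pl
  exact Cfsg.Agent.H83.UP.main_of_pieces
    (Cfsg.Agent.H5.UP.fix pb pl Cfsg.Agent.H16.UP.pavg pc pm Cfsg.Agent.H18.UP.count)
    (Cfsg.Agent.H75.UP.tv3 pb pl pc pm)
    (Cfsg.Agent.H53.UP.ndiag pb) (Cfsg.Agent.H53.UP.n3 pb) (Cfsg.Agent.H53.UP.n5 pb)
    Cfsg.Agent.H54.UP.w3 Cfsg.Agent.H54.UP.w5 Cfsg.Agent.H54.UP.wtv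
    Cfsg.Agent.H99.UP.struct Cfsg.Agent.H75.UP.cent Cfsg.Agent.H16.UP.gens
    Cfsg.Agent.H71.UP.basis (Cfsg.Agent.H71.UP.stdCount pb pl) (Cfsg.Agent.H75.UP.stdU pb pc)
    (Cfsg.Agent.H38.UP.nglue pb) Cfsg.Agent.H54.UP.roots
    Cfsg.Agent.H83.UP.uInvA Cfsg.Agent.H83.UP.uInvB Cfsg.Agent.H16.UP.uHyp3
    Cfsg.Agent.H83.UP.uHyp5 Cfsg.Agent.H35.UP.tdet Cfsg.Agent.H35.UP.uGlue
    hF hp4 R hRs hRi hRU hR6 hRZ r hΩ

end Cfsg.Agent.S6001
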