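import Cfsg.Statements.S6002
import Cfsg.Agent.H75.ESMain
import Cfsg.Agent.H40.ESGrp
import Cfsg.Agent.H36.ESGrp1
import Cfsg.Agent.H12.ESGrp2
import Cfsg.Agent.H39.ESGrp3
import Cfsg.Agent.H5.ESMat
import Cfsg.Agent.H16.ESLI
import Cfsg.Agent.H72.ESCnt
import Cfsg.Agent.H5.ESFive
import Cfsg.Agent.H16.ESGen
import Cfsg.Agent.H5.ESTV
import Cfsg.Agent.H61.ESTr
import Cfsg.Agent.H61.ESFix
import Cfsg.Agent.H16.ESRot
import Cfsg.Agent.H72.ESOrd5
import Cfsg.Agent.H15.ESX3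
import Cfsg.Agent.H15.ESX5
import Cfsg.Agent.H15.ESTau
import Cfsg.Agent.H40.ESIrr5
import Cfsg.Agent.H36.ESCyc5
import Cfsg.Agent.H12.ESSyl5

set_option autoImplicit false
open scoped MatrixGroups
open Cfsg

namespace Cfsg.Agent.S6002

/-- Elements of prime order of PSp_4(p), p odd, and the normalizer of an extraspecial 2-group of order 2⁵ of minus type. Here `T = PSp_4(F)` for the field `F` with `p` elements, `p` an odd prime, realised through the matrices preserving the standard alternating form `f`; `R` is an absolutely irreducible subgroup of `T` (it preserves `f`) that is a 2-group of symplectic type of exponent 4, order 2⁵ and centre of order 2, of minus type (no elementary abelian subgroup of order 2³), and `H` is the subgroup of `T` normalizing `R` — a subgroup of type 2^{1+4}.O₄⁻(2) (maximality is not assumed). Ω is the set of cosets of `H` in `T`, so an element of `T` of prime order `r`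 (`x ∈ T` with `x^r` scalar, `x` not scalar) fixes a point of Ω exactly when some `T`-conjugate of `x` normalizes `R`. Let `r` be a prime dividing the index of `H`. Then every element of `T` of order `r` fixes a point of Ω if and only if `r = 2`, or `r = 5` and `p` has multiplicative order 4 modulo 5. -/
theorem result {F : Type*} [Field F] [Fintype F] {p : ℕ} [Fact p.Prime] [CharP F p] (hF : Fintype.card F = p) (hodd : Odd p)
    (R : Subgroup (GL (Fin 2 ⊕ Fin 2) F)) (hRs : Cfsg.Geo.IsSymplecticTypeGroup 2 R) (hRi : Cfsg.Geo.ActsAbsolutelyIrreducibly (Cfsg.Geo.matrixSet R))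
    (hRf : R ≤ Cfsg.spGL 2 F) (hR5 : Nat.card R = 2 ^ 5) (hRZ : Nat.card (Subgroup.center R) = 2) (hRm : Cfsg.Geo.IsOfMinusType 2 R)
    (r : ℕ) [Fact r.Prime]
    (hΩ : r ∣ (Cfsg.Geo.subgroupNormalizer R).relIndex (Cfsg.spGL 2 F)) :
    (∀ x ∈ Cfsg.spGL 2 F, (∃ z : F, ((x ^ r : GL (Fin 2 ⊕ Fin 2) F) : Matrix (Fin 2 ⊕ Fin 2) (Fin 2 ⊕ Fin 2) F) = z • (1 : Matrix (Fin 2 ⊕ Fin 2) (Fin 2 ⊕ Fin 2) F)) →
      (∀ z : F, (x : Matrix (Fin 2 ⊕ Fin 2) (Fin 2 ⊕ Fin 2) F) ≠ z • (1 : Matrix (Fin 2 ⊕ Fin 2) (Fin 2 ⊕ Fin 2) F)) →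
      ∃ g ∈ Cfsg.spGL 2 F, g⁻¹ * x * g ∈ Cfsg.Geo.subgroupNormalizer R) ↔ (r = 2 ∨ (r = 5 ∧ orderOf (p : ZMod 5) = 4)) := by
  exact Cfsg.Agent.H75.ES.main_of
    (Cfsg.Agent.H5.ES.mat
      (Cfsg.Agent.H40.ES.grp Cfsg.Agent.H36.ES.grp1 Cfsg.Agent.H12.ES.grp2 Cfsg.Agent.H39.ES.grp3))
    (Cfsg.Agent.H72.ES.cnt Cfsg.Agent.H16.ES.li) Cfsg.Agent.H5.ES.five Cfsg.Agent.H16.ES.gen
    Cfsg.Agent.H5.ES.tv Cfsg.Agent.H61.ES.tr Cfsg.Agent.H61.ES.fix
    (Cfsg.Agent.H72.ES.ord5 Cfsg.Agent.H16.ES.rot) Cfsg.Agent.H15.ES.x3 Cfsg.Agent.H15.ES.x5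
    Cfsg.Agent.H15.ES.tau
    (Cfsg.Agent.H12.ES.syl5 (Cfsg.Agent.H36.ES.cyc5 Cfsg.Agent.H40.ES.irr5))
    hF hodd R hRs hRi hRf hR5 hRZ hRm r hΩ

end Cfsg.Agent.S6002
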